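import Groth.Agent.TwistShriek.Basic
import Groth.Agent.DQCohBrown.Cat
import Groth.Agent.DCohMore.QCGen
import Groth.Agent.DCohMore.BCTwistMain

/-!
# Transformations of functors on quasi-coherent objects which only see an affine open
-/

set_option autoImplicit false
set_option linter.style.haveILetI false
set_option backward.isDefEq.respectTransparency false
set_option maxHeartbeats 1600000

universe u

open CategoryTheory CategoryTheory.Limits AlgebraicGeometry Pretriangulated HomologicalComplex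
open Groth.Agent.DCohLib Groth.Agent.DCohMore Groth.Agent.KFlat

attribute [local instance] HasDerivedCategory.standard

noncomputable section

namespace Groth.Agent.TwistShriek

variable {Y T : Scheme.{u}} [CompactSpace Y] [QuasiSeparatedSpace Y] {A : Type u} [CommRing A]

/-- A transformation of functors on quasi-coherent objects which kill objects vanishing on an affine open
is an isomorphism once it is one at shifts of the structure sheaf. -/
theorem isIso_app_of_affine (j : Spec (CommRingCat.of A) ⟶ Y) [IsOpenImmersion j]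
    {F₁ F₂ : DCoh.DQCoh Y ⥤ DCoh.D T} (hF₁ : ExTri F₁) (hF₂ : ExTri F₂)
    (hs₁ : ∀ {κ : Type u} (M : κ → DCoh.DQCoh Y), PreservesColimit (Discrete.functor M) F₁)
    (hs₂ : ∀ {κ : Type u} (M : κ → DCoh.DQCoh Y), PreservesColimit (Discrete.functor M) F₂)
    (τ : F₁ ⟶ F₂)
    (hk₁ : ∀ M : DCoh.DQCoh Y, IsZero ((DCoh.restrictD j.opensRange.ι).obj M.obj) → IsZero (F₁.obj M))
    (hk₂ : ∀ M : DCoh.DQCoh Y, IsZero ((DCoh.restrictD j.opensRange.ι).obj M.obj) → IsZero (F₂.obj M))
    (hunit : ∀ (m : ℤ) (hm : DCoh.IsQCohD (DerivedCategory.Q.obj (shiftUnitCx Y m))),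
      IsIso (τ.app ⟨DerivedCategory.Q.obj (shiftUnitCx Y m), hm⟩))
    (N : DCoh.DQCoh Y) : IsIso (τ.app N) := by
  let V := j.opensRange
  let ιY := ObjectProperty.ι (DCoh.IsQCohD (X := Y))
  have invar : ∀ {K L : DCoh.DQCoh Y}, (K ≅ L) → IsIso (τ.app K) → IsIso (τ.app L) :=
    fun e h => (NatTrans.isIso_app_iff_of_iso τ e).1 h
  let Good : DCoh.DQCoh Y → Prop := fun M => ∀ n : ℤ, IsIso (τ.app (M⟦n⟧))
  have good_iso : ∀ {K L : DCoh.DQCoh Y}, (K ≅ L) → Good K → Good L := fun e h n =>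
    invar ((shiftFunctor _ n).mapIso e) (h n)
  have good_shift : ∀ {K : DCoh.DQCoh Y} (m : ℤ), Good K → Good (K⟦m⟧) := fun {K} m h n =>
    invar ((shiftFunctorAdd _ m n).app K) (h (m + n))
  have good₃ : ∀ T ∈ distTriang (DCoh.DQCoh Y), Good T.obj₁ → Good T.obj₂ → Good T.obj₃ := by
    intro T hT h₁ h₂ n
    exact isIso_app₃ hF₁ hF₂ τ _ (Triangle.shift_distinguished T hT n) (h₁ n) (h₂ n)
      (invar ((shiftFunctorAdd' _ n 1 (n + 1) rfl).app T.obj₁) (h₁ (n + 1)))
      (invar ((shiftFunctorAdd' _ n 1 (n + 1) rfl).app T.obj₂) (h₂ (n + 1)))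
  have good₂ : ∀ T ∈ distTriang (DCoh.DQCoh Y), Good T.obj₁ → Good T.obj₃ → Good T.obj₂ :=
    fun T hT h₁ h₃ => good₃ T.invRotate (inv_rot_of_distTriang _ hT) (good_shift (-1) h₃) h₁
  have good₁ : ∀ T ∈ distTriang (DCoh.DQCoh Y), Good T.obj₂ → Good T.obj₃ → Good T.obj₁ :=
    fun T hT h₂ h₃ => good₃ T.invRotate.invRotate (inv_rot_of_distTriang _ (inv_rot_of_distTriang _ hT))
      (good_shift (-1) h₂) (good_shift (-1) h₃)
  have good_ker : ∀ M : DCoh.DQCoh Y, IsZero ((DCoh.restrictD V.ι).obj M.obj) → Good M := by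
    intro M hM n
    have hMn : IsZero ((DCoh.restrictD V.ι).obj (M⟦n⟧).obj) :=
      ((Functor.map_isZero (shiftFunctor _ n) hM).of_iso (((DCoh.restrictD V.ι).commShiftIso n).app M.obj)).of_iso
        ((DCoh.restrictD V.ι).mapIso ((ιY.commShiftIso n).app M))
    exact ⟨0, (hk₁ _ hMn).eq_of_src _ _, (hk₂ _ hMn).eq_of_src _ _⟩
  have hO : ∀ m, DCoh.IsQCohD (DerivedCategory.Q.obj (shiftUnitCx Y m)) := fun m =>
    isQCohD_of_isPerfect (isPerfect_shiftUnitCx m)
  let O : DCoh.DQCoh Y := ⟨DerivedCategory.Q.obj (shiftUnitCx Y 0), hO 0⟩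
  have good_O : Good O := fun n => by
    let e : (⟨DerivedCategory.Q.obj (shiftUnitCx Y (-n)), hO (-n)⟩ : DCoh.DQCoh Y) ≅ O⟦n⟧ :=
      ιY.preimageIso (DerivedCategory.Q.mapIso
        (((CochainComplex.singleFunctors Y.Modules).shiftIso n (-n) 0 (by omega)).app (Coh.structureModule Y)).symm ≪≫
          (DerivedCategory.Q.commShiftIso n).app _ ≪≫ ((ιY.commShiftIso n).app O).symm)
    exact invar e (hunit (-n) (hO (-n)))
  haveI := BC.hasRpush j
  haveI : DCoh.HasLpull j := DCohLib.hasLpull j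
  haveI : QuasiCompact j := by
    haveI : QuasiCompact (j ≫ terminal.from Y) := by
      rw [terminal.hom_ext (j ≫ terminal.from Y) (terminal.from _)]
      infer_instance
    exact QuasiCompact.of_comp j (terminal.from Y)
  have hj : DCoh.RpushPreservesQCoh j := fun K hK => isQCohD_rpush j K hK
  let J' := DCoh.RpushQ j hj
  obtain ⟨_, _⟩ := DQCohBrown.exists_triangulated_rpushQ j hj
  let adjj := restrictAdj j
  obtain ⟨hff⟩ := BC.nonempty_fullyFaithful_rpush_open j
  haveI := hff.full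
  haveI := hff.faithful
  haveI : IsIso adjj.counit := inferInstance
  let res : DCoh.DQCoh Y → DCoh.DQCoh (Spec (CommRingCat.of A)) := fun M =>
    ⟨(DCoh.restrictD j).obj M.obj, TildeD.isQCohD_restrict j _ M.property⟩
  let unitQ : ∀ M : DCoh.DQCoh Y, M ⟶ J'.obj (res M) := fun M => ObjectProperty.homMk (adjj.unit.app M.obj)
  have cone_ker : ∀ (M : DCoh.DQCoh Y) (C : DCoh.DQCoh Y) (p : _ ⟶ C) (d : C ⟶ M⟦(1 : ℤ)⟧),
      Triangle.mk (unitQ M) p d ∈ distTriang _ → IsZero ((DCoh.restrictD V.ι).obj C.obj) := by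
    intro M C p d hT
    have hu : IsIso ((DCoh.restrictD j).map (adjj.unit.app M.obj)) := by
      have h := adjj.left_triangle_components M.obj
      exact ⟨adjj.counit.app _, h, (cancel_mono (adjj.counit.app ((DCoh.restrictD j).obj M.obj))).1
        ((Category.assoc _ _ _).trans ((congrArg (_ ≫ ·) h).trans ((Category.comp_id _).trans (Category.id_comp _).symm)))⟩
    have hCj : IsZero ((DCoh.restrictD j).obj C.obj) :=
      (Triangle.isZero₃_iff_isIso₁ _ ((ιY ⋙ DCoh.restrictD j).map_distinguished _ hT)).2 hu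
    refine isZero_restrictD_of_support V fun i y hy => ?_
    obtain ⟨z, rfl⟩ : y ∈ Set.range j := hy
    intro hs
    have hz := subsingleton_stalk_of_isZero (((DerivedCategory.homologyFunctor _ i).map_isZero hCj).of_iso
      (restrictHDIso j C.obj i).symm) z
    exact hs (((Scheme.Modules.restrictStalkNatIso j z).app
      (DCoh.HD C.obj i)).addCommGroupIsoToAddEquiv.toEquiv.subsingleton_congr.1 hz)
  have good_of_ext : ∀ M : DCoh.DQCoh Y, Good (J'.obj (res M)) → Good M := fun M h => by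
    obtain ⟨C, p, d, hT⟩ := distinguished_cocone_triangle (unitQ M)
    exact good₁ _ hT h (good_ker C (cone_ker M C p d hT))
  have good_ext : ∀ M : DCoh.DQCoh Y, Good M → Good (J'.obj (res M)) := fun M h => by
    obtain ⟨C, p, d, hT⟩ := distinguished_cocone_triangle (unitQ M)
    exact good₂ _ hT h (good_ker C (cone_ker M C p d hT))
  let ιS := ObjectProperty.ι (DCoh.IsQCohD (X := Spec (CommRingCat.of A)))
  have hall : ∀ (L : DCoh.D (Spec (CommRingCat.of A))) (hL : DCoh.IsQCohD L), Good (J'.obj ⟨L, hL⟩) := by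
    intro L₀ hL₀
    refine BC.qcoh_affine_induction A (fun L => ∀ hL, Good (J'.obj ⟨L, hL⟩)) ?_ ?_ ?_ ?_ L₀ hL₀ hL₀
    · intro K L e h hL
      exact good_iso (J'.mapIso (ιS.preimageIso (X := ⟨K, TildeD.isQCohD_of_iso e.symm hL⟩) (Y := ⟨L, hL⟩) e)) (h _)
    · intro m hm
      let M := O⟦(-m : ℤ)⟧
      let eS : (DCoh.restrictD j).obj M.obj ≅ (BC.TT _ m).obj (Coh.structureModule _) :=
        (DCoh.restrictD j).mapIso ((ιY.commShiftIso (-m)).app O ≪≫
          ((DerivedCategory.Q.commShiftIso (-m)).app _).symm ≪≫ DerivedCategory.Q.mapIso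
            (((CochainComplex.singleFunctors Y.Modules).shiftIso (-m) m 0 (by omega)).app (Coh.structureModule Y))) ≪≫
          restrictDQ j _ ≪≫ DerivedCategory.Q.mapIso
            ((HomologicalComplex.singleMapHomologicalComplex (Scheme.Modules.restrictFunctor j) (ComplexShape.up ℤ) m).app
              (Coh.structureModule Y) ≪≫
            (HomologicalComplex.single _ (ComplexShape.up ℤ) m).mapIso (Scheme.Modules.restrictUnitIso j))
      exact good_iso (J'.mapIso (ιS.preimageIso (X := res M) (Y := ⟨_, hm⟩) eS))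
        (good_ext M (good_shift (-m) good_O))
    · intro κ K _ hKq hK hL n
      let Kq : κ → DCoh.DQCoh (Spec (CommRingCat.of A)) := fun k => ⟨K k, hKq k⟩
      haveI := DQCohBrown.preservesCoproducts_rpushQ j hj κ
      let e : J'.obj ⟨∐ K, hL⟩ ≅ ∐ fun k => J'.obj (Kq k) :=
        J'.mapIso (ιS.preimageIso (X := ∐ Kq) (Y := ⟨∐ K, hL⟩) (PreservesCoproduct.iso ιS Kq)).symm ≪≫
          PreservesCoproduct.iso J' Kq
      let M := fun k => (J'.obj (Kq k))⟦n⟧
      refine invar (((shiftFunctor _ n).mapIso e) ≪≫ PreservesCoproduct.iso (shiftFunctor _ n) _).symm ?_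
      haveI := hs₁ M
      haveI := hs₂ M
      haveI : ∀ k, IsIso (τ.app (M k)) := fun k => hK k (hKq k) n
      haveI := hasCoproduct_D' fun k => F₁.obj (M k)
      haveI := hasCoproduct_D' fun k => F₂.obj (M k)
      haveI : IsIso (Limits.Sigma.map fun k => τ.app (M k)) :=
        inferInstanceAs (IsIso (Limits.Sigma.mapIso fun k => asIso (τ.app (M k))).hom)
      have hcomm : sigmaComparison F₁ M ≫ τ.app (∐ M) =
          Limits.Sigma.map (fun k => τ.app (M k)) ≫ sigmaComparison F₂ M :=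
        Sigma.hom_ext _ _ fun k => by
          rw [ι_comp_sigmaComparison_assoc, Sigma.ι_map_assoc, ι_comp_sigmaComparison, τ.naturality]
      exact IsIso.of_isIso_fac_left hcomm
    · intro T hT hq₁ hq₂ h₁ h₂ hL
      let A₁ : DCoh.DQCoh (Spec (CommRingCat.of A)) := ⟨T.obj₁, hq₁⟩
      let A₂ : DCoh.DQCoh (Spec (CommRingCat.of A)) := ⟨T.obj₂, hq₂⟩
      obtain ⟨C, p, d, hC⟩ := distinguished_cocone_triangle (ObjectProperty.homMk T.mor₁ : A₁ ⟶ A₂)
      let T' := ιS.mapTriangle.obj (Triangle.mk (ObjectProperty.homMk T.mor₁ : A₁ ⟶ A₂) p d)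
      obtain ⟨e, -⟩ := exists_iso_of_arrow_iso T' T (ιS.map_distinguished _ hC) hT
        (Arrow.isoMk (Iso.refl _) (Iso.refl _) ((Category.id_comp _).trans (Category.comp_id _).symm))
      exact good_iso (J'.mapIso (ιS.preimageIso (X := C) (Y := ⟨T.obj₃, hL⟩) (Triangle.π₃.mapIso e)))
        (good₃ _ (J'.map_distinguished _ hC) (h₁ hq₁) (h₂ hq₂))
  exact invar ((shiftFunctorZero _ ℤ).app N) (good_of_ext N (hall _ _) 0)

end Groth.Agent.TwistShriek
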