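import Groth.Agent.TwistShriek.DualTwist
import Groth.Agent.BrownRepW.Main
import Groth.Agent.PerfFF.Bij
import Groth.Agent.DQCohBrown.RightAdjoint

/-!
# The right adjoint of a direct image preserves supports
-/

set_option autoImplicit false
set_option linter.style.haveILetI false
set_option backward.isDefEq.respectTransparency false
set_option maxHeartbeats 1000000

universe u

open CategoryTheory CategoryTheory.Limits AlgebraicGeometry Pretriangulated Opposite
open Groth.Agent.DCohLib Groth.Agent.DCohMore Groth.Agent.KFlat Groth.Agent.FMKLib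

attribute [local instance] HasDerivedCategory.standard

noncomputable section

namespace Groth.Agent.TwistShriek

variable {X Y : Scheme.{u}}

theorem isZero_sigma_of_forall {C : Type*} [Category C] [HasZeroMorphisms C] {κ : Type*} (M : κ → C)
    [HasCoproduct M] (h : ∀ k, IsZero (M k)) : IsZero (∐ M) :=
  (IsZero.iff_id_eq_zero _).2 (Sigma.hom_ext _ _ fun k => (h k).eq_of_src _ _)

/-- The composite of restriction with a coproduct-preserving functor to quasi-coherent objects
preserves coproducts. -/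
theorem preservesCoproduct_restrict_comp {C : Type*} [Category C] (U : X.Opens) (G : C ⥤ DCoh.DQCoh X)
    {κ : Type u} [PreservesColimitsOfShape (Discrete κ) G] (M : κ → C) [HasCoproduct M] :
    PreservesColimit (Discrete.functor M) (G ⋙ ObjectProperty.ι _ ⋙ DCoh.restrictD U.ι) := by
  let M' : κ → DCoh.DQCoh X := fun k => G.obj (M k)
  haveI : PreservesColimit (Discrete.functor M') (ObjectProperty.ι _ ⋙ DCoh.restrictD U.ι) := by
    let K : κ → DCoh.D X := fun k => (M' k).obj
    haveI := hasCoproduct_D' K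
    haveI := preservesCoproduct_restrictD U K
    haveI : PreservesColimit (Discrete.functor M' ⋙ ObjectProperty.ι _) (DCoh.restrictD U.ι) :=
      preservesColimit_of_iso_diagram _ (Discrete.natIso fun k => Iso.refl _ :
        Discrete.functor K ≅ Discrete.functor M' ⋙ ObjectProperty.ι _)
    exact comp_preservesColimit _ _
  haveI : PreservesColimit (Discrete.functor M ⋙ G) (ObjectProperty.ι _ ⋙ DCoh.restrictD U.ι) :=
    preservesColimit_of_iso_diagram _ (Discrete.natIso fun k => Iso.refl _ :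
      Discrete.functor M' ≅ Discrete.functor M ⋙ G)
  exact comp_preservesColimit _ _

variable [CompactSpace X] [QuasiSeparatedSpace X] [CompactSpace Y] [QuasiSeparatedSpace Y]
  (f : X ⟶ Y) [DCoh.HasRpush f] (hf : DCoh.RpushPreservesQCoh f)
  (a : DCoh.DQCoh Y ⥤ DCoh.DQCoh X) (adj : DCoh.RpushQ f hf ⊣ a)

include adj in
/-- A coproduct-preserving right adjoint of the direct image maps objects vanishing on a quasi-compact open
to objects vanishing on its preimage. -/
theorem isZero_rightAdjoint_of_isCompact (hcop : ∀ κ : Type u, PreservesColimitsOfShape (Discrete κ) a)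
    (V : Y.Opens) (hV : IsCompact (V : Set Y)) (K : DCoh.DQCoh Y)
    (hK : IsZero ((DCoh.restrictD V.ι).obj K.obj)) :
    IsZero ((DCoh.restrictD (f ⁻¹ᵁ V).ι).obj (a.obj K).obj) := by
  haveI : DCoh.HasLpull f := DCohLib.hasLpull f
  obtain ⟨_, _⟩ := DQCohBrown.exists_triangulated_rpushQ f hf
  letI := adj.rightAdjointCommShift ℤ
  haveI := adj.commShift_of_leftAdjoint ℤ
  haveI := adj.isTriangulated_rightAdjoint
  let ι := ObjectProperty.ι (DCoh.IsQCohD (X := Y))
  let ιX := ObjectProperty.ι (DCoh.IsQCohD (X := X))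
  obtain ⟨P, hP, hPT, hgen⟩ := gen_main ((V : Set Y)ᶜ) V.2.isClosed_compl (by rwa [compl_compl])
  let Pq : DCoh.DQCoh Y := ⟨P, isQCohD_of_isPerfect hP⟩
  let E : ULift.{u} ℤ → DCoh.DQCoh Y := fun n => Pq⟦n.down⟧
  let c := fun (M : DCoh.DQCoh Y) (n : ℤ) => (ι.commShiftIso n).app M
  have hEp : ∀ i, DCoh.IsPerfect (E i).obj := fun i => DQCohBrown.isPerfect_shiftQ hP i.down
  have hEz : ∀ i, IsZero ((DCoh.restrictD V.ι).obj (E i).obj) := fun i =>
    ((Functor.map_isZero (shiftFunctor _ i.down) ((isZero_restrictD_iff_support V P).2 hPT)).of_iso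
      (((DCoh.restrictD V.ι).commShiftIso i.down).app P)).of_iso ((DCoh.restrictD V.ι).mapIso (c Pq i.down))
  have hsh : ∀ i (n : ℤ), ∃ j, Nonempty (E j ≅ (E i)⟦n⟧) := fun i n =>
    ⟨⟨i.down + n⟩, ⟨(shiftFunctorAdd _ i.down n).app Pq⟩⟩
  haveI : ∀ κ : Type u, PreservesLimitsOfShape (Discrete κ) (preadditiveYoneda.obj K) :=
    fun κ => BrownRepW.preservesLimitsOfShape_preadditiveYoneda κ K
  haveI := preservesLimitsOfShape_of_equiv (Discrete.equivalence (Equiv.ulift.{u} (α := ℕ))) (preadditiveYoneda.obj K)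
  haveI : ∀ i, Small.{u} (BrownRepW.El (preadditiveYoneda.obj K) (E i)) := fun i =>
    inferInstanceAs (Small.{u} (E i ⟶ K))
  obtain ⟨Z, g, hZ, hb⟩ := BrownRepW.exists_built (preadditiveYoneda.obj K) E
    (DQCohBrown.perfect_of_isPerfect E hEp) hsh
  change Z ⟶ K at g
  let R := ι ⋙ DCoh.restrictD V.ι
  let R' := a ⋙ ιX ⋙ DCoh.restrictD (f ⁻¹ᵁ V).ι
  have key : ∀ (F : DCoh.DQCoh Y ⥤ DCoh.D (V : Scheme.{u})) [F.CommShift ℤ] [F.IsTriangulated],
      ∀ T ∈ distTriang (DCoh.DQCoh Y), IsZero (F.obj T.obj₁) → IsZero (F.obj T.obj₂) → IsZero (F.obj T.obj₃) :=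
    fun F _ _ T hT h₁ h₂ => Triangle.isZero₃_of_isZero₁₂ _ (F.map_distinguished T hT) h₁ h₂
  have key' : ∀ (F : DCoh.DQCoh Y ⥤ DCoh.D (f ⁻¹ᵁ V : Scheme.{u})) [F.CommShift ℤ] [F.IsTriangulated],
      ∀ T ∈ distTriang (DCoh.DQCoh Y), IsZero (F.obj T.obj₁) → IsZero (F.obj T.obj₂) → IsZero (F.obj T.obj₃) :=
    fun F _ _ T hT h₁ h₂ => Triangle.isZero₃_of_isZero₁₂ _ (F.map_distinguished T hT) h₁ h₂
  let Good : DCoh.DQCoh Y → Prop := fun M => IsZero (R.obj M) ∧ IsZero (R'.obj M)
  have hsigma : ∀ {κ : Type u} (M : κ → DCoh.DQCoh Y), (∀ k, Good (M k)) → Good (∐ M) := fun {κ} M hM => by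
    haveI : PreservesColimit (Discrete.functor M) R :=
      preservesCoproduct_restrict_comp V (𝟭 (DCoh.DQCoh Y)) M
    haveI := hcop κ
    haveI : PreservesColimit (Discrete.functor M) R' := preservesCoproduct_restrict_comp (f ⁻¹ᵁ V) a M
    exact ⟨(IsZero.of_iso ((isZero_sigma_of_forall _ fun k => (hM k).1)) (PreservesCoproduct.iso R M)),
      (IsZero.of_iso ((isZero_sigma_of_forall _ fun k => (hM k).2)) (PreservesCoproduct.iso R' M))⟩
  have hG : Good Z := hZ Good
    { of := fun i => ⟨hEz i, isZero_rightAdjoint_of_isPerfect f hf a adj (E i) (hEp i) V (hEz i)⟩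
      sigma := hsigma
      sigmaNat := fun M hM => by
        let e : (∐ fun k : ULift.{u} ℕ => M k.down) ≅ ∐ M :=
          Sigma.whiskerEquiv (Equiv.ulift (α := ℕ)) fun _ => Iso.refl _
        obtain ⟨h1, h2⟩ := hsigma (fun k : ULift.{u} ℕ => M k.down) fun k => hM k.down
        exact ⟨h1.of_iso (R.mapIso e).symm, h2.of_iso (R'.mapIso e).symm⟩
      cone := fun T hT h₁ h₂ => ⟨key R T hT h₁.1 h₂.1, key' R' T hT h₁.2 h₂.2⟩ }
  obtain ⟨C, p, δ, hT⟩ := distinguished_cocone_triangle g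
  haveI : IsIso g := by
    refine (Triangle.isZero₃_iff_isIso₁ _ hT).1 ?_
    have hC0 : IsZero ((DCoh.restrictD V.ι).obj C.obj) := key R (Triangle.mk g p δ) hT hG.1 hK
    have hb' : ∀ n : ℤ, Function.Bijective (fun φ : Pq⟦n⟧ ⟶ Z => φ ≫ g) := fun n => hb ⟨n⟩
    have h0 := hgen C.obj C.property ((isZero_restrictD_iff_support V C.obj).1 hC0) (hom_shift_left fun n φ => by
      let d := c Pq n
      obtain ⟨ψ, hψ⟩ := ι.map_surjective (d.hom ≫ (show (ι.obj Pq)⟦n⟧ ⟶ ι.obj C from φ))
      have := PerfFF.hom_cone_zero (Triangle.mk g p δ) hT Pq hb' n ψ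
      rw [this, Functor.map_zero] at hψ
      exact ((cancel_epi d.hom).1 (hψ.symm.trans comp_zero.symm)))
    exact (IsZero.iff_id_eq_zero _).2 (ι.map_injective (h0.eq_of_src _ _))
  exact hG.2.of_iso (R'.mapIso (asIso g)).symm

include adj in
/-- A coproduct-preserving right adjoint of the direct image preserves supports. -/
theorem isZero_rightAdjoint_restrict (hcop : ∀ κ : Type u, PreservesColimitsOfShape (Discrete κ) a)
    (V : Y.Opens) (K : DCoh.DQCoh Y) (hK : IsZero ((DCoh.restrictD V.ι).obj K.obj)) :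
    IsZero ((DCoh.restrictD (f ⁻¹ᵁ V).ι).obj (a.obj K).obj) :=
  isZero_restrictD_of_cover _ _ fun x hx => by
    obtain ⟨W, hW, hxW, hWV⟩ := TopologicalSpace.Opens.isBasis_iff_nbhd.1 Y.isBasis_affineOpens (show f x ∈ V from hx)
    exact ⟨f ⁻¹ᵁ W, hxW, isZero_rightAdjoint_of_isCompact f hf a adj hcop W (IsAffineOpen.isCompact hW) K
      (isZero_restrictD_mono hWV hK)⟩

end Groth.Agent.TwistShriek
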