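import Groth.Agent.TwistShriek.Theta
import Groth.Agent.TwistShriek.Supp
import Groth.Agent.TwistShriek.Local

/-!
# Twisted inverse images as inverse images tensored with the image of the structure sheaf
-/

set_option autoImplicit false
set_option linter.style.haveILetI false
set_option backward.isDefEq.respectTransparency false
set_option maxHeartbeats 1600000

universe u

open CategoryTheory CategoryTheory.Limits AlgebraicGeometry Pretriangulated HomologicalComplex
open Groth.Agent.DCohLib Groth.Agent.DCohMore Groth.Agent.KFlat Groth.Agent.FMKLib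

attribute [local instance] HasDerivedCategory.standard

noncomputable section

namespace Groth.Agent.TwistShriek

variable {X Y : Scheme.{u}} (f : X ⟶ Y)

/-- The inverse image of a shifted unit complex. -/
def pullShiftUnit (m : ℤ) : (pullCx f).obj (shiftUnitCx Y m) ≅ shiftUnitCx X m :=
  (HomologicalComplex.singleMapHomologicalComplex (Scheme.Modules.pullback f) (ComplexShape.up ℤ) m).app
      (Coh.structureModule Y) ≪≫
    (HomologicalComplex.single X.Modules (ComplexShape.up ℤ) m).mapIso (pullStructureIso f)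

variable [CompactSpace X] [QuasiSeparatedSpace X] [CompactSpace Y] [QuasiSeparatedSpace Y]
  [DCoh.HasRpush f] [DCoh.HasLpull f] (hf : DCoh.RpushPreservesQCoh f)
  (a : DCoh.DQCoh Y ⥤ DCoh.DQCoh X) (adj : DCoh.RpushQ f hf ⊣ a)
  [QuasiCompact f] [QuasiSeparated f]
  (I : CochainComplex X.Modules ℤ) [I.IsKInjective] [DCoh.HasLTensorCx I]
  (hI : DCoh.IsQCohD (DerivedCategory.Q.obj I))
  {J : CochainComplex Y.Modules ℤ} (εc : (pfCx f).obj I ⟶ J) (η : unitCx Y ⟶ J) [QuasiIso η]

omit [CompactSpace X] [QuasiSeparatedSpace X] [CompactSpace Y] [QuasiSeparatedSpace Y] [DCoh.HasRpush f]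
  [QuasiCompact f] [QuasiSeparated f] [I.IsKInjective] in
/-- The twist of an object vanishing on an open vanishes on the preimage. -/
theorem isZero_restrict_twist (V : Y.Opens) (M : DCoh.D Y) (hM : IsZero ((DCoh.restrictD V.ι).obj M)) :
    IsZero ((DCoh.restrictD (f ⁻¹ᵁ V).ι).obj ((DCoh.LTensorCx I).obj ((DCoh.Lpull f).obj M))) := by
  let W := f ⁻¹ᵁ V
  haveI : DCoh.HasLpull (f ∣_ V) := DCohLib.hasLpull _
  obtain ⟨s⟩ := nonempty_restrictD_lpull_square W.ι f (f ∣_ V) V.ι (morphismRestrict_ι f V).symm M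
  obtain ⟨r⟩ := nonempty_restrict_lTensorCx W.ι ((DCoh.Lpull f).obj M) I
  haveI := BC.hasRpush (f ∣_ V)
  haveI : (DCoh.Lpull (f ∣_ V)).IsLeftAdjoint := (lpullRpushAdj (f ∣_ V)).isLeftAdjoint
  have h1 : IsZero ((DCoh.restrictD W.ι).obj ((DCoh.Lpull f).obj M)) :=
    ((DCoh.Lpull (f ∣_ V)).map_isZero hM).of_iso s
  let I' := (resCx W.ι).obj I
  haveI : IsIso (DerivedCategory.Q.map ((resXπ _).app I')) := isIso_Q_resXπ _
  haveI := hasRSheafHom_of_isKFlat ((resX _).obj I') (isKFlat_resX _)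
  obtain ⟨q⟩ := nonempty_lTensor_of_iso (E := I') (E' := (resX _).obj I')
    (asIso (DerivedCategory.Q.map ((resXπ _).app I')))
  exact (((DCoh.LTensorCx _).map_isZero h1).of_iso (q.app _).symm).of_iso r

/-- The functor `f^*(-) ⊗ I` on objects with quasi-coherent cohomology. -/
abbrev twistQ : DCoh.DQCoh Y ⥤ DCoh.DQCoh X :=
  ObjectProperty.lift _ (ObjectProperty.ι _ ⋙ DCoh.Lpull f ⋙ DCoh.LTensorCx I) fun N =>
    TildeD.isQCohD_lTensorCx I hI _ (TildeD.isQCohD_lpull f N.obj N.property)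

omit [CompactSpace X] [QuasiSeparatedSpace X] [CompactSpace Y] [QuasiSeparatedSpace Y] [QuasiCompact f]
  [QuasiSeparated f] [I.IsKInjective] in
theorem preservesCoproducts_twistQ (κ : Type u) : PreservesColimitsOfShape (Discrete κ) (twistQ f I hI) := by
  let ιY := ObjectProperty.ι (DCoh.IsQCohD (X := Y))
  let ιX := ObjectProperty.ι (DCoh.IsQCohD (X := X))
  haveI : ∀ M : κ → DCoh.DQCoh Y, PreservesColimit (Discrete.functor M) (ιY ⋙ DCoh.Lpull f ⋙ DCoh.LTensorCx I) := by
    intro M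
    let W := fun k => (M k).obj
    let W' := fun k => (DCoh.Lpull f).obj (W k)
    haveI := hasCoproduct_D' W
    haveI := hasCoproduct_D' W'
    haveI := preservesCoproduct_lTensorCx I W'
    haveI : (DCoh.Lpull f).IsLeftAdjoint := (lpullRpushAdj f).isLeftAdjoint
    haveI : PreservesColimit (Discrete.functor W ⋙ DCoh.Lpull f) (DCoh.LTensorCx I) :=
      preservesColimit_of_iso_diagram _ (Discrete.natIso fun k => Iso.refl _ :
        Discrete.functor W' ≅ Discrete.functor W ⋙ DCoh.Lpull f)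
    haveI : PreservesColimit (Discrete.functor M ⋙ ιY) (DCoh.Lpull f ⋙ DCoh.LTensorCx I) :=
      preservesColimit_of_iso_diagram _ (Discrete.natIso fun k => Iso.refl _ :
        Discrete.functor W ≅ Discrete.functor M ⋙ ιY)
    exact comp_preservesColimit _ _
  haveI := preservesColimitsOfShape_of_discrete (J := κ) (ιY ⋙ DCoh.Lpull f ⋙ DCoh.LTensorCx I)
  haveI : PreservesColimitsOfShape (Discrete κ) (twistQ f I hI ⋙ ιX) :=
    inferInstanceAs (PreservesColimitsOfShape (Discrete κ) (ιY ⋙ DCoh.Lpull f ⋙ DCoh.LTensorCx I))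
  exact preservesColimitsOfShape_of_reflects_of_preserves _ ιX

/-- The trace on objects with quasi-coherent cohomology. -/
def traceQ : twistQ f I hI ⋙ DCoh.RpushQ f hf ⟶ 𝟭 (DCoh.DQCoh Y) where
  app N := ObjectProperty.homMk ((traceD f I εc η hI).app N)
  naturality N N' φ := (ObjectProperty.ι (DCoh.IsQCohD (X := Y))).map_injective
    ((traceD f I εc η hI).naturality φ)

/-- The comparison map `f^* N ⊗ I ⟶ a N`. -/
def thetaQ : twistQ f I hI ⟶ a where
  app N := adj.homEquiv _ _ ((traceQ f hf I hI εc η).app N)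
  naturality N N' φ := by
    rw [← adj.homEquiv_naturality_left, ← adj.homEquiv_naturality_right]
    exact congrArg _ ((traceQ f hf I hI εc η).naturality φ)

variable [J.IsKInjective] (huniv : ∀ Z : DCoh.D X, DCoh.IsQCohD Z →
  Function.Bijective fun k : Z ⟶ DerivedCategory.Q.obj I =>
    (DCoh.Rpush f).map k ≫ (rpushInjIso f I).inv ≫ DerivedCategory.Q.map εc)

include huniv in
/-- The comparison is an isomorphism at shifts of the structure sheaf. -/
theorem isIso_thetaQ_shiftUnit (m : ℤ) (hK : DCoh.IsQCohD (DerivedCategory.Q.obj (shiftUnitCx Y m))) :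
    IsIso ((thetaQ f hf a adj I hI εc η).app ⟨DerivedCategory.Q.obj (shiftUnitCx Y m), hK⟩) := by
  let K := shiftUnitCx Y m
  let P := (resX Y).obj K
  have hP : DCoh.IsKFlat P := isKFlat_resX K
  have hKf : DCoh.IsKFlat K := isKFlat_of_strictlyPerfect (isStrictlyPerfect_shiftUnitCx m)
  have hPq : DCoh.IsQCohD (DerivedCategory.Q.obj P) := TildeD.isQCohD_of_iso ((resIso Y).app K).symm hK
  haveI : (DCoh.LTensorCx P).IsEquivalence := by
    haveI := isEquivalence_lTensor_shiftUnit (X := Y) m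
    obtain ⟨t⟩ := nonempty_lTensor_of_iso (E := K) (E' := P) ((resIso Y).app K)
    exact Functor.isEquivalence_of_iso t.symm
  let e' : DerivedCategory.Q.obj ((pullCx f).obj P) ≅ DerivedCategory.Q.obj (shiftUnitCx X m) :=
    (lpullIsoK f P hP).symm ≪≫ (DCoh.Lpull f).mapIso ((resIso Y).app K) ≪≫ lpullIsoK f K hKf ≪≫
      DerivedCategory.Q.mapIso (pullShiftUnit f m)
  obtain ⟨t'⟩ := nonempty_lTensor_of_iso (E := shiftUnitCx X m) (E' := (pullCx f).obj P) e'
  haveI : (DCoh.LTensorCx ((pullCx f).obj P)).IsEquivalence := by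
    haveI := isEquivalence_lTensor_shiftUnit (X := X) m
    exact Functor.isEquivalence_of_iso t'.symm
  haveI := isIso_tau f I hI K hK
  haveI := isIso_Q_eta η P hP
  let v : DerivedCategory.Q.obj ((DCoh.tensorCx.obj J).obj P) ≅ DerivedCategory.Q.obj K :=
    (asIso (DerivedCategory.Q.map ((DCoh.tensorCx.map η).app P))).symm ≪≫
      DerivedCategory.Q.mapIso (unitL.app P) ≪≫ (resIso Y).app K
  let c : (DCoh.Lpull f ⋙ DCoh.LTensorCx I).obj (DerivedCategory.Q.obj K) ≅
      DerivedCategory.Q.obj ((DCoh.tensorCx.obj I).obj ((pullCx f).obj P)) :=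
    (DCoh.Lpull f ⋙ DCoh.LTensorCx I).mapIso ((resIso Y).app K).symm ≪≫ (tensPullIso f I).app K
  rw [isIso_iff_yoneda_map_bijective]
  intro W
  have hcore := bijective_trace_core f I εc η hI P hP hPq
    (fun Z hZ => isQCohD_of_lTensor_shiftUnit m Z (TildeD.isQCohD_of_iso (t'.app Z) hZ)) huniv v W.obj W.property
  let ιY := ObjectProperty.ι (DCoh.IsQCohD (X := Y))
  have e : ∀ g : W ⟶ (twistQ f I hI).obj ⟨DerivedCategory.Q.obj K, hK⟩,
      g ≫ (thetaQ f hf a adj I hI εc η).app ⟨DerivedCategory.Q.obj K, hK⟩ =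
        adj.homEquiv W _ (ObjectProperty.homMk ((DCoh.Rpush f).map (g.hom ≫ c.hom) ≫
          inv ((projTau f I).app P) ≫ DerivedCategory.Q.map ((DCoh.tensorCx.map εc).app P) ≫ v.hom)) := fun g => by
    show g ≫ adj.homEquiv _ _ _ = _
    rw [← adj.homEquiv_naturality_left]
    refine congrArg _ (ιY.map_injective ?_)
    show (DCoh.Rpush f).map g.hom ≫ (traceD f I εc η hI).app _ = _
    rw [traceD_app, Functor.map_comp, Category.assoc]
    simp only [epsRes, v, c, Functor.map_comp, Category.assoc, Iso.trans_hom, Iso.symm_hom, Iso.symm_inv,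
      asIso_inv, Functor.mapIso_hom, Iso.app_hom, Iso.app_inv]
    rfl
  let fe : (W ⟶ (twistQ f I hI).obj ⟨DerivedCategory.Q.obj K, hK⟩) ≃
      (W.obj ⟶ DerivedCategory.Q.obj ((DCoh.tensorCx.obj I).obj ((pullCx f).obj P))) :=
    (ObjectProperty.fullyFaithfulι _).homEquiv.trans c.homToEquiv
  let fe' : ((DCoh.Rpush f).obj W.obj ⟶ DerivedCategory.Q.obj K) ≃
      (W ⟶ a.obj ⟨DerivedCategory.Q.obj K, hK⟩) :=
    ((ObjectProperty.fullyFaithfulι _).homEquiv (X := (DCoh.RpushQ f hf).obj W)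
      (Y := ⟨DerivedCategory.Q.obj K, hK⟩)).symm.trans (adj.homEquiv W _)
  exact (funext e) ▸ (fe'.bijective.comp (hcore.comp fe.bijective))

include huniv in
/-- When the right adjoint preserves sums, the comparison is an isomorphism. -/
theorem isIso_thetaQ (hcop : ∀ κ : Type u, PreservesColimitsOfShape (Discrete κ) a) (N : DCoh.DQCoh Y) :
    IsIso ((thetaQ f hf a adj I hI εc η).app N) := by
  obtain ⟨_, _⟩ := DQCohBrown.exists_triangulated_rpushQ f hf
  letI := adj.rightAdjointCommShift ℤ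
  haveI := adj.commShift_of_leftAdjoint ℤ
  haveI := adj.isTriangulated_rightAdjoint
  let θ := thetaQ f hf a adj I hI εc η
  let ιX := ObjectProperty.ι (DCoh.IsQCohD (X := X))
  let ιY := ObjectProperty.ι (DCoh.IsQCohD (X := Y))
  suffices h : IsIso (ιX.map (θ.app N)) by exact isIso_of_reflects_iso (θ.app N) ιX
  refine isIso_of_restrictD _ fun x => ?_
  obtain ⟨V, hV, hxV⟩ : ∃ V : Y.Opens, IsAffineOpen V ∧ f x ∈ V := by
    obtain ⟨V, hV, hxV, -⟩ := TopologicalSpace.Opens.isBasis_iff_nbhd.1 Y.isBasis_affineOpens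
      (TopologicalSpace.Opens.mem_top (f x))
    exact ⟨V, hV, hxV⟩
  refine ⟨f ⁻¹ᵁ V, hxV, ?_⟩
  let R := DCoh.restrictD (f ⁻¹ᵁ V).ι
  have hF₁ : ExTri (twistQ f I hI ⋙ ιX ⋙ R) := (exTri_of_isTriangulated ιY).comp
    ((BC.exTri_lpull f).comp ((exTri_lTensorCx I).comp (exTri_of_isTriangulated R)))
  have hF₂ : ExTri (a ⋙ ιX ⋙ R) := exTri_of_isTriangulated _
  refine isIso_app_of_affine (A := Γ(Y, V)) hV.fromSpec hF₁ hF₂ (fun {κ} M => ?_) (fun {κ} M => ?_)
    (Functor.whiskerRight θ (ιX ⋙ R)) (fun M hM => ?_) (fun M hM => ?_) (fun m hm => ?_) N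
  · haveI : PreservesColimitsOfShape (Discrete κ) (twistQ f I hI) := preservesCoproducts_twistQ f I hI κ
    exact preservesCoproduct_restrict_comp (f ⁻¹ᵁ V) (twistQ f I hI) M
  · haveI := hcop κ
    exact preservesCoproduct_restrict_comp (f ⁻¹ᵁ V) a M
  · rw [hV.opensRange_fromSpec] at hM
    exact isZero_restrict_twist f I V M.obj hM
  · rw [hV.opensRange_fromSpec] at hM
    exact isZero_rightAdjoint_restrict f hf a adj hcop V M hM
  · haveI := isIso_thetaQ_shiftUnit f hf a adj I hI εc η huniv m hm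
    exact (ιX ⋙ R).map_isIso (θ.app _)

end Groth.Agent.TwistShriek
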