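import Groth.Agent.TwistShriek.OpenBase
import Groth.Agent.DQCohBrown.RightAdjoint
import Mathlib.AlgebraicGeometry.Morphisms.Immersion

/-!
# Independence of the compactification
-/

set_option autoImplicit false
set_option linter.style.haveILetI false
set_option linter.unusedSectionVars false
set_option backward.isDefEq.respectTransparency false
set_option maxHeartbeats 1600000

universe u

open CategoryTheory CategoryTheory.Limits AlgebraicGeometry Pretriangulated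
open Groth.Agent.DCohLib Groth.Agent.DCohMore

attribute [local instance] HasDerivedCategory.standard

noncomputable section

namespace Groth.Agent.TwistShriek

variable {X Y : Scheme.{u}} {f : X ⟶ Y}

theorem rpushQC {A B : Scheme.{u}} (k : A ⟶ B) [QuasiCompact k] [QuasiSeparated k] [DCoh.HasRpush k] :
    DCoh.RpushPreservesQCoh k :=
  fun K hK => isQCohD_rpush k K hK

theorem isLeftAdjoint_rpushQ' {A B : Scheme.{u}} (k : A ⟶ B) [CompactSpace A] [QuasiSeparatedSpace A]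
    [QuasiCompact k] [QuasiSeparated k] [DCoh.HasRpush k] :
    (DCoh.RpushQ k (rpushQC k)).IsLeftAdjoint :=
  DQCohBrown.isLeftAdjoint_rpushQ k _

/-- An open immersion into a separated proper `Z` over a scheme containing the same open: the open is the full
preimage when it is scheme theoretically dense. -/
theorem preimage_opensRange_eq {Z Z₁ : Scheme.{u}} (j : X ⟶ Z) [IsOpenImmersion j] [IsDominant j]
    (h : Z ⟶ Z₁) [IsSeparated h] (j₁ : X ⟶ Z₁) [IsOpenImmersion j₁] (w : j ≫ h = j₁) :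
    h ⁻¹ᵁ j₁.opensRange = j.opensRange := by
  let P := h ⁻¹ᵁ j₁.opensRange
  have hle : j.opensRange ≤ P := by
    rintro _ ⟨x, rfl⟩
    exact ⟨x, by rw [← w, Scheme.Hom.comp_apply]⟩
  refine le_antisymm ?_ hle
  let s : X ⟶ P := IsOpenImmersion.lift P.ι j (by
    rw [Scheme.Opens.range_ι]; exact hle)
  let q : (P : Scheme.{u}) ⟶ X := IsOpenImmersion.lift j₁ (P.ι ≫ h) (by
    rintro _ ⟨z, rfl⟩
    exact z.2)
  have hsq : s ≫ q = 𝟙 X := by
    rw [← cancel_mono j₁, Category.assoc, IsOpenImmersion.lift_fac, ← Category.assoc,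
      IsOpenImmersion.lift_fac, w, Category.id_comp]
  haveI : IsSeparated q :=
    haveI : IsSeparated (q ≫ j₁) := by rw [IsOpenImmersion.lift_fac]; infer_instance
    IsSeparated.of_comp q j₁
  haveI : IsClosedImmersion (s ≫ q) := by rw [hsq]; infer_instance
  haveI : IsClosedImmersion s := IsClosedImmersion.of_comp s q
  have hd : DenseRange s := by
    intro z
    rw [P.ι.isOpenEmbedding.isInducing.closure_eq_preimage_closure_image, Set.mem_preimage]
    have h0 : Dense (Set.range j) := j.denseRange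
    have e : (P.ι '' Set.range s) = Set.range j := by
      rw [← Set.range_comp]
      congr 1
      funext x
      show P.ι (s x) = j x
      rw [← Scheme.Hom.comp_apply, IsOpenImmersion.lift_fac]
    rw [e]
    exact h0 _
  intro z hz
  obtain ⟨x, hx⟩ : (⟨z, hz⟩ : P) ∈ Set.range s := by
    rw [← s.isClosedEmbedding.isClosed_range.closure_eq]
    exact hd _
  refine ⟨x, ?_⟩
  have h1 := congrArg P.ι hx
  rw [← Scheme.Hom.comp_apply, IsOpenImmersion.lift_fac] at h1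
  exact h1

/-- Two compactifications are dominated by a third one. -/
theorem exists_dominating [CompactSpace X] (hY : QuasiSeparatedSpace Y) (c₁ c₂ : DEt.Compactification f) :
    ∃ (c : DEt.Compactification f) (h₁ : c.Xbar ⟶ c₁.Xbar) (h₂ : c.Xbar ⟶ c₂.Xbar), IsProper h₁ ∧ IsProper h₂ ∧
      h₁ ≫ c₁.fbar = c.fbar ∧ h₂ ≫ c₂.fbar = c.fbar ∧
      IsPullback c.j (𝟙 X) h₁ c₁.j ∧ IsPullback c.j (𝟙 X) h₂ c₂.j := by
  let P := pullback c₁.fbar c₂.fbar
  let t : X ⟶ P := pullback.lift c₁.j c₂.j (by rw [c₁.fac, c₂.fac])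
  haveI : IsImmersion (t ≫ pullback.fst c₁.fbar c₂.fbar) := by
    rw [pullback.lift_fst]
    infer_instance
  haveI : IsImmersion t := IsImmersion.of_comp t (pullback.fst _ _)
  haveI : QuasiSeparatedSpace c₁.Xbar := quasiSeparatedSpace_of_quasiSeparated c₁.fbar
  haveI : QuasiSeparatedSpace (↑P : Scheme.{u}) := quasiSeparatedSpace_of_quasiSeparated (pullback.fst c₁.fbar c₂.fbar)
  haveI : QuasiCompact t := quasiCompact_of_compactSpace t
  let h₁ := t.imageι ≫ pullback.fst c₁.fbar c₂.fbar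
  let h₂ := t.imageι ≫ pullback.snd c₁.fbar c₂.fbar
  have w₁ : t.toImage ≫ h₁ = c₁.j := by
    rw [← Category.assoc, Scheme.Hom.toImage_imageι, pullback.lift_fst]
  have w₂ : t.toImage ≫ h₂ = c₂.j := by
    rw [← Category.assoc, Scheme.Hom.toImage_imageι, pullback.lift_snd]
  have e₂ : h₂ ≫ c₂.fbar = h₁ ≫ c₁.fbar := by
    simp only [h₁, h₂, Category.assoc, pullback.condition]
  haveI : IsProper (h₁ ≫ c₁.fbar) := inferInstance
  refine ⟨{ Xbar := t.image, j := t.toImage, fbar := h₁ ≫ c₁.fbar, isOpenImmersion := inferInstance,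
            isProper := inferInstance, fac := by rw [← Category.assoc, w₁, c₁.fac] },
    h₁, h₂, inferInstance, inferInstance, rfl, e₂, ?_, ?_⟩
  · exact (IsOpenImmersion.isPullback (𝟙 X) t.toImage c₁.j h₁ (by rw [w₁, Category.id_comp])
      (preimage_opensRange_eq t.toImage h₁ c₁.j w₁)).flip
  · exact (IsOpenImmersion.isPullback (𝟙 X) t.toImage c₂.j h₂ (by rw [w₂, Category.id_comp])
      (preimage_opensRange_eq t.toImage h₂ c₂.j w₂)).flip

/-- The direct image along the identity. -/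
theorem nonempty_rpush_id [DCoh.HasRpush (𝟙 X)] : Nonempty (DCoh.Rpush (𝟙 X) ≅ 𝟭 (DCoh.D X)) := by
  haveI : DCoh.HasLpull (𝟙 X) := DCohLib.hasLpull _
  let l : DCoh.Lpull (𝟙 X) ≅ 𝟭 (DCoh.D X) := DCohMore.lpullRestrictNatIso (𝟙 X) ≪≫ DCohLib.restrictDId X
  exact ⟨(DCohLib.lpullRpushAdj (𝟙 X)).rightAdjointUniq (CategoryTheory.Adjunction.id.ofNatIsoLeft l.symm)⟩

/-- Passing to a compactification lying over the given one. -/
theorem nonempty_shriekC_dominate [IsNoetherian Y] (c c₁ : DEt.Compactification f) (h : c.Xbar ⟶ c₁.Xbar)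
    [IsProper h] (e : h ≫ c₁.fbar = c.fbar) (hpb : IsPullback c.j (𝟙 X) h c₁.j)
    [DCoh.HasRpush c.fbar] [DCoh.HasRpush c₁.fbar]
    {hc : DCoh.RpushPreservesQCoh c.fbar} {hc₁ : DCoh.RpushPreservesQCoh c₁.fbar}
    {a : DCoh.DQCoh Y ⥤ DCoh.DQCoh c.Xbar} {a₁ : DCoh.DQCoh Y ⥤ DCoh.DQCoh c₁.Xbar}
    (adj : DCoh.RpushQ c.fbar hc ⊣ a) (adj₁ : DCoh.RpushQ c₁.fbar hc₁ ⊣ a₁)
    [PreservesFiniteLimits (Scheme.Modules.restrictFunctor c.j)]
    [PreservesFiniteLimits (Scheme.Modules.restrictFunctor c₁.j)] :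
    Nonempty (Dual3.bddι Y ⋙ Dual3.shriekC c a ≅ Dual3.bddι Y ⋙ Dual3.shriekC c₁ a₁) := by
  haveI : IsNoetherian c₁.Xbar :=
    haveI := LocallyOfFiniteType.isLocallyNoetherian c₁.fbar
    haveI : CompactSpace c₁.Xbar := QuasiCompact.compactSpace_of_compactSpace c₁.fbar
    {}
  haveI : CompactSpace c.Xbar := QuasiCompact.compactSpace_of_compactSpace h
  haveI : QuasiSeparatedSpace c.Xbar := quasiSeparatedSpace_of_quasiSeparated h
  haveI : CompactSpace X := QuasiCompact.compactSpace_of_compactSpace c₁.j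
  haveI : QuasiSeparatedSpace X := quasiSeparatedSpace_of_quasiSeparated c₁.j
  haveI := BC.hasRpush h
  haveI := BC.hasRpush c.j
  haveI := BC.hasRpush c₁.j
  haveI := BC.hasRpush (𝟙 X)
  haveI : DCoh.HasLpull c.j := DCohLib.hasLpull _
  haveI : DCoh.HasLpull c₁.j := DCohLib.hasLpull _
  haveI := isLeftAdjoint_rpushQ' h
  let adjh := Adjunction.ofIsLeftAdjoint (DCoh.RpushQ h (rpushQC h))
  let b := (DCoh.RpushQ h (rpushQC h)).rightAdjoint
  obtain ⟨i⟩ := nonempty_rpush_id (X := X)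
  let hid : DCoh.RpushPreservesQCoh (𝟙 X) := rpushQC _
  let iQ : DCoh.RpushQ (𝟙 X) hid ≅ 𝟭 (DCoh.DQCoh X) :=
    NatIso.ofComponents (fun K => ObjectProperty.isoMk _ (i.app K.obj))
      fun φ => ObjectProperty.hom_ext _ (i.hom.naturality φ.hom)
  let adjid : DCoh.RpushQ (𝟙 X) hid ⊣ 𝟭 (DCoh.DQCoh X) := CategoryTheory.Adjunction.id.ofNatIsoLeft iQ.symm
  obtain ⟨bc⟩ := nonempty_openBaseChange hpb (rpushQC c₁.j) (rpushQC c.j) adjh adjid
  -- the right adjoint of the composite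
  have key : ∀ (k : c.Xbar ⟶ Y) (_ : DCoh.HasRpush k), h ≫ c₁.fbar = k →
      Nonempty (DCoh.Rpush h ⋙ DCoh.Rpush c₁.fbar ≅ DCoh.Rpush k) := by
    rintro k _ rfl
    exact DCohLib.nonempty_rpushCompIso h c₁.fbar
  obtain ⟨cc⟩ := key c.fbar inferInstance e
  let ccQ : DCoh.RpushQ h (rpushQC h) ⋙ DCoh.RpushQ c₁.fbar hc₁ ≅ DCoh.RpushQ c.fbar hc :=
    NatIso.ofComponents (fun K => ObjectProperty.isoMk _ (cc.app K.obj))
      fun φ => ObjectProperty.hom_ext _ (cc.hom.naturality φ.hom)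
  let eA : a ≅ a₁ ⋙ b := adj.rightAdjointUniq ((adjh.comp adj₁).ofNatIsoLeft ccQ)
  obtain ⟨N, hN⟩ := DQCohBrown.exists_bound_rightAdjoint c₁.fbar hc₁ a₁ adj₁
  have hb : ∀ K : (Dual3.IsBddBelowQ Y).FullSubcategory, Dual3.IsBddBelowQ c₁.Xbar (a₁.obj K.obj) := by
    intro K
    obtain ⟨n, hn⟩ := K.property
    exact ⟨n - 1 - N + 1, (DerivedCategory.isGE_iff _ _).2 fun i hi =>
      hN K.obj (n - 1) (fun k hk => DerivedCategory.isZero_of_isGE K.obj.obj n k (by omega)) i (by omega)⟩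
  obtain ⟨l⟩ := nonempty_restrictD_iso_lpull c.j
  obtain ⟨l₁⟩ := nonempty_restrictD_iso_lpull c₁.j
  refine ⟨NatIso.ofComponents (fun K =>
    (DCoh.restrictD c.j).mapIso ((ObjectProperty.ι _).mapIso (eA.app K.obj)) ≪≫
      l.app _ ≪≫ (ObjectProperty.ι _).mapIso (bc.app ⟨a₁.obj K.obj, hb K⟩) ≪≫ (l₁.app _).symm) fun {K K'} φ => ?_⟩
  let ψ : (⟨a₁.obj K.obj, hb K⟩ : (Dual3.IsBddBelowQ c₁.Xbar).FullSubcategory) ⟶ ⟨a₁.obj K'.obj, hb K'⟩ :=
    ObjectProperty.homMk (a₁.map φ.hom)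
  have h1 := congrArg (fun k => (DCoh.restrictD c.j).map ((ObjectProperty.ι _).map k)) (eA.hom.naturality φ.hom)
  have h2 := congrArg (fun k => (ObjectProperty.ι _).map k) (bc.hom.naturality ψ)
  simp only [Functor.map_comp, Functor.comp_map] at h1 h2
  have h3 := l.hom.naturality ((ObjectProperty.ι _).map (b.map (a₁.map φ.hom)))
  have h4 := l₁.inv.naturality ((ObjectProperty.ι _).map (a₁.map φ.hom))
  simp only [Functor.comp_map, Iso.trans_hom, Functor.mapIso_hom, Iso.app_hom, Iso.symm_hom, Iso.app_inv,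
    Category.assoc]
  erw [reassoc_of% h1, reassoc_of% h3, reassoc_of% h2, h4]
  rfl

/-- Independence of the compactification. -/
theorem nonempty_shriekC_indep [IsNoetherian Y] [CompactSpace X] (c₁ c₂ : DEt.Compactification f)
    [DCoh.HasRpush c₁.fbar] [DCoh.HasRpush c₂.fbar]
    {h₁ : DCoh.RpushPreservesQCoh c₁.fbar} {h₂ : DCoh.RpushPreservesQCoh c₂.fbar}
    {a₁ : DCoh.DQCoh Y ⥤ DCoh.DQCoh c₁.Xbar} {a₂ : DCoh.DQCoh Y ⥤ DCoh.DQCoh c₂.Xbar}
    (adj₁ : DCoh.RpushQ c₁.fbar h₁ ⊣ a₁) (adj₂ : DCoh.RpushQ c₂.fbar h₂ ⊣ a₂)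
    [PreservesFiniteLimits (Scheme.Modules.restrictFunctor c₁.j)]
    [PreservesFiniteLimits (Scheme.Modules.restrictFunctor c₂.j)] :
    Nonempty (Dual3.bddι Y ⋙ Dual3.shriekC c₁ a₁ ≅ Dual3.bddι Y ⋙ Dual3.shriekC c₂ a₂) := by
  obtain ⟨c, k₁, k₂, _, _, e₁, e₂, p₁, p₂⟩ := exists_dominating inferInstance c₁ c₂
  haveI : CompactSpace c.Xbar := QuasiCompact.compactSpace_of_compactSpace c.fbar
  haveI : QuasiSeparatedSpace c.Xbar := quasiSeparatedSpace_of_quasiSeparated c.fbar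
  haveI := BC.hasRpush c.fbar
  haveI := isLeftAdjoint_rpushQ' c.fbar
  haveI : PreservesFiniteLimits (Scheme.Modules.restrictFunctor c.j) := inferInstance
  let adj := Adjunction.ofIsLeftAdjoint (DCoh.RpushQ c.fbar (rpushQC c.fbar))
  obtain ⟨i₁⟩ := nonempty_shriekC_dominate c c₁ k₁ e₁ p₁ adj adj₁
  obtain ⟨i₂⟩ := nonempty_shriekC_dominate c c₂ k₂ e₂ p₂ adj adj₂
  exact ⟨i₁.symm ≪≫ i₂⟩

end Groth.Agent.TwistShriek
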