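import Groth.Agent.TwistShriek.ShriekIndep

/-!
# Composition of upper shriek functors
-/

set_option autoImplicit false
set_option linter.style.haveILetI false
set_option linter.unusedSectionVars false
set_option backward.isDefEq.respectTransparency false
set_option maxHeartbeats 1600000

universe u

open CategoryTheory CategoryTheory.Limits AlgebraicGeometry Pretriangulated
open Groth.Agent.DCohLib Groth.Agent.DCohMore

attribute [local instance] HasDerivedCategory.standard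

noncomputable section

namespace Groth.Agent.TwistShriek

variable {X Y Z : Scheme.{u}} {f : X ⟶ Y} {g : Y ⟶ Z}

/-- A compactification of a composite lying over compactifications of the two morphisms. -/
theorem exists_compactification_comp [CompactSpace X] [IsNoetherian Z] (cg : DEt.Compactification g)
    (cgf : DEt.Compactification (f ≫ g)) :
    ∃ (c : DEt.Compactification (f ≫ g)) (U : Scheme.{u}) (π : c.Xbar ⟶ cg.Xbar) (jU : U ⟶ c.Xbar)
      (cf : DEt.Compactification f) (e : cf.Xbar = U), IsProper π ∧ π ≫ cg.fbar = c.fbar ∧ IsOpenImmersion jU ∧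
        ∃ fU : U ⟶ Y, IsPullback jU fU π cg.j ∧ cf.fbar = eqToHom e ≫ fU ∧ cf.j ≫ eqToHom e ≫ jU = c.j := by
  let P := pullback cgf.fbar cg.fbar
  let t : X ⟶ P := pullback.lift cgf.j (f ≫ cg.j) (by rw [cgf.fac, Category.assoc, cg.fac])
  haveI : IsImmersion (t ≫ pullback.fst cgf.fbar cg.fbar) := by
    rw [pullback.lift_fst]
    infer_instance
  haveI : IsImmersion t := IsImmersion.of_comp t (pullback.fst _ _)
  haveI : QuasiSeparatedSpace cgf.Xbar := quasiSeparatedSpace_of_quasiSeparated cgf.fbar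
  haveI : QuasiSeparatedSpace (↑P : Scheme.{u}) :=
    quasiSeparatedSpace_of_quasiSeparated (pullback.fst cgf.fbar cg.fbar)
  haveI : QuasiCompact t := quasiCompact_of_compactSpace t
  let h := t.imageι ≫ pullback.fst cgf.fbar cg.fbar
  let π := t.imageι ≫ pullback.snd cgf.fbar cg.fbar
  have e : π ≫ cg.fbar = h ≫ cgf.fbar := by
    simp only [h, π, Category.assoc, pullback.condition]
  have wπ : t.toImage ≫ π = f ≫ cg.j := by
    rw [← Category.assoc, Scheme.Hom.toImage_imageι, pullback.lift_snd]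
  have wh : t.toImage ≫ h = cgf.j := by
    rw [← Category.assoc, Scheme.Hom.toImage_imageι, pullback.lift_fst]
  let U := π ⁻¹ᵁ cg.j.opensRange
  let fU : (U : Scheme.{u}) ⟶ Y := IsOpenImmersion.lift cg.j (U.ι ≫ π) (by
    rintro _ ⟨z, rfl⟩
    exact z.2)
  let s : X ⟶ U := IsOpenImmersion.lift U.ι t.toImage (by
    rw [Scheme.Opens.range_ι]
    rintro _ ⟨x, rfl⟩
    exact ⟨f x, by rw [← Scheme.Hom.comp_apply, ← Scheme.Hom.comp_apply, wπ]⟩)
  haveI : IsOpenImmersion (s ≫ U.ι) := by rw [IsOpenImmersion.lift_fac]; infer_instance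
  haveI : IsOpenImmersion s := IsOpenImmersion.of_comp s U.ι
  have hU : IsPullback U.ι fU π cg.j :=
    (IsOpenImmersion.isPullback fU U.ι cg.j π (IsOpenImmersion.lift_fac _ _ _).symm (by
      rw [Scheme.Opens.opensRange_ι])).flip
  haveI : IsProper fU := MorphismProperty.of_isPullback (P := @IsProper) hU inferInstance
  refine ⟨{ Xbar := t.image, j := t.toImage, fbar := h ≫ cgf.fbar, isOpenImmersion := inferInstance,
            isProper := inferInstance, fac := by rw [← Category.assoc, wh, cgf.fac] },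
    U, π, U.ι, { Xbar := U, j := s, fbar := fU, isOpenImmersion := inferInstance, isProper := inferInstance,
                 fac := ?_ }, rfl, inferInstance, e, inferInstance, fU, hU, ?_, ?_⟩
  · rw [← cancel_mono cg.j, Category.assoc, IsOpenImmersion.lift_fac, ← Category.assoc, IsOpenImmersion.lift_fac, wπ]
  · simp
  · simp only [eqToHom_refl, Category.id_comp]
    exact IsOpenImmersion.lift_fac _ _ _

/-- Upper shriek functors compose. -/
theorem nonempty_shriekC_comp [CompactSpace X] [IsNoetherian Y] [IsNoetherian Z]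
    (cf : DEt.Compactification f) (cg : DEt.Compactification g) (cgf : DEt.Compactification (f ≫ g))
    [DCoh.HasRpush cf.fbar] [DCoh.HasRpush cg.fbar] [DCoh.HasRpush cgf.fbar]
    {hf : DCoh.RpushPreservesQCoh cf.fbar} {hg : DCoh.RpushPreservesQCoh cg.fbar}
    {hgf : DCoh.RpushPreservesQCoh cgf.fbar}
    {a : DCoh.DQCoh Y ⥤ DCoh.DQCoh cf.Xbar} {b : DCoh.DQCoh Z ⥤ DCoh.DQCoh cg.Xbar}
    {c : DCoh.DQCoh Z ⥤ DCoh.DQCoh cgf.Xbar}
    (adjf : DCoh.RpushQ cf.fbar hf ⊣ a) (adjg : DCoh.RpushQ cg.fbar hg ⊣ b) (adjgf : DCoh.RpushQ cgf.fbar hgf ⊣ c)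
    [∀ (U V : Scheme.{u}) (j : U ⟶ V) [IsOpenImmersion j], PreservesFiniteLimits (Scheme.Modules.restrictFunctor j)]
    (hres : ∀ K : DCoh.D cg.Xbar, DCoh.IsQCohD K → DCoh.IsQCohD ((DCoh.restrictD cg.j).obj K)) :
    Nonempty (Dual3.bddι Z ⋙ Dual3.shriekC cgf c ≅
      Dual3.bddι Z ⋙ ObjectProperty.lift DCoh.IsQCohD (Dual3.shriekC cg b)
        (fun K => hres (b.obj K).obj (b.obj K).property) ⋙ Dual3.shriekC cf a) := by
  obtain ⟨ch, U, π, jU, cf', eU, _, eπ, _, fU, hU, efU, ej⟩ := exists_compactification_comp cg cgf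
  subst eU
  simp only [eqToHom_refl, Category.id_comp] at efU ej
  subst efU
  haveI : IsNoetherian cg.Xbar :=
    haveI := LocallyOfFiniteType.isLocallyNoetherian cg.fbar
    haveI : CompactSpace cg.Xbar := QuasiCompact.compactSpace_of_compactSpace cg.fbar
    {}
  haveI : CompactSpace ch.Xbar := QuasiCompact.compactSpace_of_compactSpace π
  haveI : QuasiSeparatedSpace ch.Xbar := quasiSeparatedSpace_of_quasiSeparated π
  haveI : CompactSpace cf'.Xbar := QuasiCompact.compactSpace_of_compactSpace cf'.fbar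
  haveI : QuasiSeparatedSpace cf'.Xbar := quasiSeparatedSpace_of_quasiSeparated cf'.fbar
  haveI := BC.hasRpush π
  haveI := BC.hasRpush ch.fbar
  haveI := BC.hasRpush cf'.fbar
  haveI := BC.hasRpush jU
  haveI := BC.hasRpush cg.j
  haveI : DCoh.HasLpull jU := DCohLib.hasLpull _
  haveI : DCoh.HasLpull cg.j := DCohLib.hasLpull _
  haveI := isLeftAdjoint_rpushQ' π
  haveI := isLeftAdjoint_rpushQ' ch.fbar
  haveI := isLeftAdjoint_rpushQ' cf'.fbar
  haveI : QuasiCompact jU := MorphismProperty.of_isPullback (P := @QuasiCompact) hU.flip inferInstance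
  let adjπ := Adjunction.ofIsLeftAdjoint (DCoh.RpushQ π (rpushQC π))
  let aπ := (DCoh.RpushQ π (rpushQC π)).rightAdjoint
  let adjh := Adjunction.ofIsLeftAdjoint (DCoh.RpushQ ch.fbar (rpushQC ch.fbar))
  let ah := (DCoh.RpushQ ch.fbar (rpushQC ch.fbar)).rightAdjoint
  let adjU := Adjunction.ofIsLeftAdjoint (DCoh.RpushQ cf'.fbar (rpushQC cf'.fbar))
  let aU := (DCoh.RpushQ cf'.fbar (rpushQC cf'.fbar)).rightAdjoint
  obtain ⟨i₁⟩ := nonempty_shriekC_indep cgf ch adjgf adjh
  obtain ⟨i₂⟩ := nonempty_shriekC_indep cf' cf adjU adjf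
  obtain ⟨bc⟩ := nonempty_openBaseChange hU (rpushQC cg.j) (rpushQC jU) adjπ adjU
  have key : ∀ (k : ch.Xbar ⟶ Z) (_ : DCoh.HasRpush k), π ≫ cg.fbar = k →
      Nonempty (DCoh.Rpush π ⋙ DCoh.Rpush cg.fbar ≅ DCoh.Rpush k) := by
    rintro k _ rfl
    exact DCohLib.nonempty_rpushCompIso π cg.fbar
  obtain ⟨cc⟩ := key ch.fbar inferInstance eπ
  let ccQ : DCoh.RpushQ π (rpushQC π) ⋙ DCoh.RpushQ cg.fbar hg ≅ DCoh.RpushQ ch.fbar (rpushQC ch.fbar) :=
    NatIso.ofComponents (fun K => ObjectProperty.isoMk _ (cc.app K.obj))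
      fun φ => ObjectProperty.hom_ext _ (cc.hom.naturality φ.hom)
  let eA : ah ≅ b ⋙ aπ := adjh.rightAdjointUniq ((adjπ.comp adjg).ofNatIsoLeft ccQ)
  obtain ⟨N, hN⟩ := DQCohBrown.exists_bound_rightAdjoint cg.fbar hg b adjg
  have hbK : ∀ K : (Dual3.IsBddBelowQ Z).FullSubcategory, Dual3.IsBddBelowQ cg.Xbar (b.obj K.obj) := by
    intro K
    obtain ⟨n, hn⟩ := K.property
    exact ⟨n - 1 - N + 1, (DerivedCategory.isGE_iff _ _).2 fun i hi =>
      hN K.obj (n - 1) (fun k hk => DerivedCategory.isZero_of_isGE K.obj.obj n k (by omega)) i (by omega)⟩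
  let B : (Dual3.IsBddBelowQ Z).FullSubcategory ⥤ (Dual3.IsBddBelowQ cg.Xbar).FullSubcategory :=
    ObjectProperty.lift _ (Dual3.bddι Z ⋙ b) hbK
  obtain ⟨lU⟩ := nonempty_restrictD_iso_lpull jU
  obtain ⟨lg⟩ := nonempty_restrictD_iso_lpull cg.j
  -- the restriction of `b` lands in bounded below objects
  let Φ : (Dual3.IsBddBelowQ Z).FullSubcategory ⥤ DCoh.DQCoh Y :=
    Dual3.bddι Z ⋙ ObjectProperty.lift DCoh.IsQCohD (Dual3.shriekC cg b)
      (fun K => hres (b.obj K).obj (b.obj K).property)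
  have hΦ : ∀ K, Dual3.IsBddBelowQ Y (Φ.obj K) := by
    intro K
    obtain ⟨n, hn⟩ := hbK K
    exact ⟨n, isGE_restrict cg.j hn⟩
  let lQ : B ⋙ Dual3.bddι cg.Xbar ⋙ Dual3.LpullQ cg.j (lpullQCoh cg.j) ≅ Φ :=
    NatIso.ofComponents (fun K => ObjectProperty.isoMk _ (lg.symm.app (b.obj K.obj).obj))
      fun φ => ObjectProperty.hom_ext _ (lg.inv.naturality (b.map φ.hom).hom)
  let eC : DCoh.restrictD ch.j ≅ DCoh.restrictD jU ⋙ DCoh.restrictD cf'.j :=
    restrictDCongr ej.symm ≪≫ restrictDComp cf'.j jU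
  let Φ' : (Dual3.IsBddBelowQ Z).FullSubcategory ⥤ (Dual3.IsBddBelowQ Y).FullSubcategory :=
    ObjectProperty.lift _ Φ hΦ
  refine ⟨i₁ ≪≫ ?_ ≪≫ Functor.isoWhiskerLeft Φ' i₂⟩
  let R := DCoh.restrictD cf'.j
  exact Functor.isoWhiskerLeft (Dual3.bddι Z) (Functor.isoWhiskerRight eA (ObjectProperty.ι _ ⋙ DCoh.restrictD ch.j)) ≪≫
    Functor.isoWhiskerLeft (B ⋙ Dual3.bddι cg.Xbar ⋙ aπ ⋙ ObjectProperty.ι _)
      (eC ≪≫ Functor.isoWhiskerRight lU R) ≪≫
    Functor.isoWhiskerLeft B (Functor.isoWhiskerRight bc (ObjectProperty.ι _ ⋙ R)) ≪≫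
    Functor.isoWhiskerRight lQ (aU ⋙ ObjectProperty.ι _ ⋙ R)

end Groth.Agent.TwistShriek
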