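import Groth.Agent.TwistShriek.FlatBCHyp

/-!
# Upper shriek commutes with flat base change
-/

set_option autoImplicit false
set_option linter.style.haveILetI false
set_option linter.unusedSectionVars false
set_option backward.isDefEq.respectTransparency false
set_option maxHeartbeats 1000000

universe u

open CategoryTheory CategoryTheory.Limits AlgebraicGeometry
open Groth.Agent.DCohLib Groth.Agent.DCohMore

attribute [local instance] HasDerivedCategory.standard

noncomputable section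

namespace Groth.Agent.TwistShriek

section Natural

variable {A : Type*} [Category A] {B : Type*} [Category B] {A' : Type*} [Category A'] {B' : Type*} [Category B']
  {F : A ⥤ B} {a : B ⥤ A} {F' : A' ⥤ B'} {a' : B' ⥤ A'} {G : B' ⥤ B} {G' : A' ⥤ A} {L : B ⥤ B'} {L' : A ⥤ A'}
  (adj : F ⊣ a) (adj' : F' ⊣ a') (e : G' ⋙ F ≅ F' ⋙ G) (adjL : L ⊣ G) (adjL' : L' ⊣ G')

/-- The base change map is natural. -/
theorem bcAdjMap_natural [∀ M, IsIso (xiMap adj adj' e M)] {K K' : B} (φ : K ⟶ K') :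
    L'.map (a.map φ) ≫ bcAdjMap adj adj' e adjL adjL' K' =
      bcAdjMap adj adj' e adjL adjL' K ≫ a'.map (L.map φ) := by
  apply (adjL'.homEquiv _ _).injective
  rw [adjL'.homEquiv_naturality_left, adjL'.homEquiv_naturality_right, adjL'.homEquiv_unit, adjL'.homEquiv_unit,
    unit_bcAdjMap, unit_bcAdjMap, Category.assoc, ← Category.assoc (a.map φ), ← Functor.map_comp]
  rw [show φ ≫ adjL.unit.app K' = adjL.unit.app K ≫ G.map (L.map φ) from adjL.unit.naturality φ, Functor.map_comp,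
    Category.assoc]
  refine congrArg _ ?_
  rw [IsIso.comp_inv_eq, Category.assoc, IsIso.eq_inv_comp]
  exact (xiMap_natural adj adj' e (L.map φ)).symm

end Natural

variable {X Y X' Y' : Scheme.{u}} {f : X ⟶ Y} {g : Y' ⟶ Y} {f' : X' ⟶ Y'} {g' : X' ⟶ X}

set_option maxHeartbeats 2000000 in
/-- Upper shriek commutes with flat base change on objects bounded below. -/
theorem nonempty_shriekC_flatBaseChange [IsNoetherian Y] [IsNoetherian Y'] [CompactSpace X'] [Flat g]
    (hsq : IsPullback g' f' f g) (c : DEt.Compactification f) (c' : DEt.Compactification f')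
    [DCoh.HasRpush c.fbar] [DCoh.HasRpush c'.fbar] {hc : DCoh.RpushPreservesQCoh c.fbar}
    {hc' : DCoh.RpushPreservesQCoh c'.fbar} {a : DCoh.DQCoh Y ⥤ DCoh.DQCoh c.Xbar}
    {a' : DCoh.DQCoh Y' ⥤ DCoh.DQCoh c'.Xbar} (adj : DCoh.RpushQ c.fbar hc ⊣ a)
    (adj' : DCoh.RpushQ c'.fbar hc' ⊣ a') [DCoh.HasLpull g] [DCoh.HasLpull g']
    [PreservesFiniteLimits (Scheme.Modules.restrictFunctor c.j)]
    [PreservesFiniteLimits (Scheme.Modules.restrictFunctor c'.j)] (hLg : Dual3.LpullPreservesQCoh g) :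
    Nonempty (Dual3.bddι Y ⋙ Dual3.shriekC c a ⋙ DCoh.Lpull g' ≅
      Dual3.bddι Y ⋙ Dual3.LpullQ g hLg ⋙ Dual3.shriekC c' a') := by
  let P := Limits.pullback c.fbar g
  let gb : P ⟶ c.Xbar := Limits.pullback.fst c.fbar g
  let fb : P ⟶ Y' := Limits.pullback.snd c.fbar g
  have hP : IsPullback gb fb c.fbar g := IsPullback.of_hasPullback _ _
  let jb : X' ⟶ P := hP.lift (g' ≫ c.j) f' (by rw [Category.assoc, c.fac, hsq.w])
  have hjb₁ : jb ≫ gb = g' ≫ c.j := hP.lift_fst _ _ _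
  have hjb₂ : jb ≫ fb = f' := hP.lift_snd _ _ _
  have hj : IsPullback g' jb c.j gb := IsPullback.of_bot (by rw [hjb₂, c.fac]; exact hsq) hjb₁.symm hP
  haveI : IsOpenImmersion jb := MorphismProperty.of_isPullback (P := @IsOpenImmersion) hj inferInstance
  haveI : IsProper fb := MorphismProperty.of_isPullback (P := @IsProper) hP inferInstance
  haveI : Flat gb := MorphismProperty.of_isPullback (P := @Flat) hP.flip inferInstance
  let cb : DEt.Compactification f' :=
    { Xbar := P, j := jb, fbar := fb, isOpenImmersion := inferInstance, isProper := inferInstance, fac := hjb₂ }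
  haveI : CompactSpace P := QuasiCompact.compactSpace_of_compactSpace fb
  haveI : QuasiSeparatedSpace P := quasiSeparatedSpace_of_quasiSeparated fb
  haveI : CompactSpace c.Xbar := QuasiCompact.compactSpace_of_compactSpace c.fbar
  haveI : QuasiSeparatedSpace c.Xbar := quasiSeparatedSpace_of_quasiSeparated c.fbar
  haveI := BC.hasRpush g; haveI := BC.hasRpush gb; haveI := BC.hasRpush fb
  haveI : QuasiCompact g := quasiCompact_of_compactSpace g
  haveI : QuasiCompact gb := quasiCompact_of_compactSpace gb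
  haveI := hasLpull gb; haveI := hasLpull jb; haveI := hasLpull c.j
  haveI : DCoh.HasRpush cb.fbar := BC.hasRpush _
  haveI := isLeftAdjoint_rpushQ' fb
  let ab := (DCoh.RpushQ fb (rpushQC fb)).rightAdjoint
  let adjb : DCoh.RpushQ fb (rpushQC fb) ⊣ ab := Adjunction.ofIsLeftAdjoint _
  obtain ⟨e, hξ, hK⟩ := exists_isIso_bcMap_flat (hg := rpushQC g) (hg' := rpushQC gb) hP adj adjb
    (adjQ g (rpushQC g)) (adjQ gb (rpushQC gb))
  -- the base change isomorphism
  let N : Dual3.bddι Y ⋙ a ⋙ Dual3.LpullQ gb (lpullQCoh gb) ≅ Dual3.bddι Y ⋙ Dual3.LpullQ g hLg ⋙ ab :=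
    haveI : ∀ M, IsIso (xiMap adj adjb e M) := hξ
    haveI : ∀ K : (Dual3.IsBddBelowQ Y).FullSubcategory,
        IsIso (bcAdjMap adj adjb e (adjQ g (rpushQC g)) (adjQ gb (rpushQC gb)) K.obj) := fun K => by
      obtain ⟨n, hn⟩ := K.property
      haveI := hn
      haveI := isGE_lpull_flat g n K.obj.obj
      exact hK K.obj (suppHyp_bounded c.fbar hc a adj K.obj n hn)
        (suppHyp_bounded fb (rpushQC fb) ab adjb _ n (isGE_lpull_flat g n K.obj.obj)) (affHyp_bounded c.fbar K.obj n hn)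
    NatIso.ofComponents (fun K => asIso (bcAdjMap adj adjb e (adjQ g (rpushQC g)) (adjQ gb (rpushQC gb)) K.obj))
      fun φ => bcAdjMap_natural adj adjb e (adjQ g (rpushQC g)) (adjQ gb (rpushQC gb)) φ.hom
  -- restriction to the opens
  haveI := hasLpull (g' ≫ c.j); haveI := hasLpull (jb ≫ gb)
  obtain ⟨l₁⟩ := nonempty_lpullCompIso g' c.j
  obtain ⟨l₂⟩ := nonempty_lpullCompIso jb gb
  let R : DCoh.restrictD c.j ⋙ DCoh.Lpull g' ≅ DCoh.Lpull gb ⋙ DCoh.restrictD jb :=
    Functor.isoWhiskerRight (lpullRestrictNatIso c.j).symm (DCoh.Lpull g') ≪≫ l₁ ≪≫ eqToIso (by simp only [hjb₁]) ≪≫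
      l₂.symm ≪≫ Functor.isoWhiskerLeft (DCoh.Lpull gb) (lpullRestrictNatIso jb)
  let Φ : (Dual3.IsBddBelowQ Y).FullSubcategory ⥤ (Dual3.IsBddBelowQ Y').FullSubcategory :=
    ObjectProperty.lift _ (Dual3.bddι Y ⋙ Dual3.LpullQ g hLg) fun K => by
      obtain ⟨n, hn⟩ := K.property
      haveI := hn
      exact ⟨n, isGE_lpull_flat g n K.obj.obj⟩
  haveI : PreservesFiniteLimits (Scheme.Modules.restrictFunctor cb.j) := inferInstance
  obtain ⟨i⟩ := nonempty_shriekC_indep cb c' (h₁ := rpushQC fb) adjb adj'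
  exact ⟨(show Dual3.bddι Y ⋙ Dual3.shriekC c a ⋙ DCoh.Lpull g' ≅
        (Dual3.bddι Y ⋙ a ⋙ Dual3.LpullQ gb (lpullQCoh gb)) ⋙ ObjectProperty.ι _ ⋙ DCoh.restrictD jb from
      Functor.isoWhiskerLeft (Dual3.bddι Y ⋙ a ⋙ ObjectProperty.ι _) R) ≪≫
    Functor.isoWhiskerRight N (ObjectProperty.ι _ ⋙ DCoh.restrictD jb) ≪≫
    (show (Dual3.bddι Y ⋙ Dual3.LpullQ g hLg ⋙ ab) ⋙ ObjectProperty.ι _ ⋙ DCoh.restrictD jb ≅
        Dual3.bddι Y ⋙ Dual3.LpullQ g hLg ⋙ Dual3.shriekC c' a' from Functor.isoWhiskerLeft Φ i)⟩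

end Groth.Agent.TwistShriek
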