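import Groth.Agent.TwistShriek.SuppHom
import Groth.Agent.TildeD.QCohPull
import Groth.Agent.TildeRpush.Main

/-!
# Duality for a direct image at objects supported over a closed set of an affine open

Let `a` be right adjoint to `Rf_*` and let `j : Spec B ⟶ X` and `v : Spec A ⟶ Y` be affine opens with
`f ∘ j = v ∘ Spec φ`.  For an object of `D(B)` supported in a closed set `Z ⊆ X` contained in `Spec B` whose image
lies in a closed subset of `Spec A`, maps to `aK` are maps of the underlying object of `D(A)` to `K`.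
-/

set_option autoImplicit false
set_option linter.style.haveILetI false
set_option linter.unusedSectionVars false
set_option backward.isDefEq.respectTransparency false
set_option maxHeartbeats 1000000

universe u

open CategoryTheory CategoryTheory.Limits AlgebraicGeometry Pretriangulated
open Groth.Agent.DCohLib Groth.Agent.DCohMore

attribute [local instance] HasDerivedCategory.standard

noncomputable section

namespace Groth.Agent.TwistShriek

theorem nonempty_rpush_congr {X Y : Scheme.{u}} {g g' : X ⟶ Y} (h : g = g') [DCoh.HasRpush g] [DCoh.HasRpush g'] :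
    Nonempty (DCoh.Rpush g ≅ DCoh.Rpush g') := by
  subst h
  exact ⟨Iso.refl _⟩

theorem isZero_restrict_rpush {X Y : Scheme.{u}} (g : X ⟶ Y) [DCoh.HasRpush g] (P : Y.Opens) {E : DCoh.D X}
    (h : IsZero ((DCoh.restrictD (g ⁻¹ᵁ P).ι).obj E)) :
    IsZero ((DCoh.restrictD P.ι).obj ((DCoh.Rpush g).obj E)) := by
  haveI := BC.hasRpush (g ∣_ P)
  haveI : DCoh.HasLpull (g ∣_ P) := DCohLib.hasLpull _
  haveI : (DCoh.Rpush (g ∣_ P)).IsRightAdjoint := (lpullRpushAdj (g ∣_ P)).isRightAdjoint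
  obtain ⟨bc⟩ := nonempty_restrictD_rpush g P
  exact ((DCoh.Rpush (g ∣_ P)).map_isZero h).of_iso (bc.app E)

variable {X Y : Scheme.{u}} [CompactSpace X] [QuasiSeparatedSpace X]
  (f : X ⟶ Y) [DCoh.HasRpush f] (hf : DCoh.RpushPreservesQCoh f)
  (a : DCoh.DQCoh Y ⥤ DCoh.DQCoh X) (adj : DCoh.RpushQ f hf ⊣ a)
  [∀ (R : CommRingCat.{u}), PreservesFiniteLimits (tilde.functor R)]
  {A B : Type u} [CommRing A] [CommRing B] (φ : A →+* B)
  (j : Spec (CommRingCat.of B) ⟶ X) [IsOpenImmersion j] (v : Spec (CommRingCat.of A) ⟶ Y) [IsOpenImmersion v]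

include adj in
/-- Local duality at objects supported over a closed subset. -/
theorem exists_localDuality (w : j ≫ f = Spec.map (CommRingCat.ofHom φ) ≫ v)
    (P : X.Opens) (hP : j.opensRange ⊔ P = ⊤) (P' : Y.Opens) (hP' : v.opensRange ⊔ P' = ⊤)
    (hPP' : f ⁻¹ᵁ P' ≤ P) (K : DCoh.DQCoh Y) (ω : Dual.D B)
    (eω : (DCoh.restrictD j).obj (a.obj K).obj ≅ (DCoh.tildeD (CommRingCat.of B)).obj ω) (ωA : Dual.D A)
    (eA : (DCoh.restrictD v).obj K.obj ≅ (DCoh.tildeD (CommRingCat.of A)).obj ωA) :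
    ∃ Φ : ∀ T : Dual.D B, IsZero ((DCoh.restrictD (j ⁻¹ᵁ P).ι).obj ((DCoh.tildeD (CommRingCat.of B)).obj T)) →
      ((T ⟶ ω) ≃ ((DRing.restrictD φ).obj T ⟶ ωA)),
      (∀ (T T' : Dual.D B) (hT : IsZero _) (hT' : IsZero _) (g : T' ⟶ T) (ψ : T ⟶ ω),
        Φ T' hT' (g ≫ ψ) = (DRing.restrictD φ).map g ≫ Φ T hT ψ) ∧
      ∀ (T : Dual.D B) (hT : IsZero _) (ψ ψ' : T ⟶ ω), Φ T hT (ψ + ψ') = Φ T hT ψ + Φ T hT ψ' := by
  let π := Spec.map (CommRingCat.ofHom φ)
  let tB := DCoh.tildeD (CommRingCat.of B)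
  let tA := DCoh.tildeD (CommRingCat.of A)
  haveI := (TildeD.main (CommRingCat.of B)).1
  haveI := (TildeD.main (CommRingCat.of B)).2.1
  haveI := (TildeD.main (CommRingCat.of A)).1
  haveI := (TildeD.main (CommRingCat.of A)).2.1
  haveI := BC.hasRpush j
  haveI := BC.hasRpush v
  haveI := BC.hasRpush π
  haveI := BC.hasRpush (j ≫ f)
  haveI := BC.hasRpush (π ≫ v)
  haveI : QuasiCompact j := quasiCompact_of_compactSpace j
  obtain ⟨ε⟩ := nonempty_rpush_restrictD j
  obtain ⟨εv⟩ := nonempty_rpush_restrictD v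
  obtain ⟨c₁⟩ := nonempty_rpushCompIso j f
  obtain ⟨c₂⟩ := nonempty_rpushCompIso π v
  obtain ⟨c₃⟩ := nonempty_rpush_congr w
  let κ : (tB ⋙ DCoh.Rpush j ⋙ DCoh.Rpush f) ⋙ DCoh.restrictD v ≅ DRing.restrictD φ ⋙ tA :=
    Functor.isoWhiskerRight (Functor.isoWhiskerLeft tB (c₁ ≪≫ c₃ ≪≫ c₂.symm)) (DCoh.restrictD v) ≪≫
      Functor.associator _ _ _ ≪≫ Functor.isoWhiskerLeft tB (Functor.associator _ _ _ ≪≫
        Functor.isoWhiskerLeft (DCoh.Rpush π) εv ≪≫ Functor.rightUnitor _) ≪≫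
      TildeRpush.tildeRpushIso φ
  let ιX := ObjectProperty.fullyFaithfulι (DCoh.IsQCohD (X := X))
  let ιY := ObjectProperty.fullyFaithfulι (DCoh.IsQCohD (X := Y))
  let G : Dual.D B ⥤ DCoh.DQCoh X := ObjectProperty.lift _ (tB ⋙ DCoh.Rpush j) fun T =>
    isQCohD_rpush j _ (((TildeD.main (CommRingCat.of B)).2.2 _).2 ⟨T, ⟨Iso.refl _⟩⟩)
  have hG : ∀ T : Dual.D B, IsZero ((DCoh.restrictD (j ⁻¹ᵁ P).ι).obj (tB.obj T)) →
      IsZero ((DCoh.restrictD P.ι).obj (G.obj T).obj) := fun T hT => isZero_restrict_rpush j P hT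
  have hX : ∀ T : Dual.D B, IsZero ((DCoh.restrictD (j ⁻¹ᵁ P).ι).obj (tB.obj T)) →
      Function.Bijective fun ρ : (G.obj T).obj ⟶ (a.obj K).obj => (DCoh.restrictD j).map ρ :=
    fun T hT => bijective_restrictD_map j P hP _ _ (hG T hT)
  have hY : ∀ T : Dual.D B, IsZero ((DCoh.restrictD (j ⁻¹ᵁ P).ι).obj (tB.obj T)) →
      Function.Bijective fun ρ : (DCoh.Rpush f).obj (G.obj T).obj ⟶ K.obj => (DCoh.restrictD v).map ρ :=
    fun T hT => bijective_restrictD_map v P' hP' _ _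
      (isZero_restrict_rpush f P' (isZero_restrictD_mono hPP' (hG T hT)))
  let EX : ∀ T : Dual.D B, IsZero ((DCoh.restrictD (j ⁻¹ᵁ P).ι).obj (tB.obj T)) →
      (T ⟶ ω) ≃ (G.obj T ⟶ a.obj K) := fun T hT =>
    (Functor.FullyFaithful.ofFullyFaithful tB).homEquiv.trans <| eω.symm.homToEquiv.trans <|
      (ε.app (tB.obj T)).symm.homFromEquiv.trans <| (Equiv.ofBijective _ (hX T hT)).symm.trans (ιX.homEquiv (X := G.obj T) (Y := a.obj K)).symm
  let EY : ∀ T : Dual.D B, IsZero ((DCoh.restrictD (j ⁻¹ᵁ P).ι).obj (tB.obj T)) →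
      ((DCoh.RpushQ f hf).obj (G.obj T) ⟶ K) ≃ ((DRing.restrictD φ).obj T ⟶ ωA) := fun T hT =>
    (ιY.homEquiv (X := (DCoh.RpushQ f hf).obj (G.obj T)) (Y := K)).trans <| (Equiv.ofBijective _ (hY T hT)).trans <| (κ.app T).homFromEquiv.trans <|
      eA.homToEquiv.trans (Functor.FullyFaithful.ofFullyFaithful tA).homEquiv.symm
  have hEX : ∀ (T : Dual.D B) hT (ψ : T ⟶ ω), (DCoh.restrictD j).map (EX T hT ψ).hom =
      ε.hom.app (tB.obj T) ≫ tB.map ψ ≫ eω.inv := fun T hT ψ => by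
    show (DCoh.restrictD j).map ((Equiv.ofBijective _ (hX T hT)).symm _) = _
    exact Equiv.ofBijective_apply_symm_apply _ (hX T hT) _
  have hEY : ∀ (T : Dual.D B) hT (ρ : (DCoh.RpushQ f hf).obj (G.obj T) ⟶ K), tA.map (EY T hT ρ) =
      κ.inv.app T ≫ (DCoh.restrictD v).map ρ.hom ≫ eA.hom := fun T hT ρ => by
    show tA.map (tA.preimage _) = _
    rw [Functor.map_preimage]
    show (κ.inv.app T ≫ (DCoh.restrictD v).map ρ.hom) ≫ eA.hom = _
    simp only [Category.assoc]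
  refine ⟨fun T hT => (EX T hT).trans ((adj.homEquiv _ _).symm.trans (EY T hT)), fun T T' hT hT' g ψ => ?_,
    fun T hT ψ ψ' => ?_⟩
  swap
  · obtain ⟨_, _⟩ := DQCohBrown.exists_triangulated_rpushQ f hf
    have h1 : EX T hT (ψ + ψ') = EX T hT ψ + EX T hT ψ' := by
      apply (ιX.homEquiv (X := G.obj T) (Y := a.obj K)).injective
      apply (hX T hT).1
      show (DCoh.restrictD j).map (EX T hT (ψ + ψ')).hom =
        (DCoh.restrictD j).map ((EX T hT ψ).hom + (EX T hT ψ').hom)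
      rw [Functor.map_add, hEX T hT, hEX T hT, hEX T hT, Functor.map_add, Preadditive.add_comp,
        Preadditive.comp_add]
    simp only [Equiv.trans_apply]
    apply tA.map_injective
    rw [h1, adj.homEquiv_counit, adj.homEquiv_counit, adj.homEquiv_counit, Functor.map_add, Preadditive.add_comp,
      Functor.map_add tA, hEY T hT, hEY T hT, hEY T hT]
    show κ.inv.app T ≫ (DCoh.restrictD v).map (_ + _) ≫ eA.hom = _
    rw [Functor.map_add, Preadditive.add_comp, Preadditive.comp_add]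
    rfl
  have h1 : EX T' hT' (g ≫ ψ) = G.map g ≫ EX T hT ψ := by
    apply (ιX.homEquiv (X := G.obj T') (Y := a.obj K)).injective
    apply (hX T' hT').1
    show (DCoh.restrictD j).map (EX T' hT' (g ≫ ψ)).hom =
      (DCoh.restrictD j).map ((DCoh.Rpush j).map (tB.map g) ≫ (EX T hT ψ).hom)
    rw [hEX T' hT', Functor.map_comp (DCoh.restrictD j), hEX T hT, tB.map_comp, Category.assoc]
    exact (reassoc_of% (ε.hom.naturality (tB.map g))) _ |>.symm
  simp only [Equiv.trans_apply]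
  rw [h1, adj.homEquiv_naturality_left_symm]
  apply tA.map_injective
  rw [hEY T' hT', Functor.map_comp tA, hEY T hT]
  show κ.inv.app T' ≫ (DCoh.restrictD v).map ((DCoh.Rpush f).map ((DCoh.Rpush j).map (tB.map g)) ≫ _) ≫ eA.hom = _
  rw [Functor.map_comp, Category.assoc]
  exact (reassoc_of% (κ.inv.naturality g)) _ |>.symm

end Groth.Agent.TwistShriek
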