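import Groth.Agent.TwistShriek.SurfSec
import Groth.Agent.FundLocIsoLib.SerreDual
import Groth.Agent.DimFormulaLib.Field
import Groth.Agent.H1ZeroLib.VeryAmple
import Groth.Agent.ExtPowLib.Exist

/-!
# Smooth projective surfaces
-/

set_option autoImplicit false
set_option backward.isDefEq.respectTransparency false
set_option linter.style.haveILetI false
set_option maxHeartbeats 1000000

universe u

open CategoryTheory CategoryTheory.Limits AlgebraicGeometry TopologicalSpace
open Groth.Agent.PullbackMod Groth.Agent.DCohLib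

noncomputable section

namespace Groth.Agent.TwistShriek

/-- An irreducible smooth scheme over a field is smooth of relative dimension its dimension. -/
theorem smoothOfRelativeDimension_of_smooth {k : Type u} [Field k] {X : Scheme.{u}} [IsIntegral X]
    (f : X ⟶ Spec (CommRingCat.of k)) [Smooth f] {d : ℕ} (hd : topologicalKrullDim X = d) :
    SmoothOfRelativeDimension d f := by
  refine ⟨fun x => ?_⟩
  obtain ⟨U, hU, V, hV, hxV, e, hs⟩ := Smooth.exists_isStandardSmooth f x
  obtain ⟨n, hn⟩ : ∃ n, RingHom.IsStandardSmoothOfRelativeDimension n (f.appLE U V e).hom := by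
    algebraize [(f.appLE U V e).hom]
    obtain ⟨ι, σ, i1, i2, ⟨P⟩⟩ := Algebra.IsStandardSmooth.out (R := Γ(Spec (CommRingCat.of k), U)) (S := Γ(X, V))
    exact ⟨P.dimension, P.isStandardSmoothOfRelativeDimension rfl⟩
  let g := V.ι ≫ f
  haveI : SmoothOfRelativeDimension n g := by
    haveI : IsAffine V.toScheme := hV
    refine ⟨fun v => ⟨U, hU, ⊤, isAffineOpen_top _, trivial, fun w _ => e w.2, ?_⟩⟩
    have : g.appLE U ⊤ (fun w _ => e w.2) = f.appLE U V e ≫ V.topIso.inv := by
      simp only [g, Scheme.Hom.appLE, Scheme.Hom.comp_app, Scheme.Opens.ι_app, Category.assoc,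
        Scheme.Opens.topIso_inv]
      erw [← X.presheaf.map_comp, ← X.presheaf.map_comp]
      congr 1
    rw [this]
    exact RingHom.isStandardSmoothOfRelativeDimension_respectsIso.1 _ V.topIso.symm.commRingCatIsoToRingEquiv hn
  haveI : Nonempty V.toScheme := ⟨⟨x, hxV⟩⟩
  have h1 : topologicalKrullDim ↥V.toScheme = (n : WithBot ℕ∞) := JacLib.topologicalKrullDim_of_smooth g n
  have h2 : topologicalKrullDim ↥V.toScheme = topologicalKrullDim ↥X :=
    DimFormulaLib.topologicalKrullDim_opens f V ⟨x, hxV⟩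
  rw [h2, hd] at h1
  have : d = n := by exact_mod_cast h1
  subst this
  exact ⟨U, hU, V, hV, hxV, e, hn⟩

variable {k : Type u} [Field k] {X : Scheme.{u}} [X.Over (Spec (CommRingCat.of k))] [IsIntegral X]
  [SmoothOfRelativeDimension 2 (X ↘ Spec (CommRingCat.of k))]
  {N : ℕ} (ι : X ⟶ CohB1.ProjSpace N k) [IsClosedImmersion ι]
  (hι : ι ≫ CohB1.ProjSpace.toSpec N k = X ↘ Spec (CommRingCat.of k))

include hι

/-- The canonical module of a smooth projective surface. -/
theorem canonical_data {W : X.Modules} (hW : ExtPow.IsExtPow 2 (Omega.sheaf (X ↘ Spec (CommRingCat.of k))) W) :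
    PicF.IsInvertible W ∧
    (∀ L L' : X.Modules, PicF.IsInvertible L → Nonempty (CohB1.tensorMod L L' ≅ Coh.structureModule X) →
      Curv2.euler k X (CohB1.tensorMod W L') = Curv2.euler k X L) ∧
    (∀ (L L' : X.Modules), PicF.IsInvertible L → Nonempty (CohB1.tensorMod L L' ≅ Coh.structureModule X) →
      ∀ j, j ≤ 2 → Module.finrank k (Coh.HH X (CohB1.tensorMod W L') j) = Module.finrank k (Coh.HH X L (2 - j))) := by
  haveI := ProjSerreLib.isProper_over ι hι
  haveI : QuasiSeparated (X ↘ Spec (CommRingCat.of k)) := by rw [← hι]; infer_instance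
  haveI := EulerIneqLib.isNoetherian_proper (X := X) k
  have hWinv : PicF.IsInvertible W :=
    SeesawVB.isInvertible_of_isExtPow hW (SeesawVB.exists_frame_omega (X ↘ Spec (CommRingCat.of k)) 2)
  have hn : topologicalKrullDim X ≤ ((2 : ℕ) : WithBot ℕ∞) :=
    (JacLib.topologicalKrullDim_of_smooth (X ↘ Spec (CommRingCat.of k)) 2).le
  obtain ⟨t, ht⟩ := FundLocIsoLib.exists_trace_topForms ι hι hW
  have hcm := FundLocIsoLib.cm_closedPoint (n := 2) ι hι
  have hω := FundLocIsoLib.isCoh_topForms ι hι hW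
  refine ⟨hWinv, euler_dual_of_trace k ι hω hn hcm t ht, fun L L' hL e j hj => ?_⟩
  haveI : ModSite.HasSheafHom (O := X.sheaf) L := ModTensor.hasSheafHom (O := X.sheaf) L
  obtain ⟨f⟩ := FundLocIsoLib.nonempty_hF_invertible hL e.some W
  rw [← ProjSerreLib.finrank_hF_gen ι hω (ProjSerreLib.vanish_of_cm ι hcm) t hn ht j hj L
    (CurveLib.isFinLocFree_of_isInvertible hL)]
  exact (LinearEquiv.ofBijective _ (CurveLib.hMap_bijective_iso (k := k) f j)).finrank_eq.symm

/-- Existence of the canonical module. -/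
theorem exists_canonical :
    ∃ W : X.Modules, ExtPow.IsExtPow 2 (Omega.sheaf (X ↘ Spec (CommRingCat.of k))) W := by
  haveI : Smooth (X ↘ Spec (CommRingCat.of k)) := SmoothOfRelativeDimension.smooth 2 _
  haveI : QuasiSeparated (X ↘ Spec (CommRingCat.of k)) := by rw [← hι]; infer_instance
  haveI := (isQCoh_and_isFP_of_isFinLocFree _ (InfLiftLib.isFinLocFree_omega (X ↘ Spec (CommRingCat.of k)))).1
  obtain ⟨W, -, hW⟩ := ExtPowLib.exists_isExtPow (Omega.sheaf (X ↘ Spec (CommRingCat.of k))) 2
  exact ⟨W, hW⟩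

/-- Depth two at closed points. -/
theorem two_le_depth_closed (x : X) (hx : IsClosed ({x} : Set X)) :
    (2 : ℕ∞) ≤ LocCoh.depth (X.presheaf.stalk x) (X.presheaf.stalk x) := by
  obtain ⟨hcm, hdim⟩ := FundLocIsoLib.cm_closedPoint (n := 2) ι hι x hx
  have h := hcm.supportDim_eq_depth
  rw [Module.supportDim_self_eq_ringKrullDim, hdim] at h
  exact le_of_eq (WithBot.coe_injective h)

end Groth.Agent.TwistShriek

namespace Groth.Agent.TwistShriek

/-- A proper surface with an ample module is projective. -/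
theorem exists_closedImmersion_of_ample {k : Type u} [Field k] {X : Scheme.{u}} (f : X ⟶ Spec (CommRingCat.of k))
    [IsProper f] {H : X.Modules} (hH : CohB1.IsAmple H) :
    ∃ (n : ℕ) (i : X ⟶ CohB1.ProjSpace n k), IsClosedImmersion i ∧ i ≫ CohB1.ProjSpace.toSpec n k = f := by
  obtain ⟨M, hM⟩ := AmpleEmb.eventually_isRelVeryAmplePn f hH
  obtain ⟨n, i, hi, hf, -⟩ := H1ZeroLib.exists_closedImmersion_of_va k f (hM M le_rfl)
  exact ⟨n, i, hi, hf⟩

end Groth.Agent.TwistShriek
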