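import Groth.Agent.TwistShriek.NumBase
import Groth.Agent.NakaiLib.Strict
import Groth.Agent.CurveLib.Finite
import Groth.Agent.S10881

/-!
# Effective divisors and integral curves on a smooth surface
-/

set_option autoImplicit false
set_option backward.isDefEq.respectTransparency false
set_option maxHeartbeats 1000000
set_option linter.style.haveILetI false

universe u

open CategoryTheory CategoryTheory.Limits AlgebraicGeometry TopologicalSpace
open Groth.Agent.PullbackMod Groth.Agent.DCohLib Groth.Agent.Nakai Groth.Agent.DevLib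
open Groth.Agent.IntLib (PicRing pairing dif inv' compMod)

noncomputable section

namespace Groth.Agent.TwistShriek

/-- An ideal with reduced subscheme is the vanishing ideal of its support. -/
theorem radical_eq_self {X : Scheme.{u}} (J : X.IdealSheafData) [IsReduced J.subscheme] : J.radical = J := by
  refine le_antisymm (fun U => ?_) (Scheme.IdealSheafData.le_radical J)
  haveI : _root_.IsReduced (Γ(X, U.1) ⧸ J.ideal U) :=
    isReduced_of_injective (J.subschemeObjIso U).commRingCatIsoToRingEquiv.symm
      (J.subschemeObjIso U).commRingCatIsoToRingEquiv.symm.injective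
  exact ((Ideal.isRadical_iff_quotient_reduced _).2 this).radical.le

/-- Integral subschemes are determined by their supports. -/
theorem ideal_eq_of_support {X : Scheme.{u}} {I J : X.IdealSheafData} (hI : IsIntegral I.subscheme)
    (hJ : IsIntegral J.subscheme) (h : (I.support : Set X) = (J.support : Set X)) : I = J := by
  haveI := hI
  haveI := hJ
  rw [← radical_eq_self I, ← radical_eq_self J, ← Scheme.IdealSheafData.vanishingIdeal_support,
    ← Scheme.IdealSheafData.vanishingIdeal_support, show I.support = J.support from SetLike.coe_injective h]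

/-- A closed set not containing an integral curve meets it in a set of dimension zero. -/
theorem dim_inter_curve {X : Scheme.{u}} {J : X.IdealSheafData} (hJ : IsIntegral J.subscheme)
    (hJd : topologicalKrullDim (J.support : Set X) = 1) {T : Set X} (hT : IsClosed T)
    (h : ¬ (J.support : Set X) ⊆ T) : topologicalKrullDim (T ∩ (J.support : Set X) : Set X) ≤ 0 := by
  haveI := hJ
  obtain ⟨ξ, hξ⟩ : ∃ ξ, ξ = J.subschemeι (genericPoint J.subscheme) := ⟨_, rfl⟩
  have hcl : closure {ξ} = (J.support : Set X) := by
    rw [← Scheme.IdealSheafData.range_subschemeι, hξ, ← Set.image_singleton, J.subschemeι.isClosedEmbedding.closure_image_eq,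
      genericPoint_closure, Set.image_univ]
  have hξT : ξ ∉ T := fun hm => h (hcl ▸ hT.closure_subset_iff.2 (Set.singleton_subset_iff.2 hm))
  refine IntLib.dim_le_of_lt (HilbLib.dim_lt_of_notMem (hT.inter J.support.isClosed) (hcl.symm ▸ Set.inter_subset_right)
    (fun hm => hξT hm.1) ?_)
  rw [hcl, hJd]
  exact_mod_cast Nat.lt_succ_self 1

variable (k : Type u) [Field k] {X : Scheme.{u}} [X.Over (Spec (CommRingCat.of k))]
  [IsProper (X ↘ Spec (CommRingCat.of k))]

variable [Smooth (X ↘ Spec (CommRingCat.of k))] [IsIntegral X]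

/-- An effective divisor meets a curve outside it nonnegatively. -/
theorem form_ideal_nonneg (hdim : topologicalKrullDim X = 2) {F J : X.IdealSheafData} (hF : FGA.IsEffCartier F)
    (hFI : PicF.IsInvertible (ClSub.idealMod F)) (hJ : IsIntegral J.subscheme)
    (hJd : topologicalKrullDim (J.support : Set X) = 1) (hJI : PicF.IsInvertible (ClSub.idealMod J))
    (hFJ : ¬ (J.support : Set X) ⊆ (F.support : Set X)) : 0 ≤ form k (cl hFI) (cl hJI) := by
  haveI := EulerIneqLib.isNoetherian_proper (X := X) k
  haveI := hJ
  have hsup : ((F ⊔ J).support : Set X) = (F.support : Set X) ∩ (J.support : Set X) := by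
    rw [Scheme.IdealSheafData.support_sup]; rfl
  have hfin : ((F ⊔ J).support : Set X).Finite := by
    rw [hsup]
    exact CurveLib.finite_of_dim_le_zero (F.support.isClosed.inter J.support.isClosed)
      (dim_inter_curve hJ hJd F.support.isClosed hFJ)
  have hreg := fun x => ASp.isRegularLocalRing_stalk_of_smooth_field (X ↘ Spec (CommRingCat.of k)) x
  rw [← intNum_eq_form k hdim.le hFI hJI, intNum_eq_finrank_inter k hdim.le
    (fun x => haveI := hreg x; S10881.cm_of_regular _)
    (fun x hx => dim_closed_point_integral (X ↘ Spec (CommRingCat.of k)) hdim x hx) F J hF ((S8914.result _).1 hJI) hfin]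
  exact Int.natCast_nonneg _

/-- Distinct curves meet nonnegatively. -/
theorem form_curves_nonneg (hdim : topologicalKrullDim X = 2) {I J : X.IdealSheafData}
    (hI : IsIntegral I.subscheme) (hId : topologicalKrullDim (I.support : Set X) = 1)
    (hII : PicF.IsInvertible (ClSub.idealMod I)) (hJ : IsIntegral J.subscheme)
    (hJd : topologicalKrullDim (J.support : Set X) = 1) (hJI : PicF.IsInvertible (ClSub.idealMod J))
    (hne : I ≠ J) : 0 ≤ form k (cl hII) (cl hJI) := by
  haveI := hI
  refine form_ideal_nonneg k hdim ((S8914.result _).1 hII) hII hJ hJd hJI fun hsub => hne ?_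
  refine ideal_eq_of_support hI hJ (Set.Subset.antisymm ?_ hsub)
  by_contra hn
  have h := dim_inter_curve hI hId J.support.isClosed hn
  rw [Set.inter_eq_left.2 hsub, hJd] at h
  exact absurd h (by norm_num)

omit [Smooth (X ↘ Spec (CommRingCat.of k))] [IsIntegral X] in
/-- Coherent modules of dimension one are sums of curves. -/
theorem exists_curve_decomp {F : X.Modules} (hF : Coh.IsCoh F)
    (hd : topologicalKrullDim (CohB1.support F) < ((1 + 1 : ℕ) : WithBot ℕ∞)) :
    ∃ s : Multiset X.IdealSheafData,
      (∀ J ∈ s, IsIntegral J.subscheme ∧ topologicalKrullDim (J.support : Set X) = 1) ∧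
      ∀ z ∈ Aug X, pairing k F z = (s.map fun J => pairing k (ClSub.quotMod J) z).sum := by
  haveI := EulerIneqLib.isNoetherian_proper (X := X) k
  refine devissage (CohB1.support F) (fun N => ∃ s : Multiset X.IdealSheafData,
    (∀ J ∈ s, IsIntegral J.subscheme ∧ topologicalKrullDim (J.support : Set X) = 1) ∧
    ∀ z ∈ Aug X, pairing k N z = (s.map fun J => pairing k (ClSub.quotMod J) z).sum) ?_ ?_ ?_ ?_ F hF subset_rfl
  · rintro A B ⟨e⟩ ⟨s, hs, h⟩
    exact ⟨s, hs, fun z hz => by rw [← IntLib.pairing_iso k e, h z hz]⟩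
  · intro A hA
    exact ⟨0, fun J hJ => absurd hJ (Multiset.notMem_zero J), fun z _ => by
      rw [IntLib.pairing_isZero k hA, Multiset.map_zero, Multiset.sum_zero]⟩
  · rintro S hS h₁ h₂ h₃ - ⟨s₁, hs₁, e₁⟩ ⟨s₃, hs₃, e₃⟩
    exact ⟨s₁ + s₃, fun J hJ => (Multiset.mem_add.1 hJ).elim (hs₁ J) (hs₃ J), fun z hz => by
      rw [IntLib.pairing_shortExact k hS h₁ h₂ h₃, e₁ z hz, e₃ z hz, Multiset.map_add, Multiset.sum_add]⟩
  intro η _ hsub Q hQ _
  have hd' : topologicalKrullDim (closure {η} : Set X) < ((1 + 1 : ℕ) : WithBot ℕ∞) :=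
    HilbLib.isClosed_closure_le hsub hd
  by_cases he : topologicalKrullDim (closure {η} : Set X) = ((1 : ℕ) : WithBot ℕ∞)
  · let J := Scheme.IdealSheafData.vanishingIdeal (⟨closure {η}, isClosed_closure⟩ : Closeds X)
    refine ⟨{J}, fun J' hJ' => ?_, fun z hz => ?_⟩
    · rw [Multiset.mem_singleton.1 hJ']
      exact ⟨CurveLib.isIntegral_vanishingIdeal (X := X) isClosed_closure isIrreducible_singleton.closure,
        by rw [Scheme.IdealSheafData.coe_support_vanishingIdeal]; exact he.trans Nat.cast_one⟩
    · rw [Multiset.map_singleton, Multiset.sum_singleton,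
        pairing_piece k hQ (IntLib.isPiece_compMod η) hd' (by rwa [pow_one])]
      rfl
  · have hlt : topologicalKrullDim (closure {η} : Set X) < ((1 : ℕ) : WithBot ℕ∞) :=
      lt_of_le_of_ne (IntLib.dim_le_of_lt hd') he
    exact ⟨0, fun J hJ => absurd hJ (Multiset.notMem_zero J), fun z hz => by
      rw [pairing_mem_eq_zero k (n := 1) (by rwa [pow_one]) hQ.coh (dim_supp_le hQ.supp hlt), Multiset.map_zero,
        Multiset.sum_zero]⟩

omit [Smooth (X ↘ Spec (CommRingCat.of k))] in
/-- A module with a section is a sum of curves. -/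
theorem exists_curves_of_section (hdim : topologicalKrullDim X = 2) {N : X.Modules} (hN : PicF.IsInvertible N)
    (hs : Nontrivial (Coh.HH X N 0)) :
    ∃ s : Multiset X.IdealSheafData,
      (∀ J ∈ s, IsIntegral J.subscheme ∧ topologicalKrullDim (J.support : Set X) = 1) ∧
      ∀ z ∈ Aug X, form k (cl hN) z = (s.map fun J => pairing k (ClSub.quotMod J) z).sum := by
  haveI := EulerIneqLib.isNoetherian_proper (X := X) k
  haveI := hs
  obtain ⟨c, hc⟩ := exists_ne (0 : Coh.HH X N 0)
  have hne := CurveLib.secHom_secOf_ne_zero _ hc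
  generalize DCohLib.secHom _ (CurveLib.secOf _ c) = t at hne
  haveI := CurveLib.mono_of_ne_zero ParaFLib.isInvertible_structureModule hN hne
  have hC : Coh.IsCoh (cokernel t) :=
    (QCohLib.isCoh_kernel_cokernel t (DevLib.isCoh_structureModule X) (CurveLib.isCoh_of_isInvertible hN)).2
  obtain ⟨s, hs1, hs2⟩ := exists_curve_decomp k hC (VanGrow.dim_support_lt (by exact_mod_cast hdim)
    (DevLib.isClosed_support hC) (CurveLib.genericPoint_notMem_support ParaFLib.isInvertible_structureModule hN hne))
  exact ⟨s, hs1, fun z hz => by rw [form, ← pairing_coker_section k hN t z, hs2 z hz]⟩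

end Groth.Agent.TwistShriek
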