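import Groth.Agent.TwistShriek.SurfCan
import Groth.Agent.JacLib.Tuples

/-!
# Effective divisors on smooth proper surfaces
-/

set_option autoImplicit false
set_option backward.isDefEq.respectTransparency false
set_option maxHeartbeats 1000000
set_option linter.style.haveILetI false

universe u

open CategoryTheory CategoryTheory.Limits AlgebraicGeometry TopologicalSpace
open Groth.Agent.PullbackMod Groth.Agent.DCohLib Groth.Agent.Nakai
open Groth.Agent.IntLib (PicRing pairing dif inv')

noncomputable section

namespace Groth.Agent.TwistShriek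

/-- The ideal module of a product. -/
theorem nonempty_idealMod_mul_iso {X : Scheme.{u}} {A B : X.IdealSheafData} (hA : PicF.IsInvertible (ClSub.idealMod A))
    (hB : PicF.IsInvertible (ClSub.idealMod B)) (hAB : PicF.IsInvertible (ClSub.idealMod (A * B))) :
    Nonempty (ClSub.idealMod (A * B) ≅ CohB1.tensorMod (ClSub.idealMod A) (ClSub.idealMod B)) := by
  refine (PicLib.cls_eq_cls hAB (AmpleLib.isInvertible_tensor hA hB)).1 ?_
  rw [JacLib.cls_idealMod_mul hA hB hAB]
  exact (PicLib.cls_tensor hA hB).symm

theorem cl_ideal_mul {X : Scheme.{u}} {A B : X.IdealSheafData} (hA : PicF.IsInvertible (ClSub.idealMod A))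
    (hB : PicF.IsInvertible (ClSub.idealMod B)) (hAB : PicF.IsInvertible (ClSub.idealMod (A * B))) :
    cl hAB - (cl hA + cl hB) ∈ Aug X ^ 2 := by
  obtain ⟨e⟩ := nonempty_idealMod_mul_iso hA hB hAB
  rw [cl_congr hAB (AmpleLib.isInvertible_tensor hA hB) e, cl_tensor hA hB, add_sub_cancel_left, pow_two]
  exact Ideal.mul_mem_mul (cl_mem _) (cl_mem _)

variable (k : Type u) [Field k] {X : Scheme.{u}} [X.Over (Spec (CommRingCat.of k))]
  [IsProper (X ↘ Spec (CommRingCat.of k))]

theorem form_ideal_mul (hdim : topologicalKrullDim X = 2) {A B : X.IdealSheafData}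
    (hA : PicF.IsInvertible (ClSub.idealMod A)) (hB : PicF.IsInvertible (ClSub.idealMod B))
    (hAB : PicF.IsInvertible (ClSub.idealMod (A * B))) {z : PicRing X} (hz : z ∈ Aug X) :
    form k (cl hAB) z = form k (cl hA) z + form k (cl hB) z := by
  rw [form_congr k hdim (cl_ideal_mul hA hB hAB) hz, form_add_left]

/-- An effective divisor is a sum of curves. -/
theorem exists_curves_of_divisor (hdim : topologicalKrullDim X = 2) {D : X.IdealSheafData}
    (hD : FGA.IsEffCartier D) :
    ∃ s : Multiset X.IdealSheafData,
      (∀ J ∈ s, IsIntegral J.subscheme ∧ topologicalKrullDim (J.support : Set X) = 1) ∧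
      ∀ z ∈ Aug X, pairing k (ClSub.quotMod D) z = (s.map fun J => pairing k (ClSub.quotMod J) z).sum := by
  haveI := EulerIneqLib.isNoetherian_proper (X := X) k
  exact exists_curve_decomp k (IntLib.isCoh_quotMod D)
    (lt_of_le_of_lt ((Topology.IsEmbedding.inclusion (IntLib.support_quotMod_subset D)).isInducing.topologicalKrullDim_le.trans
      (IntLib.dim_support_le hD (e := 1) (by exact_mod_cast hdim.le))) (by exact_mod_cast Nat.lt_succ_self 1))

variable [IsIntegral X] [Smooth (X ↘ Spec (CommRingCat.of k))]

include k in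
/-- A nonzero effective divisor has one-dimensional support. -/
theorem dim_divisor (hdim : topologicalKrullDim X = 2) {F : X.IdealSheafData} (hF : FGA.IsEffCartier F) (hne : F ≠ ⊤) :
    topologicalKrullDim (F.support : Set X) = 1 := by
  haveI := EulerIneqLib.isNoetherian_proper (X := X) k
  refine le_antisymm ((IntLib.dim_support_le hF (e := 1) (by exact_mod_cast hdim.le)).trans Nat.cast_one.le) ?_
  by_contra hlt
  push Not at hlt
  have hd0 : topologicalKrullDim (F.support : Set X) ≤ 0 := IntLib.dim_le_of_lt (q := 0) (by exact_mod_cast hlt)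
  have hfin : ((F ⊔ F).support : Set X).Finite := by
    rw [sup_idem]
    exact CurveLib.finite_of_dim_le_zero F.support.isClosed hd0
  have hreg := fun x => ASp.isRegularLocalRing_stalk_of_smooth_field (X ↘ Spec (CommRingCat.of k)) x
  have hFI : PicF.IsInvertible (ClSub.idealMod F) := (S8914.result _).2 hF
  have hFF := intNum_eq_finrank_inter k hdim.le (fun x => haveI := hreg x; S10881.cm_of_regular _)
    (fun x hx => dim_closed_point_integral (X ↘ Spec (CommRingCat.of k)) hdim x hx) F F hF hF hfin
  have h0 : pairing k (ClSub.quotMod F) (cl hFI) = 0 :=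
    pairing_mem_eq_zero k (n := 1) (by rw [pow_one]; exact cl_mem _) (IntLib.isCoh_quotMod F)
      (lt_of_le_of_lt ((Topology.IsEmbedding.inclusion (IntLib.support_quotMod_subset F)).isInducing.topologicalKrullDim_le)
        (lt_of_le_of_lt hd0 (by exact_mod_cast Nat.zero_lt_one)))
  rw [pairing_quotMod_cl k hFI, neg_eq_zero] at h0
  rw [intNum_eq_form k hdim.le hFI hFI, h0, sup_idem] at hFF
  haveI : Module.Finite k (Coh.HH X (ClSub.quotMod F) 0) := EulerIneqLib.finite_HH (k := k) (IntLib.isCoh_quotMod F) 0
  haveI : Subsingleton (Coh.HH X (ClSub.quotMod F) 0) :=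
    Module.finrank_zero_iff.1 (show Module.finrank k (Coh.HH X (ClSub.quotMod F) 0) = 0 by exact_mod_cast hFF.symm)
  refine hne ((Scheme.IdealSheafData.support_eq_bot_iff F).1
    (SetLike.coe_injective (Set.eq_empty_iff_forall_notMem.2 fun x hx => ?_)))
  exact mem_support_quotMod F hx (CurveLib.subsingleton_stalk_of_H0 F.support.isClosed hd0
    (ClSub.quotMod F) (IntLib.support_quotMod_subset F) x)

end Groth.Agent.TwistShriek
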