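import Groth.Agent.CliffCurveLib.Sections
import Groth.Agent.DivisorialLib.Basic

/-!
# Peeling a product of ideals

The kernel of `O/CB ⊗ L → O/B ⊗ L` is `O/C ⊗ (I_B ⊗ L)`.
-/

set_option autoImplicit false
set_option backward.isDefEq.respectTransparency false
set_option backward.isDefEq.respectTransparency.types false
set_option linter.style.haveILetI false
set_option maxHeartbeats 800000

universe u

open CategoryTheory CategoryTheory.Limits AlgebraicGeometry TopologicalSpace Opposite
open Groth.Agent.PullbackMod Groth.Agent.DCohLib Groth.Agent.CurveLib Groth.Agent.H1ZeroLib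
open scoped TensorProduct

noncomputable section

namespace Groth.Agent.TwistShriek

variable {X : Scheme.{u}}

theorem mul_le_right' (C B : X.IdealSheafData) : C * B ≤ B := fun U => by
  rw [Scheme.IdealSheafData.ideal_mul, Pi.mul_apply]
  exact Ideal.mul_le_right

theorem mul_le_left' (C B : X.IdealSheafData) : C * B ≤ C := fun U => by
  rw [Scheme.IdealSheafData.ideal_mul, Pi.mul_apply]
  exact Ideal.mul_le_left

variable (C B : X.IdealSheafData) (L : X.Modules)

theorem peel_aux : tmap (ClSub.idealModι B ≫ ClSub.toSubscheme (C * B)) L ≫ qmapL (mul_le_right' C B) L = 0 := by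
  rw [show qmapL (mul_le_right' C B) L = tmap (qmap (mul_le_right' C B)) L from rfl, ← tmap_comp',
    Category.assoc, toSubscheme_qmap]
  have h : ClSub.idealModι B ≫ ClSub.toSubscheme B = 0 := kernel.condition _
  rw [h, tmap_zero']

/-- The map `I_B ⊗ L → ker (O/CB ⊗ L → O/B ⊗ L)`. -/
def peelMap : tmod (ClSub.idealMod B) L ⟶ kernel (qmapL (mul_le_right' C B) L) :=
  kernel.lift _ _ (peel_aux C B L)

variable {C B L}

theorem stalk_peelMap {x : X} {e : L.presheaf.stalk x} {m : (ClSub.idealMod B).presheaf.stalk x}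
    {r : X.presheaf.stalk x} (hr : stalkLin (ClSub.idealModι B) x m = r • ParaFLib.oneG x) :
    stalkLin (kernel.ι (qmapL (mul_le_right' C B) L)) x
      (stalkLin (peelMap C B L) x (stalkTensor x (ClSub.idealMod B) L (m ⊗ₜ[X.presheaf.stalk x] e))) =
      tq (C * B) x e r := by
  rw [← LinearMap.comp_apply, ← stalkLin_comp, peelMap, kernel.lift_ι, stalkTensor_natural_left, LinearMap.rTensor_tmul,
    stalkLin_comp, LinearMap.comp_apply, hr]
  rfl

theorem exists_rep {x : X} {e : L.presheaf.stalk x} (he : Function.Bijective fun r : X.presheaf.stalk x => r • e)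
    (z : (tmod (ClSub.idealMod B) L).presheaf.stalk x) :
    ∃ m, z = stalkTensor x (ClSub.idealMod B) L (m ⊗ₜ[X.presheaf.stalk x] e) := by
  obtain ⟨z, rfl⟩ := (stalkTensor x (ClSub.idealMod B) L).surjective z
  induction z with
  | zero => exact ⟨0, by rw [TensorProduct.zero_tmul]⟩
  | tmul m l =>
    obtain ⟨b, rfl⟩ := he.2 l
    exact ⟨b • m, by rw [TensorProduct.smul_tmul]⟩
  | add a b ha hb =>
    obtain ⟨a', ha'⟩ := ha
    obtain ⟨b', hb'⟩ := hb
    exact ⟨a' + b', by rw [map_add, ha', hb', ← map_add, ← TensorProduct.add_tmul]⟩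

theorem surjective_peelMap (hL : PicF.IsInvertible L) (x : X) : Function.Surjective (stalkLin (peelMap C B L) x) :=
  fun w => by
  obtain ⟨e, he⟩ := ParaFLib.exists_stalk_gen hL x
  obtain ⟨r, hr⟩ := tq_surjective he (C * B) (stalkLin (kernel.ι (qmapL (mul_le_right' C B) L)) x w)
  have h := HilbObsLib.stalk_kernel_ι_comp (qmapL (mul_le_right' C B) L) x w
  rw [← hr, stalk_qmapL, tq_eq_zero_iff he] at h
  obtain ⟨m, hm⟩ := (HilbObsLib.mem_range_idealModι B x r).2 h
  exact ⟨_, (mono_iff_stalk (kernel.ι (qmapL (mul_le_right' C B) L))).1 inferInstance x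
    ((stalk_peelMap (e := e) hm).trans hr)⟩

theorem killed_peel (hL : PicF.IsInvertible L) : Killed C (kernel (qmapL (mul_le_right' C B) L)) := fun x c hc w => by
  obtain ⟨e, he⟩ := ParaFLib.exists_stalk_gen hL x
  obtain ⟨r, hr⟩ := tq_surjective he (C * B) (stalkLin (kernel.ι (qmapL (mul_le_right' C B) L)) x w)
  have h := HilbObsLib.stalk_kernel_ι_comp (qmapL (mul_le_right' C B) L) x w
  rw [← hr, stalk_qmapL, tq_eq_zero_iff he] at h
  refine (mono_iff_stalk (kernel.ι (qmapL (mul_le_right' C B) L))).1 inferInstance x ?_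
  rw [map_smul, map_zero, ← hr, tq_smul, tq_eq_zero_iff he, DivisorialLib.stalkIdeal_mul]
  exact Ideal.mul_mem_mul hc h

theorem isIso_peel (hL : PicF.IsInvertible L) :
    IsIso (((DCoh.tensorBi (X := X)).obj (ClSub.quotMod C)).map (peelMap C B L)) := by
  refine isIso_mulR _ (surjective_peelMap hL) fun x n a ha => ?_
  obtain ⟨e, he⟩ := ParaFLib.exists_stalk_gen hL x
  obtain ⟨m, rfl⟩ := exists_rep he a
  obtain ⟨r, hr⟩ := (ParaFLib.bijective_oneG x).2 (stalkLin (ClSub.idealModι B) x m)
  have h := stalk_peelMap (C := C) (e := e) (m := m) (r := r) hr.symm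
  rw [ha, map_zero] at h
  have hmem : r ∈ IntMult.stalkIdeal C x * IntMult.stalkIdeal B x := by
    rw [← DivisorialLib.stalkIdeal_mul]; exact (tq_eq_zero_iff he _ r).1 h.symm
  obtain ⟨m', hm', hker⟩ : ∃ m', stalkLin (ClSub.idealModι B) x m' = r • ParaFLib.oneG x ∧
      n ⊗ₜ[X.presheaf.stalk x] stalkTensor x (ClSub.idealMod B) L (m' ⊗ₜ[X.presheaf.stalk x] e) = 0 := by
    clear h hr
    induction hmem using Submodule.mul_induction_on' with
    | mem_mul_mem c hc b hb =>
      obtain ⟨mb, hmb⟩ := (HilbObsLib.mem_range_idealModι B x b).2 hb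
      refine ⟨c • mb, by rw [map_smul, hmb, smul_smul], ?_⟩
      rw [← TensorProduct.smul_tmul', map_smul, TensorProduct.tmul_smul, TensorProduct.smul_tmul',
        killed_quotMod C x c hc n, TensorProduct.zero_tmul]
    | add a _ b _ ha hb =>
      obtain ⟨ma, h1, h2⟩ := ha
      obtain ⟨mb, h3, h4⟩ := hb
      exact ⟨ma + mb, by rw [map_add, h1, h3, add_smul], by
        rw [TensorProduct.add_tmul, map_add, TensorProduct.tmul_add, h2, h4, add_zero]⟩
  have : m = m' := (mono_iff_stalk (ClSub.idealModι B)).1 (inferInstanceAs (Mono (kernel.ι _))) x (hr.symm.trans hm'.symm)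
  rw [this]
  exact hker

/-- The kernel of `O/CB ⊗ L → O/B ⊗ L`. -/
def peelIso (hL : PicF.IsInvertible L) :
    tmod (ClSub.quotMod C) (tmod (ClSub.idealMod B) L) ≅ kernel (qmapL (mul_le_right' C B) L) :=
  haveI := isIso_peel (C := C) (B := B) hL
  asIso (((DCoh.tensorBi (X := X)).obj (ClSub.quotMod C)).map (peelMap C B L)) ≪≫
    CliffCurveLib.killedIso (killed_peel hL)

end Groth.Agent.TwistShriek
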