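import Groth.Agent.TwistShriek.SurfDiv
import Groth.Agent.TwistShriek.SurfEff
import Groth.Agent.TwistShriek.SurfPeel
import Groth.Agent.TwistShriek.NumCurves
import Groth.Agent.AVLib.DivSection
import Groth.Agent.AmpleEmb.Compose
import Groth.Agent.S1658
import Mathlib.Data.DFinsupp.WellFounded

/-!
# Invertible modules trivial off a prime divisor
-/

set_option autoImplicit false
set_option backward.isDefEq.respectTransparency false
set_option linter.style.haveILetI false
set_option maxHeartbeats 1000000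

universe u

open CategoryTheory CategoryTheory.Limits AlgebraicGeometry TopologicalSpace

noncomputable section

namespace Groth.Agent.TwistShriek

variable {X : Scheme.{u}}

/-- The support of a divisor inside a prime divisor is everything or nothing. -/
theorem support_prime_subset [IsIntegral X] {I D : X.IdealSheafData} (hI : BlowUp.IsEffCartierIdeal I)
    (hIi : IsIntegral I.subscheme) (hD : BlowUp.IsEffCartierIdeal D)
    (hs : (D.support : Set X) ⊆ (I.support : Set X)) (hne : (D.support : Set X).Nonempty) :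
    (I.support : Set X) ⊆ (D.support : Set X) := by
  haveI := hIi
  obtain ⟨z, hz⟩ := hne
  obtain ⟨U₁, hz₁, g, hg, hgI⟩ := hI z
  obtain ⟨U₂, hz₂, d, hd, hdD⟩ := hD z
  obtain ⟨a, b, hab, hza⟩ := exists_basicOpen_le_affine_inter U₁.2 U₂.2 z ⟨hz₁, hz₂⟩
  let U : X.affineOpens := X.affineBasicOpen (U := U₁) a
  have hU₂ : X.affineBasicOpen (U := U₂) b = U := Subtype.ext hab.symm
  haveI : Nonempty U.1 := ⟨⟨z, hza⟩⟩
  obtain ⟨g', hg'⟩ : ∃ g' : Γ(X, U.1), I.ideal U = Ideal.span {g'} :=
    ⟨_, by rw [← I.map_ideal_basicOpen U₁ a, hgI, Ideal.map_span, Set.image_singleton]⟩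
  obtain ⟨d', hd'⟩ : ∃ d' : Γ(X, U.1), D.ideal U = Ideal.span {d'} := by
    have h : ∃ d' : Γ(X, (X.affineBasicOpen (U := U₂) b).1), D.ideal (X.affineBasicOpen (U := U₂) b) = Ideal.span {d'} :=
      ⟨_, by rw [← D.map_ideal_basicOpen U₂ b, hdD, Ideal.map_span, Set.image_singleton]⟩
    rwa [hU₂] at h
  have hzI := hs hz
  have hU := U.2
  have hprime : (I.ideal U).IsPrime := by
    haveI : Nonempty (I.subschemeι ⁻¹ᵁ U.1 : I.subscheme.Opens) := by
      obtain ⟨y, rfl⟩ : z ∈ Set.range I.subschemeι := by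
        rw [Scheme.IdealSheafData.range_subschemeι]; exact hzI
      exact ⟨⟨y, hza⟩⟩
    haveI : IsDomain (Γ(X, U.1) ⧸ I.ideal U) :=
      (I.subschemeObjIso U).commRingCatIsoToRingEquiv.symm.toMulEquiv.isDomain _
    exact (Ideal.Quotient.isDomain_iff_prime _).1 inferInstance
  have hrad : g' ∈ (D.ideal U).radical := by
    rw [← PrimeSpectrum.vanishingIdeal_zeroLocus_eq_radical, PrimeSpectrum.mem_vanishingIdeal]
    intro p hp
    have h1 : hU.fromSpec p ∈ (D.support : Set X) := by
      have h2 : hU.fromSpec p ∈ U.1 := hU.range_fromSpec.subset ⟨p, rfl⟩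
      rw [SetLike.mem_coe, Scheme.IdealSheafData.mem_support_iff_of_mem h2]
      exact ((hU.fromSpec_image_zeroLocus _).le ⟨p, hp, rfl⟩).1
    have h3 := hs h1
    have h2 : hU.fromSpec p ∈ U.1 := hU.range_fromSpec.subset ⟨p, rfl⟩
    rw [SetLike.mem_coe, Scheme.IdealSheafData.mem_support_iff_of_mem h2] at h3
    obtain ⟨q, hq, hqp⟩ := (hU.fromSpec_image_zeroLocus _).ge ⟨h3, h2⟩
    obtain rfl := hU.fromSpec.isOpenEmbedding.injective hqp
    exact hq (hg' ▸ Ideal.mem_span_singleton_self g')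
  obtain ⟨n, hn⟩ := hrad
  have hle : D.ideal U ≤ I.ideal U := by
    rw [hd', hg', Ideal.span_singleton_le_iff_mem, Ideal.mem_span_singleton]
    rw [hd', Ideal.mem_span_singleton] at hn
    by_cases hg0 : g' = 0
    · exfalso
      have h4 : (X.presheaf.map (homOfLE (X.basicOpen_le a)).op).hom g ∈ I.ideal U := by
        rw [← I.map_ideal_basicOpen U₁ a, hgI]
        exact Ideal.mem_map_of_mem _ (Ideal.mem_span_singleton_self g)
      rw [hg', hg0, Ideal.span_singleton_eq_bot.2 rfl, Ideal.mem_bot] at h4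
      haveI : Nonempty U₁.1 := ⟨⟨z, hz₁⟩⟩
      haveI : Nonempty (X.basicOpen a) := ⟨⟨z, hza⟩⟩
      exact nonZeroDivisors.ne_zero hg
        ((map_eq_zero_iff _ (map_injective_of_isIntegral X (homOfLE (X.basicOpen_le a)))).1 h4)
    · have hp : Prime g' := (Ideal.span_singleton_prime hg0).1 (hg' ▸ hprime)
      by_contra hnd
      have hu : IsUnit d' := by
        clear hd'
        induction n with
        | zero => exact isUnit_of_dvd_one (pow_zero g' ▸ hn)
        | succ m ih =>
          refine ih ?_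
          obtain ⟨c, hc⟩ := hn
          have hgc : g' ∣ d' * c := ⟨g' ^ m, by rw [← hc]; ring⟩
          obtain ⟨c', rfl⟩ := (hp.dvd_or_dvd hgc).resolve_left hnd
          exact ⟨c', mul_left_cancel₀ hg0 (by rw [← pow_succ', hc]; ring)⟩
      have h5 : D.ideal U = ⊤ := by rw [hd']; exact Ideal.span_singleton_eq_top.2 hu
      have h6 := (Scheme.IdealSheafData.mem_support_iff_of_mem (U := U) hza).1 hz
      rw [h5] at h6
      simp at h6
      exact h6 hza
  let y₀ := genericPoint I.subscheme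
  have hη : I.subschemeι y₀ ∈ (D.support : Set X) := by
    obtain ⟨y, rfl⟩ : z ∈ Set.range I.subschemeι := by
      rw [Scheme.IdealSheafData.range_subschemeι]; exact hzI
    have hspec : I.subschemeι y₀ ⤳ I.subschemeι y := (genericPoint_specializes y).map I.subschemeι.continuous
    have hηU : I.subschemeι y₀ ∈ U.1 := hspec.mem_open U.1.2 hza
    have hηI : I.subschemeι y₀ ∈ (I.support : Set X) := by
      rw [← Scheme.IdealSheafData.range_subschemeι]; exact ⟨_, rfl⟩
    rw [SetLike.mem_coe, Scheme.IdealSheafData.mem_support_iff_of_mem hηU] at hηI ⊢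
    exact X.zeroLocus_mono hle hηI
  rw [← Scheme.IdealSheafData.range_subschemeι]
  rintro _ ⟨y, rfl⟩
  exact ((genericPoint_specializes y).map I.subschemeι.continuous).mem_closed D.support.isClosed hη

/-- A divisor supported on a prime divisor is a multiple of it. -/
theorem exists_eq_pow_of_support_le [IsNoetherian X] [IsIntegral X] {I : X.IdealSheafData}
    (hI : BlowUp.IsEffCartierIdeal I) (hIi : IsIntegral I.subscheme) :
    ∀ D : X.IdealSheafData, BlowUp.IsEffCartierIdeal D → (D.support : Set X) ⊆ (I.support : Set X) →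
      ∃ j : ℕ, D = I ^ j := by
  classical
  let ι := X.affineCover.finiteSubcover.I₀
  haveI : Finite ι := Finite.of_fintype _
  let V : ι → X.affineOpens := fun i =>
    ⟨(X.affineCover.finiteSubcover.f i).opensRange, isAffineOpen_opensRange _⟩
  have hcov : ⨆ i, (V i).1 = ⊤ := X.affineCover.finiteSubcover.iSup_opensRange
  haveI : ∀ i, WellFoundedGT (Ideal Γ(X, (V i).1)) := fun i => by
    haveI : IsNoetherianRing Γ(X, (V i).1) := IsLocallyNoetherian.component_noetherian (V i)
    infer_instance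
  haveI : WellFoundedGT (∀ i, Ideal Γ(X, (V i).1)) := by
    haveI : ∀ i, WellFoundedLT (Ideal Γ(X, (V i).1))ᵒᵈ := fun i => ⟨(wellFounded_gt (α := Ideal Γ(X, (V i).1)))⟩
    exact ⟨InvImage.wf (fun f i => OrderDual.toDual (f i))
      (Pi.wellFoundedLT (α := fun i => (Ideal Γ(X, (V i).1))ᵒᵈ)).wf |>.mono fun a b h => ⟨h.1, h.2⟩⟩
  intro D
  induction D using (InvImage.wf (fun (D : X.IdealSheafData) i => D.ideal (V i)) (wellFounded_gt (α := ∀ i, Ideal Γ(X, (V i).1)))).induction with
  | _ D ih =>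
    intro hD hs'
    by_cases htop : D = ⊤
    · exact ⟨0, by rw [htop, pow_zero, Scheme.IdealSheafData.one_eq_top]⟩
    haveI := hIi
    have hDne : (D.support : Set X).Nonempty := Set.nonempty_iff_ne_empty.2 fun h0 =>
      htop ((Scheme.IdealSheafData.support_eq_bot_iff _).1 (SetLike.ext' h0))
    have hsub := support_prime_subset hI hIi hD hs' hDne
    have hle : D ≤ I := by
      rw [← radical_eq_self I, ← Scheme.IdealSheafData.vanishingIdeal_support]
      exact (Scheme.IdealSheafData.le_radical D).trans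
        ((Scheme.IdealSheafData.vanishingIdeal_support (I := D)).ge.trans (Scheme.IdealSheafData.vanishingIdeal_antimono hsub))
    obtain ⟨B, hB, hDB⟩ := exists_eq_mul_of_le hI hD hle
    have hDB' : D ≤ B := hDB.le.trans (mul_le_right' I B)
    have hne : B ≠ D := by
      intro e
      obtain ⟨z, hz⟩ := hDne
      obtain ⟨U, hzU, d, hd, hdD⟩ := hD z
      have h1 := congrArg (fun J : X.IdealSheafData => J.ideal U) hDB
      simp only [Scheme.IdealSheafData.ideal_mul, Pi.mul_apply, e, hdD] at h1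
      obtain ⟨i, hi, hid⟩ := Ideal.mem_mul_span_singleton.1 (h1.le (Ideal.mem_span_singleton_self d))
      have hi1 : i = 1 := (mul_cancel_right_mem_nonZeroDivisors hd).1 (by rw [hid, one_mul])
      have h2 := hs' hz
      rw [SetLike.mem_coe, Scheme.IdealSheafData.mem_support_iff_of_mem hzU,
        Ideal.eq_top_of_isUnit_mem _ hi (hi1 ▸ isUnit_one)] at h2
      simp at h2
      exact h2 hzU
    have hlt : (fun i => D.ideal (V i)) < fun i => B.ideal (V i) :=
      lt_of_le_of_ne (fun i => hDB' _) fun e => hne (Scheme.IdealSheafData.ext_of_iSup_eq_top V hcov fun i => (congrFun e i).symm)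
    obtain ⟨j, hj⟩ := ih B hlt hB (fun w hw => hs' (Scheme.IdealSheafData.support_antitone hDB' hw))
    exact ⟨j + 1, by rw [hDB, hj, pow_succ']⟩

/-- Powers of an invertible ideal. -/
theorem mk_idealMod_pow [IsNoetherian X] {I : X.IdealSheafData} (hI : BlowUp.IsEffCartierIdeal I) :
    ∀ j : ℕ, BlowUp.IsEffCartierIdeal (I ^ j) ∧
      IntLib.mk (ClSub.idealMod (I ^ j)) = IntLib.mk (ClSub.idealMod I) ^ j := by
  intro j
  induction j with
  | zero =>
    rw [pow_zero, pow_zero, Scheme.IdealSheafData.one_eq_top]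
    refine ⟨BlowCompLib.isEffCartier_top, ?_⟩
    have hT := (S8914.result _).2 (BlowCompLib.isEffCartier_top (X := X))
    obtain ⟨N, -, eN⟩ := AmpleEmb.exists_isInverseOf hT
    have h1 : IntLib.mk (ClSub.idealMod (⊤ : X.IdealSheafData)) * IntLib.mk N = 1 := by
      rw [← IntLib.mk_tensor, ← IntLib.mk_structureModule]; exact IntLib.mk_eq_mk.2 eN
    have ht : (⊤ : X.IdealSheafData) * ⊤ = ⊤ := by
      rw [← Scheme.IdealSheafData.one_eq_top, mul_one]
    obtain ⟨e⟩ := nonempty_idealMod_mul_iso hT hT (by rw [ht]; exact hT)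
    have h2 : IntLib.mk (ClSub.idealMod (⊤ : X.IdealSheafData)) =
        IntLib.mk (ClSub.idealMod (⊤ : X.IdealSheafData)) * IntLib.mk (ClSub.idealMod (⊤ : X.IdealSheafData)) := by
      rw [← IntLib.mk_tensor, ← IntLib.mk_congr e, ht]
    calc IntLib.mk (ClSub.idealMod (⊤ : X.IdealSheafData))
        = IntLib.mk (ClSub.idealMod (⊤ : X.IdealSheafData)) * (IntLib.mk (ClSub.idealMod (⊤ : X.IdealSheafData)) * IntLib.mk N) := by
          rw [h1, mul_one]
      _ = 1 := by rw [← mul_assoc, ← h2, h1]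
  | succ j ih =>
    rw [pow_succ, pow_succ]
    have h := BlowCompLib.isEffCartier_mul ih.1 hI
    obtain ⟨e⟩ := nonempty_idealMod_mul_iso ((S8914.result _).2 ih.1) ((S8914.result _).2 hI) ((S8914.result _).2 h)
    exact ⟨h, by rw [IntLib.mk_congr e, IntLib.mk_tensor, ih.2]⟩

/-- Invertible modules trivial off a prime divisor are powers of its ideal. -/
theorem exists_mk_eq_pow [IsNoetherian X] [IsIntegral X] {I : X.IdealSheafData} (hI : BlowUp.IsEffCartierIdeal I)
    (hIi : IsIntegral I.subscheme) {L : X.Modules} (hL : PicF.IsInvertible L)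
    (e : L.restrict (Scheme.Opens.ι (I.support.compl : X.Opens)) ≅
      Coh.structureModule (Scheme.Opens.toScheme (I.support.compl : X.Opens))) :
    ∃ a b : ℕ, IntLib.mk L * IntLib.mk (ClSub.idealMod I) ^ a = IntLib.mk (ClSub.idealMod I) ^ b := by
  obtain ⟨N, hN, eN⟩ := AmpleEmb.exists_isInverseOf ((S8914.result I).2 hI)
  have hNI : ClSub.IsInverseOf N (ClSub.idealMod I) := eN.map fun f => AmpleLib.comm _ _ ≪≫ f
  obtain ⟨u, hu⟩ := AVLib.exists_section_genLocus_compl hI hN hNI
  obtain ⟨t, ht⟩ : ∃ t : Coh.structureModule (CohB1.genLocus N u : Scheme.{u}) ⟶ L.restrict (CohB1.genLocus N u).ι,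
      CohB1.genLocus _ t = ⊤ := by
    rw [hu]
    exact ⟨e.inv, eq_top_iff.2 fun z _ => (AVLib.mem_genLocus_iff_stalkLin (ParaFLib.isInvertible_restrict _ hL)).2
      ((PullbackMod.isIso_iff_stalk e.inv).1 inferInstance z)⟩
  obtain ⟨K₀, hK⟩ := AmpleEmb.exists_section_genLocus hL hN u t
  obtain ⟨Ξ, hΞ⟩ := hK K₀ le_rfl
  rw [ht, Scheme.Opens.ι_image_top, hu] at hΞ
  have hLK : PicF.IsInvertible (CohB1.tensorMod (CohB1.tensorMod L (CohB1.tensorPow N K₀)) N) :=
    AmpleLib.isInvertible_tensor (AmpleLib.isInvertible_tensor hL (AmpleLib.isInvertible_tensorPow hN K₀)) hN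
  let ι := X.affineCover.I₀
  obtain ⟨D, hD, hDs, ⟨eD⟩⟩ := S1658.exists_effCartier_of_section hLK
    (fun U : {U : X.affineOpens // (U.1 : Set X).Nonempty} => U.1.1) (fun U => U.1.2)
    (fun x => by
      obtain ⟨_, ⟨U, hU, rfl⟩, hxU, -⟩ := X.isBasis_affineOpens.exists_subset_of_mem_open (Set.mem_univ x) isOpen_univ
      exact ⟨⟨⟨U, hU⟩, x, hxU⟩, hxU⟩) Ξ fun U p hp => by
      rw [hΞ]
      haveI : Nonempty U.1.1 := ⟨⟨_, U.2.some_mem⟩⟩
      have hp0 : p.asIdeal = ⊥ := by
        haveI : IsDomain Γ(X, U.1.1) := inferInstance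
        obtain ⟨hpr, z, hz⟩ := hp
        rcases eq_or_ne z 0 with rfl | hz0
        · exact absurd (by rw [hz]; simp) hpr.ne_top
        · rw [eq_bot_iff, hz]
          intro a ha
          exact (by simpa [Ideal.mem_radical_iff, mul_eq_zero, hz0] using ha : a = 0 ∧ _).1
      intro hps
      obtain ⟨y, hyU, g, hg, hgI⟩ := hI (U.1.2.fromSpec p)
      rw [SetLike.mem_coe, Scheme.IdealSheafData.mem_support_iff_of_mem hyU, hgI] at hps
      have hgen : U.1.2.fromSpec p = genericPoint X := by
        have hp' : p = genericPoint (Spec Γ(X, U.1.1)) := by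
          rw [genericPoint_eq_bot_of_affine]; exact PrimeSpectrum.ext hp0
        rw [hp']
        exact genericPoint_eq_of_isOpenImmersion U.1.2.fromSpec
      rw [hgen] at hps hyU
      haveI : Nonempty y.1 := ⟨⟨_, hyU⟩⟩
      have h1 : genericPoint X ∈ X.basicOpen g := by
        refine ((genericPoint_spec X).mem_open_set_iff (X.basicOpen g).isOpen).2 ?_
        rw [Set.univ_inter, Set.nonempty_iff_ne_empty]
        intro h0
        exact nonZeroDivisors.ne_zero hg ((AlgebraicGeometry.basicOpen_eq_bot_iff g).1 (SetLike.ext' h0))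
      exact (X.mem_zeroLocus_iff _ _).1 hps g (Ideal.mem_span_singleton_self g) h1
  rw [hΞ] at hDs
  obtain ⟨j, rfl⟩ := exists_eq_pow_of_support_le hI hIi D hD (by rw [hDs]; exact (compl_compl _).le)
  refine ⟨j, K₀ + 1, ?_⟩
  have h1 := IntLib.mk_congr eD
  rw [IntLib.mk_tensor, IntLib.mk_tensor, IntLib.mk_tensor, IntLib.mk_structureModule, IntLib.mk_tensorPow,
    (mk_idealMod_pow hI j).2] at h1
  have h2 : IntLib.mk (ClSub.idealMod I) * IntLib.mk N = 1 := by
    rw [← IntLib.mk_tensor, ← IntLib.mk_structureModule]; exact IntLib.mk_eq_mk.2 eN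
  calc IntLib.mk L * IntLib.mk (ClSub.idealMod I) ^ j
      = IntLib.mk L * IntLib.mk (ClSub.idealMod I) ^ j * (IntLib.mk (ClSub.idealMod I) * IntLib.mk N) ^ (K₀ + 1) := by
        rw [h2, one_pow, mul_one]
    _ = (IntLib.mk L * IntLib.mk N ^ K₀ * IntLib.mk N * IntLib.mk (ClSub.idealMod I) ^ j) *
          IntLib.mk (ClSub.idealMod I) ^ (K₀ + 1) := by
          rw [mul_pow (IntLib.mk (ClSub.idealMod I)), pow_succ (IntLib.mk N)]; ac_rfl
    _ = _ := by rw [h1, one_mul]

end Groth.Agent.TwistShriek
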