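import Groth.Agent.TwistShriek.PointBirat
import Groth.Agent.SmoothSecLib.Irred
import Groth.Agent.BoundaryConn.Main
import Groth.Agent.FinBirLib.Iso
import Groth.Agent.IdealStalkLib.Cartier

/-!
# Dimensions for the blow-up of a point
-/

set_option autoImplicit false
set_option backward.isDefEq.respectTransparency false
set_option linter.style.haveILetI false

universe u

open CategoryTheory CategoryTheory.Limits AlgebraicGeometry TopologicalSpace

noncomputable section

namespace Groth.Agent.TwistShriek.PointBlow

/-- Closed points of regular schemes with all components of one dimension. -/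
theorem ringKrullDim_stalk_of_components (k : Type u) [Field k] {X : Scheme.{u}} [X.Over (Spec (CommRingCat.of k))]
    [IsProper (X ↘ Spec (CommRingCat.of k))] {d : WithBot ℕ∞}
    (hdim : ∀ Z ∈ irreducibleComponents (X : Type u), topologicalKrullDim Z = d)
    (hreg : ∀ y : X, IsRegularLocalRing (X.presheaf.stalk y)) {x : X} (hx : IsClosed ({x} : Set X)) :
    ringKrullDim (X.presheaf.stalk x) = d := by
  haveI := EulerIneqLib.isNoetherian_proper (X := X) k
  have hdom : ∀ z : X, IsDomain (X.presheaf.stalk z) := fun z => by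
    haveI := hreg z
    exact RegLocal.isDomain _
  have hcomp : ∀ y : X, IsIrreducible (connectedComponent y) :=
    SmoothSecLib.isIrreducible_connectedComponent_of_domain hdom
  have hT : ∀ T ∈ irreducibleComponents (X : Type u), ∀ y ∈ T, connectedComponent y = T := fun T hT y hy =>
    le_antisymm (hT.2 (hcomp y) (hT.1.isConnected.subset_connectedComponent hy))
      (hT.1.isConnected.subset_connectedComponent hy)
  let T := irreducibleComponent x
  have hTm : T ∈ irreducibleComponents (X : Type u) := irreducibleComponent_mem_irreducibleComponents x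
  have hopen : IsOpen T := by
    have h : Tᶜ = ⋃ S ∈ {S | S ∈ irreducibleComponents (X : Type u) ∧ S ≠ T}, S := by
      ext y
      simp only [Set.mem_compl_iff, Set.mem_iUnion]
      refine ⟨fun hy => ⟨irreducibleComponent y, ⟨irreducibleComponent_mem_irreducibleComponents y,
        fun e => hy (e ▸ mem_irreducibleComponent)⟩, mem_irreducibleComponent⟩, fun ⟨S, ⟨hS, hne⟩, hyS⟩ hyT => ?_⟩
      exact hne ((hT S hS y hyS).symm.trans (hT T hTm y hyT))
    rw [← isClosed_compl_iff, h]
    exact ((TopologicalSpace.NoetherianSpace.finite_irreducibleComponents (α := X)).subset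
      fun S hS => hS.1).isClosed_biUnion fun S hS => isClosed_of_mem_irreducibleComponents S hS.1
  let U : X.Opens := ⟨T, hopen⟩
  haveI : IrreducibleSpace (U : Scheme.{u}) := Subtype.irreducibleSpace hTm.1
  have hxU : x ∈ U := mem_irreducibleComponent
  have hc : IsClosed ({(⟨x, hxU⟩ : U)} : Set (U : Scheme.{u})) := by
    have h : ({(⟨x, hxU⟩ : U)} : Set (U : Scheme.{u})) = U.ι ⁻¹' {x} := by
      ext y
      exact ⟨fun h => congrArg Subtype.val (h : y = _), fun h => Subtype.ext h⟩
    rw [h]
    exact hx.preimage U.ι.continuous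
  have h := BoundaryConn.ringKrullDim_stalk_closed (U.ι ≫ (X ↘ Spec (CommRingCat.of k))) (⟨x, hxU⟩ : U) hc
  rw [ringKrullDim_eq_of_ringEquiv (asIso (U.ι.stalkMap ⟨x, hxU⟩)).commRingCatIsoToRingEquiv.symm] at h
  exact (h.symm ▸ hdim T hTm : _)

variable {X X' : Scheme.{u}} {x : X} {hx : IsClosed ({x} : Set X)} {π : X' ⟶ X}

/-- The blow-up of a point of a surface is a surface. -/
theorem topologicalKrullDim_blowUp_le [IsLocallyNoetherian X] (hb : BlowUp.IsBlowUp π (pointIdeal hx))
    (P : PointParams hx) (hd : topologicalKrullDim X ≤ ((2 : ℕ) : WithBot ℕ∞)) :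
    topologicalKrullDim X' ≤ ((2 : ℕ) : WithBot ℕ∞) := by
  haveI := isProper hb
  haveI : IsLocallyNoetherian X' := LocallyOfFiniteType.isLocallyNoetherian π
  rw [DimFormulaLib.topologicalKrullDim_eq_iSup_stalk] at hd ⊢
  refine iSup_le fun z => ?_
  by_cases hz : π z ∈ ((pointIdeal hx).support : Set X)
  · have hz' : z ∈ Set.range (jE π hx) := by
      rw [Scheme.IdealSheafData.range_subschemeι, Scheme.IdealSheafData.support_comap]
      exact hz
    obtain ⟨e, rfl⟩ := hz'
    obtain ⟨g, -, hg⟩ := BlowExistsLib.exists_stalk_generator hb.1 (jE π hx e)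
    have hk := IdealStalkLib.ker_stalkMap_subschemeι (BlowUp.exceptional π (pointIdeal hx)) e
    rw [show IntMult.stalkIdeal (BlowUp.exceptional π (pointIdeal hx)) (jE π hx e) = Ideal.span {g} from hg] at hk
    have hgm : g ∈ IsLocalRing.maximalIdeal (X'.presheaf.stalk (jE π hx e)) := by
      by_contra hu
      rw [IsLocalRing.notMem_maximalIdeal] at hu
      have h1 : (1 : X'.presheaf.stalk (jE π hx e)) ∈ RingHom.ker ((jE π hx).stalkMap e).hom := by
        rw [hk, Ideal.span_singleton_eq_top.2 hu]; trivial
      rw [RingHom.mem_ker, map_one] at h1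
      exact one_ne_zero h1
    refine (ringKrullDim_le_ringKrullDim_quotient_add_spanFinrank (Ideal.span {g}) ?_).trans ?_
    · rw [IsLocalRing.ringJacobson_eq_maximalIdeal, Ideal.span_singleton_le_iff_mem]; exact hgm
    have h1 : ringKrullDim (X'.presheaf.stalk (jE π hx e) ⧸ Ideal.span {g}) ≤ 1 := by
      rw [ringKrullDim_eq_of_ringEquiv ((Ideal.quotEquivOfEq hk.symm).trans
        (RingHom.quotientKerEquivOfSurjective ((jE π hx).stalkMap_surjective e)))]
      have h := topologicalKrullDim_E_le hb P
      rw [DimFormulaLib.topologicalKrullDim_eq_iSup_stalk] at h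
      exact (le_iSup (fun y : E π hx => ringKrullDim ((E π hx).presheaf.stalk y)) e).trans h
    have h2 : ((Ideal.span {g}).spanFinrank : WithBot ℕ∞) ≤ 1 := by
      have := Submodule.spanFinrank_span_le_ncard_of_finite (R := X'.presheaf.stalk (jE π hx e)) (Set.finite_singleton g)
      rw [Set.ncard_singleton] at this
      exact_mod_cast this
    calc _ ≤ (1 : WithBot ℕ∞) + 1 := add_le_add h1 h2
      _ = _ := by norm_num
  · haveI := FinBirLib.isIso_stalkMap_of_restrict π _ (BlowCompLib.isIso_restrict _ π hb) z hz
    rw [ringKrullDim_eq_of_ringEquiv (asIso (π.stalkMap z)).commRingCatIsoToRingEquiv.symm]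
    exact (le_iSup (fun y : X => ringKrullDim (X.presheaf.stalk y)) (π z)).trans hd

end Groth.Agent.TwistShriek.PointBlow
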