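import Groth.Agent.TwistShriek.SurfNC
import Groth.Agent.CurveLib.GlobalFun
import Groth.Agent.S1536
import Groth.Agent.S1658

/-!
# Connected reduced subschemes and ample divisors
-/

set_option autoImplicit false
set_option backward.isDefEq.respectTransparency false
set_option linter.style.haveILetI false
set_option maxHeartbeats 800000

universe u

open CategoryTheory CategoryTheory.Limits AlgebraicGeometry TopologicalSpace
open Groth.Agent.PullbackMod Groth.Agent.DCohLib

noncomputable section

namespace Groth.Agent.TwistShriek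

variable (k : Type u) [Field k] [IsAlgClosed k] {X : Scheme.{u}} [X.Over (Spec (CommRingCat.of k))]
  [IsProper (X ↘ Spec (CommRingCat.of k))]

/-- `H⁰ = k` on a connected reduced proper scheme. -/
theorem finrank_H0_connected [ConnectedSpace X] [IsReduced X] :
    Module.finrank k (Coh.HH X (Coh.structureModule X) 0) = 1 := by
  haveI := EulerIneqLib.isNoetherian_proper (X := X) k
  haveI := EulerIneqLib.finite_HH (k := k) (DevLib.isCoh_structureModule X) 0
  let φ : k →+* Γ(X, ⊤) := Coh.toGlobal (X ↘ Spec (CommRingCat.of k))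
  letI := φ.toAlgebra
  let e : Coh.HH X (Coh.structureModule X) 0 ≃ₗ[k] Γ(X, ⊤) :=
    { (CurveLib.secOf (Coh.structureModule X)) with map_smul' := fun r c => CurveLib.secOf_smul (k := k) _ r c }
  haveI : Module.Finite k Γ(X, ⊤) := Module.Finite.equiv e
  haveI : Nonempty ↥(⊤ : X.Opens) := by
    obtain ⟨x⟩ := (inferInstance : Nonempty X)
    exact ⟨⟨x, trivial⟩⟩
  rw [e.finrank_eq]
  exact S1536.finrank_eq_one_of_idempotents k Γ(X, ⊤) fun a ha => S1536.idempotent_trivial a ha

/-- `H⁰(O_D) = k` for a connected reduced closed subscheme. -/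
theorem finrank_H0_quot_connected (D : X.IdealSheafData) [ConnectedSpace D.subscheme] [IsReduced D.subscheme] :
    Module.finrank k (Coh.HH X (ClSub.quotMod D) 0) = 1 := by
  haveI := EulerIneqLib.isNoetherian_proper (X := X) k
  letI : D.subscheme.Over (Spec (CommRingCat.of k)) := ⟨D.subschemeι ≫ (X ↘ Spec (CommRingCat.of k))⟩
  haveI : IsProper (D.subscheme ↘ Spec (CommRingCat.of k)) :=
    (inferInstanceAs (IsProper (D.subschemeι ≫ (X ↘ Spec (CommRingCat.of k)))))
  haveI := EulerIneqLib.isNoetherian_proper (X := D.subscheme) k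
  haveI : Coh.IsQCoh (Coh.structureModule D.subscheme) := (DevLib.isCoh_structureModule D.subscheme).1
  exact (IntLib.finrank_push k D.subschemeι rfl (Coh.structureModule D.subscheme) 0).trans (finrank_H0_connected k)

omit [IsAlgClosed k] in
/-- `H¹(I_D) = 0` when `H¹(O) = 0` and `H⁰(O_D)` is at most one dimensional. -/
theorem subsingleton_H1_ideal [IsIntegral X] {D : X.IdealSheafData} (hD : PicF.IsInvertible (ClSub.idealMod D))
    (h1 : Subsingleton (Coh.HH X (Coh.structureModule X) 1))
    (h0 : Module.finrank k (Coh.HH X (ClSub.quotMod D) 0) ≤ 1) (hne : D ≠ ⊤) :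
    Subsingleton (Coh.HH X (ClSub.idealMod D) 1) := by
  haveI := EulerIneqLib.isNoetherian_proper (X := X) k
  haveI : Epi (ClSub.toSubscheme D) := HilbObsLib.epi_toSubscheme D
  have hs : ∀ x, Function.Surjective (stalkLin (ClSub.toSubscheme D) x) := (epi_iff_stalk _).1 inferInstance
  have hS := H1ZeroLib.kerSeq_shortExact (ClSub.toSubscheme D) hs
  haveI := EulerIneqLib.finite_HH (k := k) (IntLib.isCoh_quotMod D) 0
  have hsurj : Function.Surjective (CurveLib.hMap (k := k) (ClSub.toSubscheme D) 0) := by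
    have hne' : ClSub.toSubscheme D ≠ 0 := fun hz => hne <| by
      refine (Scheme.IdealSheafData.support_eq_bot_iff D).1
        (SetLike.coe_injective (Set.eq_empty_iff_forall_notMem.2 fun x hx => ?_))
      have h : H1ZeroLib.qv D x 1 = 0 := by
        rw [H1ZeroLib.qv, hz, DevLib.stalkLin_zero, LinearMap.zero_apply]
      exact (IsLocalRing.maximalIdeal.isMaximal (X.presheaf.stalk x)).ne_top
        ((Ideal.eq_top_iff_one _).2 (H1ZeroLib.stalkIdeal_le_maximal hx ((H1ZeroLib.qv_eq_zero_iff D x 1).1 h)))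
    obtain ⟨c, hc⟩ : ∃ c, CurveLib.hMap (k := k) (ClSub.toSubscheme D) 0 c ≠ 0 := by
      by_contra hall
      push Not at hall
      obtain ⟨c, hc⟩ := (CurveLib.secOf (Coh.structureModule X)).surjective (AmpleLib.sec (𝟙 (Coh.structureModule X)))
      refine hne' (DCohLib.hom_unit_ext ?_)
      have h := (congrArg (CurveLib.secOf (ClSub.quotMod D)) (hall c)).symm.trans
        (CurveLib.secOf_hMap (k := k) (ClSub.toSubscheme D) c)
      rw [map_zero, hc] at h
      exact h.symm
    intro z
    have hpos : 0 < Module.finrank k (Coh.HH X (ClSub.quotMod D) 0) := Module.finrank_pos_iff_exists_ne_zero.2 ⟨_, hc⟩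
    obtain ⟨a, ha⟩ := (finrank_eq_one_iff_of_nonzero' _ hc).1 (le_antisymm h0 hpos) z
    exact ⟨a • c, by rw [map_smul]; exact ha⟩
  haveI := h1
  refine subsingleton_of_forall_eq 0 fun x => ?_
  have hx : x ∈ LinearMap.ker (CurveLib.hMap (k := k) (H1ZeroLib.kerSeq (ClSub.toSubscheme D)).f 1) :=
    LinearMap.mem_ker.2 (Subsingleton.elim (α := Coh.HH X (Coh.structureModule X) 1) _ _)
  rw [← CurveLib.range_hδ hS 0] at hx
  obtain ⟨y, rfl⟩ := hx
  obtain ⟨w, rfl⟩ := hsurj y
  have hy : CurveLib.hMap (k := k) (ClSub.toSubscheme D) 0 w ∈ LinearMap.ker (CurveLib.hδ (k := k) hS 0) := by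
    rw [← CurveLib.range_hMap_g hS 0]; exact ⟨w, rfl⟩
  exact LinearMap.mem_ker.1 hy

omit [IsAlgClosed k] [X.Over (Spec (CommRingCat.of k))] [IsProper (X ↘ Spec (CommRingCat.of k))] in
/-- A section which generates somewhere cuts out an effective divisor. -/
theorem exists_divisor_of_genLocus [IsNoetherian X] [IsIntegral X] {L : X.Modules} (hL : PicF.IsInvertible L)
    (s : Coh.structureModule X ⟶ L) (hs : (CohB1.genLocus L s : Set X).Nonempty) :
    ∃ D : X.IdealSheafData, FGA.IsEffCartier D ∧ Nonempty (CohB1.tensorMod L (ClSub.idealMod D) ≅ Coh.structureModule X) := by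
  choose U hU hxU _ using fun x : X => exists_isAffineOpen_mem_and_subset (U := (⊤ : X.Opens)) (x := x) trivial
  obtain ⟨D, hD, -, hiso⟩ := S1658.exists_effCartier_of_section hL U hU (fun x => ⟨x, hxU x⟩) s fun i p hp => by
    haveI : Nonempty ↥(U i) := ⟨⟨i, hxU i⟩⟩
    haveI : Nonempty ↥((U i : Set X)) := ⟨⟨i, hxU i⟩⟩
    haveI : IsDomain Γ(X, U i) := @IsIntegral.component_integral X _ (U i) ⟨⟨i, hxU i⟩⟩
    have hbot : p.asIdeal = ⊥ := by
      obtain ⟨-, m, hm⟩ := hp
      refine le_bot_iff.1 fun a ha => ?_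
      rw [hm] at ha
      by_cases hm0 : m = 0
      · subst hm0
        exact absurd ((Ideal.eq_top_iff_one _).2 (by rw [hm]; exact Ideal.le_radical (by simp))) p.isPrime.ne_top
      · obtain ⟨n, hn⟩ := Ideal.mem_radical_iff.1 ha
        have h2 : a ^ n * m = 0 := by simpa using hn
        exact pow_eq_zero_iff'.1 ((mul_eq_zero.1 h2).resolve_right hm0) |>.1
    obtain ⟨y, hyG, hyU⟩ := nonempty_preirreducible_inter (CohB1.genLocus L s).2 (U i).2 hs ⟨i, hxU i⟩
    obtain ⟨q, rfl⟩ : ∃ q, (hU i).fromSpec q = y := by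
      have h : y ∈ Set.range (hU i).fromSpec := by rw [(hU i).range_fromSpec]; exact hyU
      exact h
    have hspec : p ⤳ q := (PrimeSpectrum.le_iff_specializes p q).1 (show p.asIdeal ≤ q.asIdeal by rw [hbot]; exact bot_le)
    exact ((hspec.map (hU i).fromSpec.continuous).mem_open (CohB1.genLocus L s).2 hyG)
  exact ⟨D, hD, hiso⟩

end Groth.Agent.TwistShriek
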