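import Groth.Agent.TwistShriek.SurfH1
import Groth.Agent.TwistShriek.SurfConn
import Groth.Agent.CycLib.NefPull
import Groth.Agent.NakaiLib.Nef
import Groth.Agent.S7641
import Groth.Agent.CurveLib.TensorExact
import Groth.Agent.AmpleEmb.TwistOne
import Groth.Agent.CompleteCurve.ProjSpace

/-! # Surfaces over the plane: nef pullbacks and fixed curves -/

set_option autoImplicit false
set_option backward.isDefEq.respectTransparency false
set_option linter.style.haveILetI false
set_option maxHeartbeats 1000000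

universe u

open CategoryTheory CategoryTheory.Limits AlgebraicGeometry TopologicalSpace
open Groth.Agent.PullbackMod Groth.Agent.DCohLib Groth.Agent.Nakai Groth.Agent.H1ZeroLib
open Groth.Agent.IntLib (PicRing pairing)

noncomputable section

namespace Groth.Agent.TwistShriek

theorem num_sub₁ {x : ℤ} (h : x < -1) (h' : 0 ≤ x) : False := by omega
theorem num_sub₂ {x a b : ℤ} (h : x < -1) (e : x = a + b) (ha : a = -1) (h' : 0 ≤ b) : False := by omega
theorem num_fin {a b : ℤ} (h : b ≤ 0) : 2 * -a ≤ -(a + (a + b)) := by omega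

variable (k : Type u) [Field k] {X : Scheme.{u}} [X.Over (Spec (CommRingCat.of k))]
  [IsProper (X ↘ Spec (CommRingCat.of k))]

/-- Inverse images of ample modules are nef. -/
theorem nefP_pullback_ample {Y : Scheme.{u}} [Y.Over (Spec (CommRingCat.of k))]
    [IsProper (Y ↘ Spec (CommRingCat.of k))] (g : X ⟶ Y)
    (hg : g ≫ (Y ↘ Spec (CommRingCat.of k)) = X ↘ Spec (CommRingCat.of k))
    {A : Y.Modules} (hA : CohB1.IsAmple A) : NefP k (AmpleLib.isInvertible_pullback g hA.1) := by
  intro ξ hξ
  haveI := EulerIneqLib.isNoetherian_proper (X := Y) k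
  obtain ⟨δX, hδX⟩ := CycLib.exists_delta k X
  obtain ⟨δY, hδY⟩ := CycLib.exists_delta k Y
  obtain ⟨t, ht, htd⟩ := CycLib.delta_dim k δX hδX ξ
  rw [hξ] at htd
  have h1 : δX ξ = 1 := by
    rw [ht, show t = 1 by exact_mod_cast htd.symm]; rfl
  have h := CycLib.pairing_pullback k hg hδX hδY 1 (fun _ : Fin 1 => A) (fun _ => hA.1) ξ (by rw [h1]; rfl)
  rw [Fin.prod_univ_one, Fin.prod_univ_one] at h
  rw [cl_eq_neg_dif, map_neg, h]
  by_cases hc : AlgebraicCycle.mapCoeff g δX δY ξ = 0
  · rw [hc, Nat.cast_zero, zero_mul, neg_zero]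
  rw [← mul_neg]
  refine mul_nonneg (Int.natCast_nonneg _) ?_
  have hδ : δY (g ξ) = 1 := by
    rw [AlgebraicCycle.mapCoeff] at hc
    split_ifs at hc with he
    · rw [← he, h1]
    · exact absurd rfl hc
  have hd : topologicalKrullDim (closure {g ξ} : Set Y) = ((1 : ℕ) : WithBot ℕ∞) :=
    CycLib.dim_closure_eq k hδY (g ξ) (t := 1) hδ
  have hp := isPos_cl_pow k hA 1
  rw [pow_one] at hp
  have := (hp (IntLib.compMod (g ξ)) (IntLib.isPiece_compMod (g ξ)).coh (lt_of_le_of_lt
    ((Topology.IsEmbedding.inclusion ((IntLib.support_quotMod_subset _).trans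
      (Scheme.IdealSheafData.coe_support_vanishingIdeal _).le)).isInducing.topologicalKrullDim_le.trans hd.le)
    (by exact_mod_cast Nat.lt_succ_self 1))).1
  rw [cl_eq_neg_dif, map_neg] at this
  exact this

/-- The pullback of `O(1)` from the plane is nef. -/
theorem nefP_plane (σ : X ⟶ CohB1.ProjSpace 2 k)
    (hσk : σ ≫ CohB1.ProjSpace.toSpec 2 k = X ↘ (Spec (CommRingCat.of k))) :
    ∃ hH : PicF.IsInvertible ((Scheme.Modules.pullback σ).obj (Twist.twistProjSpace 2 k 1)), NefP k hH := by
  haveI : IsProper ((CohB1.ProjSpace 2 k) ↘ Spec (CommRingCat.of k)) :=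
    inferInstanceAs (IsProper (CohB1.ProjSpace.toSpec 2 k))
  exact ⟨_, nefP_pullback_ample k σ hσk (AmpleEmb.isAmple_twistOne 2 k)⟩

variable [IsIntegral X]

/-- A nef class meets a module with sections nonnegatively. -/
theorem form_nef_section (hdim : topologicalKrullDim X = 2) {H L : X.Modules} {hH : PicF.IsInvertible H}
    (hn : NefP k hH) (hL : PicF.IsInvertible L) (hs : Nontrivial (Coh.HH X L 0)) :
    0 ≤ form k (cl hL) (cl hH) := by
  haveI := EulerIneqLib.isNoetherian_proper (X := X) k
  obtain ⟨s, hs1, hs2⟩ := exists_curves_of_section k hdim hL hs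
  rw [hs2 _ (cl_mem hH)]
  refine Multiset.sum_nonneg fun v hv => ?_
  obtain ⟨J, hJ, rfl⟩ := Multiset.mem_map.1 hv
  refine hn.nonneg k (IntLib.isCoh_quotMod J) (lt_of_le_of_lt
    ((Topology.IsEmbedding.inclusion (IntLib.support_quotMod_subset J)).isInducing.topologicalKrullDim_le.trans
      (hs1 J hJ).2.le) ?_)
  exact_mod_cast Nat.lt_succ_self 1

variable [IsAlgClosed k] [Smooth (X ↘ Spec (CommRingCat.of k))]

/-- A section forced to vanish twice on a negative curve bounds the degree against a nef class. -/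
theorem two_mul_le_of_fixed (hdim : topologicalKrullDim X = 2) {H L : X.Modules} {hH : PicF.IsInvertible H}
    (hn : NefP k hH) (hL : PicF.IsInvertible L) (hs : Nontrivial (Coh.HH X L 0))
    {E : X.IdealSheafData} (hE : IsIntegral E.subscheme) (hEd : topologicalKrullDim (E.support : Set X) = 1)
    (hEI : PicF.IsInvertible (ClSub.idealMod E)) (hEE : form k (cl hEI) (cl hEI) = -1)
    (hLE : pairing k (ClSub.quotMod E) (cl hL) < -1) :
    2 * pairing k (ClSub.quotMod E) (cl hH) ≤ form k (cl hL) (cl hH) := by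
  haveI := EulerIneqLib.isNoetherian_proper (X := X) k
  haveI := hs
  obtain ⟨s, hs0⟩ := CurveLib.exists_hom_ne_zero L
  have hne : (CohB1.genLocus L s : Set X).Nonempty := by
    by_contra h
    exact hs0 (S7641.eq_zero_of_genLocus_eq_bot hL s
      (TopologicalSpace.Opens.ext (Set.not_nonempty_iff_eq_empty.1 h)))
  obtain ⟨D, hD, ⟨θ⟩⟩ := exists_divisor_of_genLocus hL s hne
  have hDI : PicF.IsInvertible (ClSub.idealMod D) := (S8914.result _).2 hD
  have hinv : ∀ z ∈ Aug X, form k (cl hL) z = - form k (cl hDI) z := fun z hz => by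
    have h := form_congr k hdim (u := cl hL) (w := IntLib.dif hDI) (cl_mul_inverse_mem hL hDI θ) hz
    rw [h, show IntLib.dif hDI = - cl hDI by rw [cl_eq_neg_dif, neg_neg], form, form, neg_mul, map_neg]
  rw [pairing_quotMod_cl k hEI, Nakai.form_comm, hinv _ (cl_mem hEI), neg_neg] at hLE
  rw [hinv _ (cl_mem hH), pairing_quotMod_cl k hEI]
  have hsub : (E.support : Set X) ⊆ (D.support : Set X) := by
    by_contra hc
    exact num_sub₁ hLE (form_ideal_nonneg k hdim hD hDI hE hEd hEI hc)
  obtain ⟨B, hB, rfl⟩ := exists_eq_curve_mul k hdim hE hEd hD hsub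
  have hBI : PicF.IsInvertible (ClSub.idealMod B) := (S8914.result _).2 hB
  have e1 := form_ideal_mul k hdim hEI hBI hDI (cl_mem hEI)
  have hsub' : (E.support : Set X) ⊆ (B.support : Set X) := by
    by_contra hc
    exact num_sub₂ hLE e1 hEE (form_ideal_nonneg k hdim hB hBI hE hEd hEI hc)
  obtain ⟨B', hB', rfl⟩ := exists_eq_curve_mul k hdim hE hEd hB hsub'
  have hB'I : PicF.IsInvertible (ClSub.idealMod B') := (S8914.result _).2 hB'
  rw [form_ideal_mul k hdim hEI hBI hDI (cl_mem hH), form_ideal_mul k hdim hEI hB'I hBI (cl_mem hH)]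
  have := pairing_nonneg_of_curves k hdim (cl_mem hH) hB' hB'I fun C hC hCd _ =>
    hn.nonneg k (IntLib.isCoh_quotMod C) (lt_of_le_of_lt
      ((Topology.IsEmbedding.inclusion (IntLib.support_quotMod_subset C)).isInducing.topologicalKrullDim_le.trans
        hCd.le) (by exact_mod_cast Nat.lt_succ_self 1))
  exact num_fin this

omit [IsAlgClosed k] [Smooth (X ↘ Spec (CommRingCat.of k))] in
/-- Twisting by a divisor on which there are no sections keeps the sections. -/
theorem finrank_H0_twist_ideal {Z : X.IdealSheafData} {L : X.Modules} (hL : PicF.IsInvertible L)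
    (h : Subsingleton (Coh.HH X (CohB1.tensorMod (ClSub.quotMod Z) L) 0)) :
    Module.finrank k (Coh.HH X (CohB1.tensorMod L (ClSub.idealMod Z)) 0) = Module.finrank k (Coh.HH X L 0) := by
  haveI := Groth.Agent.SerreAff.epi_unitToPush Z.subschemeι
  haveI : Mono (ClSub.idealModι Z) := inferInstanceAs (Mono (kernel.ι _))
  let S : ShortComplex X.Modules := ShortComplex.mk (ClSub.idealModι Z) (ClSub.toSubscheme Z) (kernel.condition _)
  have hS : S.ShortExact := ShortComplex.ShortExact.mk'
    (ShortComplex.exact_of_f_is_kernel _ (kernelIsKernel _)) (inferInstanceAs (Mono (ClSub.idealModι Z)))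
    (inferInstanceAs (Epi (ClSub.toSubscheme Z)))
  have hT := CurveLib.shortExact_tensR hS (CurveLib.freeAt_one_of_isInvertible hL)
  haveI : Subsingleton (Coh.HH X (S.map (CurveLib.tensR L)).X₃ 0) := h
  have hinj := CurveLib.hMap_f_zero_injective (k := k) hT
  have hsur : Function.Surjective (CurveLib.hMap (k := k) (S.map (CurveLib.tensR L)).f 0) := fun y => by
    have : y ∈ LinearMap.range (CurveLib.hMap (k := k) (S.map (CurveLib.tensR L)).f 0) := by
      rw [CurveLib.range_hMap_f (k := k) hT 0]
      exact Subsingleton.elim _ _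
    exact this
  rw [← ShBCLib.finrank_HH_iso (K := k) (AmpleLib.unitL L) 0,
    ShBCLib.finrank_HH_iso (K := k) (AmpleLib.comm L (ClSub.idealMod Z)) 0]
  exact (LinearEquiv.ofBijective _ ⟨hinj, hsur⟩).finrank_eq

/-- No sections on a multiple of a negative curve. -/
theorem subsingleton_H0_quot_pow (hdim : topologicalKrullDim X = 2) {L : X.Modules} (hL : PicF.IsInvertible L)
    {E : X.IdealSheafData} (hE : IsIntegral E.subscheme) (hEd : topologicalKrullDim (E.support : Set X) = 1)
    (hEI : PicF.IsInvertible (ClSub.idealMod E)) (hEE : form k (cl hEI) (cl hEI) = -1) (j : ℕ)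
    (hLE : pairing k (ClSub.quotMod E) (cl hL) + (j : ℤ) ≤ 0) :
    FGA.IsEffCartier (E ^ j) ∧ (∀ hI : PicF.IsInvertible (ClSub.idealMod (E ^ j)),
      pairing k (ClSub.quotMod E) (cl hI) = (j : ℤ)) ∧
      Subsingleton (Coh.HH X (CohB1.tensorMod (ClSub.quotMod (E ^ j)) L) 0) := by
  haveI := EulerIneqLib.isNoetherian_proper (X := X) k
  induction j with
  | zero =>
    rw [pow_zero, Scheme.IdealSheafData.one_eq_top]
    refine ⟨fun y => ?_, fun hI => ?_, ?_⟩
    · obtain ⟨U, hU, hyU, -⟩ := exists_isAffineOpen_mem_and_subset (U := (⊤ : X.Opens)) (x := y) trivial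
      exact ⟨⟨U, hU⟩, hyU, 1, one_mem _, by simp [Ideal.span_singleton_one]⟩
    · have e := form_ideal_mul k hdim hI hI (A := ⊤) (B := ⊤) (by rw [eq_top_of_le_mul]; exact hI) (cl_mem hEI)
      rw [cl_congr _ hI (eqToIso (congrArg ClSub.idealMod (eq_top_of_le_mul ⊤)))] at e
      rw [pairing_quotMod_cl k hEI, Nakai.form_comm]
      omega
    · refine subsingleton_of_forall_eq 0 fun c => ?_
      by_contra hc
      refine CurveLib.secHom_secOf_ne_zero _ hc ((DCohLib.isZero_of_stalks fun x => ?_).eq_of_tgt _ _)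
      haveI : Subsingleton ((ClSub.quotMod (⊤ : X.IdealSheafData)).presheaf.stalk x) := by
        by_contra hns
        simpa using IntLib.support_quotMod_subset (⊤ : X.IdealSheafData) hns
      exact (stalkTensor x (ClSub.quotMod (⊤ : X.IdealSheafData)) L).symm.toEquiv.subsingleton
  | succ j ih =>
    obtain ⟨hEj, hdegj, hj⟩ := ih (by push_cast at hLE; omega)
    have hEc := (S8914.result E).1 hEI
    have hEj1 : FGA.IsEffCartier (E * E ^ j) := BlowCompLib.isEffCartier_mul hEc hEj
    have hjI := (S8914.result (E ^ j)).2 hEj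
    rw [pow_succ']
    refine ⟨hEj1, fun hI => ?_, ?_⟩
    · rw [pairing_quotMod_cl k hEI, Nakai.form_comm, form_ideal_mul k hdim hEI hjI hI (cl_mem hEI)]
      have := hdegj hjI
      rw [pairing_quotMod_cl k hEI, Nakai.form_comm] at this
      push_cast
      omega
    · let φ := qmapL (mul_le_right' E (E ^ j)) L
      have hφ : ∀ x, Function.Surjective (stalkLin φ x) := fun x => by
        obtain ⟨e, he⟩ := ParaFLib.exists_stalk_gen hL x
        exact surjective_qmapL he _
      have hS := kerSeq_shortExact φ hφ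
      have hM := AmpleLib.isInvertible_tensor hjI hL
      have h1 : Subsingleton (Coh.HH X (CohB1.tensorMod (ClSub.quotMod E) (CohB1.tensorMod (ClSub.idealMod (E ^ j)) L)) 0) := by
        haveI : Module.Finite k (Coh.HH X (CohB1.tensorMod (ClSub.quotMod E) (CohB1.tensorMod (ClSub.idealMod (E ^ j)) L)) 0) :=
          EulerIneqLib.finite_HH (k := k) (CurveLib.isCoh_tmod (IntLib.isCoh_quotMod E)
            (CurveLib.isCoh_of_isInvertible hM)) 0
        refine (Module.finrank_zero_iff (R := k)).1 (curve_twist_neg k hE hEd hM ?_)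
        rw [← Nakai.pairing_cl k _ hM, pairing_congr k (z := cl hM) (w := cl hjI + cl hL) (n := 2)
          (by rw [cl_tensor hjI hL, add_sub_cancel_left, pow_two]; exact Ideal.mul_mem_mul (cl_mem _) (cl_mem _))
          (IntLib.isCoh_quotMod E) (lt_of_le_of_lt
            ((Topology.IsEmbedding.inclusion (IntLib.support_quotMod_subset E)).isInducing.topologicalKrullDim_le.trans
              hEd.le) (by exact_mod_cast Nat.lt_succ_self 1)), map_add, hdegj hjI]
        push_cast at hLE
        omega
      haveI : Subsingleton (Coh.HH X (kerSeq φ).X₁ 0) := @ProjCoh.subsingleton_of_iso _ _ _ (peelIso (C := E) (B := E ^ j) hL) 0 h1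
      haveI : Subsingleton (Coh.HH X (kerSeq φ).X₃ 0) := hj
      exact CurveLib.subsingleton_mid hS 0

end Groth.Agent.TwistShriek
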