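import Groth.Agent.TwistShriek.ZGood
import Groth.Agent.TwistShriek.SurfSmooth
import Groth.Agent.TwistShriek.NumCurves
import Groth.Agent.CliffCurveLib.Global

/-!
# Canonical modules, adjunction and ampleness on smooth proper surfaces
-/

set_option autoImplicit false
set_option backward.isDefEq.respectTransparency false
set_option maxHeartbeats 1000000
set_option linter.style.haveILetI false

universe u

open CategoryTheory CategoryTheory.Limits AlgebraicGeometry TopologicalSpace
open Groth.Agent.PullbackMod Groth.Agent.DCohLib Groth.Agent.Nakai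
open Groth.Agent.IntLib (PicRing pairing dif inv')

noncomputable section

namespace Groth.Agent.TwistShriek

variable (k : Type u) [Field k] {X : Scheme.{u}} [X.Over (Spec (CommRingCat.of k))]
  [IsProper (X ↘ Spec (CommRingCat.of k))] [IsIntegral X]

/-- Ampleness on a surface from the square and the curves. -/
theorem isAmple_of_sq_pos (hdim : topologicalKrullDim X = 2) {L : X.Modules} (hL : PicF.IsInvertible L)
    (hsq : 0 < form k (cl hL) (cl hL))
    (hC : ∀ J : X.IdealSheafData, IsIntegral J.subscheme → topologicalKrullDim (J.support : Set X) = 1 →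
      0 < pairing k (ClSub.quotMod J) (cl hL)) : CohB1.IsAmple L := by
  haveI := EulerIneqLib.isNoetherian_proper (X := X) k
  refine isAmple_of_nakaiPos k hL (nakaiPos_of_ideals k hL fun J _ _ _ hJ =>
    topPos_of_pairing k (AmpleLib.isInvertible_pullback J.subschemeι hL) fun d hd0 hdJ => ?_)
  haveI := EulerIneqLib.isNoetherian_proper (X := J.subscheme) k
  rw [← pullRing_cl J.subschemeι hL, ← map_pow, ← pairing_push k J.subschemeι hJ (DevLib.isCoh_structureModule _)]
  have hds : topologicalKrullDim (J.support : Set X) = (d : WithBot ℕ∞) := by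
    rw [← hdJ, J.subschemeι.isEmbedding.toHomeomorph.isHomeomorph.topologicalKrullDim_eq,
      Scheme.IdealSheafData.range_subschemeι]
  show 0 < pairing k (ClSub.quotMod J) (cl hL ^ d)
  have hd2 : d ≤ 2 := by
    have h : topologicalKrullDim (J.support : Set X) ≤ ((2 : ℕ) : WithBot ℕ∞) :=
      Topology.IsInducing.subtypeVal.topologicalKrullDim_le.trans hdim.le
    rw [hds] at h
    exact_mod_cast h
  obtain rfl | rfl : d = 1 ∨ d = 2 := by omega
  · rw [pow_one]
    exact hC J inferInstance (hds.trans Nat.cast_one)
  · have huniv : (J.support : Set X) = Set.univ := by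
      refine Set.eq_univ_of_forall fun x => (genericPoint_specializes x).mem_closed J.support.isClosed ?_
      by_contra hg
      have h : topologicalKrullDim (J.support : Set X) < ((2 : ℕ) : WithBot ℕ∞) :=
        HilbLib.dim_lt_of_notMem (ξ := genericPoint X) J.support.isClosed
          (by rw [(genericPoint_spec X).def]; exact Set.subset_univ _) hg
          (by rw [(genericPoint_spec X).def, (Homeomorph.Set.univ X).isHomeomorph.topologicalKrullDim_eq, hdim]
              exact_mod_cast Nat.lt_succ_self 2)
      rw [hds] at h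
      exact lt_irrefl _ h
    have hbot : J = ⊥ := by
      rw [← radical_eq_self J, ← Scheme.IdealSheafData.vanishingIdeal_support,
        show J.support = ⊤ from SetLike.coe_injective huniv, Scheme.IdealSheafData.vanishingIdeal_top,
        Scheme.nilradical_eq_bot]
    subst hbot
    haveI := CliffCurveLib.isIso_toSubscheme_bot (X := X)
    rw [← IntLib.pairing_iso k (asIso (ClSub.toSubscheme (⊥ : X.IdealSheafData))), pow_two]
    exact hsq

/-- A curve on which a module with a section is negative has negative square. -/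
theorem self_neg_of_section [Smooth (X ↘ Spec (CommRingCat.of k))] (hdim : topologicalKrullDim X = 2) {N : X.Modules}
    (hN : PicF.IsInvertible N) (hs : Nontrivial (Coh.HH X N 0)) {C : X.IdealSheafData}
    (hC : IsIntegral C.subscheme) (hCd : topologicalKrullDim (C.support : Set X) = 1)
    (hCI : PicF.IsInvertible (ClSub.idealMod C)) (hneg : pairing k (ClSub.quotMod C) (cl hN) < 0) :
    form k (cl hCI) (cl hCI) < 0 := by
  obtain ⟨s, hs1, hs2⟩ := exists_curves_of_section k hdim hN hs
  rw [pairing_quotMod_cl k hCI, form_comm, hs2 _ (cl_mem hCI)] at hneg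
  by_contra hnn
  push Not at hnn
  refine absurd hneg (not_lt.2 (neg_nonneg.2 ?_))
  refine (Multiset.sum_le_card_nsmul _ (0 : ℤ) fun z hz => ?_).trans (nsmul_zero _).le
  obtain ⟨J, hJ, rfl⟩ := Multiset.mem_map.1 hz
  have hJI := invertible_curve k hdim J (hs1 J hJ).1 (hs1 J hJ).2
  rw [pairing_quotMod_cl k hJI]
  refine neg_nonpos.2 ?_
  rcases eq_or_ne J C with rfl | hne
  · exact hnn
  · exact form_curves_nonneg k hdim (hs1 J hJ).1 (hs1 J hJ).2 hJI hC hCd hCI hne

variable [Smooth (X ↘ Spec (CommRingCat.of k))]

/-- Duality data of the canonical module of a smooth proper surface. -/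
theorem canonical_data_proper (hdim : topologicalKrullDim X = 2) {W : X.Modules}
    (hW : ExtPow.IsExtPow 2 (Omega.sheaf (X ↘ Spec (CommRingCat.of k))) W) :
    PicF.IsInvertible W ∧
    (∀ L L' : X.Modules, PicF.IsInvertible L → Nonempty (CohB1.tensorMod L L' ≅ Coh.structureModule X) →
      Curv2.euler k X (CohB1.tensorMod W L') = Curv2.euler k X L) ∧
    (∀ (L L' : X.Modules), PicF.IsInvertible L → Nonempty (CohB1.tensorMod L L' ≅ Coh.structureModule X) →
      ∀ j, j ≤ 2 → Module.finrank k (Coh.HH X (CohB1.tensorMod W L') j) = Module.finrank k (Coh.HH X L (2 - j))) := by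
  obtain ⟨H, hH⟩ := exists_ample_of_smooth (k := k) (X := X) hdim
  obtain ⟨n, ι, hι0, hι⟩ := exists_closedImmersion_of_ample (X ↘ Spec (CommRingCat.of k)) hH
  haveI := hι0
  haveI : SmoothOfRelativeDimension 2 (X ↘ Spec (CommRingCat.of k)) :=
    smoothOfRelativeDimension_of_smooth (X ↘ Spec (CommRingCat.of k)) hdim
  exact canonical_data ι hι hW

/-- Adjunction for a curve. -/
theorem form_adjunction (hdim : topologicalKrullDim X = 2) {W : X.Modules}
    (hW : ExtPow.IsExtPow 2 (Omega.sheaf (X ↘ Spec (CommRingCat.of k))) W) (hWi : PicF.IsInvertible W)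
    {J : X.IdealSheafData} (hI : PicF.IsInvertible (ClSub.idealMod J)) :
    form k (cl hI) (cl hI) - form k (cl hI) (cl hWi) = -2 * Curv2.euler k X (ClSub.quotMod J) := by
  obtain ⟨-, hd, -⟩ := canonical_data_proper k hdim hW
  have h1 := two_mul_euler_of_duality k hdim.le hWi hd hI
  rw [intNum_eq_form k hdim.le hI hI, intNum_eq_form k hdim.le hI hWi] at h1
  have h2 := IntLib.pairing_quotMod k hI 1
  rw [mul_one, IntLib.pairing_one, IntLib.pairing_dif] at h2
  have h4 := CurveLib.euler_iso (K := k) (AmpleLib.unitL (ClSub.idealMod J))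
  linarith

omit [Smooth (X ↘ Spec (CommRingCat.of k))] [IsIntegral X] in
/-- The degree of the normal sheaf is the square. -/
theorem normal_degree (hdim : topologicalKrullDim X = 2) {E : X.IdealSheafData} (hI : PicF.IsInvertible (ClSub.idealMod E))
    {N : X.Modules} (hN : ClSub.IsInverseOf N (ClSub.idealMod E)) :
    Curv2.euler k X (CohB1.tensorMod (ClSub.quotMod E) N) - Curv2.euler k X (ClSub.quotMod E) =
      form k (cl hI) (cl hI) := by
  obtain ⟨eN⟩ := hN
  have hNi : PicF.IsInvertible N := AmpleLib.isInvertible_of_tensor_iso eN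
  rw [← pairing_cl k _ hNi, pairing_quotMod_cl k hI]
  have hm : cl hI - dif hNi ∈ Aug X ^ 2 := cl_mul_inverse_mem hI hNi (AmpleLib.comm _ _ ≪≫ eN)
  rw [form_comm k (cl hI) (cl hI), form_congr k hdim hm (cl_mem hI), form_comm k (cl hI)]
  rw [show cl hNi = -dif hNi from cl_eq_neg_dif hNi, form, form, neg_mul, map_neg, neg_neg]

omit [Smooth (X ↘ Spec (CommRingCat.of k))] [IsIntegral X] in
/-- The Euler characteristic of an integral curve. -/
theorem euler_curve_eq [IsAlgClosed k] {E : X.IdealSheafData} (hE : IsIntegral E.subscheme)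
    (hEd : topologicalKrullDim (E.support : Set X) = 1) :
    Curv2.euler k X (ClSub.quotMod E) = 1 - (Module.finrank k (Coh.HH X (ClSub.quotMod E) 1) : ℤ) ∧
      (Subsingleton (Coh.HH E.subscheme (Coh.structureModule E.subscheme) 1) ↔
        Module.finrank k (Coh.HH X (ClSub.quotMod E) 1) = 0) := by
  haveI := EulerIneqLib.isNoetherian_proper (X := X) k
  haveI := hE
  letI : E.subscheme.Over (Spec (CommRingCat.of k)) := ⟨E.subschemeι ≫ (X ↘ Spec (CommRingCat.of k))⟩
  haveI : IsProper (E.subscheme ↘ Spec (CommRingCat.of k)) :=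
    (inferInstanceAs (IsProper (E.subschemeι ≫ (X ↘ Spec (CommRingCat.of k)))))
  haveI := EulerIneqLib.isNoetherian_proper (X := E.subscheme) k
  have hd : topologicalKrullDim E.subscheme = 1 := by
    rw [← hEd, ← Scheme.IdealSheafData.range_subschemeι]
    exact (E.subschemeι.isEmbedding.toHomeomorph).isHomeomorph.topologicalKrullDim_eq
  haveI : Coh.IsQCoh (Coh.structureModule E.subscheme) := (DevLib.isCoh_structureModule E.subscheme).1
  have h1 : Module.finrank k (Coh.HH X (ClSub.quotMod E) 1) =
      Module.finrank k (Coh.HH E.subscheme (Coh.structureModule E.subscheme) 1) :=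
    IntLib.finrank_push k E.subschemeι rfl (Coh.structureModule E.subscheme) 1
  have h0 : Curv2.euler k X (ClSub.quotMod E) = Curv2.euler k E.subscheme (Coh.structureModule E.subscheme) :=
    IntLib.euler_push k E.subschemeι rfl (Coh.structureModule E.subscheme)
  have hs := CurveLib.euler_eq_sum (K := k) (Coh.structureModule E.subscheme) 2 fun p hp =>
    CurveLib.subsingleton_HH_of_dim (Coh.structureModule E.subscheme) (d := 1) hd.le (by omega)
  have hC0 : Module.finrank k (Coh.HH E.subscheme (Coh.structureModule E.subscheme) 0) = 1 := CurveLib.finrank_H0_structure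
  simp only [Finset.sum_range_succ, Finset.sum_range_zero, zero_add, pow_zero, pow_one, hC0] at hs
  refine ⟨by rw [h0, h1, hs]; push_cast; ring, ?_⟩
  rw [h1]
  haveI : Module.Finite k (Coh.HH E.subscheme (Coh.structureModule E.subscheme) 1) :=
    EulerIneqLib.finite_HH (k := k) (DevLib.isCoh_structureModule E.subscheme) 1
  exact ⟨fun h => haveI := h; Module.finrank_zero_of_subsingleton, fun h => Module.finrank_zero_iff.1 h⟩

end Groth.Agent.TwistShriek
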