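import Groth.Agent.TwistShriek.SurfNC
import Groth.Agent.TwistShriek.SurfCan
import Groth.Agent.CurveLib.DegTensor
import Groth.Agent.ExtPowLib.Exist
import Groth.Agent.InfLiftLib.Smooth

/-!
# First cohomology of effective divisors
-/

set_option autoImplicit false
set_option backward.isDefEq.respectTransparency false
set_option linter.style.haveILetI false
set_option maxHeartbeats 800000

universe u

open CategoryTheory CategoryTheory.Limits AlgebraicGeometry TopologicalSpace
open Groth.Agent.PullbackMod Groth.Agent.DCohLib Groth.Agent.Nakai Groth.Agent.H1ZeroLib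
open Groth.Agent.IntLib (PicRing pairing)

noncomputable section

namespace Groth.Agent.TwistShriek

theorem num_h1 (a b c d : ℤ) (h1 : 1 ≤ d) (h2 : -c < -1) (h3 : a - b = -2 * d) (h5 : d ≤ 1) :
    0 ≤ -b - -(a + c) := by omega

theorem num_h1' (a b d : ℤ) (h1 : a - b = -2 * d) (h2 : b - a ≤ 0) (h3 : 1 ≤ d) : False := by omega

theorem num_h1'' {p q r e f : ℤ} (h1 : -1 ≤ p) (h2 : 0 ≤ q) (h3 : r = p + q) (h4 : r = e - f) : -1 ≤ e - f := by omega

theorem support_LJ_subset {X : Scheme.{u}} (J : X.IdealSheafData) {L : X.Modules} :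
    CohB1.support (LJ J L) ⊆ J.support := fun x hx => by
  by_contra hn
  refine hx ?_
  haveI : Subsingleton ((ClSub.quotMod J).presheaf.stalk x) :=
    not_not.1 fun h => hn (IntLib.support_quotMod_subset J h)
  haveI : Subsingleton (TensorProduct (X.presheaf.stalk x) ((ClSub.quotMod J).presheaf.stalk x) (L.presheaf.stalk x)) := inferInstance
  exact (stalkTensor x (ClSub.quotMod J) L).surjective.subsingleton

variable (k : Type u) [Field k] [IsAlgClosed k] {X : Scheme.{u}} [X.Over (Spec (CommRingCat.of k))]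
  [IsProper (X ↘ Spec (CommRingCat.of k))]

omit [IsAlgClosed k] in
theorem subsingleton_H1_iff_of_coh {M : X.Modules} (hM : Coh.IsCoh M) :
    Subsingleton (Coh.HH X M 1) ↔ Module.finrank k (Coh.HH X M 1) = 0 := by
  haveI := EulerIneqLib.isNoetherian_proper (X := X) k
  haveI := EulerIneqLib.finite_HH (k := k) hM 1
  exact Module.finrank_zero_iff.symm

/-- No first cohomology in degree at least `-1` on a rational curve. -/
theorem curve_H1 {C : X.IdealSheafData} (hC : IsIntegral C.subscheme)
    (hCd : topologicalKrullDim (C.support : Set X) = 1) (hg : Subsingleton (Coh.HH X (ClSub.quotMod C) 1))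
    {M : X.Modules} (hM : PicF.IsInvertible M)
    (hdeg : -1 ≤ Curv2.euler k X (CohB1.tensorMod (ClSub.quotMod C) M) - Curv2.euler k X (ClSub.quotMod C)) :
    Subsingleton (Coh.HH X (CohB1.tensorMod (ClSub.quotMod C) M) 1) := by
  haveI := EulerIneqLib.isNoetherian_proper (X := X) k
  refine (subsingleton_H1_iff_of_coh k (M := CohB1.tensorMod (ClSub.quotMod C) M)
    (CliffCurveLib.isCoh_LJ (X := X) hM C)).2 ?_
  rw [subsingleton_H1_iff_of_coh k (IntLib.isCoh_quotMod C)] at hg
  haveI := hC
  letI : C.subscheme.Over (Spec (CommRingCat.of k)) := ⟨C.subschemeι ≫ (X ↘ Spec (CommRingCat.of k))⟩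
  haveI : IsProper (C.subscheme ↘ Spec (CommRingCat.of k)) :=
    (inferInstanceAs (IsProper (C.subschemeι ≫ (X ↘ Spec (CommRingCat.of k)))))
  haveI := EulerIneqLib.isNoetherian_proper (X := C.subscheme) k
  have hd : topologicalKrullDim C.subscheme ≤ 1 := by
    rw [← hCd, ← Scheme.IdealSheafData.range_subschemeι]
    exact ((C.subschemeι.isEmbedding.toHomeomorph).isHomeomorph.topologicalKrullDim_eq).le
  let M' := (Scheme.Modules.pullback C.subschemeι).obj M
  have hM' : PicF.IsInvertible M' := AmpleLib.isInvertible_pullback _ hM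
  haveI : Coh.IsQCoh M' := (CurveLib.isCoh_of_isInvertible hM').1
  let e : CohB1.tensorMod (ClSub.quotMod C) M ≅ (Scheme.Modules.pushforward C.subschemeι).obj M' :=
    projIso C.subschemeι (Coh.structureModule C.subscheme) M ≪≫
      (Scheme.Modules.pushforward C.subschemeι).mapIso (CurveLib.tmodUnit M')
  haveI : Coh.IsQCoh (Coh.structureModule C.subscheme) := (DevLib.isCoh_structureModule C.subscheme).1
  have hi : ∀ i, Module.finrank k (Coh.HH X (CohB1.tensorMod (ClSub.quotMod C) M) i) =
      Module.finrank k (Coh.HH C.subscheme M' i) := fun i =>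
    (ShBCLib.finrank_HH_iso (K := k) e i).trans (IntLib.finrank_push k C.subschemeι rfl M' i)
  have he : Curv2.euler k X (CohB1.tensorMod (ClSub.quotMod C) M) = Curv2.euler k C.subscheme M' :=
    (CurveLib.euler_iso (K := k) e).trans (IntLib.euler_push k C.subschemeι rfl M')
  have heO : Curv2.euler k X (ClSub.quotMod C) = Curv2.euler k C.subscheme (Coh.structureModule C.subscheme) :=
    IntLib.euler_push k C.subschemeι rfl (Coh.structureModule C.subscheme)
  have hgC : Curv2.genus k C.subscheme = 0 :=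
    (IntLib.finrank_push k C.subschemeι rfl (Coh.structureModule C.subscheme) 1).symm.trans hg
  have h0 : Module.finrank k (Coh.HH C.subscheme (Coh.structureModule C.subscheme) 0) = 1 := CurveLib.finrank_H0_structure
  rw [hi 1]
  rcases Int.lt_or_le (Curv2.euler k X (CohB1.tensorMod (ClSub.quotMod C) M) - Curv2.euler k X (ClSub.quotMod C)) 0 with hneg | hnn
  · have hz := curve_twist_neg k hC hCd hM hneg
    rw [hi 0] at hz
    have hs := CurveLib.euler_eq_sub (k := k) (M := M') hd
    have hsO := CurveLib.euler_eq_sub (k := k) (M := Coh.structureModule C.subscheme) hd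
    rw [h0, show Module.finrank k (Coh.HH C.subscheme (Coh.structureModule C.subscheme) 1) = 0 from hgC] at hsO
    rw [he, heO] at hneg hdeg
    omega
  · obtain ⟨d, hd'⟩ := Int.eq_ofNat_of_zero_le hnn
    rw [he, heO] at hd'
    haveI := (CurveLib.genus_zero_sections (k := k) hd h0 hgC hM' (d := d) (by
      unfold Curv2.deg; rw [Nat.cast_one, one_mul]; exact hd')).2
    exact Module.finrank_zero_of_subsingleton

omit [IsAlgClosed k] in
/-- The Euler characteristic of a divisor has two terms. -/
theorem euler_divisor {Z : X.IdealSheafData} (hZd : topologicalKrullDim (Z.support : Set X) ≤ 1) :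
    Curv2.euler k X (ClSub.quotMod Z) =
      (Module.finrank k (Coh.HH X (ClSub.quotMod Z) 0) : ℤ) - Module.finrank k (Coh.HH X (ClSub.quotMod Z) 1) := by
  haveI := EulerIneqLib.isNoetherian_proper (X := X) k
  rw [CurveLib.euler_eq_sum (K := k) (ClSub.quotMod Z) 2 fun p hp =>
    CurveLib.subsingleton_HH_of_support _ Z.support.isClosed (IntLib.support_quotMod_subset Z) (d := 1)
      (by exact_mod_cast hZd) hp]
  simp [Finset.sum_range_succ]
  ring

omit [IsAlgClosed k] in
theorem h0_pos_divisor {Z : X.IdealSheafData} (hne : Z ≠ ⊤) :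
    0 < Module.finrank k (Coh.HH X (ClSub.quotMod Z) 0) := by
  haveI := EulerIneqLib.isNoetherian_proper (X := X) k
  refine finrank_pos_of_hom k (IntLib.isCoh_quotMod Z) (σ := ClSub.toSubscheme Z) fun hz => hne <|
    (Scheme.IdealSheafData.support_eq_bot_iff Z).1
      (SetLike.coe_injective (Set.eq_empty_iff_forall_notMem.2 fun x hx => ?_))
  have h1 : qv Z x 1 = 0 := by rw [qv, hz, DevLib.stalkLin_zero, LinearMap.zero_apply]
  exact (IsLocalRing.maximalIdeal.isMaximal (X.presheaf.stalk x)).ne_top
    ((Ideal.eq_top_iff_one _).2 (stalkIdeal_le_maximal hx ((qv_eq_zero_iff Z x 1).1 h1)))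

omit [IsAlgClosed k] in
/-- `O_{CB}` is an extension of `O_B` by `O_C ⊗ I_B`. -/
theorem peel_quot {C B : X.IdealSheafData} (hBI : PicF.IsInvertible (ClSub.idealMod B)) :
    Curv2.euler k X (ClSub.quotMod (C * B)) = Curv2.euler k X (ClSub.quotMod B) +
        Curv2.euler k X (CohB1.tensorMod (ClSub.quotMod C) (ClSub.idealMod B)) ∧
      (Subsingleton (Coh.HH X (CohB1.tensorMod (ClSub.quotMod C) (ClSub.idealMod B)) 1) →
        Subsingleton (Coh.HH X (ClSub.quotMod B) 1) → Subsingleton (Coh.HH X (ClSub.quotMod (C * B)) 1)) := by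
  haveI := EulerIneqLib.isNoetherian_proper (X := X) k
  have hO := ParaFLib.isInvertible_structureModule (X := X)
  let φ := qmapL (mul_le_right' C B) (Coh.structureModule X)
  have hφ : ∀ x, Function.Surjective (stalkLin φ x) := fun x => by
    obtain ⟨e, he⟩ := ParaFLib.exists_stalk_gen hO x
    exact surjective_qmapL he _
  have hS := kerSeq_shortExact φ hφ
  let eK : kernel φ ≅ CohB1.tensorMod (ClSub.quotMod C) (ClSub.idealMod B) :=
    (peelIso (C := C) (B := B) hO).symm ≪≫
      AmpleLib.tIso (Iso.refl (ClSub.quotMod C)) (AmpleLib.unitR (ClSub.idealMod B))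
  let e2 : LJ (C * B) (Coh.structureModule X) ≅ ClSub.quotMod (C * B) := AmpleLib.unitR _
  let e3 : LJ B (Coh.structureModule X) ≅ ClSub.quotMod B := AmpleLib.unitR _
  have hc := (QCohLib.isCoh_kernel_cokernel φ (CliffCurveLib.isCoh_LJ hO _) (CliffCurveLib.isCoh_LJ hO _)).1
  refine ⟨?_, fun h1 h3 => ?_⟩
  · have h := CurveLib.euler_shortExact (K := k) hS hc (CliffCurveLib.isCoh_LJ hO _) (CliffCurveLib.isCoh_LJ hO _)
    change Curv2.euler k X (LJ (C * B) (Coh.structureModule X)) =
      Curv2.euler k X (kernel φ) + Curv2.euler k X (LJ B (Coh.structureModule X)) at h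
    rw [CurveLib.euler_iso (K := k) e2, CurveLib.euler_iso (K := k) e3, CurveLib.euler_iso (K := k) eK] at h
    rw [h]; ring
  · haveI := h1
    haveI := h3
    haveI : Subsingleton (Coh.HH X (kerSeq φ).X₁ 1) := ProjCoh.subsingleton_of_iso eK.symm 1
    haveI : Subsingleton (Coh.HH X (kerSeq φ).X₃ 1) := ProjCoh.subsingleton_of_iso e3.symm 1
    haveI : Subsingleton (Coh.HH X (LJ (C * B) (Coh.structureModule X)) 1) := CurveLib.subsingleton_mid hS 1
    exact ProjCoh.subsingleton_of_iso e2 1

omit [IsAlgClosed k] [X.Over (Spec (CommRingCat.of k))] [IsProper (X ↘ Spec (CommRingCat.of k))] in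
theorem dim_top_support : topologicalKrullDim (((⊤ : X.IdealSheafData).support : Closeds X) : Set X) = ⊥ := by
  haveI : IsEmpty ↥(((⊤ : X.IdealSheafData).support : Closeds X) : Set X) :=
    ⟨fun x => (Set.ext_iff.1 (congrArg (fun S : Closeds X => (S : Set X)) Scheme.IdealSheafData.support_top) x.1).1 x.2⟩
  haveI : IsEmpty (IrreducibleCloseds ↥(((⊤ : X.IdealSheafData).support : Closeds X) : Set X)) :=
    ⟨fun Z => isEmptyElim Z.isIrreducible.nonempty.some⟩
  exact Order.krullDim_eq_bot

omit [Field k] [IsAlgClosed k] [X.Over (Spec (CommRingCat.of k))] [IsProper (X ↘ Spec (CommRingCat.of k))] in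
/-- `O_{CB} ⊗ L` is an extension of `O_B ⊗ L` by `O_C ⊗ I_B ⊗ L`. -/
theorem peel_twist {C B : X.IdealSheafData} {L : X.Modules} (hL : PicF.IsInvertible L)
    (h1 : Subsingleton (Coh.HH X (CohB1.tensorMod (ClSub.quotMod C) (CohB1.tensorMod (ClSub.idealMod B) L)) 1))
    (h3 : Subsingleton (Coh.HH X (CohB1.tensorMod (ClSub.quotMod B) L) 1)) :
    Subsingleton (Coh.HH X (CohB1.tensorMod (ClSub.quotMod (C * B)) L) 1) := by
  let φ := qmapL (mul_le_right' C B) L
  have hφ : ∀ x, Function.Surjective (stalkLin φ x) := fun x => by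
    obtain ⟨e, he⟩ := ParaFLib.exists_stalk_gen hL x
    exact surjective_qmapL he _
  have hS := kerSeq_shortExact φ hφ
  haveI : Subsingleton (Coh.HH X (kerSeq φ).X₁ 1) := @ProjCoh.subsingleton_of_iso _ _ _ (peelIso (C := C) (B := B) hL) 1 h1
  haveI : Subsingleton (Coh.HH X (kerSeq φ).X₃ 1) := h3
  exact CurveLib.subsingleton_mid hS 1

variable [IsIntegral X] [Smooth (X ↘ Spec (CommRingCat.of k))]

/-- Artin's criterion, for twists non-negative on every curve. -/
theorem subsingleton_H1_of_euler_twist (hdim : topologicalKrullDim X = 2) {W : X.Modules}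
    (hW : ExtPow.IsExtPow 2 (Omega.sheaf (X ↘ Spec (CommRingCat.of k))) W) (hWi : PicF.IsInvertible W)
    {Z : X.IdealSheafData} (hZ : FGA.IsEffCartier Z)
    (h : ∀ Z' J : X.IdealSheafData, FGA.IsEffCartier Z' → FGA.IsEffCartier J → Z' ≠ ⊤ → Z = Z' * J →
      1 ≤ Curv2.euler k X (ClSub.quotMod Z')) {L : X.Modules} (hL : PicF.IsInvertible L)
    (hdeg' : ∀ C : X.IdealSheafData, IsIntegral C.subscheme → topologicalKrullDim (C.support : Set X) = 1 → Z ≤ C →
      0 ≤ Curv2.euler k X (CohB1.tensorMod (ClSub.quotMod C) L) - Curv2.euler k X (ClSub.quotMod C)) :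
    Subsingleton (Coh.HH X (CohB1.tensorMod (ClSub.quotMod Z) L) 1) := by
  haveI := EulerIneqLib.isNoetherian_proper (X := X) k
  obtain ⟨H, hH⟩ := exists_ample_of_smooth (k := k) (X := X) hdim
  induction hn : (form k (cl ((S8914.result Z).2 hZ)) (cl hH.1)).natAbs using Nat.strong_induction_on generalizing Z with
  | _ n ih =>
    by_cases hne : Z = ⊤
    · subst hne
      exact CurveLib.subsingleton_HH_of_support _ (⊤ : X.IdealSheafData).support.isClosed
        (support_LJ_subset ⊤) (d := 0) (by rw [dim_top_support]; exact bot_le) one_pos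
    have hZI : PicF.IsInvertible (ClSub.idealMod Z) := (S8914.result Z).2 hZ
    have hcurve : ∀ C B : X.IdealSheafData, IsIntegral C.subscheme → topologicalKrullDim (C.support : Set X) = 1 →
        FGA.IsEffCartier B → Z = C * B → 1 ≤ Curv2.euler k X (ClSub.quotMod C) := fun C B hC hCd hB hZB =>
      h C B ((S8914.result _).1 (invertible_curve k hdim C hC hCd)) hB (by
        rintro rfl
        rw [dim_top_support] at hCd
        exact WithBot.bot_ne_one hCd) hZB
    by_cases hex : ∃ (C B : X.IdealSheafData) (hBI : PicF.IsInvertible (ClSub.idealMod B)), IsIntegral C.subscheme ∧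
        topologicalKrullDim (C.support : Set X) = 1 ∧ Z = C * B ∧ -1 ≤ pairing k (ClSub.quotMod C) (cl hBI)
    · obtain ⟨C, B, hBI, hC, hCd, rfl, hdeg⟩ := hex
      have hB : FGA.IsEffCartier B := (S8914.result _).1 hBI
      have hg : Subsingleton (Coh.HH X (ClSub.quotMod C) 1) := by
        rw [subsingleton_H1_iff_of_coh k (IntLib.isCoh_quotMod C)]
        have h1 := hcurve C B hC hCd hB rfl
        rw [(euler_curve_eq k hC hCd).1] at h1
        omega
      have hM := AmpleLib.isInvertible_tensor hBI hL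
      have hdL := hdeg' C hC hCd (mul_le_left' C B)
      rw [← Nakai.pairing_cl k (ClSub.quotMod C) hL] at hdL
      have hsum : pairing k (ClSub.quotMod C) (cl hM) = pairing k (ClSub.quotMod C) (cl hBI) + pairing k (ClSub.quotMod C) (cl hL) := by
        have hCI := invertible_curve k hdim C hC hCd
        have h2 := form_congr k hdim (u := cl hM) (w := cl hBI + cl hL) (by
          rw [cl_tensor hBI hL, add_sub_cancel_left, pow_two]
          exact Ideal.mul_mem_mul (cl_mem _) (cl_mem _)) (cl_mem hCI)
        rw [form_add_left, form_comm k (cl hM), form_comm k (cl hBI), form_comm k (cl hL)] at h2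
        rw [pairing_quotMod_cl k hCI, pairing_quotMod_cl k hCI, pairing_quotMod_cl k hCI, h2]
        ring
      have hdM := Nakai.pairing_cl k (ClSub.quotMod C) hM
      refine peel_twist hL (curve_H1 k hC hCd hg hM (num_h1'' hdeg hdL hsum hdM))
        (ih _ (hn ▸ natAbs_lt k hdim hH hC hCd hB hBI _) hB (fun Z' J hZ' hJ hZ'ne hBJ => ?_)
          (fun D hD hDd hle => hdeg' D hD hDd ((mul_le_right' C B).trans hle)) rfl)
      refine h Z' (C * J) hZ' (BlowCompLib.isEffCartier_mul ((S8914.result _).1 (invertible_curve k hdim C hC hCd)) hJ) hZ'ne ?_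
      rw [hBJ]
      ext U : 2
      simp only [Scheme.IdealSheafData.ideal_mul, Pi.mul_apply]
      ring
    exfalso
    push Not at hex
    have hadj := form_adjunction k hdim hW hWi hZI
    have hpos := h Z ⊤ hZ (fun y => ?_) hne (by
      ext U : 2
      rw [Scheme.IdealSheafData.ideal_mul, Pi.mul_apply, Scheme.IdealSheafData.ideal_top, Pi.top_apply, Ideal.mul_top])
    swap
    · obtain ⟨_, ⟨U : X.Opens, hU, rfl⟩, hyU, -⟩ :=
        X.isBasis_affineOpens.exists_subset_of_mem_open (Set.mem_univ y) isOpen_univ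
      exact ⟨⟨U, hU⟩, hyU, 1, one_mem _, by rw [Scheme.IdealSheafData.ideal_top, Pi.top_apply, Ideal.span_singleton_one]⟩
    have hzmem : cl hWi - cl hZI ∈ Aug X := sub_mem (cl_mem _) (cl_mem _)
    have key : form k (cl hZI) (cl hWi - cl hZI) ≤ 0 := by
      refine pairing_nonneg_of_curves k hdim hzmem hZ hZI fun C hC hCd hCs => ?_
      obtain ⟨B, hB, hZB⟩ := exists_eq_curve_mul k hdim hC hCd hZ hCs
      have hCI := invertible_curve k hdim C hC hCd
      have hBI : PicF.IsInvertible (ClSub.idealMod B) := (S8914.result _).2 hB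
      have h1 := hcurve C B hC hCd hB hZB
      have h2 := hex C B hBI hC hCd hZB
      rw [pairing_quotMod_cl k hCI] at h2
      subst hZB
      have h3 := form_adjunction k hdim hW hWi hCI
      have h4 := form_ideal_mul k hdim hCI hBI hZI (z := cl hCI) (cl_mem _)
      rw [form_comm k (cl hBI) (cl hCI)] at h4
      rw [map_sub, pairing_quotMod_cl k hCI, pairing_quotMod_cl k hCI, form_comm k (cl hCI) (cl hZI), h4]
      have h5 : Curv2.euler k X (ClSub.quotMod C) ≤ 1 := by
        rw [(euler_curve_eq k hC hCd).1]; omega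
      exact num_h1 _ _ _ _ h1 h2 h3 h5
    rw [show form k (cl hZI) (cl hWi - cl hZI) = form k (cl hZI) (cl hWi) - form k (cl hZI) (cl hZI) by
      rw [sub_eq_add_neg, form_add_right, ← neg_one_zsmul, form_smul_right]; ring] at key
    exact num_h1' _ _ _ hadj key hpos

/-- Artin's criterion: vanishing of `H¹` on all sub-divisors. -/
theorem subsingleton_H1_of_euler (hdim : topologicalKrullDim X = 2) {W : X.Modules}
    (hW : ExtPow.IsExtPow 2 (Omega.sheaf (X ↘ Spec (CommRingCat.of k))) W) (hWi : PicF.IsInvertible W)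
    {Z : X.IdealSheafData} (hZ : FGA.IsEffCartier Z)
    (h : ∀ Z' J : X.IdealSheafData, FGA.IsEffCartier Z' → FGA.IsEffCartier J → Z' ≠ ⊤ → Z = Z' * J →
      1 ≤ Curv2.euler k X (ClSub.quotMod Z')) :
    Subsingleton (Coh.HH X (ClSub.quotMod Z) 1) := by
  haveI := subsingleton_H1_of_euler_twist k hdim hW hWi hZ h ParaFLib.isInvertible_structureModule fun C _ _ _ => by
    rw [CurveLib.euler_iso (K := k) (AmpleLib.unitR (ClSub.quotMod C)), sub_self]
  exact ProjCoh.subsingleton_of_iso (AmpleLib.unitR (ClSub.quotMod Z)) 1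

end Groth.Agent.TwistShriek

namespace Groth.Agent.TwistShriek

variable (k : Type u) [Field k] {X : Scheme.{u}} [X.Over (Spec (CommRingCat.of k))]
  [IsProper (X ↘ Spec (CommRingCat.of k))] [IsIntegral X] [Smooth (X ↘ Spec (CommRingCat.of k))]

omit [IsIntegral X] in
include k in
/-- A smooth surface has a second exterior power of its differentials. -/
theorem exists_canonical_proper : ∃ W : X.Modules, ExtPow.IsExtPow 2 (Omega.sheaf (X ↘ Spec (CommRingCat.of k))) W := by
  haveI := EulerIneqLib.isNoetherian_proper (X := X) k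
  have hE := InfLiftLib.isFinLocFree_omega (X ↘ Spec (CommRingCat.of k))
  haveI := (PullbackMod.isQCoh_and_isFP_of_isFinLocFree _ hE).1
  obtain ⟨W, -, hW⟩ := ExtPowLib.exists_isExtPow (Omega.sheaf (X ↘ Spec (CommRingCat.of k))) 2
  exact ⟨W, hW⟩

include k in
/-- A divisor supported on finitely many curves is a combination of them. -/
theorem exists_coeffs (hdim : topologicalKrullDim X = 2) {r : ℕ} (C : Fin r → X.IdealSheafData)
    (hCi : ∀ i, IsIntegral (C i).subscheme) (hCd : ∀ i, topologicalKrullDim ((C i).support : Set X) = 1)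
    {Z : X.IdealSheafData} (hZ : FGA.IsEffCartier Z) (hZI : PicF.IsInvertible (ClSub.idealMod Z))
    (hZs : (Z.support : Set X) ⊆ ⋃ i, ((C i).support : Set X)) :
    ∃ a : Fin r → ℤ, (∀ i, 0 ≤ a i) ∧ (Z ≠ ⊤ → a ≠ 0) ∧
      ∀ z ∈ Aug X, form k (cl hZI) z = ∑ i, a i * form k (cl (invertible_curve k hdim (C i) (hCi i) (hCd i))) z := by
  classical
  obtain ⟨H, hH⟩ := exists_ample_of_smooth (k := k) (X := X) hdim
  induction hn : (form k (cl hZI) (cl hH.1)).natAbs using Nat.strong_induction_on generalizing Z with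
  | _ n ih =>
    by_cases hne : Z = ⊤
    · subst hne
      refine ⟨0, fun _ => le_rfl, fun h => absurd rfl h, fun z hz => ?_⟩
      have e := form_ideal_mul k hdim hZI hZI (A := ⊤) (B := ⊤) (by rw [eq_top_of_le_mul]; exact hZI) hz
      rw [show cl (show PicF.IsInvertible (ClSub.idealMod (⊤ * ⊤ : X.IdealSheafData)) by
        rw [eq_top_of_le_mul]; exact hZI) = cl hZI from by congr 1 <;> rw [eq_top_of_le_mul]] at e
      simp only [Pi.zero_apply, zero_mul, Finset.sum_const_zero]
      linarith
    obtain ⟨D, hD, hDd, hDs⟩ := exists_curve_in k hdim hZ hne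
    obtain ⟨Z', hZ', rfl⟩ := exists_eq_curve_mul k hdim hD hDd hZ hDs
    haveI := hD
    obtain ⟨i, hi⟩ : ∃ i, D = C i := by
      obtain ⟨i, hi⟩ := Set.mem_iUnion.1 (hZs (hDs (show D.subschemeι (genericPoint D.subscheme) ∈ (D.support : Set X) by
        rw [← Scheme.IdealSheafData.range_subschemeι]; exact Set.mem_range_self _)))
      have hsub : (D.support : Set X) ⊆ ((C i).support : Set X) := by
        rw [← Scheme.IdealSheafData.range_subschemeι, ← Set.image_univ, ← genericPoint_closure,
          ← D.subschemeι.isClosedEmbedding.closure_image_eq, Set.image_singleton]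
        exact closure_minimal (Set.singleton_subset_iff.2 hi) (C i).support.isClosed
      refine ⟨i, ideal_eq_of_support hD (hCi i) (Set.Subset.antisymm hsub ?_)⟩
      by_contra hn'
      have h := dim_inter_curve (hCi i) (hCd i) D.support.isClosed hn'
      rw [Set.inter_eq_left.2 hsub, hDd] at h
      exact absurd h (by norm_num)
    have hZ'I : PicF.IsInvertible (ClSub.idealMod Z') := (S8914.result _).2 hZ'
    obtain ⟨a, ha, -, he⟩ := ih _ (hn ▸ natAbs_lt k hdim hH hD hDd hZ' hZ'I hZI) hZ' hZ'I
      (fun x hx => hZs (by rw [Scheme.IdealSheafData.support_mul]; exact Or.inr hx)) rfl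
    subst hi
    refine ⟨a + Pi.single i 1, fun j => add_nonneg (ha j) ?_, fun _ h => ?_, fun z hz => ?_⟩
    · by_cases hj : j = i
      · subst hj; rw [Pi.single_eq_same]; exact zero_le_one
      · rw [Pi.single_eq_of_ne hj]
    · have h2 := congrFun h i
      rw [Pi.add_apply, Pi.single_eq_same, Pi.zero_apply] at h2
      have := ha i
      omega
    · rw [form_ideal_mul k hdim (invertible_curve k hdim (C i) hD hDd) hZ'I hZI hz, he z hz]
      simp only [Pi.add_apply, add_mul, Finset.sum_add_distrib]
      simp only [Pi.single_apply, ite_mul, one_mul, zero_mul, Finset.sum_ite_eq', Finset.mem_univ, if_true]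
      ring

end Groth.Agent.TwistShriek
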