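import Groth.Agent.TwistShriek.PointChart
import Groth.Agent.CurveP1Lib.PointIdeal
import Groth.Agent.RegLocal.Basic
import Groth.Agent.HilbertRegLib.Basic

/-!
# Parameters at a regular closed point of a surface
-/

set_option autoImplicit false
set_option backward.isDefEq.respectTransparency false
set_option maxHeartbeats 800000

universe u

open CategoryTheory AlgebraicGeometry TopologicalSpace

namespace Groth.Agent.TwistShriek

/-- Parameters at a regular closed point. -/
structure PointParams {X : Scheme.{u}} {x : X} (hx : IsClosed ({x} : Set X)) where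
  U : X.affineOpens
  f : Fin 2 → Γ(X, U.1)
  mem : x ∈ U.1
  isDomain : IsDomain Γ(X, U.1)
  ne_zero : ∀ i, f i ≠ 0
  span_eq : (Scheme.IdealSheafData.vanishingIdeal (⟨{x}, hx⟩ : Closeds X)).ideal U = Ideal.span (Set.range f)
  quasiRegular : CAlgX.IsQuasiRegular f
  isMaximal : ((Scheme.IdealSheafData.vanishingIdeal (⟨{x}, hx⟩ : Closeds X)).ideal U).IsMaximal

theorem ideal_point_isMaximal {X : Scheme.{u}} {x : X} (hx : IsClosed ({x} : Set X)) (U : X.affineOpens)
    (hxU : x ∈ U.1) :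
    ((Scheme.IdealSheafData.vanishingIdeal (⟨{x}, hx⟩ : Closeds X)).ideal U).IsMaximal := by
  have hpre : U.2.fromSpec ⁻¹' ({x} : Set X) = {U.2.primeIdealOf ⟨x, hxU⟩} := by
    ext p
    refine ⟨fun h => U.2.fromSpec.isOpenEmbedding.injective (Eq.trans h (U.2.fromSpec_primeIdealOf ⟨x, hxU⟩).symm), ?_⟩
    rintro rfl
    exact U.2.fromSpec_primeIdealOf _
  show (PrimeSpectrum.vanishingIdeal (U.2.fromSpec ⁻¹' ({x} : Set X))).IsMaximal
  rw [hpre, PrimeSpectrum.vanishingIdeal_singleton]
  exact U.2.primeIdealOf_isMaximal_of_isClosed ⟨x, hxU⟩ hx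

theorem exists_pointParams {X : Scheme.{u}} [IsLocallyNoetherian X] {x : X} (hx : IsClosed ({x} : Set X))
    (hreg : IsRegularLocalRing (X.presheaf.stalk x)) (hd : ringKrullDim (X.presheaf.stalk x) = 2) :
    Nonempty (PointParams hx) := by
  classical
  haveI := hreg
  let 𝓘 := Scheme.IdealSheafData.vanishingIdeal (⟨{x}, hx⟩ : Closeds X)
  let R := X.presheaf.stalk x
  haveI : IsDomain R := RegLocal.isDomain _
  obtain ⟨g₀, hg₀⟩ := RegLocal.exists_generators R
  have h2 : (IsLocalRing.maximalIdeal R).spanFinrank = 2 := by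
    have h := IsRegularLocalRing.spanFinrank_maximalIdeal (R := R)
    rw [show ringKrullDim R = 2 from hd] at h
    exact_mod_cast h
  let g : Fin 2 → R := g₀ ∘ finCongr h2.symm
  have hg : Ideal.span (Set.range g) = IsLocalRing.maximalIdeal R := by
    rw [(finCongr h2.symm).surjective.range_comp, hg₀]
  have hgq : CAlgX.IsQuasiRegular g := by
    refine (HilbertRegLib.isQuasiRegular_iff_length g hg).2 fun s => ?_
    rw [(HilbertRegLib.isRegularLocalRing_iff_length R).1 hreg s,
      ← IsLocalRing.spanFinrank_maximalIdeal_eq_finrank_cotangentSpace, h2]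
  obtain ⟨_, ⟨W, hW, rfl⟩, hxW, -⟩ :=
    X.isBasis_affineOpens.exists_subset_of_mem_open (Set.mem_univ x) isOpen_univ
  let U₀ : X.affineOpens := ⟨W, hW⟩
  let A := Γ(X, U₀.1)
  letI : Algebra A R := TopCat.Presheaf.algebra_section_stalk X.presheaf ⟨x, hxW⟩
  haveI := hW.isLocalization_stalk ⟨x, hxW⟩
  haveI : IsNoetherianRing A := IsLocallyNoetherian.component_noetherian U₀
  let P := 𝓘.ideal U₀
  haveI hPm : P.IsMaximal := ideal_point_isMaximal hx U₀ hxW
  haveI : P.IsPrime := hPm.isPrime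
  let M := (hW.primeIdealOf ⟨x, hxW⟩).asIdeal.primeCompl
  have hPM : ∀ z : A, z ∈ M ↔ z ∉ P := by
    have hpre : hW.fromSpec ⁻¹' ({x} : Set X) = {hW.primeIdealOf ⟨x, hxW⟩} := by
      ext p
      refine ⟨fun h => hW.fromSpec.isOpenEmbedding.injective (Eq.trans h (hW.fromSpec_primeIdealOf ⟨x, hxW⟩).symm), ?_⟩
      rintro rfl
      exact hW.fromSpec_primeIdealOf _
    intro z
    show z ∉ (hW.primeIdealOf ⟨x, hxW⟩).asIdeal ↔ z ∉ PrimeSpectrum.vanishingIdeal (hW.fromSpec ⁻¹' ({x} : Set X))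
    rw [hpre, PrimeSpectrum.vanishingIdeal_singleton]
  have hmap : P.map (algebraMap A R) = IsLocalRing.maximalIdeal R :=
    CurveP1Lib.map_vanishingIdeal_singleton hx U₀ hxW
  choose a s hs using fun i => IsLocalization.exists_mk'_eq M (g i)
  have hJ : (Ideal.span (Set.range a)).map (algebraMap A R) = IsLocalRing.maximalIdeal R := by
    rw [← hg, Ideal.map_span, ← Set.range_comp]
    have e : ∀ i, algebraMap A R (a i) = g i * algebraMap A R (s i) := fun i => by
      rw [← hs i, IsLocalization.mk'_spec]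
    refine le_antisymm (Ideal.span_le.2 ?_) (Ideal.span_le.2 ?_)
    · rintro _ ⟨i, rfl⟩
      show algebraMap A R (a i) ∈ _
      rw [e]
      exact Ideal.mul_mem_right _ _ (Ideal.subset_span ⟨i, rfl⟩)
    · rintro _ ⟨i, rfl⟩
      obtain ⟨u, hu⟩ := IsLocalization.map_units R (s i)
      rw [SetLike.mem_coe, show g i = algebraMap A R (a i) * ↑u⁻¹ by rw [e, ← hu, Units.mul_inv_cancel_right]]
      exact Ideal.mul_mem_right _ _ (Ideal.subset_span ⟨i, rfl⟩)
  obtain ⟨S, hS⟩ := (IsNoetherian.noetherian P : P.FG)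
  have hex : ∀ p ∈ S, ∃ t ∈ M, t * p ∈ Ideal.span (Set.range a) := fun p hp => by
    have h1 : algebraMap A R p ∈ (Ideal.span (Set.range a)).map (algebraMap A R) := by
      rw [hJ, ← hmap]
      exact Ideal.mem_map_of_mem _ (hS ▸ Ideal.subset_span hp)
    obtain ⟨⟨⟨z, hz⟩, t⟩, hzt⟩ := (IsLocalization.mem_map_algebraMap_iff M R).1 h1
    rw [← map_mul] at hzt
    obtain ⟨c, hc⟩ := (IsLocalization.eq_iff_exists M R).1 hzt
    refine ⟨c * t, (c * t).2, ?_⟩
    rw [show ((c : A) * t) * p = c * (p * t) by ring, hc]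
    exact Ideal.mul_mem_left _ _ hz
  choose t htM ht using hex
  obtain ⟨T, hT⟩ := (IsNoetherian.noetherian (RingHom.ker (algebraMap A R)) : Submodule.FG _)
  have hex2 : ∀ p ∈ T, ∃ t ∈ M, t * p = 0 := fun p hp => by
    obtain ⟨c, hc⟩ := (IsLocalization.map_eq_zero_iff M R p).1 (RingHom.mem_ker.1 (hT ▸ Ideal.subset_span hp))
    exact ⟨c, c.2, hc⟩
  choose r hrM hr using hex2
  let h : A := (∏ p ∈ S.attach, t p.1 p.2) * ∏ p ∈ T.attach, r p.1 p.2
  have hM : h ∈ M := mul_mem (Submonoid.prod_mem _ fun p _ => htM _ _) (Submonoid.prod_mem _ fun p _ => hrM _ _)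
  have hP : ∀ p ∈ P, h * p ∈ Ideal.span (Set.range a) := by
    intro p hp
    rw [← hS] at hp
    induction hp using Submodule.span_induction with
    | mem p hp =>
      obtain ⟨c, hc⟩ := Finset.dvd_prod_of_mem (fun p : S => t p.1 p.2) (Finset.mem_attach _ ⟨p, hp⟩)
      show (_ * _) * p ∈ _
      rw [show (∏ q ∈ S.attach, t q.1 q.2) = t p hp * c from hc,
        show t p hp * c * (∏ q ∈ T.attach, r q.1 q.2) * p = (c * ∏ q ∈ T.attach, r q.1 q.2) * (t p hp * p) by ring]
      exact Ideal.mul_mem_left _ _ (ht p hp)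
    | zero => simp
    | add p q _ _ hp hq => rw [mul_add]; exact add_mem hp hq
    | smul c p _ hp =>
      rw [smul_eq_mul, mul_left_comm]
      exact Ideal.mul_mem_left _ _ hp
  have hker : ∀ p : A, algebraMap A R p = 0 → h * p = 0 := by
    intro p hp
    rw [← RingHom.mem_ker, ← hT] at hp
    induction hp using Submodule.span_induction with
    | mem p hp =>
      obtain ⟨c, hc⟩ := Finset.dvd_prod_of_mem (fun p : T => r p.1 p.2) (Finset.mem_attach _ ⟨p, hp⟩)
      show (_ * _) * p = 0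
      rw [show (∏ q ∈ T.attach, r q.1 q.2) = r p hp * c from hc,
        show (∏ q ∈ S.attach, t q.1 q.2) * (r p hp * c) * p = ((∏ q ∈ S.attach, t q.1 q.2) * c) * (r p hp * p) by ring,
        hr p hp, mul_zero]
    | zero => simp
    | add p q _ _ hp hq => rw [mul_add, hp, hq, add_zero]
    | smul c p _ hp => rw [smul_eq_mul, mul_left_comm, hp, mul_zero]
  let U : X.affineOpens := X.affineBasicOpen (U := U₀) h
  have hxU : x ∈ U.1 := by
    show x ∈ X.basicOpen h
    rw [X.mem_basicOpen _ x hxW]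
    exact IsLocalization.map_units R ⟨h, hM⟩
  let ρ : A →+* Γ(X, U.1) := (X.presheaf.map (homOfLE (X.basicOpen_le h)).op).hom
  letI : Algebra A Γ(X, U.1) := ρ.toAlgebra
  haveI : IsLocalization.Away h Γ(X, U.1) := hW.isLocalization_basicOpen h
  have hI : 𝓘.ideal U = P.map ρ := (𝓘.map_ideal_basicOpen U₀ h).symm
  let γ : Γ(X, U.1) →+* R := (X.presheaf.germ U.1 x hxU).hom
  have hγ : ∀ z, γ (ρ z) = algebraMap A R z := fun z =>
    X.presheaf.germ_res_apply (homOfLE (X.basicOpen_le h)) x hxU z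
  have hinj : Function.Injective γ := by
    refine (injective_iff_map_eq_zero γ).2 fun z hz => ?_
    obtain ⟨⟨p, ⟨_, n, rfl⟩⟩, e⟩ := IsLocalization.surj (Submonoid.powers h) z
    have hp : algebraMap A R p = 0 := by
      rw [← hγ, ← show z * ρ (h ^ n) = ρ p from e, map_mul, hz, zero_mul]
    have h0 : ρ p = 0 := by
      have h1 : ρ h * ρ p = 0 := by rw [← map_mul, hker p hp, map_zero]
      exact (IsLocalization.Away.algebraMap_isUnit (S := Γ(X, U.1)) h).mul_right_eq_zero.1 h1
    exact (IsLocalization.map_units Γ(X, U.1) (⟨h ^ n, n, rfl⟩ : Submonoid.powers h)).mul_left_eq_zero.1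
      (e.trans h0)
  let f : Fin 2 → Γ(X, U.1) := fun i => ρ (a i)
  have hspan : 𝓘.ideal U = Ideal.span (Set.range f) := by
    rw [hI, show Set.range f = ρ '' Set.range a from Set.range_comp ρ a, ← Ideal.map_span]
    refine le_antisymm (Ideal.map_le_iff_le_comap.2 fun p hp => ?_) (Ideal.map_mono (Ideal.span_le.2 ?_))
    · have h1 := Ideal.mem_map_of_mem ρ (hP p hp)
      rw [map_mul] at h1
      exact (Ideal.unit_mul_mem_iff_mem _ (IsLocalization.Away.algebraMap_isUnit (S := Γ(X, U.1)) h)).1 h1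
    · rintro _ ⟨i, rfl⟩
      by_contra hn
      obtain ⟨u, hu⟩ := IsLocalization.map_units R (⟨a i, (hPM _).2 hn⟩ : M)
      have : IsUnit (algebraMap A R (a i)) := ⟨u, hu⟩
      exact (IsLocalRing.maximalIdeal.isMaximal R).ne_top (Ideal.eq_top_of_isUnit_mem _
        (hJ ▸ Ideal.mem_map_of_mem _ (Ideal.subset_span ⟨i, rfl⟩)) this)
  haveI hUm : (𝓘.ideal U).IsMaximal := ideal_point_isMaximal hx U hxU
  have hm : (Ideal.span (Set.range f)).map γ = IsLocalRing.maximalIdeal R := by
    rw [← hspan]; exact CurveP1Lib.map_vanishingIdeal_singleton hx U hxU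
  choose u hu using fun i => IsLocalization.map_units R (s i)
  have hf : ∀ i, γ (f i) = u i * g i := fun i => by
    rw [hγ, hu, mul_comm, ← hs i, IsLocalization.mk'_spec]
  haveI : IsDomain Γ(X, U.1) := hinj.isDomain γ
  refine ⟨⟨U, f, hxU, inferInstance, fun i hi => ?_, hspan, ?_, hUm⟩⟩
  · have h0 := (hf i).symm.trans ((congrArg γ hi).trans (map_zero γ))
    rw [(u i).isUnit.mul_right_eq_zero] at h0
    have h1 : Set.range g₀ ⊆ insert 0 {g (i + 1)} := by
      rintro _ ⟨j, rfl⟩
      obtain ⟨j, rfl⟩ := (finCongr h2.symm).surjective j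
      rcases PointChart.eq_or i j with rfl | rfl
      · exact Or.inl h0
      · exact Or.inr rfl
    have h3 : IsLocalRing.maximalIdeal R = Ideal.span {g (i + 1)} := by
      refine le_antisymm (hg₀ ▸ (Ideal.span_mono h1).trans (Ideal.span_insert_zero).le) ?_
      rw [← hg]; exact Ideal.span_mono (Set.singleton_subset_iff.2 ⟨_, rfl⟩)
    have h4 := Submodule.spanFinrank_span_le_ncard_of_finite (R := R) (Set.finite_singleton (g (i + 1)))
    rw [Set.ncard_singleton] at h4
    rw [h3] at h2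
    change Submodule.spanFinrank (Submodule.span R {g (i + 1)}) = 2 at h2
    omega
  · intro n Q hQ hev d
    have h1 : MvPolynomial.eval (γ ∘ f) (MvPolynomial.map γ Q) ∈ Ideal.span (Set.range (γ ∘ f)) ^ (n + 1) := by
      rw [Set.range_comp, ← Ideal.map_span, ← Ideal.map_pow, MvPolynomial.eval_map, ← MvPolynomial.eval₂_comp]
      exact Ideal.mem_map_of_mem _ hev
    have hfg : Ideal.span (Set.range (γ ∘ f)) = IsLocalRing.maximalIdeal R := by
      rw [Set.range_comp, ← Ideal.map_span, hm]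
    have hq' : CAlgX.IsQuasiRegular (γ ∘ f) := by
      refine (HilbertRegLib.isQuasiRegular_iff_length _ hfg).2 ?_
      exact (HilbertRegLib.isQuasiRegular_iff_length g hg).1 hgq
    have h3 := hq' n _ (hQ.map γ) h1 d
    rw [MvPolynomial.coeff_map, hfg, ← hm, ← hspan] at h3
    rw [← hspan]
    by_contra hn
    obtain ⟨c, e, he, hce⟩ := hUm.exists_inv hn
    have h5 : γ c * γ (Q.coeff d) + γ e = 1 := by rw [← map_mul, ← map_add, hce, map_one]
    exact (IsLocalRing.maximalIdeal.isMaximal R).ne_top ((Ideal.eq_top_iff_one _).2 (h5 ▸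
      add_mem (Ideal.mul_mem_left _ _ (CurveP1Lib.map_vanishingIdeal_singleton hx U hxU ▸ h3))
        (CurveP1Lib.map_vanishingIdeal_singleton hx U hxU ▸ Ideal.mem_map_of_mem γ he)))

end Groth.Agent.TwistShriek
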