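import Groth.Agent.ASp.CutOut
import Groth.Agent.BlowCompLib.Compose
import Groth.Agent.S1622
import Groth.Prelude.Def_CurvBase
import Groth.Prelude.Def_BlowUp2

/-!
# Ideal sheaves on spectra and on covers by open immersions
-/

set_option autoImplicit false
set_option backward.isDefEq.respectTransparency false

universe u

open CategoryTheory CategoryTheory.Limits AlgebraicGeometry

namespace Groth.Agent.TwistShriek

/-- Ideal sheaves of a spectrum: extended ideals. -/
theorem idealSheaf_comap {A B : Type u} [CommRing A] [CommRing B] (φ : A →+* B) (I : Ideal A) :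
    (Curv2.idealSheaf A I).comap (Spec.map (CommRingCat.ofHom φ)) = Curv2.idealSheaf B (I.map φ) := by
  rw [Curv2.idealSheaf, ASp.comap_ofIdealTop, Ideal.map_map, Curv2.idealSheaf, Ideal.map_map]
  congr 2
  exact congrArg CommRingCat.Hom.hom (Scheme.ΓSpecIso_inv_naturality (CommRingCat.ofHom φ)).symm

theorem idealSheaf_mul {A : Type u} [CommRing A] (I J : Ideal A) :
    Curv2.idealSheaf A (I * J) = Curv2.idealSheaf A I * Curv2.idealSheaf A J := by
  refine Scheme.IdealSheafData.ext_of_isAffine ?_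
  simp [Curv2.idealSheaf, Ideal.map_mul, Scheme.IdealSheafData.ideal_mul]

theorem idealSheaf_sup {A : Type u} [CommRing A] (I J : Ideal A) :
    Curv2.idealSheaf A (I ⊔ J) = Curv2.idealSheaf A I ⊔ Curv2.idealSheaf A J := by
  refine Scheme.IdealSheafData.ext_of_isAffine ?_
  simp [Curv2.idealSheaf, Ideal.map_sup]

theorem idealSheaf_top {A : Type u} [CommRing A] : Curv2.idealSheaf A (⊤ : Ideal A) = ⊤ := by
  refine Scheme.IdealSheafData.ext_of_isAffine ?_
  simp [Curv2.idealSheaf, Ideal.map_top]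

theorem idealSheaf_inj {A : Type u} [CommRing A] {I J : Ideal A}
    (h : Curv2.idealSheaf A I = Curv2.idealSheaf A J) : I = J := by
  have e := congrArg (fun K : (Spec (CommRingCat.of A)).IdealSheafData => K.ideal ⟨⊤, isAffineOpen_top _⟩) h
  simp [Curv2.idealSheaf] at e
  have h2 : ∀ K : Ideal A, (K.map (Scheme.ΓSpecIso (CommRingCat.of A)).inv.hom).comap
      (Scheme.ΓSpecIso (CommRingCat.of A)).inv.hom = K := fun K =>
    Ideal.comap_map_of_bijective _ (ConcreteCategory.bijective_of_isIso (Scheme.ΓSpecIso (CommRingCat.of A)).inv)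
  rw [← h2 I, ← h2 J, e]

theorem exists_idealSheaf {A : Type u} [CommRing A] (K : (Spec (CommRingCat.of A)).IdealSheafData) :
    ∃ I : Ideal A, K = Curv2.idealSheaf A I := by
  refine ⟨(K.ideal ⟨⊤, isAffineOpen_top _⟩).comap (Scheme.ΓSpecIso (CommRingCat.of A)).inv.hom, ?_⟩
  rw [Curv2.idealSheaf, Ideal.map_comap_of_surjective _
    (ConcreteCategory.bijective_of_isIso (Scheme.ΓSpecIso (CommRingCat.of A)).inv).2]
  exact ASp.eq_ofIdealTop_top K

/-- The kernel of a morphism of spectra. -/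
theorem ker_specMap {A B : Type u} [CommRing A] [CommRing B] (φ : A →+* B) :
    (Spec.map (CommRingCat.ofHom φ)).ker = Curv2.idealSheaf A (RingHom.ker φ) := by
  refine Scheme.IdealSheafData.ext_of_isAffine ?_
  rw [Scheme.ker_of_isAffine, Scheme.IdealSheafData.ofIdealTop_ideal, Curv2.idealSheaf,
    Scheme.IdealSheafData.ofIdealTop_ideal]
  simp only [homOfLE_refl, op_id, CategoryTheory.Functor.map_id, CommRingCat.hom_id, Ideal.map_id]
  let e := (Scheme.ΓSpecIso (CommRingCat.of A)).commRingCatIsoToRingEquiv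
  let e' := (Scheme.ΓSpecIso (CommRingCat.of B)).commRingCatIsoToRingEquiv
  ext x
  have h : e' ((Spec.map (CommRingCat.ofHom φ)).appTop.hom x) = φ (e x) :=
    ConcreteCategory.congr_hom (Scheme.ΓSpecIso_naturality (CommRingCat.ofHom φ)) x
  rw [RingHom.mem_ker, ← map_eq_zero_iff _ e'.injective, h]
  show _ ↔ x ∈ Ideal.map e.symm.toRingHom _
  refine Iff.trans ?_ (Ideal.mem_map_iff_of_surjective e.symm.toRingHom e.symm.surjective).symm
  constructor
  · exact fun hx => ⟨e x, hx, e.symm_apply_apply x⟩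
  · rintro ⟨a, ha, rfl⟩
    show φ (e (e.symm a)) = 0
    rw [e.apply_symm_apply]; exact ha

/-- A closed immersion pulled back along a monomorphism through which it factors. -/
theorem comap_ker_of_mono {Z Y X : Scheme.{u}} (f : Z ⟶ Y) (g : Y ⟶ X) [Mono g] [IsClosedImmersion (f ≫ g)] :
    (f ≫ g).ker.comap g = f.ker := by
  let φ : Z ⟶ pullback g (f ≫ g) := pullback.lift f (𝟙 Z) (by simp)
  have h : pullback.snd g (f ≫ g) ≫ f = pullback.fst g (f ≫ g) := by
    rw [← cancel_mono g, Category.assoc, pullback.condition]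
  haveI : IsIso φ := ⟨pullback.snd g (f ≫ g), by simp [φ],
    pullback.hom_ext (by simp [φ, h]) (by simp [φ])⟩
  rw [← Scheme.IdealSheafData.ker_fst_of_isClosedImmersion, ← Scheme.Hom.ker_comp_of_isIso φ (pullback.fst g (f ≫ g))]
  simp [φ]

/-- Ideal sheaves are determined on a cover by affine open immersions. -/
theorem ext_of_cover {X : Scheme.{u}} {ι : Type*} {Y : ι → Scheme.{u}} [∀ i, IsAffine (Y i)] (e : ∀ i, Y i ⟶ X)
    [∀ i, IsOpenImmersion (e i)] (hcov : ∀ x : X, ∃ i, x ∈ Set.range (e i)) {I J : X.IdealSheafData}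
    (h : ∀ i, I.comap (e i) = J.comap (e i)) : I = J := by
  refine Scheme.IdealSheafData.ext_of_iSup_eq_top
    (fun i => ⟨e i ''ᵁ ⊤, (isAffineOpen_top (Y i)).image_of_isOpenImmersion (e i)⟩) ?_ fun i => ?_
  · refine eq_top_iff.2 fun x _ => ?_
    obtain ⟨i, y, rfl⟩ := hcov x
    exact TopologicalSpace.Opens.mem_iSup.2 ⟨i, y, trivial, rfl⟩
  · have h1 := congrArg (fun K : (Y i).IdealSheafData => K.ideal ⟨⊤, isAffineOpen_top (Y i)⟩) (h i)
    simp only [Scheme.IdealSheafData.ideal_comap_of_isOpenImmersion] at h1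
    exact Ideal.comap_injective_of_surjective _
      (ConcreteCategory.bijective_of_isIso ((e i).appIso ⊤).inv).2 h1

theorem le_of_cover {X : Scheme.{u}} {ι : Type*} {Y : ι → Scheme.{u}} [∀ i, IsAffine (Y i)] (e : ∀ i, Y i ⟶ X)
    [∀ i, IsOpenImmersion (e i)] (hcov : ∀ x : X, ∃ i, x ∈ Set.range (e i)) {I J : X.IdealSheafData}
    (h : ∀ i, I.comap (e i) ≤ J.comap (e i)) : I ≤ J :=
  sup_eq_right.1 (ext_of_cover e hcov fun i => by
    rw [Scheme.IdealSheafData.comap_sup]
    exact sup_eq_right.2 (h i))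

/-- Being effective Cartier on a cover by spectra with principal ideals. -/
theorem isEffCartierIdeal_of_cover {X : Scheme.{u}} {ι : Type*} {B : ι → Type u} [∀ i, CommRing (B i)]
    (e : ∀ i, Spec (CommRingCat.of (B i)) ⟶ X) [∀ i, IsOpenImmersion (e i)]
    (hcov : ∀ x : X, ∃ i, x ∈ Set.range (e i)) {I : X.IdealSheafData}
    (h : ∀ i, ∃ b ∈ nonZeroDivisors (B i), I.comap (e i) = Curv2.idealSheaf (B i) (Ideal.span {b})) :
    BlowUp.IsEffCartierIdeal I := by
  intro x
  obtain ⟨i, y, rfl⟩ := hcov x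
  obtain ⟨b, hb, hbI⟩ := h i
  refine ⟨⟨e i ''ᵁ ⊤, (isAffineOpen_top _).image_of_isOpenImmersion (e i)⟩, ⟨y, trivial, rfl⟩, ?_⟩
  let ρ : B i ≃+* Γ(X, e i ''ᵁ ⊤) :=
    ((Scheme.ΓSpecIso (CommRingCat.of (B i))).symm ≪≫ ((e i).appIso ⊤).symm).commRingCatIsoToRingEquiv
  refine ⟨ρ b, MulEquivClass.map_nonZeroDivisors ρ ▸ ⟨_, hb, rfl⟩, ?_⟩
  have h1 := congrArg (fun K : (Spec (CommRingCat.of (B i))).IdealSheafData => K.ideal ⟨⊤, isAffineOpen_top _⟩) hbI
  simp [Curv2.idealSheaf, Scheme.IdealSheafData.ideal_comap_of_isOpenImmersion, Ideal.map_span] at h1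
  refine Ideal.comap_injective_of_surjective _
    (ConcreteCategory.bijective_of_isIso ((e i).appIso ⊤).inv).2 (h1.trans ?_)
  refine Eq.trans (Ideal.comap_map_of_bijective _ (ConcreteCategory.bijective_of_isIso ((e i).appIso ⊤).inv)).symm ?_
  rw [Ideal.map_span, Set.image_singleton]
  rfl

end Groth.Agent.TwistShriek
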