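import Groth.Agent.TwistShriek.SurfRR
import Groth.Agent.NakaiLib.Hodge
import Groth.Agent.NakaiLib.SurfBig
import Groth.Agent.AssLib.Morph
import Groth.Agent.CurveLib.GlobalFun
import Groth.Agent.IntLib.Divisor
import Groth.Agent.NakaiLib.HodgeProper

/-!
# Sections of invertible modules on surfaces and the intersection form
-/

set_option autoImplicit false
set_option backward.isDefEq.respectTransparency false
set_option linter.style.haveILetI false
set_option maxHeartbeats 1000000

universe u

open CategoryTheory CategoryTheory.Limits AlgebraicGeometry TopologicalSpace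
open Groth.Agent.PullbackMod Groth.Agent.DCohLib Groth.Agent.Nakai
open Groth.Agent.IntLib (PicRing pairing dif inv')

noncomputable section

namespace Groth.Agent.TwistShriek

variable {X : Scheme.{u}} (k : Type u) [Field k] [X.Over (Spec (CommRingCat.of k))]
  [IsProper (X ↘ Spec (CommRingCat.of k))]

/-- The intersection number as a form of classes. -/
theorem intNum_eq_form (hd : topologicalKrullDim X ≤ ((2 : ℕ) : WithBot ℕ∞)) {A B : X.Modules}
    (hA : PicF.IsInvertible A) (hB : PicF.IsInvertible B) :
    FGA.intNum k X 2 ![A, B] (Coh.structureModule X) = form k (cl hA) (cl hB) := by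
  rw [IntLib.intNum_eq k hd _ ![A, B] (fun i => by fin_cases i <;> assumption), Fin.prod_univ_two]
  show pairing k _ (dif hA * dif hB) = _
  rw [form, cl_eq_neg_dif, cl_eq_neg_dif, neg_mul_neg]

variable [IsIntegral X] {H : X.Modules}

/-- An invertible module with a section meets an ample one nonnegatively; if it meets it in zero the
section is nowhere zero. -/
theorem form_of_section (hdim : topologicalKrullDim X = ((2 : ℕ) : WithBot ℕ∞)) (hH : CohB1.IsAmple H)
    {N : X.Modules} (hN : PicF.IsInvertible N) (hs : Nontrivial (Coh.HH X N 0)) :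
    0 ≤ form k (cl hN) (cl hH.1) ∧
      ((∀ x : X, IsClosed ({x} : Set X) → (2 : ℕ∞) ≤ LocCoh.depth (X.presheaf.stalk x) (X.presheaf.stalk x)) →
        form k (cl hN) (cl hH.1) = 0 → Nonempty (Coh.structureModule X ≅ N)) := by
  haveI := EulerIneqLib.isNoetherian_proper (X := X) k
  haveI := hs
  obtain ⟨c, hc⟩ := exists_ne (0 : Coh.HH X N 0)
  have hne := CurveLib.secHom_secOf_ne_zero _ hc
  generalize DCohLib.secHom _ (CurveLib.secOf _ c) = t at hne
  haveI := CurveLib.mono_of_ne_zero ParaFLib.isInvertible_structureModule hN hne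
  have hO := DevLib.isCoh_structureModule X
  have hC : Coh.IsCoh (cokernel t) := (QCohLib.isCoh_kernel_cokernel t hO (CurveLib.isCoh_of_isInvertible hN)).2
  have hdC : topologicalKrullDim (CohB1.support (cokernel t)) < ((1 + 1 : ℕ) : WithBot ℕ∞) :=
    VanGrow.dim_support_lt (by exact_mod_cast hdim) (DevLib.isClosed_support hC)
      (CurveLib.genericPoint_notMem_support ParaFLib.isInvertible_structureModule hN hne)
  have h1 := isPos_cl_pow k hH 1 _ hC hdC
  rw [pow_one, pairing_coker_section k hN t] at h1
  refine ⟨h1.1, fun hdepth h0 => ?_⟩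
  have hlt : topologicalKrullDim (CohB1.support (cokernel t)) < ((1 : ℕ) : WithBot ℕ∞) := by
    by_contra hcon
    exact (h1.2 ((HilbLib.not_dim_lt_iff (DevLib.isClosed_support hC) 1).1 hcon)).ne' h0
  haveI := (CurveLib.isCoh_of_isInvertible hN).1
  haveI : IsIso t := by
    refine AssLib.isIso_of_depth t hO fun x => ?_
    by_cases hx : x ∈ CohB1.support (cokernel t)
    · have hcl : IsClosed ({x} : Set X) := by
        refine isClosed_of_closure_subset fun y hy => ?_
        by_contra hne'
        have hyC : y ∈ CohB1.support (cokernel t) :=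
          (specializes_iff_mem_closure.2 hy).mem_closed (DevLib.isClosed_support hC) hx
        refine (HilbLib.not_dim_lt_iff (DevLib.isClosed_support hC) 1).2 ⟨![y, x], ?_, ?_⟩ hlt
        · intro i; fin_cases i <;> assumption
        · intro i j hij
          fin_cases i <;> fin_cases j
          · exact absurd hij (lt_irrefl _)
          · exact ⟨specializes_iff_mem_closure.2 hy, fun e => hne' (Set.mem_singleton_iff.2 (show y = x by simpa using e))⟩
          · exact absurd hij (by decide)
          · exact absurd hij (lt_irrefl _)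
      refine Or.inr ?_
      have hd := hdepth x hcl
      obtain ⟨e, -⟩ : ∃ e : (Coh.structureModule X).presheaf.stalk x ≃ₗ[X.presheaf.stalk x] X.presheaf.stalk x, True :=
        ⟨(LinearEquiv.ofBijective (LinearMap.toSpanSingleton _ _ (ParaFLib.oneG x)) (ParaFLib.bijective_oneG x)).symm,
          trivial⟩
      refine ⟨by rwa [Depth.depth_congr e], fun hass => ?_⟩
      obtain ⟨f⟩ := (CurveLib.freeAt_one_of_isInvertible hN x)
      have h2 := CAlgBasics.two_le_depth_iff.mp hd
      obtain ⟨hp, m, hm⟩ := isAssociatedPrime_iff.1 hass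
      obtain ⟨g, hg⟩ := ParaFLib.exists_stalk_gen hN x
      obtain ⟨a, rfl⟩ := hg.2 m
      refine hp.ne_top (hm.trans (eq_top_iff.2 fun r _ => ?_))
      have ha : a = 0 := h2.1 a fun s hs' => by
        rw [hm, Submodule.mem_colon_singleton, Submodule.mem_bot] at hs'
        refine hg.1 (Eq.trans ?_ (zero_smul (X.presheaf.stalk x) g).symm)
        show (s • a) • g = 0
        rwa [smul_assoc]
      rw [Submodule.mem_colon_singleton, Submodule.mem_bot]
      show r • a • g = 0
      rw [ha, zero_smul, smul_zero]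
    · refine Or.inl ⟨(mono_iff_stalk t).1 inferInstance x, fun z => ?_⟩
      haveI : Subsingleton ((DevLib.cokerSeq t).X₃.presheaf.stalk x) := DevLib.subsingleton_of_notMem hx
      exact (DevLib.stalk_exact (DevLib.cokerSeq_shortExact t) x z).1 (Subsingleton.elim _ _)
  exact ⟨asIso t⟩

/-- Effective second cohomology bound: a class meeting an ample one more than `W` has no `H²`. -/
theorem subsingleton_H2_of_lt (hdim : topologicalKrullDim X = ((2 : ℕ) : WithBot ℕ∞)) (hH : CohB1.IsAmple H)
    {W : X.Modules} (hW : PicF.IsInvertible W)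
    (h2 : ∀ L L' : X.Modules, PicF.IsInvertible L → Nonempty (CohB1.tensorMod L L' ≅ Coh.structureModule X) →
      Module.finrank k (Coh.HH X (CohB1.tensorMod W L') 0) = Module.finrank k (Coh.HH X L 2))
    {L : X.Modules} (hL : PicF.IsInvertible L) (hlt : form k (cl hW) (cl hH.1) < form k (cl hL) (cl hH.1)) :
    Subsingleton (Coh.HH X L 2) := by
  haveI := EulerIneqLib.isNoetherian_proper (X := X) k
  obtain ⟨L', hL', ⟨e⟩⟩ := AmpleEmb.exists_isInverseOf hL
  haveI := EulerIneqLib.finite_HH (k := k) (CurveLib.isCoh_of_isInvertible hL) 2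
  by_contra hns
  rw [not_subsingleton_iff_nontrivial] at hns
  have hWL := AmpleLib.isInvertible_tensor hW hL'
  have h0 : Nontrivial (Coh.HH X (CohB1.tensorMod W L') 0) :=
    Module.nontrivial_of_finrank_pos (R := k) (by rw [h2 L L' hL ⟨e⟩]; exact Module.finrank_pos)
  have h1 := (form_of_section k hdim hH hWL h0).1
  have e1 : form k (cl hWL) (cl hH.1) = form k (cl hW) (cl hH.1) - form k (cl hL) (cl hH.1) := by
    rw [form_congr k hdim (w := cl hW + (-1 : ℤ) • cl hL) ?_ (cl_mem hH.1), form_add_left, form_smul_left]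
    · ring
    · rw [show cl hWL - (cl hW + (-1 : ℤ) • cl hL) = (cl hL - dif hL') + cl hW * cl hL' by
        rw [show cl hWL = cl (AmpleLib.isInvertible_tensor hW hL') from rfl, cl_tensor hW hL', cl_eq_neg_dif hL']
        simp only [neg_smul, one_smul]; ring]
      refine add_mem (cl_mul_inverse_mem hL hL' e) ?_
      rw [pow_two]; exact Ideal.mul_mem_mul (cl_mem _) (cl_mem _)
  omega

/-- Classes of positive square meeting an ample one positively have sections in all high powers. -/
theorem exists_forall_sections (hdim : topologicalKrullDim X = ((2 : ℕ) : WithBot ℕ∞)) (hH : CohB1.IsAmple H)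
    {W : X.Modules} (hW : PicF.IsInvertible W)
    (hdual : ∀ L L' : X.Modules, PicF.IsInvertible L →
      Nonempty (CohB1.tensorMod L L' ≅ Coh.structureModule X) →
      Curv2.euler k X (CohB1.tensorMod W L') = Curv2.euler k X L)
    (h2 : ∀ L L' : X.Modules, PicF.IsInvertible L → Nonempty (CohB1.tensorMod L L' ≅ Coh.structureModule X) →
      Module.finrank k (Coh.HH X (CohB1.tensorMod W L') 0) = Module.finrank k (Coh.HH X L 2))
    {L : X.Modules} (hL : PicF.IsInvertible L) (hLL : 0 < form k (cl hL) (cl hL))
    (hLH : 0 < form k (cl hL) (cl hH.1)) :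
    ∃ N : ℕ, ∀ n : ℕ, N ≤ n → Nontrivial (Coh.HH X (CohB1.tensorPow L n) 0) := by
  haveI := EulerIneqLib.isNoetherian_proper (X := X) k
  obtain ⟨N, hN⟩ : ∃ N, N = (form k (cl hL) (cl hW)).natAbs + 2 * (Curv2.euler k X (Coh.structureModule X)).natAbs +
      (form k (cl hW) (cl hH.1)).natAbs + 2 := ⟨_, rfl⟩
  refine ⟨N, fun n hn => ?_⟩
  have hP := AmpleLib.isInvertible_tensorPow hL n
  have hcong : ∀ {v : PicRing X}, v ∈ Aug X → form k (cl hP) v = n * form k (cl hL) v := fun {v} hv => by
    rw [form_congr k hdim (w := (n : ℤ) • cl hL) ?_ hv, form_smul_left]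
    rw [zsmul_eq_mul, Int.cast_natCast]
    exact cl_tensorPow_sub_mem hL n
  have hsub : Subsingleton (Coh.HH X (CohB1.tensorPow L n) 2) := by
    refine subsingleton_H2_of_lt k hdim hH hW h2 hP ?_
    rw [hcong (cl_mem _)]
    have : (n : ℤ) ≤ n * form k (cl hL) (cl hH.1) := le_mul_of_one_le_right (Int.natCast_nonneg n) hLH
    omega
  have hrr := two_mul_euler_of_duality k hdim.le hW hdual hP
  rw [intNum_eq_form k hdim.le hP hP, intNum_eq_form k hdim.le hP hW, hcong (cl_mem _), hcong (cl_mem _),
    form_comm k (cl hL) (cl hP), hcong (cl_mem _)] at hrr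
  have hle := euler_le k hdim.le (CohB1.tensorPow L n)
  haveI := hsub
  have hz : hd k (CohB1.tensorPow L n) 2 = 0 := Module.finrank_zero_of_subsingleton
  rw [hz] at hle
  by_contra hne
  haveI : Subsingleton (Coh.HH X (CohB1.tensorPow L n) 0) := not_nontrivial_iff_subsingleton.1 hne
  have hz0 : hd k (CohB1.tensorPow L n) 0 = 0 := Module.finrank_zero_of_subsingleton
  rw [hz0] at hle
  have hn' : ((form k (cl hL) (cl hW)).natAbs : ℤ) + 2 * (Curv2.euler k X (Coh.structureModule X)).natAbs + 2 ≤ n := by
    omega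
  have a1 : form k (cl hL) (cl hW) ≤ ((form k (cl hL) (cl hW)).natAbs : ℤ) := Int.le_natAbs
  have a2 : -Curv2.euler k X (Coh.structureModule X) ≤ ((Curv2.euler k X (Coh.structureModule X)).natAbs : ℤ) := by omega
  have a3 : (n : ℤ) * n ≤ n * (n * form k (cl hL) (cl hL)) :=
    mul_le_mul_of_nonneg_left (le_mul_of_one_le_right (Int.natCast_nonneg n) hLL) (Int.natCast_nonneg n)
  have a4 : (n : ℤ) * form k (cl hL) (cl hW) ≤ n * ((form k (cl hL) (cl hW)).natAbs : ℤ) :=
    mul_le_mul_of_nonneg_left a1 (Int.natCast_nonneg n)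
  have a5 : (n : ℤ) * (((form k (cl hL) (cl hW)).natAbs : ℤ) + 2 * (Curv2.euler k X (Coh.structureModule X)).natAbs + 2) ≤ n * n :=
    mul_le_mul_of_nonneg_left hn' (Int.natCast_nonneg n)
  have a6 : ((Curv2.euler k X (Coh.structureModule X)).natAbs : ℤ) ≤ n * (Curv2.euler k X (Coh.structureModule X)).natAbs :=
    le_mul_of_one_le_left (Int.natCast_nonneg _) (by omega)
  push_cast at hrr hle
  nlinarith [Int.natCast_nonneg n, Int.natCast_nonneg (Curv2.euler k X (Coh.structureModule X)).natAbs]

end Groth.Agent.TwistShriek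

namespace Groth.Agent.TwistShriek

variable {X : Scheme.{u}} (k : Type u) [Field k] [X.Over (Spec (CommRingCat.of k))]
  [IsProper (X ↘ Spec (CommRingCat.of k))]

/-- The ideal of a curve meets an ample module negatively. -/
theorem form_ideal_neg (hd : topologicalKrullDim X ≤ ((2 : ℕ) : WithBot ℕ∞)) {H : X.Modules} (hH : CohB1.IsAmple H)
    {D : X.IdealSheafData} (hI : PicF.IsInvertible (ClSub.idealMod D))
    (hD : topologicalKrullDim (D.support : Set X) = 1) :
    form k (cl hI) (cl hH.1) < 0 := by
  haveI := EulerIneqLib.isNoetherian_proper (X := X) k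
  have hs : CohB1.support (ClSub.quotMod D) = (D.support : Set X) :=
    (IntLib.support_quotMod_subset D).antisymm fun x hx => mem_support_quotMod D hx
  have h := isPos_cl_pow k hH 1 _ (IntLib.isCoh_quotMod D) (by rw [hs, hD]; exact_mod_cast Nat.lt_succ_self 1)
  rw [pow_one, IntLib.pairing_quotMod k hI] at h
  have h2 := h.2 ((HilbLib.not_dim_lt_iff (DevLib.isClosed_support (IntLib.isCoh_quotMod D)) 1).1
    (by rw [hs, hD]; exact lt_irrefl _))
  have e : dif hI * cl hH.1 = -(cl hI * cl hH.1) := by rw [cl_eq_neg_dif hI]; ring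
  rw [e, map_neg] at h2
  exact neg_pos.1 h2

include k in
/-- Ideals of curves have no sections. -/
theorem subsingleton_H0_ideal [IsIntegral X] (hdim : topologicalKrullDim X = ((2 : ℕ) : WithBot ℕ∞)) {H : X.Modules}
    (hH : CohB1.IsAmple H) {D : X.IdealSheafData} (hI : PicF.IsInvertible (ClSub.idealMod D))
    (hD : topologicalKrullDim (D.support : Set X) = 1) : Subsingleton (Coh.HH X (ClSub.idealMod D) 0) :=
  not_nontrivial_iff_subsingleton.1 fun hn =>
    absurd (form_of_section k hdim hH hI hn).1 (not_le.2 (form_ideal_neg k hdim.le hH hI hD))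

end Groth.Agent.TwistShriek
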