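import Groth.Agent.S3669
import Groth.Agent.VBLib.Twist
import Groth.Agent.IdealStalkLib.Cartier
import Groth.Agent.HilbObsLib.Ideal
import Groth.Agent.BlowExistsLib.Chart
import Groth.Agent.LocFreeHomLib.Coherence
import Groth.Agent.ParaFLib.Stalk
import Groth.Agent.DCohLib.OpenD
import Groth.Agent.AmpleLib.Tensor
import Groth.Prelude.Def_BlowUp2

/-!
# The sequence of sections killed by the ideal of an effective Cartier divisor
-/

set_option autoImplicit false
set_option linter.style.haveILetI false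
set_option linter.unusedSectionVars false
set_option backward.isDefEq.respectTransparency false
set_option maxHeartbeats 1600000

universe u

open CategoryTheory CategoryTheory.Limits AlgebraicGeometry TopologicalSpace
open Groth.Agent.PullbackMod Groth.Agent.DCohLib Groth.Agent.ParaFLib
open scoped TensorProduct

noncomputable section

namespace Groth.Agent.TwistShriek

variable {X : Scheme.{u}} (I : X.IdealSheafData) {L : X.Modules}
  (e : CohB1.tensorMod L (ClSub.idealMod I) ≅ Coh.structureModule X)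

/-- The canonical section of an inverse of the ideal. -/
def cartSect : Coh.structureModule X ⟶ L :=
  e.inv ≫ ((DCoh.tensorBi (X := X)).obj L).map (ClSub.idealModι I) ≫ LocFreeHomLib.runitMap L

/-- Multiplication by the canonical section. -/
def cartMul : 𝟭 X.Modules ⟶ CurveLib.tensR L :=
  (ModTensor.tensorUnitRight X.sheaf).inv ≫ (DCoh.tensorBi (X := X)).flip.map (cartSect I e)

theorem stalkLin_runit_bijective (M : X.Modules) (x : X) :
    Function.Bijective (stalkLin (LocFreeHomLib.runitMap M) x) := by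
  haveI : IsIso (LocFreeHomLib.runitMap M) :=
    inferInstanceAs (IsIso ((ModTensor.tensorUnitRight X.sheaf).app M).hom)
  exact (isIso_iff_stalk _).1 inferInstance x

theorem stalkLin_inv_apply {M N : X.Modules} (φ : M ≅ N) (x : X) (z : N.presheaf.stalk x) :
    stalkLin φ.hom x (stalkLin φ.inv x z) = z := by
  have h := stalkLin_comp φ.inv φ.hom x
  rw [φ.inv_hom_id, stalkLin_id] at h
  exact (LinearMap.congr_fun h z).symm

theorem isInvertible_inverse {J : X.Modules} (e : CohB1.tensorMod L J ≅ Coh.structureModule X) :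
    PicF.IsInvertible L := AmpleLib.isInvertible_of_tensor_iso e

theorem secHom_top {Y : Scheme.{u}} (M : Y.Modules) (s : Γ(M, ⊤)) :
    (DCohLib.secHom M s).app ⊤ (1 : Γ(Y, ⊤)) = s :=
  (DCohLib.secHom_app_one M s ⊤).trans congr($(M.presheaf.map_id _) s)

theorem stalkLin_secHom_one {Y : Scheme.{u}} (a : Γ(Y, ⊤)) (y : Y) (hy : y ∈ (⊤ : Y.Opens)) :
    stalkLin (DCohLib.secHom (Coh.structureModule Y) a) y (oneG y) = Y.presheaf.germ ⊤ y hy a • oneG y := by
  refine (stalkLin_germ (DCohLib.secHom (Coh.structureModule Y) a) y hy (1 : Γ(Y, ⊤))).trans ?_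
  refine (congrArg _ (secHom_top (Coh.structureModule Y) a)).trans ?_
  refine Eq.trans (congrArg _ ?_)
    (PresheafOfModules.germ_smul (R := Y.presheaf) (Coh.structureModule Y).val y ⊤ hy a (1 : Γ(Y, ⊤)))
  exact (show (a : Γ(Y, ⊤)) = a * 1 from (mul_one a).symm)

theorem app_secHom_factor {Y : Scheme.{u}} {N : Y.Modules} (a : Γ(Y, ⊤)) (t : Γ(N, ⊤))
    (h : Coh.structureModule Y ⟶ N) (hh : DCohLib.secHom (Coh.structureModule Y) a ≫ h = DCohLib.secHom N t) :
    h.app ⊤ (show Γ(Coh.structureModule Y, ⊤) from a) = t := by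
  have e := congr(($hh).app ⊤ (1 : Γ(Y, ⊤)))
  rw [secHom_top] at e
  refine Eq.trans ?_ e
  show _ = h.app ⊤ ((DCohLib.secHom (Coh.structureModule Y) a).app ⊤ (1 : Γ(Y, ⊤)))
  rw [secHom_top]

/-- Scalars of a restricted module. -/
theorem app_unit_smul {Y Y' : Scheme.{u}} (j : Y ⟶ Y') [IsOpenImmersion j] (M : Y'.Modules)
    (h : Coh.structureModule Y ⟶ (Scheme.Modules.restrictFunctor j).obj M) (f : Γ(Y', j ''ᵁ ⊤)) :
    h.app ⊤ (show Γ(Coh.structureModule Y, ⊤) from (j.appIso ⊤).hom f) =
      f • (show Γ(M, j ''ᵁ ⊤) from h.app ⊤ (1 : Γ(Y, ⊤))) := by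
  refine (congrArg (h.app ⊤) (show (j.appIso ⊤).hom f = (j.appIso ⊤).hom f * (1 : Γ(Y, ⊤)) from (mul_one _).symm)).trans ?_
  refine (map_smul (h.val.app (Opposite.op ⊤)).hom ((j.appIso ⊤).hom f) (1 : Γ(Y, ⊤))).trans ?_
  show (show Γ(M, j ''ᵁ ⊤) from (j.appIso ⊤).inv ((j.appIso ⊤).hom f) • (show Γ(M, j ''ᵁ ⊤) from h.app ⊤ (1 : Γ(Y, ⊤)))) = _
  rw [show (j.appIso ⊤).inv ((j.appIso ⊤).hom f) = f from congr($((j.appIso ⊤).hom_inv_id) f)]

/-- The values of the canonical section at a point are the multiples of a local equation. -/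
theorem range_cartSect (U : X.affineOpens) {f : Γ(X, U.1)} (hU : I.ideal U = Ideal.span {f}) (x : X) (hx : x ∈ U.1)
    (l : L.presheaf.stalk x) :
    (∃ r : X.presheaf.stalk x, stalkLin (cartSect I e) x (r • oneG x) = l) ↔
      ∃ l', X.presheaf.germ U.1 x hx f • l' = l := by
  set fx := X.presheaf.germ U.1 x hx f with hfx
  have hI : IntMult.stalkIdeal I x = Ideal.span {fx} := by
    rw [IdealStalkLib.stalkIdeal_eq I U x hx, hU, Ideal.map_span, Set.image_singleton]
  let g := ((DCoh.tensorBi (X := X)).obj L).map (ClSub.idealModι I) ≫ LocFreeHomLib.runitMap L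
  have hg : ∀ (a : L.presheaf.stalk x) (n : (ClSub.idealMod I).presheaf.stalk x) (r : X.presheaf.stalk x),
      stalkLin (ClSub.idealModι I) x n = r • oneG x →
        stalkLin g x (stalkTensor x L _ (a ⊗ₜ n)) = r • a := by
    intro a n r hn
    rw [stalkLin_comp, LinearMap.comp_apply, stalkTensor_natural_right, LinearMap.lTensor_tmul, hn,
      TensorProduct.tmul_smul, map_smul, map_smul]
    exact congrArg _ (LocFreeHomLib.runitMap_stalk L x a)
  constructor
  · rintro ⟨r, rfl⟩
    obtain ⟨z, hz⟩ : ∃ z, stalkLin g x z = stalkLin (cartSect I e) x (r • oneG x) := by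
      refine ⟨stalkLin e.inv x (r • oneG x), ?_⟩
      exact (LinearMap.congr_fun (stalkLin_comp e.inv g x) _).symm
    rw [← hz]
    clear hz
    obtain ⟨c, rfl⟩ := (stalkTensor x L (ClSub.idealMod I)).surjective z
    induction c using TensorProduct.induction_on with
    | zero => exact ⟨0, by rw [smul_zero, map_zero, map_zero]⟩
    | tmul a n =>
      obtain ⟨q, hq⟩ := (bijective_oneG x).2 (stalkLin (ClSub.idealModι I) x n)
      have hq' : q ∈ IntMult.stalkIdeal I x := (HilbObsLib.mem_range_idealModι I x q).1 ⟨n, hq.symm⟩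
      rw [hI, Ideal.mem_span_singleton'] at hq'
      obtain ⟨p, rfl⟩ := hq'
      exact ⟨p • a, by rw [hg a n _ hq.symm, mul_comm, mul_smul]⟩
    | add p q hp hq =>
      obtain ⟨⟨p', hp'⟩, q', hq'⟩ := And.intro hp hq
      exact ⟨p' + q', by rw [smul_add, map_add, map_add, hp', hq']⟩
  · rintro ⟨l', rfl⟩
    obtain ⟨n, hn⟩ := (HilbObsLib.mem_range_idealModι I x fx).2 (hI ▸ Ideal.mem_span_singleton_self fx)
    obtain ⟨r, hr⟩ := (bijective_oneG x).2 (stalkLin e.hom x (stalkTensor x L _ (l' ⊗ₜ n)))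
    refine ⟨r, ?_⟩
    have he : stalkLin e.inv x (r • oneG x) = stalkTensor x L _ (l' ⊗ₜ n) := by
      rw [show r • oneG x = _ from hr]
      exact stalkLin_inv_apply e.symm x _
    rw [show cartSect I e = e.inv ≫ g from rfl, stalkLin_comp, LinearMap.comp_apply, he]
    exact hg l' n fx hn

/-- At each point, multiplication by the canonical section is multiplication by a local equation. -/
theorem exists_stalk_cartMul (U : X.affineOpens) {f : Γ(X, U.1)} (hf : f ∈ nonZeroDivisors Γ(X, U.1))
    (hU : I.ideal U = Ideal.span {f}) (x : X) (hx : x ∈ U.1) (M : X.Modules) :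
    ∃ φ : ((CurveLib.tensR L).obj M).presheaf.stalk x ≃ₗ[X.presheaf.stalk x] M.presheaf.stalk x,
      ∀ m, φ (stalkLin ((cartMul I e).app M) x m) = X.presheaf.germ U.1 x hx f • m := by
  set fx := X.presheaf.germ U.1 x hx f with hfx
  have hnz : fx ∈ nonZeroDivisors (X.presheaf.stalk x) := BlowExistsLib.germ_mem_nonZeroDivisors U.2 x hx hf
  obtain ⟨b, hb⟩ := exists_stalk_gen (isInvertible_inverse e) x
  obtain ⟨l', hl'⟩ := (range_cartSect I e U hU x hx _).1 ⟨1, rfl⟩
  rw [one_smul] at hl'
  obtain ⟨q, rfl⟩ := hb.2 l'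
  obtain ⟨r, hr⟩ := (range_cartSect I e U hU x hx (fx • b)).2 ⟨b, rfl⟩
  simp only [] at hl'
  rw [map_smul, ← hl'] at hr
  have hq : IsUnit q := by
    refine IsUnit.of_mul_eq_one r ((mul_cancel_left_mem_nonZeroDivisors hnz).1 ?_)
    refine hb.1 (?_ : (fx * (q * r)) • b = (fx * 1) • b)
    rw [mul_one, ← hr]
    simp only [smul_smul]
    congr 1
    ring
  have hb' : Function.Bijective (LinearMap.toSpanSingleton (X.presheaf.stalk x) (L.presheaf.stalk x) (q • b)) := by
    have h : (LinearMap.toSpanSingleton (X.presheaf.stalk x) (L.presheaf.stalk x) (q • b) : _ → _) =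
        (fun r => r • b) ∘ fun r => r * q := funext fun r => smul_smul r q b
    rw [h]
    exact hb.comp (IsUnit.isUnit_iff_mulRight_bijective.1 hq)
  let eL := LinearEquiv.ofBijective _ hb'
  let φ := (stalkTensor x M L).symm ≪≫ₗ TensorProduct.congr (LinearEquiv.refl _ _) eL.symm ≪≫ₗ
    TensorProduct.rid (X.presheaf.stalk x) (M.presheaf.stalk x)
  refine ⟨φ, fun m => ?_⟩
  let u := (ModTensor.tensorUnitRight X.sheaf).app M
  have h1 : stalkLin u.inv x m = stalkTensor x M (Coh.structureModule X) (m ⊗ₜ oneG x) :=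
    (stalkLin_runit_bijective M x).1
      ((stalkLin_inv_apply u x m).trans (LocFreeHomLib.runitMap_stalk M x m).symm)
  have h2 : stalkLin ((cartMul I e).app M) x m = stalkTensor x M L (m ⊗ₜ (fx • (q • b))) := by
    show stalkLin (u.inv ≫ ((DCoh.tensorBi (X := X)).obj M).map (cartSect I e)) x m = _
    rw [stalkLin_comp, LinearMap.comp_apply, h1]
    refine (stalkTensor_natural_right x (cartSect I e) (m ⊗ₜ[X.presheaf.stalk x] oneG x)).trans ?_
    rw [LinearMap.lTensor_tmul, ← hl']
    rfl
  have h3 : eL.symm (fx • (q • b)) = fx := (LinearEquiv.symm_apply_eq eL).2 rfl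
  rw [h2]
  show TensorProduct.rid (X.presheaf.stalk x) (M.presheaf.stalk x)
    (TensorProduct.congr (LinearEquiv.refl _ _) eL.symm ((stalkTensor x M L).symm (stalkTensor x M L _))) = _
  rw [LinearEquiv.symm_apply_apply, TensorProduct.congr_tmul, TensorProduct.rid_tmul, h3]
  rfl

variable (hI : BlowUp.IsEffCartierIdeal I)

/-- The local equation maps to zero on the divisor. -/
theorem stalkMap_eq_zero_of_equation (U : X.affineOpens) {f : Γ(X, U.1)} (hU : I.ideal U = Ideal.span {f})
    (z : I.subscheme) (hz : I.subschemeι z ∈ U.1) (a : X.presheaf.stalk (I.subschemeι z)) :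
    I.subschemeι.stalkMap z a = 0 ↔ a ∈ Ideal.span {X.presheaf.germ U.1 (I.subschemeι z) hz f} := by
  have h := IdealStalkLib.ker_stalkMap_subschemeι I z
  rw [IdealStalkLib.stalkIdeal_eq I U _ hz, hU, Ideal.map_span, Set.image_singleton] at h
  rw [← h]
  exact RingHom.mem_ker.symm

include hI in
theorem cartMul_suppOn {T : X.Modules} (hT : SuppOn I.subschemeι T) : (cartMul I e).app T = 0 := by
  refine (eq_zero_iff_stalk _).2 fun x => LinearMap.ext fun m => ?_
  obtain ⟨U, hx, f, hf, hU⟩ := hI x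
  obtain ⟨φ, hφ⟩ := exists_stalk_cartMul I e U hf hU x hx T
  refine φ.injective ((hφ m).trans ?_)
  rw [LinearMap.zero_apply, map_zero]
  by_cases hy : x ∈ Set.range I.subschemeι
  · obtain ⟨z, rfl⟩ := hy
    exact hT.smul_eq_zero z _ ((stalkMap_eq_zero_of_equation I U hU z hx _).2 (Ideal.mem_span_singleton_self _)) m
  · exact (hT.subsingleton x hy).elim _ _

include hI in
theorem suppOn_kernel_cartMul (M : X.Modules) : SuppOn I.subschemeι (kernel ((cartMul I e).app M)) := by
  have key : ∀ (U : X.affineOpens) (f : Γ(X, U.1)), f ∈ nonZeroDivisors Γ(X, U.1) → I.ideal U = Ideal.span {f} →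
      ∀ (x : X) (hx : x ∈ U.1) (z : (kernel ((cartMul I e).app M)).presheaf.stalk x),
        X.presheaf.germ U.1 x hx f • z = 0 := by
    intro U f hf hU x hx z
    obtain ⟨φ, hφ⟩ := exists_stalk_cartMul I e U hf hU x hx M
    apply (mono_iff_stalk (kernel.ι ((cartMul I e).app M))).1 inferInstance x
    rw [map_smul, map_zero, ← hφ]
    have h := LinearMap.congr_fun ((eq_zero_iff_stalk _).1 (kernel.condition ((cartMul I e).app M)) x) z
    rw [stalkLin_comp, LinearMap.comp_apply, LinearMap.zero_apply] at h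
    rw [h, map_zero]
  refine ⟨fun y hy => ?_, fun x a ha z => ?_⟩
  · obtain ⟨U, hyU, f, hf, hU⟩ := hI y
    have hy' : y ∉ X.zeroLocus (U := U.1) (I.ideal U) := fun h => hy <| by
      rw [Scheme.IdealSheafData.range_subschemeι]
      exact (Scheme.IdealSheafData.mem_support_iff_of_mem hyU).2 h
    rw [hU, Scheme.zeroLocus_span, Scheme.mem_zeroLocus_iff] at hy'
    push Not at hy'
    obtain ⟨c, hc, hcy⟩ := hy'
    rw [Set.mem_singleton_iff.1 hc] at hcy
    have hu : IsUnit (X.presheaf.germ U.1 y hyU f) := (X.mem_basicOpen f y hyU).1 hcy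
    exact subsingleton_of_forall_eq 0 fun w => hu.smul_eq_zero.1 (key U f hf hU y hyU w)
  · obtain ⟨U, hxU, f, hf, hU⟩ := hI (I.subschemeι x)
    obtain ⟨p, rfl⟩ := Ideal.mem_span_singleton'.1 ((stalkMap_eq_zero_of_equation I U hU x hxU a).1 ha)
    rw [mul_smul, key U f hf hU _ hxU z, smul_zero]

include hI in
theorem mono_cartMul_unit : Mono ((cartMul I e).app (Coh.structureModule X)) := by
  refine (mono_iff_stalk _).2 fun x => ?_
  obtain ⟨U, hx, f, hf, hU⟩ := hI x
  obtain ⟨φ, hφ⟩ := exists_stalk_cartMul I e U hf hU x hx (Coh.structureModule X)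
  refine (injective_iff_map_eq_zero _).2 fun m hm => ?_
  obtain ⟨r, rfl⟩ := (bijective_oneG x).2 m
  have h := (hφ (r • oneG x)).symm.trans (by rw [hm, map_zero])
  rw [smul_smul] at h
  have h' := (bijective_oneG x).1 (h.trans (zero_smul _ _).symm)
  show r • oneG x = 0
  rw [mul_comm] at h'
  rw [(mul_right_mem_nonZeroDivisors_eq_zero_iff (BlowExistsLib.germ_mem_nonZeroDivisors U.2 x hx hf)).1 h', zero_smul]

include hI in
/-- An injective module is divisible by the local equations. -/
theorem epi_cartMul_of_injective (M : X.Modules) [Injective M] : Epi ((cartMul I e).app M) := by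
  refine (epi_iff_stalk _).2 fun x w => ?_
  obtain ⟨U, hx, f, hf, hU⟩ := hI x
  obtain ⟨φ, hφ⟩ := exists_stalk_cartMul I e U hf hU x hx M
  suffices h : ∃ m, X.presheaf.germ U.1 x hx f • m = φ w by
    obtain ⟨m, hm⟩ := h
    exact ⟨m, φ.injective ((hφ m).trans hm)⟩
  obtain ⟨W, hxW, t, ht⟩ := TopCat.Presheaf.exists_germ_eq M.presheaf (φ w)
  rw [← ht]
  let V : X.Opens := U.1 ⊓ W
  let W' : X.Opens := V.ι ''ᵁ ⊤
  have hW : W' = V := Scheme.Opens.ι_image_top V
  have hxW' : x ∈ W' := hW ▸ ⟨hx, hxW⟩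
  let f' : Γ(X, W') := X.presheaf.map (homOfLE (hW.le.trans inf_le_left)).op f
  let t' : Γ(M, W') := M.presheaf.map (homOfLE (hW.le.trans inf_le_right)).op t
  let a : Γ((V : Scheme.{u}), ⊤) := (V.ι.appIso ⊤).hom f'
  let μ : Coh.structureModule (V : Scheme.{u}) ⟶ Coh.structureModule (V : Scheme.{u}) := DCohLib.secHom _ a
  haveI : Mono μ := by
    refine (mono_iff_stalk _).2 fun y => (injective_iff_map_eq_zero _).2 fun m hm => ?_
    obtain ⟨r, rfl⟩ := (bijective_oneG y).2 m
    have h1 := stalkLin_secHom_one a y (show y ∈ (⊤ : (V : Scheme.{u}).Opens) from trivial)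
    rw [map_smul, show stalkLin μ y (oneG y) = _ from h1, smul_smul] at hm
    have h2 := (bijective_oneG y).1 (hm.trans (zero_smul _ _).symm)
    have h3 : (V : Scheme.{u}).presheaf.germ ⊤ y (show y ∈ (⊤ : (V : Scheme.{u}).Opens) from trivial) a ∈
        nonZeroDivisors _ := by
      have hy : V.ι y ∈ U.1 := y.2.1
      have hyW : V.ι y ∈ W' := hW.ge y.2
      have h4 : V.ι.stalkMap y (X.presheaf.germ U.1 (V.ι y) hy f) =
          (V : Scheme.{u}).presheaf.germ ⊤ y (show y ∈ (⊤ : (V : Scheme.{u}).Opens) from trivial) a := by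
        rw [← X.presheaf.germ_res_apply (homOfLE (hW.le.trans inf_le_left)) (V.ι y) hyW f,
          Scheme.Hom.germ_stalkMap_apply]
        show _ = (V : Scheme.{u}).presheaf.germ ⊤ y _ ((V.ι.appIso ⊤).hom f')
        rw [Scheme.Hom.appIso_hom, CommRingCat.comp_apply, TopCat.Presheaf.germ_res_apply]
      rw [← h4]
      have hb := ConcreteCategory.bijective_of_isIso (V.ι.stalkMap y)
      have hn := BlowExistsLib.germ_mem_nonZeroDivisors U.2 (V.ι y) hy hf
      refine mem_nonZeroDivisors_iff_right.2 fun z hz => ?_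
      obtain ⟨z, rfl⟩ := hb.2 z
      rw [← map_mul] at hz
      rw [(mul_right_mem_nonZeroDivisors_eq_zero_iff hn).1 (hb.1 (hz.trans (map_zero _).symm)), map_zero]
    show r • oneG y = 0
    rw [(mul_right_mem_nonZeroDivisors_eq_zero_iff h3).1 h2, zero_smul]
  haveI : Injective ((Scheme.Modules.restrictFunctor V.ι).obj M) :=
    (CxOX.extZeroAdj V.ι).map_injective M inferInstance
  let τ : Coh.structureModule (V : Scheme.{u}) ⟶ (Scheme.Modules.restrictFunctor V.ι).obj M := DCohLib.secHom _ t'
  obtain ⟨h, hh⟩ := Injective.factors τ μ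
  let m₁ : Γ(M, W') := h.app ⊤ (1 : Γ((V : Scheme.{u}), ⊤))
  refine ⟨M.presheaf.germ W' x hxW' m₁, ?_⟩
  have e3 := app_secHom_factor a t' h hh
  have e4 : f' • m₁ = t' := (app_unit_smul V.ι M h f').symm.trans e3
  have e5 := congrArg (M.presheaf.germ W' x hxW') e4
  erw [PresheafOfModules.germ_smul (R := X.presheaf) M.val x W' hxW'] at e5
  rw [TopCat.Presheaf.germ_res_apply, TopCat.Presheaf.germ_res_apply] at e5
  exact e5

variable [Dual3.HasHomO I.subschemeι]

include hI in
theorem cartMul_counit (M : X.Modules) :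
    (Dual3.homOAdj I.subschemeι).counit.app M ≫ (cartMul I e).app M = 0 := by
  have h := (cartMul I e).naturality ((Dual3.homOAdj I.subschemeι).counit.app M)
  simp only [Functor.id_map] at h
  refine h.trans ?_
  rw [show (cartMul I e).app ((Dual3.homO I.subschemeι ⋙ Scheme.Modules.pushforward I.subschemeι).obj M) = 0 from
    cartMul_suppOn I e hI (suppOn_pushforward I.subschemeι _)]
  exact zero_comp

include hI in
/-- The counit is the kernel of multiplication by the canonical section. -/
theorem exact_cartMul (M : X.Modules) :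
    (ShortComplex.mk _ _ (cartMul_counit I e hI M)).Exact := by
  haveI := S3669.mono_counit I.subscheme X I.subschemeι M
  let k := kernel.ι ((cartMul I e).app M)
  haveI := isIso_unit_of_suppOn I.subschemeι (suppOn_kernel_cartMul I e hI M)
  let A := Scheme.Modules.pullbackPushforwardAdjunction I.subschemeι
  let l := A.unit.app _ ≫ (Scheme.Modules.pushforward I.subschemeι).map
    ((Dual3.homOAdj I.subschemeι).homEquiv _ M (inv (A.unit.app (kernel ((cartMul I e).app M))) ≫ k))
  have hl : l ≫ (Dual3.homOAdj I.subschemeι).counit.app M = k := by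
    rw [Category.assoc]
    refine (congrArg _ (((Dual3.homOAdj I.subschemeι).homEquiv_counit _ _ _).symm.trans
      (Equiv.symm_apply_apply _ _))).trans ?_
    exact IsIso.hom_inv_id_assoc _ _
  exact ShortComplex.exact_of_f_is_kernel _
    (KernelFork.IsLimit.ofι _ _ (fun g hg => kernel.lift _ g hg ≫ l)
      (fun g hg => by rw [Category.assoc, hl]; exact kernel.lift_ι _ _ _)
      (fun g hg b hb => by
        refine (cancel_mono ((Dual3.homOAdj I.subschemeι).counit.app M)).1 ?_
        rw [hb, Category.assoc, hl]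
        exact (kernel.lift_ι _ _ _).symm))

end Groth.Agent.TwistShriek
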