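import Groth.Agent.TwistShriek.DualizingTop
import Groth.Agent.DualCxLib.EndModule
import Groth.Agent.CAlgBasics.Depth
import Groth.Agent.CAlgBasics.ReflexiveDepth
import Mathlib.Algebra.Homology.DerivedCategory.Ext.ExactSequences

/-!
# Biduality for torsion-free modules over a one-dimensional local domain
-/

set_option autoImplicit false
set_option linter.style.haveILetI false
set_option linter.unusedSectionVars false
set_option backward.isDefEq.respectTransparency false
set_option maxHeartbeats 1000000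
set_option maxRecDepth 4000

universe u

open CategoryTheory CategoryTheory.Limits
open Groth.Agent.DualCxLib

attribute [local instance] HasDerivedCategory.standard

noncomputable section

namespace Groth.Agent.TwistShriek

variable {A : Type u} [CommRing A] {W : Type u} [AddCommGroup W] [Module A W]

theorem exists_extend {M N : Type u} [AddCommGroup M] [Module A M] [AddCommGroup N] [Module A N]
    (j : M →ₗ[A] N) (hj : Function.Injective j)
    (h : Subsingleton (Abelian.Ext (ModuleCat.of A (N ⧸ LinearMap.range j)) (ModuleCat.of A W) 1))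
    (ψ : M →ₗ[A] W) : ∃ Ψ : N →ₗ[A] W, Ψ ∘ₗ j = ψ := by
  let S : ShortComplex (ModuleCat.{u} A) := ShortComplex.mk (ModuleCat.ofHom j)
    (ModuleCat.ofHom (LinearMap.range j).mkQ) (by ext x; exact (Submodule.Quotient.mk_eq_zero _).2 ⟨x, rfl⟩)
  have hS : S.ShortExact :=
    { exact := (ShortComplex.ShortExact.moduleCat_exact_iff_function_exact S).2
        (LinearMap.exact_map_mkQ_range j)
      mono_f := (ModuleCat.mono_iff_injective _).2 hj
      epi_g := (ModuleCat.epi_iff_surjective _).2 (Submodule.mkQ_surjective _) }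
  obtain ⟨x₂, hx⟩ := Abelian.Ext.contravariant_sequence_exact₁ hS (ModuleCat.of A W)
    (Abelian.Ext.mk₀ (ModuleCat.ofHom ψ : S.X₁ ⟶ _)) (n₁ := 1) rfl (h.elim _ _)
  obtain ⟨g, rfl⟩ := (Abelian.Ext.mk₀_bijective _ _).2 x₂
  rw [Abelian.Ext.mk₀_comp_mk₀] at hx
  exact ⟨g.hom, congrArg ModuleCat.Hom.hom ((Abelian.Ext.mk₀_bijective _ _).1 hx)⟩

/-- Maps into the dual separate and exhaust: `m ↦ (φ ↦ φ m)` is surjective. -/
theorem exists_eq_eval [IsDomain A] [IsNoetherianRing A] [Module.Finite A W] [Module.IsTorsionFree A W]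
    (hEnd : Function.Surjective fun r : A => r • (LinearMap.id : W →ₗ[A] W))
    (hExt : ∀ (N : Type u) [AddCommGroup N] [Module A N] [Module.Finite A N] [Module.IsTorsionFree A N],
      Subsingleton (Abelian.Ext (ModuleCat.of A N) (ModuleCat.of A W) 1))
    {M : Type u} [AddCommGroup M] [Module A M] [Module.Finite A M] (ψ : (M →ₗ[A] W) →ₗ[A] W) :
    ∃ m : M, ∀ φ : M →ₗ[A] W, ψ φ = φ m := by
  classical
  obtain ⟨n, π, hπ⟩ := Module.Finite.exists_fin' A M
  let j : (M →ₗ[A] W) →ₗ[A] ((Fin n → A) →ₗ[A] W) := LinearMap.lcomp A W π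
  have hj : Function.Injective j := fun a b h => LinearMap.ext fun m => by
    obtain ⟨v, rfl⟩ := hπ m
    exact LinearMap.congr_fun h v
  let r : ((Fin n → A) →ₗ[A] W) →ₗ[A] (LinearMap.ker π →ₗ[A] W) := LinearMap.lcomp A W (LinearMap.ker π).subtype
  have hr : LinearMap.ker r = LinearMap.range j := by
    refine le_antisymm (fun g hg => ?_) ?_
    · have hker : LinearMap.ker π ≤ LinearMap.ker g := fun v hv => LinearMap.congr_fun hg ⟨v, hv⟩
      exact ⟨((LinearMap.ker π).liftQ g hker).comp (π.quotKerEquivOfSurjective hπ).symm.toLinearMap,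
        LinearMap.ext fun v => by
          show ((LinearMap.ker π).liftQ g hker) ((π.quotKerEquivOfSurjective hπ).symm (π v)) = g v
          rw [show (π.quotKerEquivOfSurjective hπ).symm (π v) = Submodule.Quotient.mk v from
            (LinearEquiv.symm_apply_eq _).2 rfl]
          rfl⟩
    · rintro _ ⟨φ, rfl⟩
      refine LinearMap.mem_ker.2 (LinearMap.ext fun v => ?_)
      show φ (π v.1) = 0
      rw [LinearMap.mem_ker.1 v.2, map_zero]
  let rb : (((Fin n → A) →ₗ[A] W) ⧸ LinearMap.range j) →ₗ[A] (LinearMap.ker π →ₗ[A] W) :=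
    (LinearMap.range j).liftQ r hr.ge
  have hrb : Function.Injective rb := LinearMap.ker_eq_bot.1 (Submodule.ker_liftQ_eq_bot _ r hr.ge hr.le)
  haveI : Module.IsTorsionFree A (LinearMap.ker π →ₗ[A] W) := Module.IsTorsionFree.of_smul_eq_zero fun a φ h => by
    refine or_iff_not_imp_left.2 fun ha => LinearMap.ext fun v => ?_
    exact (smul_eq_zero.1 (LinearMap.congr_fun h v)).resolve_left ha
  haveI : Module.IsTorsionFree A (((Fin n → A) →ₗ[A] W) ⧸ LinearMap.range j) :=
    hrb.moduleIsTorsionFree _ (map_smul rb)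
  obtain ⟨Ψ, hΨ⟩ := exists_extend j hj (hExt _) ψ
  have h1 : ∀ i : Fin n, ∃ a : A, ∀ w : W,
      Ψ ((LinearMap.proj (R := A) (φ := fun _ : Fin n => A) i).smulRight w) = a • w := fun i => by
    obtain ⟨a, ha⟩ := hEnd (Ψ ∘ₗ LinearMap.smulRightₗ (LinearMap.proj (R := A) (φ := fun _ : Fin n => A) i))
    exact ⟨a, fun w => (LinearMap.congr_fun ha w).symm⟩
  choose a ha using h1
  refine ⟨π a, fun φ => ?_⟩
  rw [← hΨ]
  show Ψ (φ ∘ₗ π) = (φ ∘ₗ π) a
  generalize φ ∘ₗ π = g
  have hg : g = ∑ i, (LinearMap.proj (R := A) (φ := fun _ : Fin n => A) i).smulRight (g (Pi.single i 1)) := by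
    refine LinearMap.ext fun v => ?_
    rw [LinearMap.sum_apply]
    conv_lhs => rw [pi_eq_sum_univ' v, map_sum]
    exact Finset.sum_congr rfl fun i _ => (map_smul g _ _)
  conv_lhs => rw [hg, map_sum]
  conv_rhs => rw [pi_eq_sum_univ' a, map_sum]
  exact Finset.sum_congr rfl fun i _ => (ha i _).trans (map_smul g _ _).symm

/-- Over a one-dimensional local domain the top cohomology of a dualizing complex is a canonical module. -/
theorem canonical_of_dualizing [IsLocalRing A] [IsNoetherianRing A] [IsDomain A] {Ω : Dual.D A}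
    (hΩ : Dual.IsDualizing A Ω) (hn : Dual.IsNormalized A Ω) (hd : ringKrullDim A = 1)
    (e : Dual.HD A Ω (-1) ≃ₗ[A] W) :
    (Function.Bijective fun r : A => r • (LinearMap.id : W →ₗ[A] W)) ∧
      ∀ (N : Type u) [AddCommGroup N] [Module A N] [Module.Finite A N] [Module.IsTorsionFree A N],
        Subsingleton (Abelian.Ext (ModuleCat.of A N) (ModuleCat.of A W) 1) := by
  have hnf : ¬ IsField A := fun hf => by
    letI := hf.toField
    rw [ringKrullDim_eq_zero_of_field] at hd
    exact zero_ne_one hd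
  have hdepth : ∀ (N : Type u) [AddCommGroup N] [Module A N] [Module.Finite A N] [Module.IsTorsionFree A N],
      1 ≤ LocCoh.depth A N := fun N _ _ _ _ => CAlgBasics.one_le_depth_iff.2 fun x hx => by
    obtain ⟨a, ha, ha0⟩ := Submodule.exists_mem_ne_zero_of_ne_bot
      (IsLocalRing.isField_iff_maximalIdeal_eq.not.1 hnf)
    exact (smul_eq_zero.1 (hx a ha)).resolve_left ha0
  have hHK : ∀ (N : Type u) [AddCommGroup N] [Module A N] [Module.Finite A N] [Module.IsTorsionFree A N]
      (i : ℤ), -1 < i → Subsingleton (HK Ω i N) := fun N _ _ _ _ i hi => by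
    rcases subsingleton_or_nontrivial N with hs | hs
    · exact subsingleton_of_subsingleton Ω _
    refine not_nontrivial_iff_subsingleton.1 fun hnt => ?_
    obtain ⟨D, hD⟩ := FlatDepth.exists_depth_eq (R := A) (M := N)
    have := (depth_bounds_local hΩ hn hD).1 i hnt
    have h1 := hdepth N
    rw [hD] at h1
    have : (1 : ℕ) ≤ D := by exact_mod_cast h1
    omega
  have hconc : ∀ j : ℤ, j ≠ -1 → Subsingleton (Dual.HD A Ω j) := fun j hj => by
    obtain ⟨ej⟩ := (model hΩ).nonempty_HD_equiv j
    refine not_nontrivial_iff_subsingleton.1 fun hnt => ?_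
    have hnt' : Nontrivial (HK Ω j A) := by
      first
        | exact ej.toEquiv.nontrivial_congr.1 hnt
        | exact ej.toEquiv.nontrivial_congr.2 hnt
    obtain ⟨h1, -⟩ := dim_bounds_local hΩ hn (M := A) (d := 1)
      (by rw [Module.supportDim_self_eq_ringKrullDim, hd]; rfl)
    rcases lt_or_gt_of_ne hj with h | h
    · have := (h1 j hnt').1; omega
    · exact not_nontrivial_iff_subsingleton.2 (hHK A j h) hnt'
  constructor
  · have hsk : LocCoh.HasSk 2 A A := fun p _ => by
      have h1 := ((CAlgBasics.isTorsionFree_iff_hasSk_one (R := A) A).1 inferInstance).2 p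
      refine le_trans ?_ h1
      have hle : Module.supportDim (Localization.AtPrime p) (LocalizedModule p.primeCompl A) ≤
          ((1 : ℕ) : WithBot ℕ∞) := (HSLib.supportDim_localized_le _ A).trans
        (by rw [Module.supportDim_self_eq_ringKrullDim, hd]; rfl)
      exact (min_le_right _ _).trans (le_min hle le_rfl)
    have hb' := DualCxLib.toEnd_dualizingModule_bijective hΩ hn 1 hd hsk
    have hb := hb'.2
    refine ⟨fun r r' hrr => hb'.1 (LinearMap.ext fun w => e.injective ?_), fun φ => ?_⟩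
    · simpa using LinearMap.congr_fun hrr (e w)
    obtain ⟨r, hr⟩ := hb (e.symm.toLinearMap ∘ₗ φ ∘ₗ e.toLinearMap)
    refine ⟨r, LinearMap.ext fun w => e.symm.injective ?_⟩
    have := LinearMap.congr_fun hr (e.symm w)
    simpa using this
  · intro N _ _ _ _
    haveI : Module.Finite A (Dual.HD A Ω (-1)) := hΩ.finite_cohomology _
    haveI : DerivedCategory.IsGE Ω (-1) := (DerivedCategory.isGE_iff _ _).2 fun j hj =>
      ModuleCat.isZero_iff_subsingleton.2 (hconc j hj.ne)
    haveI : DerivedCategory.IsLE Ω (-1) := (DerivedCategory.isLE_iff _ _).2 fun j hj =>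
      ModuleCat.isZero_iff_subsingleton.2 (hconc j (ne_of_gt hj))
    obtain ⟨Y, ⟨eY⟩⟩ := DerivedCategory.exists_iso_singleFunctor_obj_of_isGE_of_isLE Ω (-1)
    let eN : Y ≃ₗ[A] W :=
      ((DerivedCategory.singleFunctorCompHomologyFunctorIso (ModuleCat.{u} A) (-1)).app Y).toLinearEquiv.symm.trans
        (((DerivedCategory.homologyFunctor (ModuleCat.{u} A) (-1)).mapIso eY.symm).toLinearEquiv.trans e)
    let eΩ : Ω ≅ (Dual.inD A W)⟦(1 : ℤ)⟧ := eY ≪≫
      (DerivedCategory.singleFunctor (ModuleCat.{u} A) (-1)).mapIso eN.toModuleIso ≪≫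
      (((DerivedCategory.singleFunctors (ModuleCat.{u} A)).shiftIso 1 (-1) 0 (by norm_num)).app _).symm
    haveI := hHK N 0 (by norm_num)
    haveI : Subsingleton (Dual.inD A N ⟶ (Dual.inD A W)⟦(1 : ℤ)⟧) :=
      ((Iso.refl (Dual.inD A N)).homCongr ((shiftFunctorZero (Dual.D A) ℤ).app Ω ≪≫ eΩ)).symm.subsingleton
    exact (Abelian.Ext.homEquiv (X := ModuleCat.of A N) (Y := ModuleCat.of A W) (n := 1)).subsingleton

end Groth.Agent.TwistShriek
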