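import Groth.Agent.TwistShriek.DualizingNormal
import Groth.Agent.AssLib.Noetherian
import Groth.Agent.DualCxLib.SchStalk

/-!
# The dualizing module of a proper scheme over a local ring
-/

set_option autoImplicit false
set_option linter.style.haveILetI false
set_option linter.unusedSectionVars false
set_option backward.isDefEq.respectTransparency false
set_option maxHeartbeats 1600000
set_option maxRecDepth 4000

universe u

open CategoryTheory CategoryTheory.Limits AlgebraicGeometry
open Groth.Agent.DCohLib Groth.Agent.DRingLib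

attribute [local instance] HasDerivedCategory.standard

noncomputable section

namespace Groth.Agent.TwistShriek

open Groth.Agent.DualCxLib

section Setup

variable {A : Type u} [CommRing A] [IsLocalRing A] [IsNoetherianRing A] {X : Scheme.{u}}
  [∀ (U : Scheme.{u}) (j : U ⟶ X) [IsOpenImmersion j], PreservesFiniteLimits (Scheme.Modules.restrictFunctor j)]
  [∀ (U : Scheme.{u}) (j : U ⟶ Spec (CommRingCat.of A)) [IsOpenImmersion j],
    PreservesFiniteLimits (Scheme.Modules.restrictFunctor j)]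
  [∀ (R : CommRingCat.{u}), PreservesFiniteLimits (tilde.functor R)]
  (f : X ⟶ Spec (CommRingCat.of A)) [IsProper f] [DCoh.HasRpush f] (hf : DCoh.RpushPreservesQCoh f)
  (a : DCoh.DQCoh (Spec (CommRingCat.of A)) ⥤ DCoh.DQCoh X) (adj : DCoh.RpushQ f hf ⊣ a)

include adj in
/-- The transform of a normalized dualizing complex. -/
theorem proper_local_setup {ω : Dual.D A} (hω : Dual.IsDualizing A ω) (hn : Dual.IsNormalized A ω)
    (W : DCoh.DQCoh (Spec (CommRingCat.of A))) (eW : W.obj ≅ (DCoh.tildeD (CommRingCat.of A)).obj ω) :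
    Dual2.IsDualizingSch X (a.obj W).obj ∧ DCoh.IsCohD (a.obj W).obj ∧
      ∀ x₀ : X, IsClosed ({x₀} : Set X) → NormalizedAt (a.obj W).obj x₀ := by
  haveI : IsLocallyNoetherian X := LocallyOfFiniteType.isLocallyNoetherian f
  haveI : CompactSpace X := QuasiCompact.compactSpace_of_compactSpace f
  haveI : QuasiSeparatedSpace X := quasiSeparatedSpace_of_quasiSeparated f
  let Y := Spec (CommRingCat.of A)
  have hV : IsAffineOpen (⊤ : Y.Opens) := isAffineOpen_top Y
  let G := Γ(Y, ⊤)
  haveI : IsOpenImmersion hV.fromSpec := inferInstance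
  let φ : A →+* G := (Scheme.ΓSpecIso (CommRingCat.of A)).inv.hom
  have hφ : Function.Bijective φ := ConcreteCategory.bijective_of_isIso (Scheme.ΓSpecIso (CommRingCat.of A)).inv
  have hw : Spec.map (CommRingCat.ofHom φ) = hV.fromSpec := by
    rw [IsAffineOpen.fromSpec_top, Scheme.isoSpec_Spec_inv]
    rfl
  let eG : A ≃+* G := RingEquiv.ofBijective φ hφ
  haveI : IsLocalRing G := eG.isLocalRing
  haveI : IsNoetherianRing G := isNoetherianRing_of_ringEquiv A eG
  haveI : DRing.HasLBaseChange φ := DRingLib.hasLBaseChange _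
  haveI : IsOpenImmersion (Spec.map (CommRingCat.ofHom φ)) := hw.symm ▸ inferInstance
  obtain ⟨t⟩ := nonempty_restrictD_tildeD φ ω
  let eA : (DCoh.restrictD hV.fromSpec).obj W.obj ≅
      (DCoh.tildeD (CommRingCat.of G)).obj ((DRing.LBaseChange φ).obj ω) :=
    (restrictDCongr hw.symm).app W.obj ≪≫ (DCoh.restrictD _).mapIso eW ≪≫ t
  have hdG := isDualizing_lbc_of_bijective φ hφ hω
  have hnG := isNormalized_lbc_of_bijective φ hφ hω hn
  have hW : Dual2.IsDualizingSch Y W.obj := isDualizingSch_of_cover W.obj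
    (ι := PUnit.{1}) (fun _ => G) (fun _ => hV.fromSpec)
    (fun y => ⟨⟨⟩, (Set.ext_iff.1 hV.range_fromSpec y).2 trivial⟩) (fun _ => ⟨_, hdG, ⟨eA⟩⟩)
  obtain ⟨hc, c₀, hc₀⟩ := bddCoh_of_isDualizingSch hW
  obtain ⟨N, hN⟩ := DQCohBrown.exists_bound_rightAdjoint f hf a adj
  haveI : (a.obj W).obj.IsGE (c₀ - 1 - N + 1) := (DerivedCategory.isGE_iff _ _).2 fun i hi =>
    hN W (c₀ - 1) (fun j hj => DerivedCategory.isZero_of_isGE W.obj c₀ j (by omega)) i (by omega)
  refine ⟨isDualizingSch_rightAdjoint f hf a adj W hW, isCohD_rightAdjoint f hf a adj W ⟨hc, c₀, hc₀⟩,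
    fun x₀ hx₀ => ?_⟩
  obtain ⟨B, _, j, _, ω', m, _, hm, he, hd', hv⟩ := exists_stalk_closed f hf a adj W ⟨hc, c₀, hc₀⟩
    (c₀ - 1 - N + 1) x₀ hx₀ ⊤ hV trivial _ hdG eA
  refine ⟨B, inferInstance, j, inferInstance, ω', m, inferInstance, hm, he, hd', fun i hi => hv i fun n hn' => ?_⟩
  obtain rfl := IsLocalRing.eq_maximalIdeal hn'
  exact hnG i hi

end Setup

attribute [local instance 10] specializationOrder

variable {X : Scheme.{u}}
  [∀ (U : Scheme.{u}) (j : U ⟶ X) [IsOpenImmersion j], PreservesFiniteLimits (Scheme.Modules.restrictFunctor j)]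
  [∀ (R : CommRingCat.{u}), PreservesFiniteLimits (tilde.functor R)] [IsLocallyNoetherian X] [CompactSpace X]

/-- The support of the lowest cohomology sheaf. -/
theorem support_lowest (K : DCoh.D X) (hK : Dual2.IsDualizingSch X K) (hc : DCoh.IsCohD K)
    (hn : ∀ x₀ : X, IsClosed ({x₀} : Set X) → NormalizedAt K x₀) (d : ℕ)
    (hd : topologicalKrullDim X = (d : WithBot ℕ∞)) :
    {x : X | Nontrivial ((DCoh.HD K (-(d : ℤ))).presheaf.stalk x)} =
      ⋃ Z ∈ {Z : Set X | Z ∈ irreducibleComponents X ∧ topologicalKrullDim ↥Z = (d : WithBot ℕ∞)}, Z := by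
  have hdim : Order.krullDim X ≤ d := by rw [← ASp.topologicalKrullDim_eq_krullDim, hd]
  let S := {x : X | Nontrivial ((DCoh.HD K (-(d : ℤ))).presheaf.stalk x)}
  have hS : IsClosed S := by
    have : S = CohB1.support (DCoh.HD K (-(d : ℤ))) := Set.ext fun x => not_subsingleton_iff_nontrivial.symm
    rw [this]
    exact PullbackMod.isClosed_support_of_isFT (hc _).2
  ext x
  simp only [Set.mem_iUnion, exists_prop]
  constructor
  · intro hx
    obtain ⟨x₀, hx₀, hcl⟩ := exists_closed_specialization x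
    obtain ⟨l, hl, hlx⟩ := exists_long_chain x₀ (hn x₀ hcl) hdim hx₀ hx
    let Z := irreducibleComponent l.last
    have hZ : IsClosed Z := isClosed_irreducibleComponent
    have hmem : ∀ k, l k ∈ Z := fun k =>
      Specializes.mem_closed (l.monotone (Fin.le_last k) : l.last ⤳ l k) hZ mem_irreducibleComponent
    refine ⟨Z, ⟨irreducibleComponent_mem_irreducibleComponents _, le_antisymm ?_ ?_⟩,
      hlx.mem_closed hZ mem_irreducibleComponent⟩
    · exact (topologicalKrullDim_subspace_le X Z).trans hd.le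
    · haveI : QuasiSober Z := hZ.isClosedEmbedding_subtypeVal.quasiSober
      rw [ASp.topologicalKrullDim_eq_krullDim]
      let l' : @LTSeries Z (specializationOrder Z).toPreorder :=
        @LTSeries.mk Z (specializationOrder Z).toPreorder l.length (fun k => ⟨l k, hmem k⟩) fun a b hab => by
          refine @lt_of_le_not_ge Z (specializationOrder Z).toPreorder _ _ ?_ ?_
          · exact (subtype_specializes_iff _ _).2 (l.strictMono hab).le
          · exact fun h => (l.strictMono hab).not_ge ((subtype_specializes_iff _ _).1 h)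
      exact le_trans (by exact_mod_cast hl) (@Order.LTSeries.length_le_krullDim Z (specializationOrder Z).toPreorder l')
  · rintro ⟨Z, ⟨hZc, hZd⟩, hxZ⟩
    have hZ : IsClosed Z := isClosed_of_mem_irreducibleComponents Z hZc
    haveI : QuasiSober Z := hZ.isClosedEmbedding_subtypeVal.quasiSober
    obtain ⟨ξ, hξ⟩ := QuasiSober.sober hZc.1 hZ
    rw [ASp.topologicalKrullDim_eq_krullDim] at hZd
    obtain ⟨l, hl⟩ := (@Order.le_krullDim_iff Z (specializationOrder Z).toPreorder _).1 hZd.ge
    let l' : LTSeries X := LTSeries.mk l.length (fun k => ((l k : Z) : X)) fun a b hab =>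
      lt_of_le_of_ne ((subtype_specializes_iff _ _).1 (@LTSeries.strictMono Z (specializationOrder Z).toPreorder l _ _ hab).le)
        fun he => @ne_of_lt Z (specializationOrder Z).toPreorder _ _ (@LTSeries.strictMono Z (specializationOrder Z).toPreorder l _ _ hab) (Subtype.ext he)
    have hξl : ξ ⤳ l'.last := hξ.specializes l.last.2
    have key : ∀ (L : LTSeries X), d ≤ L.length → ∀ i : ℤ, Nontrivial ((DCoh.HD K i).presheaf.stalk L.last) →
        i = -(d : ℤ) ∧ L.length = d := by
      intro L hL i hi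
      obtain ⟨x₀, hx₀, hcl⟩ := exists_closed_specialization L.head
      obtain ⟨h1, h2⟩ := bounds_of_normalizedAt K x₀ (hn x₀ hcl) i L hx₀ hi
      have := h2 d hdim
      omega
    have heq : l'.last = ξ := by
      by_contra hne
      let L := l'.snoc ξ (lt_of_le_of_ne (show l'.last ≤ ξ from hξl) hne)
      obtain ⟨i, hi⟩ := exists_nontrivial_stalk hK L.last
      have := (key L (by show d ≤ (l'.snoc _ _).length; rw [RelSeries.snoc_length]; show d ≤ l.length + 1; omega) i hi).2
      have h3 : L.length = l.length + 1 := RelSeries.snoc_length _ _ _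
      omega
    obtain ⟨i, hi⟩ := exists_nontrivial_stalk hK ξ
    rw [← heq] at hi
    obtain ⟨rfl, -⟩ := key l' (by show d ≤ l.length; omega) i hi
    have hξS : ξ ∈ S := by show Nontrivial _; rw [← heq]; exact hi
    exact (hξ.specializes hxZ).mem_closed hS hξS

/-- The depth at a closed point. -/
theorem nontrivial_iff_depth_le (K : DCoh.D X) (x : X) (h : NormalizedAt K x) (i : ℤ) :
    (∃ j : ℤ, i ≤ j ∧ j ≤ 0 ∧ Nontrivial ((DCoh.HD K j).presheaf.stalk x)) ↔
      (LocCoh.depth (X.presheaf.stalk x) (X.presheaf.stalk x) : ℕ∞) ≤ ((-i).toNat : ℕ∞) ∧ i ≤ 0 := by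
  obtain ⟨Ω, hΩ, hn, he⟩ := exists_local_normalized x h
  haveI := hΩ.isNoetherianRing
  obtain ⟨D, hD⟩ := FlatDepth.exists_depth_eq (R := X.presheaf.stalk x) (M := X.presheaf.stalk x)
  obtain ⟨h1, h2⟩ := depth_bounds_local hΩ hn hD
  have hiff : ∀ j, Nontrivial ((DCoh.HD K j).presheaf.stalk x) ↔ Nontrivial (HK Ω j (X.presheaf.stalk x)) := by
    intro j
    obtain ⟨e⟩ := he j
    obtain ⟨e'⟩ := (model hΩ).nonempty_HD_equiv j
    exact (e'.trans e).toEquiv.nontrivial_congr.symm
  rw [hD, Nat.cast_le]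
  refine ⟨fun ⟨j, hij, hj0, hj⟩ => ?_, fun ⟨hDi, hi⟩ => ⟨-(D : ℤ), by omega, by omega, (hiff _).2 h2⟩⟩
  have := h1 j ((hiff j).1 hj)
  omega

/-- No associated closed point in positive dimension. -/
theorem not_isAssPoint_lowest (K : DCoh.D X) (x : X) (h : NormalizedAt K x) {n : ℤ}
    (hlt : ∀ i : ℤ, i < n → IsZero (DCoh.HD K i)) (hn0 : n < 0) :
    ¬ Curv2.IsAssPoint (DCoh.HD K n) x := by
  obtain ⟨Ω, hΩ, hn, he⟩ := exists_local_normalized x h
  haveI := hΩ.isNoetherianRing
  obtain ⟨e⟩ := he n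
  obtain ⟨e'⟩ := (model hΩ).nonempty_HD_equiv n
  have hlo := le_dfn_of_isZero x hΩ he hlt
  have h0 := dfn_closedPoint hΩ hn
  obtain ⟨r, hr, hQ⟩ := exists_avoid hΩ (X.presheaf.stalk x) (fun Q _ => hlo Q)
    (IsLocalRing.closedPoint (X.presheaf.stalk x)) (by rw [h0]; exact hn0)
  have hreg := ((e'.trans e).isSMulRegular_congr r).1
    (exists_top_regular hΩ (X.presheaf.stalk x) (fun Q _ => hlo Q) hQ).1
  rintro ⟨hp, z, hz⟩
  have hr' : r ∈ IsLocalRing.maximalIdeal (X.presheaf.stalk x) := hr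
  rw [hz] at hr'
  obtain ⟨k, hk⟩ := hr'
  have hz0 : z = 0 := (hreg.pow k).right_eq_zero_of_smul (by simpa using hk)
  refine hp.ne_top ?_
  rw [hz, hz0, eq_top_iff]
  exact fun s _ => ⟨1, by simp⟩

end Groth.Agent.TwistShriek
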