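import Groth.Agent.TwistShriek.DualizingGlue
import Groth.Agent.DualCxLib.GorSchMain
import Groth.Agent.DualCxLib.Local
import Groth.Agent.S2720
import Groth.Agent.TildeOpenLib.Basic

/-!
# Dualizing complexes are local for affine covers
-/

set_option autoImplicit false
set_option linter.style.haveILetI false
set_option linter.unusedSectionVars false
set_option backward.isDefEq.respectTransparency false
set_option maxHeartbeats 1000000
set_option maxRecDepth 4000

universe u

open CategoryTheory CategoryTheory.Limits AlgebraicGeometry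
open Groth.Agent.DCohLib

attribute [local instance] HasDerivedCategory.standard

noncomputable section

namespace Groth.Agent.TwistShriek

open Groth.Agent.DualCxLib

variable {X : Scheme.{u}}
  [∀ (U : Scheme.{u}) (j : U ⟶ X) [IsOpenImmersion j], PreservesFiniteLimits (Scheme.Modules.restrictFunctor j)]
  [∀ (R : CommRingCat.{u}), PreservesFiniteLimits (tilde.functor R)]

/-- The homology of a model on an affine open. -/
def homologyModelIso {A : Type u} [CommRing A] (j : Spec (CommRingCat.of A) ⟶ X) [IsOpenImmersion j]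
    {K : DCoh.D X} {ω : Dual.D A} (e : (DCoh.restrictD j).obj K ≅ (DCoh.tildeD (CommRingCat.of A)).obj ω) (i : ℤ) :
    (tilde.functor (CommRingCat.of A)).obj ((DerivedCategory.homologyFunctor (ModuleCat.{u} A) i).obj ω) ≅
      (Scheme.Modules.restrictFunctor j).obj (DCoh.HD K i) :=
  haveI : (tilde.functor (CommRingCat.of A)).Additive := TildeKFlat.additive_til _
  haveI : PreservesColimitsOfSize.{0, 0} (tilde.functor (CommRingCat.of A)) :=
    (tilde.adjunction (R := CommRingCat.of A)).leftAdjoint_preservesColimits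
  haveI : PreservesFiniteColimits (tilde.functor (CommRingCat.of A)) :=
    PreservesColimitsOfSize.preservesFiniteColimits _
  ((TildeD.nu (tilde.functor (CommRingCat.of A)) i).app ω).symm ≪≫
    (DerivedCategory.homologyFunctor _ i).mapIso e.symm ≪≫ restrictHDIso j K i

/-- Coherence of the cohomology on the range of a chart with finite cohomology modules. -/
theorem isCoh_restrict_opensRange_of_finite {A : Type u} [CommRing A] [IsNoetherianRing A]
    (j : Spec (CommRingCat.of A) ⟶ X) [IsOpenImmersion j]
    {K : DCoh.D X} {ω : Dual.D A} (e : (DCoh.restrictD j).obj K ≅ (DCoh.tildeD (CommRingCat.of A)).obj ω) (i : ℤ)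
    (hfin : Module.Finite A (Dual.HD A ω i)) :
    Coh.IsCoh ((Scheme.Modules.restrictFunctor j.opensRange.ι).obj (DCoh.HD K i)) := by
  haveI : IsNoetherianRing (CommRingCat.of A) := ‹IsNoetherianRing A›
  haveI : Module.Finite (CommRingCat.of A) ((DerivedCategory.homologyFunctor (ModuleCat.{u} A) i).obj ω) := hfin
  have h1 : Coh.IsCoh ((Scheme.Modules.restrictFunctor j).obj (DCoh.HD K i)) :=
    TildeOpenLib.isCoh_of_iso' (homologyModelIso j e i) (S2720.isCoh_tilde' _)
  have w : j.opensRange.ι = j.isoOpensRange.inv ≫ j := by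
    rw [Iso.eq_inv_comp]
    exact j.isoOpensRange_hom_ι
  have hN : Coh.IsCoh ((Scheme.Modules.restrictFunctor j.isoOpensRange.inv).obj
      ((Scheme.Modules.restrictFunctor j).obj (DCoh.HD K i))) := by
    haveI : ((Scheme.Modules.restrictFunctor j).obj (DCoh.HD K i)).IsQuasicoherent := h1.1
    exact ⟨Scheme.Modules.isQuasicoherent_restrictFunctor _ _, DCohMore.isFT_restrictFunctor _ h1.2⟩
  exact TildeOpenLib.isCoh_of_iso' (((Scheme.Modules.restrictFunctorComp j.isoOpensRange.inv j).app _).symm ≪≫
    (Scheme.Modules.restrictFunctorCongr w).symm.app _) hN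

omit [∀ (U : Scheme.{u}) (j : U ⟶ X) [IsOpenImmersion j], PreservesFiniteLimits (Scheme.Modules.restrictFunctor j)]
  [∀ (R : CommRingCat.{u}), PreservesFiniteLimits (tilde.functor R)] in
/-- An affine open covered by finitely many finite dimensional affine opens is finite dimensional. -/
theorem ringKrullDim_lt_top_of_cover {ι : Type*} (A : ι → Type u) [∀ i, CommRing (A i)]
    (j : ∀ i, Spec (CommRingCat.of (A i)) ⟶ X) [∀ i, IsOpenImmersion (j i)]
    (hcov : ∀ x : X, ∃ i, x ∈ Set.range (j i)) (hdim : ∀ i, ringKrullDim (A i) < ⊤)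
    (B : Type u) [CommRing B] (k : Spec (CommRingCat.of B) ⟶ X) [IsOpenImmersion k] : ringKrullDim B < ⊤ := by
  classical
  have hd : ∀ i, ∃ d : ℕ, ∀ l : LTSeries (PrimeSpectrum (A i)), l.length ≤ d := fun i => by
    have h := hdim i
    by_contra hc
    push Not at hc
    refine h.ne (top_unique ?_)
    by_contra hT
    obtain ⟨l0, -⟩ := hc 0
    have h0 := Order.LTSeries.length_le_krullDim l0
    change _ ≤ ringKrullDim (A i) at h0
    generalize hx : ringKrullDim (A i) = x at h h0
    induction x using WithBot.recBotCoe with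
    | bot => exact WithBot.not_coe_le_bot _ h0
    | coe x =>
      obtain ⟨m, hm⟩ := ENat.ne_top_iff_exists.1 (WithBot.coe_lt_coe.1 h).ne
      obtain ⟨l, hl⟩ := hc m
      have h2 := Order.LTSeries.length_le_krullDim l
      rw [show Order.krullDim (PrimeSpectrum (A i)) = ringKrullDim (A i) from rfl, hx, ← hm] at h2
      exact absurd (by exact_mod_cast h2 : l.length ≤ m) (by omega)
  choose d hd using hd
  choose o ho using hcov
  obtain ⟨t, ht⟩ := (isCompact_range k.continuous).elim_finite_subcover (fun i => Set.range (j i))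
    (fun i => (j i).isOpenEmbedding.isOpen_range) fun x _ => Set.mem_iUnion.2 ⟨o x, ho x⟩
  refine lt_of_le_of_lt (b := ((t.sup d : ℕ) : WithBot ℕ∞)) ?_ (WithBot.coe_lt_coe.2 (ENat.natCast_lt_top _))
  rw [ringKrullDim, Order.krullDim]
  refine iSup_le fun l => ?_
  obtain ⟨i, hi, hil⟩ := Set.mem_iUnion₂.1 (ht ⟨l.last, rfl⟩)
  have hrange : ∀ n : Fin (l.length + 1), ∃ q : PrimeSpectrum (A i), j i q = k (l n) := fun n => by
    have h1 : (l n : PrimeSpectrum B) ⤳ l.last :=
      (PrimeSpectrum.le_iff_specializes _ _).1 (l.monotone (Fin.le_last n))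
    exact (h1.map k.continuous).mem_open (j i).isOpenEmbedding.isOpen_range hil
  choose q hq using hrange
  have hmono : StrictMono q := fun n n' hnn => by
    have h1 : (l n : PrimeSpectrum B) ⤳ l n' := (PrimeSpectrum.le_iff_specializes _ _).1 (l.strictMono hnn).le
    refine lt_of_le_of_ne ((PrimeSpectrum.le_iff_specializes _ _).2 ?_) fun h => (l.strictMono hnn).ne ?_
    · rw [← (j i).isOpenEmbedding.isInducing.specializes_iff, hq, hq]
      exact h1.map k.continuous
    · exact k.isOpenEmbedding.injective ((hq n).symm.trans ((congrArg (j i) h).trans (hq n')))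
  exact_mod_cast (hd i (LTSeries.mk l.length q hmono)).trans (Finset.le_sup (f := d) hi)

/-- An object with dualizing models on an affine cover is dualizing. -/
theorem isDualizingSch_of_cover [IsLocallyNoetherian X] (K : DCoh.D X) {ι : Type*} (A : ι → Type u)
    [∀ i, CommRing (A i)] (j : ∀ i, Spec (CommRingCat.of (A i)) ⟶ X) [∀ i, IsOpenImmersion (j i)]
    (hcov : ∀ x : X, ∃ i, x ∈ Set.range (j i))
    (hK : ∀ i, ∃ ω : Dual.D (A i), Dual.IsDualizing (A i) ω ∧
      Nonempty ((DCoh.restrictD (j i)).obj K ≅ (DCoh.tildeD (CommRingCat.of (A i))).obj ω)) :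
    Dual2.IsDualizingSch X K := by
  classical
  choose ω hω he using hK
  choose o ho using hcov
  have hcoh : DCoh.IsCohD K := fun i => isCoh_of_local fun x =>
    haveI := (hω (o x)).isNoetherianRing
    ⟨(j (o x)).opensRange, ho x,
      isCoh_restrict_opensRange_of_finite (j (o x)) (he (o x)).some i ((hω (o x)).finite_cohomology i)⟩
  have hgood : ∀ x, GoodAt K x := fun x => by
    obtain ⟨p, hp⟩ := ho x
    haveI := (hω (o x)).isNoetherianRing
    exact ⟨A (o x), inferInstance, j (o x), inferInstance, ω (o x), p, hp, he (o x),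
      haveI : DRing.HasLBaseChange (algebraMap (A (o x)) (Localization.AtPrime p.asIdeal)) :=
        DRingLib.hasLBaseChange _
      isDualizing_lbc p.asIdeal.primeCompl _ (hω (o x))⟩
  intro B _ k _
  haveI : IsNoetherianRing B := isNoetherianRing_of_isOpenImmersion k
  obtain ⟨ω', ⟨e'⟩⟩ := ((TildeD.main (CommRingCat.of B)).2.2 _).1 (TildeD.isQCohD_restrict k K fun i => (hcoh i).1)
  have hfin : ∀ i, Module.Finite B (Dual.HD B ω' i) := fun i =>
    TildePerf.finite_of_isFT _ (TildePerf.isFT_of_iso (homologyModelIso k e'.symm i).symm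
      (DCohMore.isFT_restrictFunctor k (hcoh i).2))
  obtain ⟨t, ht⟩ := (isCompact_range k.continuous).elim_finite_subcover (fun i => Set.range (j i))
    (fun i => (j i).isOpenEmbedding.isOpen_range) fun x _ => Set.mem_iUnion.2 ⟨o x, ho x⟩
  obtain ⟨c, hc⟩ := (t.image fun i => (model (hω i)).a).bddBelow
  haveI : DerivedCategory.IsGE ω' c := (DerivedCategory.isGE_iff _ _).2 fun n hn => by
    refine ModuleCat.isZero_iff_subsingleton.2 ((Module.support_eq_empty_iff (R := B)).1 (Set.eq_empty_iff_forall_notMem.2
      fun q hq => ?_))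
    obtain ⟨i, hi, p, hp⟩ := Set.mem_iUnion₂.1 (ht ⟨q, rfl⟩)
    have h1 := (nontrivial_stalk_HD_iff k e'.symm q n).2 hq
    rw [← hp] at h1
    have h2 := (nontrivial_stalk_HD_iff (j i) (he i).some p n).1 h1
    haveI := (hω i).isNoetherianRing
    haveI := (model (hω i)).isGE
    haveI : Subsingleton ((DerivedCategory.homologyFunctor (ModuleCat.{u} (A i)) n).obj (ω i)) :=
      ModuleCat.subsingleton_of_isZero (DerivedCategory.isZero_of_isGE _ (model (hω i)).a n
        (lt_of_lt_of_le hn (hc (Finset.mem_image_of_mem _ hi))))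
    exact (Module.mem_support_iff.1 h2 |> not_subsingleton_iff_nontrivial.2) inferInstance
  have hdim : ringKrullDim B < ⊤ := ringKrullDim_lt_top_of_cover A j (fun x => ⟨o x, ho x⟩)
    (fun i => haveI := (hω i).isNoetherianRing; ringKrullDim_lt_top' (hω i)) B k
  exact ⟨ω', isDualizing_of_pointwise hdim ω' hfin c fun p =>
    ⟨DRingLib.hasLBaseChange _, good_of_goodAt (hgood (k p)) k ω' e'.symm p rfl⟩, ⟨e'.symm⟩⟩

end Groth.Agent.TwistShriek
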