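import Groth.Agent.TwistShriek.DualizingMain
import Groth.Agent.TwistShriek.DualizingCover
import Groth.Agent.DualCxLib.LocCover
import Groth.Agent.ASp.LiftDim

/-!
# Amplitude and supports of pointwise normalized dualizing complexes
-/

set_option autoImplicit false
set_option linter.style.haveILetI false
set_option linter.unusedSectionVars false
set_option backward.isDefEq.respectTransparency false
set_option maxHeartbeats 1000000
set_option maxRecDepth 4000

universe u

open CategoryTheory CategoryTheory.Limits AlgebraicGeometry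
open Groth.Agent.DCohLib
open scoped TensorProduct

attribute [local instance] HasDerivedCategory.standard

noncomputable section

namespace Groth.Agent.TwistShriek

open Groth.Agent.DualCxLib

section Algebra

variable {A : Type u} [CommRing A]

/-- The values of the unit complex of a field. -/
theorem subsingleton_HK_inD_of_isField (h : IsField A) (M : Type u) [AddCommGroup M] [Module A M] {i : ℤ}
    (hi : i ≠ 0) : Subsingleton (HK (Dual.inD A A) i M) := by
  rcases lt_or_gt_of_ne hi with hi | hi
  · exact subsingleton_HK_inD_of_neg M A hi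
  · obtain ⟨k, rfl⟩ := Int.eq_ofNat_of_zero_le hi.le
    rw [subsingleton_HK_inD_iff]
    letI := h.toField
    haveI : Projective (ModuleCat.of A M) := (IsProjective.iff_projective M).1 (Module.Projective.of_free (R := A))
    obtain ⟨k, rfl⟩ : ∃ k' : ℕ, k = k' + 1 := ⟨k - 1, by omega⟩
    exact subsingleton_of_forall_eq 0 fun e => Abelian.Ext.eq_zero_of_projective e

/-- The unit complex of a field is dualizing. -/
theorem isDualizing_inD_of_isField (h : IsField A) : Dual.IsDualizing A (Dual.inD A A) := by
  letI := h.toField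
  exact isDualizing_self_of ⟨0, 0, fun M _ _ i hi => subsingleton_HK_inD_of_isField h M (by omega)⟩

/-- Supports of the cohomology modules pass to a localization. -/
theorem not_zeroAt_HD_lbc [IsNoetherianRing A] (m : PrimeSpectrum A)
    [DRing.HasLBaseChange (algebraMap A (Localization.AtPrime m.asIdeal))] (ω : Dual.D A) (i : ℤ)
    (q : PrimeSpectrum (Localization.AtPrime m.asIdeal))
    (hq : q.comap (algebraMap A (Localization.AtPrime m.asIdeal)) ∈ Module.support A (Dual.HD A ω i)) :
    ¬ ZeroAt q.asIdeal (Dual.HD (Localization.AtPrime m.asIdeal)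
      ((DRing.LBaseChange (algebraMap A (Localization.AtPrime m.asIdeal))).obj ω) i) := by
  let R := Localization.AtPrime m.asIdeal
  intro hz
  refine (not_zeroAt_iff_mem_support _).2 hq fun y => ?_
  obtain ⟨e⟩ := nonempty_HD_lbc m.asIdeal.primeCompl R ω i
  let φ := TensorProduct.mk A R (Dual.HD A ω i) 1
  obtain ⟨s, hs, hs0⟩ := hz (e.symm (φ y))
  replace hs0 : s • φ y = 0 := e.symm.injective (by rw [map_smul, hs0, map_zero])
  obtain ⟨⟨r, t⟩, hrt⟩ := IsLocalization.surj m.asIdeal.primeCompl s
  have h1 : r • φ y = 0 := by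
    rw [← algebraMap_smul R r (φ y), ← hrt, mul_comm, mul_smul]
    exact (congrArg _ hs0).trans (smul_zero _)
  rw [← map_smul] at h1
  obtain ⟨u, hu⟩ := (IsLocalizedModule.eq_zero_iff m.asIdeal.primeCompl φ).1 h1
  have hr : algebraMap A R r ∉ q.asIdeal := by
    rw [← hrt]
    exact fun hh => (q.2.mem_or_mem hh).elim hs
      fun hh => q.2.ne_top (Ideal.eq_top_of_isUnit_mem _ hh (IsLocalization.map_units R t))
  refine ⟨u * r, fun hh => ?_, by rw [mul_smul]; exact hu⟩
  have hh' : algebraMap A R ((u : A) * r) ∈ q.asIdeal := hh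
  rw [map_mul] at hh'
  exact (q.2.mem_or_mem hh').elim
    (fun hh => q.2.ne_top (Ideal.eq_top_of_isUnit_mem _ hh (IsLocalization.map_units R u))) hr

end Algebra

attribute [local instance 10] specializationOrder

variable {X : Scheme.{u}} [IsLocallyNoetherian X] [CompactSpace X]
  [∀ (U : Scheme.{u}) (j : U ⟶ X) [IsOpenImmersion j], PreservesFiniteLimits (Scheme.Modules.restrictFunctor j)]
  [∀ (R : CommRingCat.{u}), PreservesFiniteLimits (tilde.functor R)]

/-- A normalized dualizing model at a closed point. -/
def NormalizedAt (K : DCoh.D X) (x₀ : X) : Prop :=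
  ∃ (B : Type u) (_ : CommRing B) (j : Spec (CommRingCat.of B) ⟶ X) (_ : IsOpenImmersion j) (ω : Dual.D B)
    (m : PrimeSpectrum B) (_ : DRing.HasLBaseChange (algebraMap B (Localization.AtPrime m.asIdeal))),
    j m = x₀ ∧ Nonempty ((DCoh.restrictD j).obj K ≅ (DCoh.tildeD (CommRingCat.of B)).obj ω) ∧
    Dual.IsDualizing (Localization.AtPrime m.asIdeal)
      ((DRing.LBaseChange (algebraMap B (Localization.AtPrime m.asIdeal))).obj ω) ∧
    Dual.IsNormalized (Localization.AtPrime m.asIdeal)
      ((DRing.LBaseChange (algebraMap B (Localization.AtPrime m.asIdeal))).obj ω)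

theorem exists_closed_specialization (x : X) : ∃ x₀ : X, x ⤳ x₀ ∧ IsClosed ({x₀} : Set X) := by
  obtain ⟨x₀, hx₀, hcl⟩ := isClosed_closure.exists_closed_singleton (S := closure ({x} : Set X))
    ⟨x, subset_closure rfl⟩
  exact ⟨x₀, specializes_iff_mem_closure.2 hx₀, hcl⟩

/-- The bounds on degrees of nonvanishing cohomology stalks. -/
theorem bounds_of_normalizedAt (K : DCoh.D X) (x₀ : X) (h : NormalizedAt K x₀) (i : ℤ) (l : LTSeries X)
    (hl : l.head ⤳ x₀) (hi : Nontrivial ((DCoh.HD K i).presheaf.stalk l.last)) :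
    i + l.length ≤ 0 ∧ ∀ d : ℕ, Order.krullDim X ≤ d → -(d : ℤ) ≤ i := by
  obtain ⟨B, _, j, _, ω, m, _, rfl, ⟨e⟩, hd, hn⟩ := h
  haveI : IsNoetherianRing B := isNoetherianRing_of_isOpenImmersion j
  let R := Localization.AtPrime m.asIdeal
  haveI : IsNoetherianRing R := hd.isNoetherianRing
  have hspec : ∀ k, l k ⤳ j m := fun k => Specializes.trans (l.monotone (Fin.zero_le k) : l k ⤳ l.head) hl
  have hex : ∀ k, ∃ q : PrimeSpectrum R, j (q.comap (algebraMap B R)) = l k := fun k => by
    obtain ⟨p, hp⟩ := (hspec k).mem_open j.isOpenEmbedding.isOpen_range ⟨m, rfl⟩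
    have hpm : p.asIdeal ≤ m.asIdeal := by
      refine (PrimeSpectrum.le_iff_specializes p m).2 ?_
      rw [← j.isOpenEmbedding.isInducing.specializes_iff, hp]
      exact hspec k
    have hdisj : Disjoint (m.asIdeal.primeCompl : Set B) (p.asIdeal : Set B) :=
      Set.disjoint_left.2 fun s hs hs' => hs (hpm hs')
    refine ⟨⟨p.asIdeal.map (algebraMap B R),
      IsLocalization.isPrime_of_isPrime_disjoint m.asIdeal.primeCompl R p.asIdeal p.2 hdisj⟩, ?_⟩
    rw [← hp]
    refine congrArg j (PrimeSpectrum.ext ?_)
    exact IsLocalization.under_map_of_isPrime_disjoint m.asIdeal.primeCompl R p.2 hdisj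
  choose q hq using hex
  have hanti : StrictAnti q := fun a b hab => by
    refine lt_of_le_of_ne ?_ fun he => (l.strictMono hab).ne (by rw [← hq a, ← hq b, he])
    rw [PrimeSpectrum.le_iff_specializes, ← (PrimeSpectrum.localization_comap_isEmbedding R
      m.asIdeal.primeCompl).isInducing.specializes_iff, ← j.isOpenEmbedding.isInducing.specializes_iff, hq, hq]
    exact (l.strictMono hab).le
  rw [show l.last = j ((q (Fin.last _)).comap (algebraMap B R)) from (hq _).symm,
    nontrivial_stalk_HD_iff j e] at hi
  have h1 := not_zeroAt_HD_lbc m ω i (q (Fin.last _)) hi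
  rw [not_zeroAt_HD_iff hd] at h1
  constructor
  · have h2 := le_dfn_of_not_zeroAt hd (M := R) (q (Fin.last _)) h1
    have h3 : (l.length : ℤ) ≤ dfn hd (q 0) - dfn hd (q (Fin.last _)) := by
      have := dfn_ltSeries hd (LTSeries.mk l.length (fun k => q (Fin.rev k))
        (hanti.comp fun a b h => Fin.rev_lt_rev.2 h))
      change (l.length : ℤ) ≤ dfn hd (q (Fin.rev (Fin.last l.length))) - dfn hd (q (Fin.rev 0)) at this
      simpa using this
    have h4 := dfn_nonpos hd hn (q 0)
    omega
  · intro d hdX
    refine le_of_not_zeroAt hd (M := R) (q (Fin.last _)) (fun Q _ _ => ?_) h1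
    obtain ⟨l', -, hl'⟩ := exists_ltSeries hd Q (IsLocalRing.closedPoint R) (IsLocalRing.le_maximalIdeal Q.2.ne_top)
    have hd' : ringKrullDim R ≤ d := by
      refine le_trans (le_of_le_of_eq ?_ (Order.krullDim_orderDual (α := X))) hdX
      refine Order.krullDim_le_of_strictMono
        (fun Q : PrimeSpectrum R => OrderDual.toDual (j (Q.comap (algebraMap B R)))) fun a b hab => ?_
      refine OrderDual.toDual_lt_toDual.2 (lt_of_le_of_ne ?_ fun he => hab.ne' ?_)
      · exact (((PrimeSpectrum.le_iff_specializes a b).1 hab.le).map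
          (PrimeSpectrum.continuous_comap (algebraMap B R))).map j.continuous
      · exact PrimeSpectrum.localization_comap_injective R m.asIdeal.primeCompl (j.isOpenEmbedding.injective he)
    have h5 : l'.length ≤ d := by exact_mod_cast (Order.LTSeries.length_le_krullDim l').trans hd'
    have h6 : dfn hd (IsLocalRing.closedPoint R) = 0 := dfn_closedPoint hd hn
    omega

/-- Vanishing outside the amplitude and the bound on the supports. -/
theorem amplitude_of_normalizedAt (K : DCoh.D X) (hK : DCoh.IsCohD K)
    (h : ∀ x₀ : X, IsClosed ({x₀} : Set X) → NormalizedAt K x₀) (d : ℕ) (hd : topologicalKrullDim X = d) :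
    (∀ i : ℤ, (i < -(d : ℤ) ∨ 0 < i) → IsZero (DCoh.HD K i)) ∧
      ∀ (i : ℤ) (n : ℕ), (n : ℤ) = -i →
        topologicalKrullDim {x : X | Nontrivial ((DCoh.HD K i).presheaf.stalk x)} ≤ (n : WithBot ℕ∞) := by
  have hdim : Order.krullDim X ≤ d := by rw [← ASp.topologicalKrullDim_eq_krullDim, hd]
  refine ⟨fun i hi => isZero_of_stalks fun x => not_nontrivial_iff_subsingleton.1 fun hx => ?_, fun i n hn => ?_⟩
  · obtain ⟨x₀, hx₀, hcl⟩ := exists_closed_specialization x
    obtain ⟨h1, h2⟩ := bounds_of_normalizedAt K x₀ (h x₀ hcl) i (RelSeries.singleton _ x) hx₀ hx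
    have := h2 d hdim
    simp at h1
    omega
  · let S := {x : X | Nontrivial ((DCoh.HD K i).presheaf.stalk x)}
    have hS : IsClosed S := by
      have : S = CohB1.support (DCoh.HD K i) := Set.ext fun x => not_subsingleton_iff_nontrivial.symm
      rw [this]
      exact PullbackMod.isClosed_support_of_isFT (hK i).2
    haveI : QuasiSober S := hS.isClosedEmbedding_subtypeVal.quasiSober
    rw [ASp.topologicalKrullDim_eq_krullDim, Order.krullDim]
    refine iSup_le fun l => ?_
    let l' : LTSeries X := LTSeries.mk l.length (fun k => ((l k : S) : X)) fun a b hab =>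
      lt_of_le_of_ne ((subtype_specializes_iff _ _).1 (@LTSeries.strictMono S (specializationOrder S).toPreorder l _ _ hab).le)
        fun he => @ne_of_lt S (specializationOrder S).toPreorder _ _ (@LTSeries.strictMono S (specializationOrder S).toPreorder l _ _ hab) (Subtype.ext he)
    obtain ⟨x₀, hx₀, hcl⟩ := exists_closed_specialization l'.head
    obtain ⟨h1, -⟩ := bounds_of_normalizedAt K x₀ (h x₀ hcl) i l' hx₀ l.last.2
    change i + (l.length : ℤ) ≤ 0 at h1
    exact_mod_cast (show l.length ≤ n by omega)

end Groth.Agent.TwistShriek
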