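import Groth.Agent.TwistShriek.TopDualPair
import Groth.Agent.TwistShriek.Amplitude
import Groth.Agent.FibreVanishQC.Main

/-!
# Dualizing pairs over a Noetherian ring are coherent
-/

set_option autoImplicit false
set_option linter.style.haveILetI false
set_option backward.isDefEq.respectTransparency false
set_option maxHeartbeats 1000000

universe u

open CategoryTheory CategoryTheory.Limits AlgebraicGeometry
open Groth.Agent.DCohLib Groth.Agent.CohBase

attribute [local instance] HasDerivedCategory.standard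

noncomputable section

namespace Groth.Agent.TwistShriek

variable (A : Type u) [CommRing A] {X : Scheme.{u}} [X.Over (Spec (CommRingCat.of A))]

theorem HHlin_id_apply (F : X.Modules) (r : ℕ) (x : Coh.HH X F r) : Canon.HHlin A (𝟙 F) r x = x := by
  show Sheaf.H.map ((SheafOfModules.toSheaf X.ringCatSheaf).map (𝟙 F)) r x = x
  rw [CategoryTheory.Functor.map_id, Sheaf.H.map_id_apply]

theorem HHlin_comp_apply {F G H : X.Modules} (φ : F ⟶ G) (ψ : G ⟶ H) (r : ℕ) (x : Coh.HH X F r) :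
    Canon.HHlin A (φ ≫ ψ) r x = Canon.HHlin A ψ r (Canon.HHlin A φ r x) := by
  show Sheaf.H.map ((SheafOfModules.toSheaf X.ringCatSheaf).map (φ ≫ ψ)) r x = _
  rw [Functor.map_comp, Sheaf.H.map_comp_apply]
  rfl

/-- Dualizing pairs are unique. -/
theorem nonempty_iso_of_isRDualOver_ring {r : ℕ} {ω ω' : X.Modules} {tr : Coh.HH X ω r →ₗ[A] A}
    {tr' : Coh.HH X ω' r →ₗ[A] A} (h : Canon.IsRDualOver A X r ω tr) (h' : Canon.IsRDualOver A X r ω' tr') :
    Nonempty (ω ≅ ω') := by
  obtain ⟨φ, hφ⟩ := (h.2 ω' h'.1).2 tr'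
  obtain ⟨ψ, hψ⟩ := (h'.2 ω h.1).2 tr
  refine ⟨⟨ψ, φ, (h.2 ω h.1).1 (LinearMap.ext fun x => ?_), (h'.2 ω' h'.1).1 (LinearMap.ext fun x => ?_)⟩⟩
  · show tr (Canon.HHlin A (ψ ≫ φ) r x) = tr (Canon.HHlin A (𝟙 ω) r x)
    rw [HHlin_comp_apply, HHlin_id_apply]
    exact (LinearMap.congr_fun hφ _).trans (LinearMap.congr_fun hψ x)
  · show tr' (Canon.HHlin A (φ ≫ ψ) r x) = tr' (Canon.HHlin A (𝟙 ω') r x)
    rw [HHlin_comp_apply, HHlin_id_apply]
    exact (LinearMap.congr_fun hψ _).trans (LinearMap.congr_fun hφ x)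

/-- The dualizing sheaf of a proper scheme over a Noetherian ring is coherent. -/
theorem isCoh_of_pair [IsNoetherianRing A] [IsProper (X ↘ Spec (CommRingCat.of A))] (r : ℕ)
    (hfib : ∀ y : ↥(Spec (CommRingCat.of A)),
      topologicalKrullDim ↥((X ↘ Spec (CommRingCat.of A)).fiber y) ≤ (r : WithBot ℕ∞))
    {ω : X.Modules} {tr : Coh.HH X ω r →ₗ[A] A} (hω : Canon.IsRDualOver A X r ω tr) : Coh.IsCoh ω := by
  let f := X ↘ Spec (CommRingCat.of A)
  let Y := Spec (CommRingCat.of A)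
  haveI : IsNoetherianRing (CommRingCat.of A) := inferInstanceAs (IsNoetherianRing A)
  haveI : IsLocallyNoetherian X := LocallyOfFiniteType.isLocallyNoetherian f
  haveI : CompactSpace X := QuasiCompact.compactSpace_of_compactSpace f
  haveI : QuasiSeparatedSpace X := quasiSeparatedSpace_of_quasiSeparated f
  haveI : DCoh.HasRpush f := Groth.Agent.KInj.hasRightDerivedFunctor (hres_modules X) _
  have h : DCoh.RpushPreservesQCoh f := fun K hK => DCohMore.isQCohD_rpush f K hK
  haveI := DQCohBrown.isLeftAdjoint_rpushQ f h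
  let a := (DCoh.RpushQ f h).rightAdjoint
  let adj : DCoh.RpushQ f h ⊣ a := Adjunction.ofIsLeftAdjoint (DCoh.RpushQ f h)
  let O : DCoh.DQCoh Y := oQ Y
  haveI : O.obj.IsGE 0 := inferInstanceAs ((DCoh.inD Y (Coh.structureModule Y)).IsGE 0)
  have hM := isGE_rightAdjoint_of_fibreDim f r hfib h a adj O 0 ‹_›
  have hc : DCoh.IsCohD (a.obj O).obj :=
    isCohD_rightAdjoint f h a adj O ⟨isCohD_inD (DevLib.isCoh_structureModule Y), 0, ‹_›⟩
  obtain ⟨tr', htr'⟩ := exists_isRDualOver_adjoint A X h a adj O (Iso.refl _) r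
    (show (a.obj O).obj.IsGE (-(r : ℤ)) by simpa using hM)
    (fun F hF j hj => by
      haveI := hF
      obtain ⟨p, rfl⟩ : ∃ p, j = p + 1 := ⟨j - 1, by omega⟩
      exact subsingleton_HH _ _ (FibreVanishQC.subsingleton_HU_affine f r hfib F p (by omega)))
    (Iso.refl _)
  obtain ⟨e⟩ := nonempty_iso_of_isRDualOver_ring A hω htr'
  exact ShStabLib.isCoh_of_iso e.symm (hc _)

end Groth.Agent.TwistShriek
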