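import Groth.Agent.TwistShriek.TopDualPair
import Groth.Agent.TwistShriek.Amplitude
import Groth.Agent.EulerIneqLib.Basic
import Groth.Prelude.Def_DDual2
import Groth.Agent.S3638

/-!
# Duality in degree zero on proper curves
-/

set_option autoImplicit false
set_option linter.style.haveILetI false
set_option linter.unusedSectionVars false
set_option backward.isDefEq.respectTransparency false
set_option maxHeartbeats 1000000

universe u

open CategoryTheory CategoryTheory.Limits AlgebraicGeometry Pretriangulated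
open Groth.Agent.DCohLib Groth.Agent.CohBase

attribute [local instance] HasDerivedCategory.standard Groth.Agent.TwistShriek.linΓ

noncomputable section

namespace Groth.Agent.TwistShriek

variable (k : Type u) [Field k]

local notation "SY" => Spec (CommRingCat.of k)

/-- Nothing maps from positive degrees to the structure sheaf over a field. -/
theorem hom_single_oD_eq_zero (V : (SY).Modules) [hV : Coh.IsQCoh V] (q : ℤ) (hq : 0 < q)
    (φ : (DerivedCategory.singleFunctor (SY).Modules q).obj V ⟶ oD SY) : φ = 0 := by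
  let R := CommRingCat.of k
  haveI : (tilde.functor R).Additive := ⟨fun {M N f g} => tilde.map_add f g⟩
  haveI : PreservesColimitsOfSize.{0, 0} (tilde.functor R) :=
    (tilde.adjunction (R := R)).leftAdjoint_preservesColimits
  haveI : PreservesFiniteColimits (tilde.functor R) := PreservesColimitsOfSize.preservesFiniteColimits _
  haveI : PreservesFiniteLimits (tilde.functor R) := TildeD.preservesFiniteLimits_tilde
  obtain ⟨M, ⟨eV⟩⟩ := @TildeD.qcoh_exists_tilde R V hV
  obtain ⟨hfull, hfaith, -⟩ := TildeD.main R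
  haveI := hfull
  let T := DCoh.tildeD R
  let S := (DerivedCategory.singleFunctor (ModuleCat.{u} R) q).obj M
  let a : T.obj S ≅ (DerivedCategory.singleFunctor (SY).Modules q).obj V :=
    ((tilde.functor R).mapDerivedCategorySingleFunctor q).app M ≪≫ (DerivedCategory.singleFunctor _ q).mapIso eV
  let b : T.obj (Dual.inD R R) ≅ oD SY :=
    ((tilde.functor R).mapDerivedCategorySingleFunctor 0).app _ ≪≫
      (DerivedCategory.singleFunctor (SY).Modules 0).mapIso tildeSelf
  obtain ⟨g, hg⟩ := T.map_surjective (a.hom ≫ φ ≫ b.inv)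
  let s : S⟦q⟧ ≅ Dual.inD R M :=
    ((DerivedCategory.singleFunctors (ModuleCat.{u} R)).shiftIso q 0 q (by omega)).app M
  haveI := subsingleton_HK_inD_of_isField (A := R) (Field.toIsField k) M (i := q) (by omega)
  have h0 : g = 0 := by
    refine (shiftFunctor (Dual.D R) q).map_injective ?_
    rw [Functor.map_zero, ← cancel_epi s.inv, comp_zero]
    exact Subsingleton.elim (α := Dual.inD R M ⟶ (Dual.inD R R)⟦q⟧) _ _
  rw [h0, Functor.map_zero] at hg
  rw [← cancel_epi a.hom, ← cancel_mono b.inv, Category.assoc, ← hg]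
  simp

/-- Over a field, maps from `[0, 1]` to the structure sheaf are read off in `H⁰`. -/
theorem bijective_homology_map_oD (K : DCoh.D SY) (hq : DCoh.IsQCohD K) (h0 : K.IsGE 0) (h1 : K.IsLE 1) :
    Function.Bijective fun u : K ⟶ oD SY => (DerivedCategory.homologyFunctor (SY).Modules 0).map u := by
  haveI := h0
  haveI := h1
  haveI : (oD SY).IsGE 0 := inferInstanceAs ((DCoh.inD SY (Coh.structureModule SY)).IsGE 0)
  let t : CategoryTheory.Triangulated.TStructure (DCoh.D SY) := DerivedCategory.TStructure.t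
  let P := (t.truncLT 1).obj K
  let Q := (t.truncGE 1).obj K
  let H := DerivedCategory.homologyFunctor (SY).Modules 0
  have hT := t.triangleLTGE_distinguished 1 K
  haveI : P.IsLE 0 := t.isLE_truncLT_obj K 1 0 (by omega)
  haveI : Q.IsGE 1 := inferInstanceAs (t.IsGE ((t.truncGE 1).obj K) 1)
  haveI : Q.IsLE 1 := (DerivedCategory.isLE_iff _ _).2 fun i hi => by
    haveI := DCohLib.isIso_homology_truncGEπ K 1 i (by omega)
    exact (DerivedCategory.isZero_of_isLE K 1 i hi).of_iso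
      (asIso ((DerivedCategory.homologyFunctor (SY).Modules i).map ((t.truncGEπ 1).app K))).symm
  obtain ⟨V, ⟨eQ⟩⟩ := DerivedCategory.exists_iso_singleFunctor_obj_of_isGE_of_isLE Q 1
  haveI := DCohLib.isIso_homology_truncGEπ K 1 1 le_rfl
  haveI : Coh.IsQCoh V := isQCoh_of_iso'
    ((asIso ((DerivedCategory.homologyFunctor (SY).Modules 1).map ((t.truncGEπ 1).app K))) ≪≫
      (DerivedCategory.homologyFunctor (SY).Modules 1).mapIso eQ ≪≫
      (DerivedCategory.singleFunctorCompHomologyFunctorIso (SY).Modules 1).app V) (hq 1)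
  have hQ : ∀ φ : Q ⟶ oD SY, φ = 0 := fun φ => by
    rw [← cancel_epi eQ.inv, hom_single_oD_eq_zero k V 1 (by omega) (eQ.inv ≫ φ), comp_zero]
  have hQ' : ∀ φ : Q⟦(-1 : ℤ)⟧ ⟶ oD SY, φ = 0 := fun φ => by
    let e : Q⟦(-1 : ℤ)⟧ ≅ (DerivedCategory.singleFunctor (SY).Modules 2).obj V :=
      (shiftFunctor (DCoh.D SY) (-1 : ℤ)).mapIso eQ ≪≫
        ((DerivedCategory.singleFunctors (SY).Modules).shiftIso (-1) 2 1 (by omega)).app V
    rw [← cancel_epi e.inv, hom_single_oD_eq_zero k V 2 (by omega) (e.inv ≫ φ), comp_zero]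
  let ι := (t.truncLTι 1).app K
  have hι : Function.Bijective fun u : K ⟶ oD SY => ι ≫ u := by
    refine ⟨fun u v e => sub_eq_zero.1 ?_, fun w => ?_⟩
    · have e' : ι ≫ (u - v) = 0 := by rw [Preadditive.comp_sub]; exact sub_eq_zero.2 e
      obtain ⟨z, hz⟩ := Triangle.yoneda_exact₂ _ hT (u - v) e'
      rw [hz, hQ z]
      exact comp_zero
    · obtain ⟨u, hu⟩ := Triangle.yoneda_exact₂ _ (inv_rot_of_distTriang _ hT) w (hQ' _)
      exact ⟨u, hu.symm⟩
  haveI := DCohLib.isIso_homology_truncLTι K 1 0 (by omega)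
  have hc : (fun v : P ⟶ oD SY => H.map v) ∘ (fun u : K ⟶ oD SY => ι ≫ u) =
      (fun g : H.obj K ⟶ H.obj (oD SY) => H.map ι ≫ g) ∘ fun u : K ⟶ oD SY => H.map u :=
    funext fun u => H.map_comp _ _
  refine (Function.Bijective.of_comp_iff'
    ⟨fun g g' e => (cancel_epi (H.map ι)).1 e, fun g => ⟨inv (H.map ι) ≫ g, by simp⟩⟩ _).1 ?_
  exact (congrArg Function.Bijective hc).mp ((bijective_homology_map (X := P) (Y := oD SY) 0).comp hι)

/-- Vanishing above the dimension. -/
theorem subsingleton_HH_above (X : Scheme.{u}) [X.Over (Spec (CommRingCat.of k))]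
    [IsProper (X ↘ Spec (CommRingCat.of k))] (r : ℕ) (hdim : topologicalKrullDim X ≤ r) (F : X.Modules) (hF : Coh.IsQCoh F)
    (j : ℕ) (hj : r < j) : Subsingleton (Coh.HH X F j) := by
  haveI := hF
  obtain ⟨p, rfl⟩ : ∃ p, j = p + 1 := ⟨j - 1, by omega⟩
  exact subsingleton_HH _ _ (FibreVanishQC.subsingleton_HU_affine (X ↘ Spec (CommRingCat.of k)) r
    (fun y => ((Scheme.Hom.fiberι (X ↘ Spec (CommRingCat.of k)) y).isEmbedding.isInducing.topologicalKrullDim_le).trans hdim) F p (by omega))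

section Curve

variable (X : Scheme.{u}) [X.Over (Spec (CommRingCat.of k))] [IsProper (X ↘ Spec (CommRingCat.of k))]

local notation "f" => (X ↘ Spec (CommRingCat.of k))

variable [DCoh.HasRpush (X ↘ Spec (CommRingCat.of k))]
  (h : DCoh.RpushPreservesQCoh (X ↘ Spec (CommRingCat.of k)))
  (a : DCoh.DQCoh (Spec (CommRingCat.of k)) ⥤ DCoh.DQCoh X)
  (adj : DCoh.RpushQ (X ↘ Spec (CommRingCat.of k)) h ⊣ a)
  (O : DCoh.DQCoh (Spec (CommRingCat.of k))) (eO : O.obj ≅ oD (Spec (CommRingCat.of k)))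

include adj eO in
/-- The right adjoint lowers degrees at most by the dimension. -/
theorem isGE_aO (r : ℕ) (hdim : topologicalKrullDim X ≤ r) : (a.obj O).obj.IsGE (-(r : ℤ)) := by
  haveI : (oD SY).IsGE 0 := inferInstanceAs ((DCoh.inD SY (Coh.structureModule SY)).IsGE 0)
  have h1 := isGE_rightAdjoint_of_fibreDim f r
    (fun y => ((Scheme.Hom.fiberι f y).isEmbedding.isInducing.topologicalKrullDim_le).trans hdim) h a adj O 0
    (DerivedCategory.TStructure.t.isGE_of_iso eO.symm 0)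
  simpa using h1

include adj eO in
/-- The trace of the dualizing module. -/
theorem exists_isRDualOver_curve (r : ℕ) (hdim : topologicalKrullDim X ≤ r) :
    ∃ tr : Coh.HH X (DCoh.HD (a.obj O).obj (-(r : ℤ))) r →ₗ[k] k,
      Canon.IsRDualOver k X r (DCoh.HD (a.obj O).obj (-(r : ℤ))) tr :=
  exists_isRDualOver_adjoint k X h a adj O eO r (isGE_aO k X h a adj O eO r hdim)
    (fun F hF j hj => subsingleton_HH_above k X r hdim F hF j hj) (Iso.refl _)

include adj eO in
/-- Duality in degree zero on a curve. -/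
theorem exists_h0_dual (hdim : topologicalKrullDim X ≤ (1 : ℕ)) (F : X.Modules) (hF : Coh.IsQCoh F) :
    ∃ Φ : (DCoh.inD X F ⟶ (a.obj O).obj) ≃+ Module.Dual k (Coh.HH X F 0),
      ∀ (s : k) (v : DCoh.inD X F ⟶ (a.obj O).obj),
        Φ (sc (Coh.toGlobal (X ↘ Spec (CommRingCat.of k)) s) _ ≫ v) = s • Φ v := by
  haveI := hasLpull f
  haveI : PreservesLimitsOfSize.{0, 0} (DCoh.Rpush f) := (lpullRpushAdj f).rightAdjoint_preservesLimits
  haveI : (DCoh.Rpush f).Additive := CategoryTheory.Functor.additive_of_preserves_binary_products _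
  haveI : PreservesFiniteLimits (tilde.functor (CommRingCat.of k)) := TildeD.preservesFiniteLimits_tilde
  obtain ⟨e₀⟩ := DCohMore.TwistFam.nonempty_lpull_structure f
  have hKq : DCoh.IsQCohD ((DCoh.inD X F)⟦((0 : ℕ) : ℤ)⟧) := DCohMore.isQCohD_shift' (TildeD.isQCohD_of_iso
    ((DerivedCategory.singleFunctorIsoCompQ X.Modules 0).app F).symm (DCohMore.isQCohD_sgl₀ F hF)) _
  let K : DCoh.DQCoh X := ⟨_, hKq⟩
  let P := (DCoh.Rpush f).obj K.obj
  have hPq : DCoh.IsQCohD P := h _ hKq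
  let z : K.obj ≅ DCoh.inD X F := (shiftFunctorZero (DCoh.D X) ℤ).app _
  have hd : ∀ q : ℤ, (q < 0 ∨ 1 < q) → IsZero (DCoh.HD P q) := fun q hq =>
    (DCohMore.TwistFam.isZero_HD_rpush_single f F hF q (by
      rcases hq with hq | hq
      · exact Or.inl hq
      · exact Or.inr (subsingleton_HH_above k X 1 hdim F hF _ (by omega)))).of_iso
      ((DerivedCategory.homologyFunctor _ q).mapIso ((DCoh.Rpush f).mapIso z))
  have hP0 : P.IsGE 0 := (DerivedCategory.isGE_iff _ _).2 fun q hq => hd q (Or.inl hq)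
  have hP1 : P.IsLE 1 := (DerivedCategory.isLE_iff _ _).2 fun q hq => hd q (Or.inr hq)
  haveI : Coh.IsQCoh (DCoh.HD P 0) := hPq 0
  let H := DerivedCategory.homologyFunctor (SY).Modules 0
  let c : (ΓA k).obj (DCoh.HD (oD SY) 0) ≃ₗ[k] k :=
    ((ΓA k).mapIso ((DerivedCategory.singleFunctorCompHomologyFunctorIso (SY).Modules 0).app _ ≪≫
        (tildeSelf (R := CommRingCat.of k)).symm) ≪≫
      ((tilde.toTildeΓNatIso (R := CommRingCat.of k)).app _).symm).toLinearEquiv
  let cl : Coh.HH X F 0 ≃ₗ[k] (ΓA k).obj (DCoh.HD P 0) :=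
    LinearEquiv.ofBijective (classH e₀ F 0) (bijective_classH e₀ F 0 hPq)
  let G : (DCoh.inD X F ⟶ (a.obj O).obj) → (P ⟶ oD SY) := fun v =>
    ((adj.homEquiv K O).symm ⟨z.hom ≫ v⟩).hom ≫ eO.hom
  have hG : Function.Bijective G := by
    refine ⟨fun v w e => ?_, fun u => ⟨z.inv ≫ (adj.homEquiv K O ⟨u ≫ eO.inv⟩).hom, ?_⟩⟩
    · have := (adj.homEquiv K O).symm.injective (ObjectProperty.hom_ext _ ((cancel_mono eO.hom).1 e))
      exact (cancel_epi z.hom).1 (congrArg (fun z => z.hom) this)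
    · show ((adj.homEquiv K O).symm ⟨z.hom ≫ z.inv ≫ _⟩).hom ≫ eO.hom = u
      simp only [Iso.hom_inv_id_assoc]
      show ((adj.homEquiv K O).symm (adj.homEquiv K O ⟨u ≫ eO.inv⟩)).hom ≫ eO.hom = u
      rw [Equiv.symm_apply_apply]
      simp
  let Ψ : (P ⟶ oD SY) → Module.Dual k (Coh.HH X F 0) := fun u =>
    c.toLinearMap ∘ₗ ((ΓA k).map (H.map u)).hom ∘ₗ cl.toLinearMap
  have hΨ : Function.Bijective Ψ := by
    have hb : Function.Bijective fun u : P ⟶ oD SY => (ΓA k).map (H.map u) :=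
      (bijective_moduleSpecΓ_map (DCoh.HD P 0) (DCoh.HD (oD SY) 0)).comp
        (bijective_homology_map_oD k P hPq hP0 hP1)
    refine ⟨fun u w e => hb.1 (ModuleCat.hom_ext (LinearMap.ext fun y => ?_)), fun ψ => ?_⟩
    · obtain ⟨x, rfl⟩ := cl.surjective y
      exact c.injective (DFunLike.congr_fun e x)
    · let g : (ΓA k).obj (DCoh.HD P 0) ⟶ (ΓA k).obj (DCoh.HD (oD SY) 0) :=
        ModuleCat.ofHom (R := k) (X := (ΓA k).obj (DCoh.HD P 0)) (Y := (ΓA k).obj (DCoh.HD (oD SY) 0))
          (c.symm.toLinearMap ∘ₗ ψ ∘ₗ cl.symm.toLinearMap)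
      obtain ⟨u, hu⟩ := hb.2 g
      refine ⟨u, LinearMap.ext fun x => ?_⟩
      show c ((ΓA k).map (H.map u) (cl x)) = ψ x
      rw [show (ΓA k).map (H.map u) = g from hu]
      exact (c.apply_symm_apply _).trans (congrArg ψ (cl.symm_apply_apply x))
  have hadd : ∀ v w, G (v + w) = G v + G w := fun v w => by
    show _ ≫ eO.hom = _ ≫ eO.hom + _ ≫ eO.hom
    rw [← Preadditive.add_comp]
    refine congrArg (· ≫ eO.hom) ?_
    let w1 : K ⟶ a.obj O := ⟨z.hom ≫ v⟩
    let w2 : K ⟶ a.obj O := ⟨z.hom ≫ w⟩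
    rw [show (⟨z.hom ≫ (v + w)⟩ : K ⟶ a.obj O) = w1 + w2 from
      ObjectProperty.hom_ext _ (Preadditive.comp_add _ _ _ _ _ _), adj.homEquiv_counit, adj.homEquiv_counit,
      adj.homEquiv_counit]
    show (DCoh.Rpush f).map (_ + _) ≫ _ = (DCoh.Rpush f).map _ ≫ _ + (DCoh.Rpush f).map _ ≫ _
    rw [Functor.map_add, Preadditive.add_comp]
    rfl
  refine ⟨AddEquiv.ofBijective (AddMonoidHom.mk' (Ψ ∘ G) fun v w => ?_) (hΨ.comp hG), fun s v => ?_⟩
  · show Ψ (G (v + w)) = Ψ (G v) + Ψ (G w)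
    rw [hadd]
    refine LinearMap.ext fun x => ?_
    show c ((ΓA k).map (H.map (G v + G w)) (cl x)) = _
    rw [Functor.map_add, Functor.map_add]
    exact map_add c _ _
  · refine LinearMap.ext fun x => ?_
    show c ((ΓA k).map (H.map (G (sc _ _ ≫ v))) (cl x)) = s • c ((ΓA k).map (H.map (G v)) (cl x))
    have hs : G (sc (Coh.toGlobal f s) _ ≫ v) = sc (gfn (R := CommRingCat.of k) s) P ≫ G v := by
      let sK : K ⟶ K := ⟨sc (Coh.toGlobal f s) K.obj⟩
      have e1 : (⟨z.hom ≫ sc (Coh.toGlobal f s) _ ≫ v⟩ : K ⟶ a.obj O) = sK ≫ ⟨z.hom ≫ v⟩ :=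
        ObjectProperty.hom_ext _ (by
          show _ = sc _ K.obj ≫ z.hom ≫ v
          rw [← Category.assoc, sc_natural, Category.assoc])
      show _ ≫ eO.hom = _
      rw [e1, adj.homEquiv_naturality_left_symm]
      show ((DCoh.Rpush f).map (sc (Coh.toGlobal f s) K.obj) ≫ _) ≫ eO.hom = _
      rw [show Coh.toGlobal f s = fa f (gfn (R := CommRingCat.of k) s) from rfl, rpush_sc, Category.assoc]
    rw [hs, Functor.map_comp, Functor.map_comp, hd_sc]
    refine (congrArg (fun y => c ((ΓA k).map (H.map (G v)) y))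
      (moduleSpecΓ_map_smul (DCoh.HD P 0) s (cl x))).trans ?_
    rw [map_smul, map_smul]

include adj eO in
/-- `h¹(ω) ≤ h⁰(O)` on a curve, with equality when `a(O)` lives in degree `-1`. -/
theorem finrank_H1_dualizing (hdim : topologicalKrullDim X ≤ (1 : ℕ)) :
    Module.Finite k (Coh.HH X (DCoh.HD (a.obj O).obj (-((1 : ℕ) : ℤ))) 1) ∧
    Module.finrank k (Coh.HH X (DCoh.HD (a.obj O).obj (-((1 : ℕ) : ℤ))) 1) ≤
        Module.finrank k (Coh.HH X (Coh.structureModule X) 0) ∧
      ((a.obj O).obj.IsLE (-1) → Module.finrank k (Coh.HH X (DCoh.HD (a.obj O).obj (-((1 : ℕ) : ℤ))) 1) =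
        Module.finrank k (Coh.HH X (Coh.structureModule X) 0)) := by
  haveI : IsNoetherianRing (CommRingCat.of k) := inferInstanceAs (IsNoetherianRing k)
  haveI : IsLocallyNoetherian X := LocallyOfFiniteType.isLocallyNoetherian f
  haveI : Module.Finite k (Coh.HH X (Coh.structureModule X) 0) :=
    EulerIneqLib.finite_HH (DevLib.isCoh_structureModule X) 0
  obtain ⟨Φ, hΦ⟩ := exists_h0_dual k X h a adj O eO hdim (Coh.structureModule X) inferInstance
  let M := (a.obj O).obj
  haveI hGE : M.IsGE (-1) := by simpa using isGE_aO k X h a adj O eO 1 hdim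
  let t : CategoryTheory.Triangulated.TStructure (DCoh.D X) := DerivedCategory.TStructure.t
  let P := (t.truncLT 0).obj M
  have hT := t.triangleLTGE_distinguished 0 M
  haveI : P.IsLE (-1) := t.isLE_truncLT_obj M 0 (-1) (by omega)
  haveI : P.IsGE (-1) := (DerivedCategory.isGE_iff _ _).2 fun i hi => by
    haveI := DCohLib.isIso_homology_truncLTι M 0 i (by omega)
    exact (DerivedCategory.isZero_of_isGE M (-1) i hi).of_iso
      (asIso ((DerivedCategory.homologyFunctor X.Modules i).map ((t.truncLTι 0).app M)))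
  obtain ⟨V, ⟨eP⟩⟩ := DerivedCategory.exists_iso_singleFunctor_obj_of_isGE_of_isLE P (-1)
  let ω := DCoh.HD M (-((1 : ℕ) : ℤ))
  haveI := DCohLib.isIso_homology_truncLTι M 0 (-1) (by omega)
  let eV : ω ≅ V := (asIso ((DerivedCategory.homologyFunctor X.Modules (-1)).map ((t.truncLTι 0).app M))).symm ≪≫
    (DerivedCategory.homologyFunctor X.Modules (-1)).mapIso eP ≪≫
    (DerivedCategory.singleFunctorCompHomologyFunctorIso X.Modules (-1)).app V
  let j : (DCoh.inD X ω)⟦((1 : ℕ) : ℤ)⟧ ⟶ M :=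
    (((DerivedCategory.singleFunctors X.Modules).shiftIso (1 : ℤ) (-1) 0 (by omega)).app ω ≪≫
      (DerivedCategory.singleFunctor X.Modules (-1)).mapIso eV ≪≫ eP.symm).hom ≫ (t.truncLTι 0).app M
  have hi : ∀ φ : oD X ⟶ P, φ ≫ (t.truncLTι 0).app M = 0 → φ = 0 := fun φ hφ => by
    obtain ⟨w, hw⟩ := Triangle.coyoneda_exact₂ _ (inv_rot_of_distTriang _ hT) φ hφ
    have h0 : w = 0 := by
      haveI : ((t.truncGE 0).obj M).IsGE 0 := inferInstanceAs (t.IsGE ((t.truncGE 0).obj M) 0)
      haveI : (((t.truncGE 0).obj M)⟦(-1 : ℤ)⟧).IsGE 1 :=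
        DerivedCategory.TStructure.t.isGE_shift _ 0 (-1) 1 (by omega)
      haveI : (oD X).IsLE 0 := inferInstanceAs ((DCoh.inD X (Coh.structureModule X)).IsLE 0)
      exact DerivedCategory.TStructure.t.zero_of_isLE_of_isGE w 0 1 (by omega) ‹_› ‹_›
    rw [hw, h0, zero_comp]
  let L : Coh.HH X ω 1 →ₗ[k] Module.Dual k (Coh.HH X (Coh.structureModule X) 0) :=
    { toFun := fun x => Φ (hhEquiv X ω 1 x ≫ j)
      map_add' := fun x y => by rw [map_add, Preadditive.add_comp, map_add]
      map_smul' := fun s x => by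
        show Φ (hhEquiv X ω 1 ((Coh.toGlobal f s) • x) ≫ j) = s • Φ _
        rw [hhEquiv_smul, sc_natural, Category.assoc]
        exact hΦ s _ }
  have hLi : Function.Injective L := fun x y e => by
    apply (hhEquiv X ω 1).injective
    have e1 : hhEquiv X ω 1 x ≫ j = hhEquiv X ω 1 y ≫ j := Φ.injective e
    rw [← sub_eq_zero, ← Preadditive.sub_comp] at e1
    have e2 := hi _ ((Category.assoc _ _ _).trans e1)
    rw [← sub_eq_zero]
    rwa [← cancel_mono (((DerivedCategory.singleFunctors X.Modules).shiftIso (1 : ℤ) (-1) 0 (by omega)).app ω ≪≫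
      (DerivedCategory.singleFunctor X.Modules (-1)).mapIso eV ≪≫ eP.symm).hom, zero_comp]
  refine ⟨Module.Finite.of_injective L hLi,
    (LinearMap.finrank_le_finrank_of_injective hLi).trans_eq Subspace.dual_finrank_eq, fun hLE => ?_⟩
  haveI : IsIso ((t.truncLTι 0).app M) := (t.isLE_iff_isIso_truncLTι_app (-1) 0 (by omega) M).1 hLE
  have hLs : Function.Surjective L := fun ψ => by
    let e := (((DerivedCategory.singleFunctors X.Modules).shiftIso (1 : ℤ) (-1) 0 (by omega)).app ω ≪≫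
      (DerivedCategory.singleFunctor X.Modules (-1)).mapIso eV ≪≫ eP.symm)
    refine ⟨(hhEquiv X ω 1).symm (Φ.symm ψ ≫ inv ((t.truncLTι 0).app M) ≫ e.inv), ?_⟩
    show Φ (hhEquiv X ω 1 _ ≫ e.hom ≫ (t.truncLTι 0).app M) = ψ
    rw [AddEquiv.apply_symm_apply]
    simp
  exact (LinearEquiv.ofBijective L ⟨hLi, hLs⟩).finrank_eq.trans Subspace.dual_finrank_eq

end Curve

end Groth.Agent.TwistShriek
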