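import Groth.Agent.TwistShriek.DualPair
import Groth.Agent.VBLib.DualOps
import Groth.Agent.VBLib.CurveDual
import Groth.Agent.StalkHomLib.StalkExt
import Groth.Agent.StalkHomLib.SectHom
import Groth.Prelude.Def_RefHull

/-!
# Duality for a reflexive sheaf and an invertible dualizing sheaf
-/

set_option autoImplicit false
set_option backward.isDefEq.respectTransparency false
set_option linter.style.haveILetI false
set_option maxHeartbeats 1000000
set_option linter.unusedSectionVars false

universe u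

open CategoryTheory CategoryTheory.Limits AlgebraicGeometry
open Groth.Agent.PullbackMod Groth.Agent.QCohLib Groth.Agent.DCohLib Groth.Agent.VBLib

noncomputable section

namespace Groth.Agent.TwistShriek

variable {X : Scheme.{u}}

local instance hasHF' (M : X.Modules) : ModSite.HasSheafHom (O := X.sheaf) M :=
  ModTensor.hasSheafHom (O := X.sheaf) M

/-- The internal dual of a coherent module is the sheaf of stalkwise functionals. -/
theorem nonempty_dd_iso_dual_of_isCoh [IsLocallyNoetherian X] {E : X.Modules} (hc : Coh.IsCoh E) :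
    Nonempty (DualDeg.dd E ≅ RefHull.dual E) := by
  let θ : tmod E (DualDeg.dd E) ⟶ Coh.structureModule X :=
    (CurveLib.tmodComm E (DualDeg.dd E)).hom ≫ StalkHomLib.ev E (Coh.structureModule X)
  haveI : IsIso (DualInvLib.toDual θ) := by
    refine (isIso_iff_stalk _).2 fun x => ?_
    have hb := StalkHomLib.theta_bijective (F := E) (x := x) hc (Coh.structureModule X)
    have he := RefOne.evalStalk_bijective hc (DevLib.isCoh_structureModule X).1 x
    have hcomp : ∀ μ, RefHull.evalStalk E (Coh.structureModule X) x (stalkLin (DualInvLib.toDual θ) x μ) =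
        StalkHomLib.theta E (Coh.structureModule X) x μ := fun μ => by
      refine (DualInvLib.eval_toDual θ x μ).trans (LinearMap.ext fun l => ?_)
      rw [DualInvLib.funAt_apply]
      refine (LinearMap.congr_fun (stalkLin_comp _ _ x) _).trans ?_
      exact congrArg (stalkLin (StalkHomLib.ev E (Coh.structureModule X)) x)
        (HomPair.tmodComm_stalk E (DualDeg.dd E) x l μ)
    refine ⟨fun a b h => hb.1 ((hcomp a).symm.trans ((congrArg _ h).trans (hcomp b))), fun t => ?_⟩
    obtain ⟨μ, hμ⟩ := hb.2 (RefHull.evalStalk E (Coh.structureModule X) x t)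
    exact ⟨μ, he.1 ((hcomp μ).trans hμ)⟩
  exact ⟨asIso (DualInvLib.toDual θ)⟩

/-- Internal homs into an invertible module. -/
theorem nonempty_hF_invertible {ω N : X.Modules} (θ : CohB1.tensorMod ω N ≅ Coh.structureModule X) (F : X.Modules) :
    Nonempty (tmod (DualDeg.dd F) ω ≅ (StalkHomLib.hF F).obj ω) := by
  let aN : CurveLib.tensR N ⊣ CurveLib.tensR ω :=
    (CategoryTheory.Equivalence.mk (CurveLib.tensR N) (CurveLib.tensR ω) (untwist (AmpleLib.comm N ω ≪≫ θ)).symm
      (untwist θ)).toAdjunction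
  let aF := ModSite.sheafHomAdj (O := X.sheaf) F
  let e : CurveLib.tensR N ⋙ CurveLib.tensR F ≅ CurveLib.tensR F ⋙ CurveLib.tensR N :=
    (ModTensor.tensorAssoc X.sheaf N F : CurveLib.tensR N ⋙ CurveLib.tensR F ≅ CurveLib.tensR (tmod N F)) ≪≫
      (DCoh.tensorBi (X := X)).flip.mapIso (AmpleLib.comm N F) ≪≫
        (ModTensor.tensorAssoc X.sheaf F N : CurveLib.tensR F ⋙ CurveLib.tensR N ≅ CurveLib.tensR (tmod F N)).symm
  let R : StalkHomLib.hF F ⋙ CurveLib.tensR ω ≅ CurveLib.tensR ω ⋙ StalkHomLib.hF F :=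
    Adjunction.rightAdjointUniq ((aN.comp aF).ofNatIsoLeft e) (aF.comp aN)
  exact ⟨R.app (Coh.structureModule X) ≪≫ (StalkHomLib.hF F).mapIso (CurveLib.tmodUnit ω)⟩

variable (k : Type u) [Field k] [X.Over (Spec (CommRingCat.of k))] [IsProper (X ↘ Spec (CommRingCat.of k))]
  {r : ℕ} {ω : X.Modules} {tr : Coh.HH X ω r →ₗ[k] k}

/-- A class in degree zero of an internal hom, as a map. -/
def homOfH0 {G L M : X.Modules} (e : M ≅ (StalkHomLib.hF G).obj L) (x : Coh.HH X M 0) : G ⟶ L :=
  (CurveLib.tmodUnit G).inv ≫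
    ((ModSite.sheafHomAdj (O := X.sheaf) G).homEquiv (Coh.structureModule X) L).symm
      (DCohLib.secHom M (CurveLib.secOf M x) ≫ e.hom)

theorem bijective_homOfH0 {G L M : X.Modules} (e : M ≅ (StalkHomLib.hF G).obj L) :
    Function.Bijective (homOfH0 e) := by
  let S : Coh.HH X M 0 ≃ (Coh.structureModule X ⟶ M) :=
    { toFun := fun x => DCohLib.secHom M (CurveLib.secOf M x)
      invFun := fun f => (CurveLib.secOf M).symm (AmpleLib.sec f)
      left_inv := fun x => by
        dsimp only
        rw [AmpleLib.sec_secHom, AddEquiv.symm_apply_apply]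
      right_inv := fun f => by
        dsimp only
        rw [AddEquiv.apply_symm_apply, AmpleLib.secHom_sec] }
  let E : Coh.HH X M 0 ≃ (G ⟶ L) :=
    S.trans ((Iso.homCongr (Iso.refl _) e).trans
      ((((ModSite.sheafHomAdj (O := X.sheaf) G).homEquiv (Coh.structureModule X) L).symm).trans
        (Iso.homCongr (CurveLib.tmodUnit G) (Iso.refl L))))
  have h : ∀ x, homOfH0 e x = E x := fun x => by simp [E, S, homOfH0]
  rw [show homOfH0 e = E from funext h]
  exact E.bijective

theorem homOfH0_add {G L M : X.Modules} (e : M ≅ (StalkHomLib.hF G).obj L) (x y : Coh.HH X M 0) :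
    homOfH0 e (x + y) = homOfH0 e x + homOfH0 e y := by
  haveI : ((DCoh.tensorBi (X := X)).flip.obj G).Additive := ModTensor.additive_tensorBi_flip X.sheaf G
  have h : (DCohLib.secHom M (CurveLib.secOf M (x + y)) :) =
      DCohLib.secHom M (CurveLib.secOf M x) + DCohLib.secHom M (CurveLib.secOf M y) := by
    rw [map_add, CurveLib.secHom_add]
  simp only [homOfH0, h, Adjunction.homEquiv_counit, Preadditive.add_comp, Preadditive.comp_add, Functor.map_add]

theorem homOfH0_smul {G L M : X.Modules} (e : M ≅ (StalkHomLib.hF G).obj L) (c : k) (x : Coh.HH X M 0) :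
    homOfH0 e (c • x) = homOfH0 e x ≫ (cst k L c : L ⟶ L) := by
  have h : (DCohLib.secHom M (CurveLib.secOf M (c • x)) :) ≫ e.hom =
      (cst k (Coh.structureModule X) c : Coh.structureModule X ⟶ _) ≫
        (DCohLib.secHom M (CurveLib.secOf M x) ≫ e.hom) := by
    rw [Secant.secHom_smul, ← Category.assoc, cst_natural]
  rw [homOfH0, homOfH0, h, Adjunction.homEquiv_naturality_left_symm]
  show (CurveLib.tmodUnit G).inv ≫ (CurveLib.tensR G).map _ ≫ _ = _
  rw [Dual.tensR_map_cst, Category.assoc]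
  exact congrArg ((CurveLib.tmodUnit G).inv ≫ ·) (cst_natural k _ c)

variable (hω : Canon.IsRDualOver k X r ω tr)

include hω in
/-- `h^r(G) = h⁰(Hom(G, ω))`. -/
theorem finrank_top_of_iso {G M : X.Modules} (hG : Coh.IsQCoh G) (e : M ≅ (StalkHomLib.hF G).obj ω) :
    Module.finrank k (Coh.HH X G r) = Module.finrank k (Coh.HH X M 0) := by
  let Φ : Coh.HH X M 0 ≃ₗ[k] Module.Dual k (Coh.HH X G r) :=
    LinearEquiv.ofBijective
      { toFun := fun x => Canon.dualityMap k X r ω tr G (homOfH0 e x)
        map_add' := fun x y => by rw [homOfH0_add, dualityMap_add]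
        map_smul' := fun c x => by
          rw [homOfH0_smul k, dualityMap_cst]
          rfl }
      ((hω.2 G hG).comp (bijective_homOfH0 e))
  rw [Φ.finrank_eq, Subspace.dual_finrank_eq]

include hω in
/-- Duality for a reflexive coherent sheaf when the dualizing sheaf is invertible. -/
theorem finrank_reflexive_dual [IsLocallyNoetherian X] (hωi : PicF.IsInvertible ω) {F : X.Modules}
    (hF : Coh.IsCoh F) (hFr : RefHull.IsReflexive F) :
    Module.finrank k (Coh.HH X F 0) = Module.finrank k (Coh.HH X (CohB1.tensorMod (RefHull.dual F) ω) r) ∧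
      Module.finrank k (Coh.HH X F r) = Module.finrank k (Coh.HH X (CohB1.tensorMod (RefHull.dual F) ω) 0) := by
  obtain ⟨N, -, ⟨θ⟩⟩ := AmpleEmb.exists_isInverseOf hωi
  have hD := RefOne.isCoh_dual hF
  obtain ⟨a⟩ := nonempty_dd_iso_dual_of_isCoh hF
  obtain ⟨b⟩ := nonempty_hF_invertible θ F
  obtain ⟨b'⟩ := nonempty_hF_invertible θ ω
  obtain ⟨c⟩ := nonempty_dd_iso_dual_of_isCoh (CurveLib.isCoh_of_isInvertible hωi)
  obtain ⟨c'⟩ := DualInvLib.nonempty_iso_dual hωi θ
  obtain ⟨d⟩ := nonempty_dd_iso_dual_of_isCoh hD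
  haveI : IsIso (RefHull.bidualMap F) := hFr
  let u : (StalkHomLib.hF ω).obj ω ≅ Coh.structureModule X :=
    b'.symm ≪≫ AmpleLib.tIso (c ≪≫ c'.symm) (Iso.refl ω) ≪≫ AmpleLib.comm N ω ≪≫ θ
  let G := CohB1.tensorMod (RefHull.dual F) ω
  let v : F ≅ (StalkHomLib.hF G).obj ω :=
    asIso (RefHull.bidualMap F) ≪≫ d.symm ≪≫ (StalkHomLib.hF (RefHull.dual F)).mapIso u.symm ≪≫
      (DualOps.hFTensor (RefHull.dual F) ω).app ω
  refine ⟨(finrank_top_of_iso k hω (CurveLib.isCoh_tmod hD (CurveLib.isCoh_of_isInvertible hωi)).1 v).symm,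
    finrank_top_of_iso k hω hF.1 (AmpleLib.tIso a.symm (Iso.refl ω) ≪≫ b)⟩

end Groth.Agent.TwistShriek
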