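import Groth.Agent.TwistShriek.DualPair
import Groth.Agent.TwistShriek.CurveDual
import Groth.Agent.HilbLib.Basic
import Groth.Agent.HilbObsLib.Ideal
import Groth.Agent.CurveLib.Finite
import Groth.Agent.CurveLib.CurveVanish
import Groth.Agent.CurveLib.GlobalFun
import Groth.Agent.CurveLib.Components
import Groth.Agent.IntLib.Push
import Groth.Agent.IntLib.Divisor
import Groth.Agent.VBLib.Twist
import Groth.Agent.LocFreeHomLib.Basic
import Groth.Agent.TwistShriek.SerreInv

/-!
# Twisting by a point and duality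
-/

set_option autoImplicit false
set_option backward.isDefEq.respectTransparency false
set_option linter.style.haveILetI false
set_option linter.unusedSectionVars false
set_option maxHeartbeats 1000000

universe u

open CategoryTheory CategoryTheory.Limits AlgebraicGeometry TopologicalSpace
open Groth.Agent.PullbackMod Groth.Agent.DCohLib Groth.Agent.QCohLib Groth.Agent.ParaFLib Groth.Agent.VBLib
open scoped TensorProduct

attribute [local instance] HasDerivedCategory.standard

noncomputable section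

namespace Groth.Agent.TwistShriek

variable {X : Scheme.{u}}

/-- A morphism is bijective on a stalk inside an open where it is an isomorphism. -/
theorem bijective_stalk_of_isIso_restrict {M N : X.Modules} (φ : M ⟶ N) (U : X.Opens)
    (h : IsIso ((Scheme.Modules.restrictFunctor U.ι).map φ)) {y : X} (hy : y ∈ U) :
    Function.Bijective (stalkLin φ y) := by
  have h2 : IsIso ((Scheme.Modules.restrictFunctor U.ι ⋙ Scheme.Modules.toPresheaf _ ⋙
      TopCat.Presheaf.stalkFunctor AddCommGrpCat.{u} (⟨y, hy⟩ : U)).map φ) :=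
    @Functor.map_isIso _ _ _ _ _ _ (Scheme.Modules.toPresheaf (U : Scheme.{u}) ⋙
      TopCat.Presheaf.stalkFunctor (X := (U : Scheme.{u}).toTopCat) AddCommGrpCat.{u} (⟨y, hy⟩ : U))
      ((Scheme.Modules.restrictFunctor U.ι).map φ) h
  exact @ConcreteCategory.bijective_of_isIso _ _ _ _ _ _ _ _
    ((Scheme.Modules.toPresheaf _ ⋙ TopCat.Presheaf.stalkFunctor AddCommGrpCat.{u} y).map φ)
    ((NatIso.isIso_map_iff (Scheme.Modules.restrictStalkNatIso U.ι (⟨y, hy⟩ : U)) _).1 h2)

/-- A morphism bijective on the stalks of an open is an isomorphism there. -/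
theorem isIso_restrict_of_bijective {M N : X.Modules} (φ : M ⟶ N) (U : X.Opens)
    (h : ∀ y ∈ U, Function.Bijective (stalkLin φ y)) : IsIso ((Scheme.Modules.restrictFunctor U.ι).map φ) := by
  refine (isIso_iff_stalk _).2 fun u => ?_
  haveI : IsIso ((Scheme.Modules.toPresheaf _ ⋙ TopCat.Presheaf.stalkFunctor AddCommGrpCat.{u} (U.ι u)).map φ) :=
    (ConcreteCategory.isIso_iff_bijective _).2 (h _ u.2)
  haveI := (NatIso.isIso_map_iff (Scheme.Modules.restrictStalkNatIso U.ι u) φ).2 ‹_›
  exact ConcreteCategory.bijective_of_isIso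
    ((Scheme.Modules.restrictFunctor U.ι ⋙ Scheme.Modules.toPresheaf _ ⋙
      TopCat.Presheaf.stalkFunctor AddCommGrpCat.{u} u).map φ)

variable (k : Type u) [Field k] [X.Over (Spec (CommRingCat.of k))] [IsProper (X ↘ Spec (CommRingCat.of k))]

/-- Dualizing sheaves are unique. -/
theorem nonempty_iso_of_isRDualOver {r : ℕ} {ω ω' : X.Modules} {tr : Coh.HH X ω r →ₗ[k] k}
    {tr' : Coh.HH X ω' r →ₗ[k] k} (h : Canon.IsRDualOver k X r ω tr) (h' : Canon.IsRDualOver k X r ω' tr') :
    Nonempty (ω ≅ ω') := by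
  obtain ⟨φ, hφ⟩ := (h.2 ω' h'.1).2 tr'
  obtain ⟨ψ, hψ⟩ := (h'.2 ω h.1).2 tr
  refine ⟨⟨ψ, φ, (h.2 ω h.1).1 (LinearMap.ext fun x => ?_), (h'.2 ω' h'.1).1 (LinearMap.ext fun x => ?_)⟩⟩
  · show tr (Canon.HHlin k (ψ ≫ φ) r x) = tr (Canon.HHlin k (𝟙 ω) r x)
    rw [HHlin_comp]
    refine (LinearMap.congr_fun hφ _).trans ((LinearMap.congr_fun hψ x).trans ?_)
    rw [← cst_one k ω, HHlin_cst, one_smul]
  · show tr' (Canon.HHlin k (φ ≫ ψ) r x) = tr' (Canon.HHlin k (𝟙 ω') r x)
    rw [HHlin_comp]
    refine (LinearMap.congr_fun hψ _).trans ((LinearMap.congr_fun hφ x).trans ?_)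
    rw [← cst_one k ω', HHlin_cst, one_smul]

/-- The dualizing sheaf of a curve is coherent, and `h¹(ω) ≤ h⁰(O)`. -/
theorem isCoh_finrank_of_pair (hdim : topologicalKrullDim X ≤ (1 : ℕ)) {ω : X.Modules}
    {tr : Coh.HH X ω 1 →ₗ[k] k} (hω : Canon.IsRDualOver k X 1 ω tr) :
    Coh.IsCoh ω ∧ Module.finrank k (Coh.HH X ω 1) ≤ Module.finrank k (Coh.HH X (Coh.structureModule X) 0) := by
  let f := X ↘ Spec (CommRingCat.of k)
  let Y := Spec (CommRingCat.of k)
  haveI : IsNoetherianRing (CommRingCat.of k) := inferInstanceAs (IsNoetherianRing k)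
  haveI : IsLocallyNoetherian X := LocallyOfFiniteType.isLocallyNoetherian f
  haveI : CompactSpace X := QuasiCompact.compactSpace_of_compactSpace f
  haveI : QuasiSeparatedSpace X := quasiSeparatedSpace_of_quasiSeparated f
  haveI : DCoh.HasRpush f := Groth.Agent.KInj.hasRightDerivedFunctor (hres_modules X) _
  have h : DCoh.RpushPreservesQCoh f := fun K hK => DCohMore.isQCohD_rpush f K hK
  haveI := DQCohBrown.isLeftAdjoint_rpushQ f h
  let a := (DCoh.RpushQ f h).rightAdjoint
  let adj : DCoh.RpushQ f h ⊣ a := Adjunction.ofIsLeftAdjoint (DCoh.RpushQ f h)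
  obtain ⟨tr₁, h₁⟩ := exists_isRDualOver_curve k X h a adj (oQ Y) (Iso.refl _) 1 hdim
  obtain ⟨ω', tr', hc', h'⟩ := exists_isCoh_isRDualOver_field k X 1 hdim
  obtain ⟨e₁⟩ := nonempty_iso_of_isRDualOver k hω h₁
  obtain ⟨e'⟩ := nonempty_iso_of_isRDualOver k hω h'
  obtain ⟨-, hle, -⟩ := finrank_H1_dualizing k X h a adj (oQ Y) (Iso.refl _) hdim
  refine ⟨ShStabLib.isCoh_of_iso e'.symm hc', ?_⟩
  rwa [CurveLib.hMap_bijective_finrank (k := k) e₁ 1]

section PointTwist

variable {p : X} (hp : IsClosed ({p} : Set X))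

theorem dim_singleton : topologicalKrullDim ({p} : Set X) ≤ 0 :=
  topologicalKrullDim_zero_of_discreteTopology _

include hp in
theorem mem_maximalIdeal_iff_exists (a : X.presheaf.stalk p) :
    (∃ n, stalkLin (ClSub.idealModι (Scheme.IdealSheafData.vanishingIdeal ⟨{p}, hp⟩)) p n = a • oneG p) ↔
      a ∈ IsLocalRing.maximalIdeal (X.presheaf.stalk p) := by
  let J := Scheme.IdealSheafData.vanishingIdeal (⟨{p}, hp⟩ : Closeds X)
  rw [HilbObsLib.mem_range_idealModι]
  have hle : IntMult.stalkIdeal J p ≤ IsLocalRing.maximalIdeal (X.presheaf.stalk p) := by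
    obtain ⟨w, hw⟩ : p ∈ Set.range J.subschemeι := by
      rw [Scheme.IdealSheafData.range_subschemeι, Scheme.IdealSheafData.coe_support_vanishingIdeal]
      exact Set.mem_singleton p
    refine IsLocalRing.le_maximalIdeal ?_
    rw [← hw, ← IdealStalkLib.ker_stalkMap_subschemeι]
    exact RingHom.ker_ne_top _
  refine ⟨fun h => hle h, fun ha => ?_⟩
  obtain ⟨V, hV, b, rfl⟩ := TopCat.Presheaf.exists_germ_eq X.presheaf a
  obtain ⟨_, ⟨W : X.Opens, (hW : IsAffineOpen W), rfl⟩, hpW, hWV⟩ :=
    X.isBasis_affineOpens.exists_subset_of_mem_open (a := p) (show p ∈ V from hV) V.2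
  rw [← X.presheaf.germ_res_apply (homOfLE (hWV : W ≤ V)) p hpW b] at ha ⊢
  have key : ∀ f : Γ(X, W), X.presheaf.germ W p hpW f ∈ IsLocalRing.maximalIdeal (X.presheaf.stalk p) →
      X.presheaf.germ W p hpW f ∈ IntMult.stalkIdeal J p := fun f hf => by
    rw [IdealStalkLib.stalkIdeal_eq J ⟨W, hW⟩ p hpW]
    refine Ideal.mem_map_of_mem _ ?_
    rw [Scheme.IdealSheafData.vanishingIdeal_ideal]
    refine (PrimeSpectrum.mem_vanishingIdeal _ _).2 fun q hq => by_contra fun hnq => ?_
    have hmem : hW.fromSpec q ∈ X.basicOpen f := by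
      have h : q ∈ hW.fromSpec ⁻¹ᵁ X.basicOpen f := by
        rw [hW.fromSpec_preimage_basicOpen]
        exact hnq
      exact h
    rw [show hW.fromSpec q = p from hq] at hmem
    exact (IsLocalRing.mem_maximalIdeal _).1 hf ((X.mem_basicOpen f p hpW).1 hmem)
  exact key _ ha

include hp in
theorem bijective_idealModι_of_ne {y : X} (hy : y ≠ p) :
    Function.Bijective (stalkLin (ClSub.idealModι (Scheme.IdealSheafData.vanishingIdeal ⟨{p}, hp⟩)) y) := by
  let J := Scheme.IdealSheafData.vanishingIdeal (⟨{p}, hp⟩ : Closeds X)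
  haveI : Mono (ClSub.idealModι J) := inferInstanceAs (Mono (kernel.ι _))
  refine ⟨(mono_iff_stalk _).1 inferInstance y, fun z => ?_⟩
  obtain ⟨a, rfl⟩ := (bijective_oneG y).2 z
  refine (HilbObsLib.mem_range_idealModι J y a).2 ?_
  rw [HilbObsLib.stalkIdeal_eq_top J]
  · trivial
  · rw [Scheme.IdealSheafData.range_subschemeι, Scheme.IdealSheafData.coe_support_vanishingIdeal]
    show y ∉ ({p} : Set X)
    exact hy

end PointTwist

section Phi

variable {P : X.Modules} (ι : P ⟶ Coh.structureModule X)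

/-- The inclusion of `P ⊗ G` into `G`. -/
def phi (G : X.Modules) : tmod P G ⟶ G := CurveLib.tmap ι G ≫ (CurveLib.tmodUnit G).hom

/-- The unit on a stalk. -/
def unitAt (G : X.Modules) (y : X) : G.presheaf.stalk y →ₗ[X.presheaf.stalk y] G.presheaf.stalk y :=
  (stalkLin (CurveLib.tmodUnit G).hom y).comp
    ((stalkTensor y (Coh.structureModule X) G).toLinearMap.comp (TensorProduct.mk _ _ _ (oneG y)))

theorem unitAt_bijective (G : X.Modules) (y : X) : Function.Bijective (unitAt G y) := by
  let eO : X.presheaf.stalk y ≃ₗ[X.presheaf.stalk y] (Coh.structureModule X).presheaf.stalk y :=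
    LinearEquiv.ofBijective (LinearMap.toSpanSingleton _ _ (oneG y)) (bijective_oneG y)
  have h1 : (TensorProduct.mk (X.presheaf.stalk y) _ _ (oneG y) : G.presheaf.stalk y → _) =
      (TensorProduct.congr eO (LinearEquiv.refl (X.presheaf.stalk y) (G.presheaf.stalk y))) ∘
        (TensorProduct.lid (X.presheaf.stalk y) (G.presheaf.stalk y)).symm := by
    funext g
    show oneG y ⊗ₜ g = eO 1 ⊗ₜ g
    rw [show eO 1 = oneG y from one_smul (X.presheaf.stalk y) (oneG y)]
  show Function.Bijective ((stalkLin (CurveLib.tmodUnit G).hom y) ∘ (stalkTensor y (Coh.structureModule X) G) ∘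
    (TensorProduct.mk _ _ _ (oneG y)))
  rw [h1]
  exact ((isIso_iff_stalk _).1 inferInstance y).comp ((stalkTensor y _ G).bijective.comp
    ((LinearEquiv.bijective _).comp (LinearEquiv.bijective _)))

theorem phi_tmul (G : X.Modules) (y : X) (n : P.presheaf.stalk y) (g : G.presheaf.stalk y) (a : X.presheaf.stalk y)
    (ha : stalkLin ι y n = a • oneG y) :
    stalkLin (phi ι G) y (stalkTensor y P G (n ⊗ₜ g)) = a • unitAt G y g := by
  have h1 : stalkLin (CurveLib.tmap ι G) y (stalkTensor y P G (n ⊗ₜ g)) =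
      a • stalkTensor y (Coh.structureModule X) G (oneG y ⊗ₜ g) := by
    refine (stalkTensor_natural_left y ι _).trans ?_
    rw [LinearMap.rTensor_tmul, ha, ← TensorProduct.smul_tmul']
    exact map_smul (stalkTensor y (Coh.structureModule X) G) a _
  refine (LinearMap.congr_fun (stalkLin_comp (CurveLib.tmap ι G) (CurveLib.tmodUnit G).hom y) _).trans ?_
  refine (congrArg (stalkLin (CurveLib.tmodUnit G).hom y) h1).trans ?_
  exact map_smul (stalkLin (CurveLib.tmodUnit G).hom y) a _

theorem phi_bijective {y : X} (h : Function.Bijective (stalkLin ι y)) (G : X.Modules) :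
    Function.Bijective (stalkLin (phi ι G) y) := by
  have hr : Function.Bijective ((stalkLin ι y).rTensor (G.presheaf.stalk y)) := by
    have h0 := (LinearEquiv.rTensor (G.presheaf.stalk y) (LinearEquiv.ofBijective (stalkLin ι y) h)).bijective
    exact h0
  have h1 : (stalkLin (phi ι G) y : (tmod P G).presheaf.stalk y → G.presheaf.stalk y) =
      (stalkLin (CurveLib.tmodUnit G).hom y) ∘ (stalkTensor y (Coh.structureModule X) G) ∘
        ((stalkLin ι y).rTensor (G.presheaf.stalk y)) ∘ (stalkTensor y P G).symm := by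
    funext z
    obtain ⟨w, rfl⟩ := (stalkTensor y P G).surjective z
    simp only [Function.comp_apply]
    rw [LinearEquiv.symm_apply_apply]
    exact (LinearMap.congr_fun (stalkLin_comp (CurveLib.tmap ι G) (CurveLib.tmodUnit G).hom y) _).trans
      (congrArg (stalkLin (CurveLib.tmodUnit G).hom y) (stalkTensor_natural_left y ι w))
  rw [h1]
  exact ((isIso_iff_stalk _).1 inferInstance y).comp
    ((stalkTensor y (Coh.structureModule X) G).bijective.comp (hr.comp (stalkTensor y P G).symm.bijective))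

variable {p : X} (hm : ∀ a : X.presheaf.stalk p,
  (∃ n, stalkLin ι p n = a • oneG p) ↔ a ∈ IsLocalRing.maximalIdeal (X.presheaf.stalk p))

include hm in
theorem range_phi (G : X.Modules) : LinearMap.range (stalkLin (phi ι G) p) =
    IsLocalRing.maximalIdeal (X.presheaf.stalk p) • (⊤ : Submodule (X.presheaf.stalk p) (G.presheaf.stalk p)) := by
  refine le_antisymm ?_ (Submodule.smul_le.2 fun a ha z _ => ?_)
  · rintro _ ⟨z, rfl⟩
    obtain ⟨w, rfl⟩ := (stalkTensor p P G).surjective z
    induction w using TensorProduct.induction_on with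
    | zero => simp
    | tmul n g =>
      obtain ⟨a, ha⟩ := (bijective_oneG p).2 (stalkLin ι p n)
      rw [phi_tmul ι G p n g a ha.symm]
      exact Submodule.smul_mem_smul ((hm a).1 ⟨n, ha.symm⟩) trivial
    | add x y hx hy => rw [map_add, map_add]; exact add_mem hx hy
  · obtain ⟨n, hn⟩ := (hm a).2 ha
    obtain ⟨g, rfl⟩ := (unitAt_bijective G p).2 z
    exact ⟨stalkTensor p P G (n ⊗ₜ g), phi_tmul ι G p n g a hn⟩

variable (hoff : ∀ y, y ≠ p → Function.Bijective (stalkLin ι y))

include hoff in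
theorem support_cokernel_phi (G : X.Modules) [Mono (phi ι G)] : CohB1.support (cokernel (phi ι G)) ⊆ {p} := fun y hy => by
  by_contra hyp
  exact hy (DevLib.subsingleton_coker (phi ι G) (phi_bijective ι (hoff y hyp) G).2)

include hoff in
theorem support_kernel_phi (G : X.Modules) : CohB1.support (kernel (phi ι G)) ⊆ {p} := fun y hy => by
  by_contra hyp
  refine hy (subsingleton_of_forall_eq 0 fun z => ?_)
  have h1 : stalkLin (kernel.ι (phi ι G)) y z = 0 := (phi_bijective ι (hoff y hyp) G).1 (by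
    rw [map_zero, ← LinearMap.comp_apply, ← stalkLin_comp, kernel.condition]
    exact LinearMap.congr_fun ((eq_zero_iff_stalk _).1 rfl y) z)
  exact (mono_iff_stalk (kernel.ι (phi ι G))).1 inferInstance y (h1.trans (map_zero _).symm)

variable {ω : X.Modules} {tr : Coh.HH X ω 1 →ₗ[k] k} (hω : Canon.IsRDualOver k X 1 ω tr) (hp : IsClosed ({p} : Set X))

include hω hp in
/-- Nothing maps to the dualizing sheaf from modules supported at a point. -/
theorem hom_eq_zero_of_support {K : X.Modules} (hK : Coh.IsCoh K) (hs : CohB1.support K ⊆ {p}) (u : K ⟶ ω) :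
    u = 0 := by
  haveI := EulerIneqLib.isNoetherian_proper (X := X) k
  haveI : Subsingleton (Coh.HH X K 1) :=
    CurveLib.subsingleton_HH_of_support K hp hs (d := 0) (dim_singleton (p := p)) one_pos
  exact hom_eq_zero_of_subsingleton_HH k hω K hK.1 u

include hω hp hoff in
theorem mono_phi {G : X.Modules} (hG : Coh.IsCoh G) (hP : Coh.IsCoh P) (w : tmod P G ≅ ω) : Mono (phi ι G) := by
  haveI := EulerIneqLib.isNoetherian_proper (X := X) k
  refine Preadditive.mono_of_kernel_zero ?_
  have h := hom_eq_zero_of_support k hω hp (QCohLib.isCoh_kernel_cokernel (phi ι G) (CurveLib.isCoh_tmod hP hG) hG).1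
    (support_kernel_phi ι hoff G) (kernel.ι (phi ι G) ≫ w.hom)
  rw [← cancel_mono w.hom, zero_comp]
  exact h

include hω hp hoff hm in
/-- The stalk at the point of the twist `G` of the dualizing sheaf is cyclic and torsion free. -/
theorem exists_stalk_twist {G : X.Modules} (hG : Coh.IsCoh G) (hP : Coh.IsCoh P)
    (hPi : ∃ e : P.presheaf.stalk p, Function.Bijective fun r : X.presheaf.stalk p => r • e)
    (w : tmod P G ≅ ω) (hω1 : Module.finrank k (Coh.HH X ω 1) ≤ 1)
    (hG0 : Module.finrank k (Coh.HH X G 0) ≤ Module.finrank k (Coh.HH X ω 0)) :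
    ∃ g : G.presheaf.stalk p, (∀ z, ∃ a : X.presheaf.stalk p, a • g = z) ∧
      ∃ t ∈ IsLocalRing.maximalIdeal (X.presheaf.stalk p),
        (∀ a ∈ IsLocalRing.maximalIdeal (X.presheaf.stalk p), ∃ b, a = b * t) ∧
          ∀ z : G.presheaf.stalk p, t • z = 0 → z = 0 := by
  haveI := EulerIneqLib.isNoetherian_proper (X := X) k
  haveI := mono_phi k ι hoff hω hp hG hP w
  have hcP := CurveLib.isCoh_tmod hP hG
  let Q := cokernel (phi ι G)
  have hQ : Coh.IsCoh Q := (QCohLib.isCoh_kernel_cokernel (phi ι G) hcP hG).2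
  have hS := DevLib.cokerSeq_shortExact (phi ι G)
  haveI := EulerIneqLib.finite_HH (k := k) hcP 0
  haveI := EulerIneqLib.finite_HH (k := k) hcP 1
  haveI := EulerIneqLib.finite_HH (k := k) hG 0
  haveI := EulerIneqLib.finite_HH (k := k) hQ 0
  haveI : Module.Finite k (Coh.HH X (DevLib.cokerSeq (phi ι G)).X₂ 0) := EulerIneqLib.finite_HH (k := k) hG 0
  haveI : Module.Finite k (Coh.HH X (DevLib.cokerSeq (phi ι G)).X₃ 0) := EulerIneqLib.finite_HH (k := k) hQ 0
  haveI : Module.Finite k (Coh.HH X (DevLib.cokerSeq (phi ι G)).X₁ (0 + 1)) := EulerIneqLib.finite_HH (k := k) hcP 1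
  have hQ0 : Module.finrank k (Coh.HH X Q 0) ≤ 1 := by
    have h1 := (CurveLib.hMap (k := k) (DevLib.cokerSeq (phi ι G)).g 0).finrank_range_add_finrank_ker
    have h2 := (CurveLib.hδ (k := k) hS 0).finrank_range_add_finrank_ker
    rw [← CurveLib.range_hMap_f (k := k) hS 0,
      LinearMap.finrank_range_of_inj (CurveLib.hMap_f_zero_injective (k := k) hS)] at h1
    rw [← CurveLib.range_hMap_g (k := k) hS 0] at h2
    have h3 : Module.finrank k (LinearMap.range (CurveLib.hδ (k := k) hS 0)) ≤
        Module.finrank k (Coh.HH X (tmod P G) 1) := Submodule.finrank_le _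
    have h4 := CurveLib.hMap_bijective_finrank (k := k) w 1
    have h5 := CurveLib.hMap_bijective_finrank (k := k) w 0
    change _ + Module.finrank k (Coh.HH X (tmod P G) 0) = Module.finrank k (Coh.HH X G 0) at h1
    change _ + _ = Module.finrank k (Coh.HH X Q 0) at h2
    omega
  obtain ⟨v, hv⟩ := finrank_le_one_iff.1 hQ0
  let q : Q.presheaf.stalk p := Q.presheaf.germ ⊤ p trivial (CurveLib.secOf Q v)
  have hq : ∀ z : Q.presheaf.stalk p, ∃ a : X.presheaf.stalk p, a • q = z := fun z => by
    obtain ⟨s, hs⟩ := CurveLib.exists_global_germ hp (dim_singleton (p := p)) Q (support_cokernel_phi ι hoff G) p z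
    obtain ⟨c, hc⟩ := hv ((CurveLib.secOf Q).symm s)
    have h1 := congrArg (CurveLib.secOf Q) hc
    rw [CurveLib.secOf_smul, AddEquiv.apply_symm_apply] at h1
    refine ⟨X.presheaf.germ ⊤ p trivial (show Γ(X, ⊤) from Coh.toGlobal (X ↘ Spec (CommRingCat.of k)) c), ?_⟩
    rw [← hs, ← h1, germ_smul']
  obtain ⟨g, hg⟩ := DevLib.coker_surjective (phi ι G) p q
  haveI := hG.1
  haveI := finite_stalk_of_isFT hG.2 p
  have hspan : Submodule.span (X.presheaf.stalk p) {g} = ⊤ := by
    refine top_le_iff.1 (Submodule.le_of_le_smul_of_le_jacobson_bot Module.Finite.fg_top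
      (IsLocalRing.maximalIdeal_le_jacobson _) fun z _ => ?_)
    obtain ⟨a, ha⟩ := hq (stalkLin (cokernel.π (phi ι G)) p z)
    have h1 : stalkLin (cokernel.π (phi ι G)) p (z - a • g) = 0 := by rw [map_sub, map_smul, hg, ha, sub_self]
    obtain ⟨y, hy⟩ := (DevLib.coker_exact (phi ι G) p _).1 h1
    rw [← add_sub_cancel (a • g) z]
    refine Submodule.add_mem_sup (Submodule.smul_mem _ _ (Submodule.subset_span rfl)) ?_
    rw [← range_phi ι hm G]
    exact ⟨y, hy⟩
  obtain ⟨e, he⟩ := hPi
  obtain ⟨t, ht⟩ := (bijective_oneG p).2 (stalkLin ι p e)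
  refine ⟨g, fun z => Submodule.mem_span_singleton.1 (hspan.ge trivial), t, (hm t).1 ⟨e, ht.symm⟩, fun a ha => ?_,
    fun z hz => ?_⟩
  · obtain ⟨n, hn⟩ := (hm a).2 ha
    obtain ⟨b, rfl⟩ := he.2 n
    refine ⟨b, (bijective_oneG p).1 ?_⟩
    show a • oneG p = (b * t) • oneG p
    rw [← hn, map_smul, ← ht, smul_smul]
  · obtain ⟨z', rfl⟩ := (unitAt_bijective G p).2 z
    rw [← phi_tmul ι G p e z' t ht.symm] at hz
    have h1 := (mono_iff_stalk (phi ι G)).1 inferInstance p (hz.trans (map_zero _).symm)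
    rw [LinearEquiv.map_eq_zero_iff] at h1
    let eP : X.presheaf.stalk p ≃ₗ[X.presheaf.stalk p] P.presheaf.stalk p :=
      LinearEquiv.ofBijective (LinearMap.toSpanSingleton _ _ e) he
    have h2 := congrArg ((TensorProduct.congr eP.symm (LinearEquiv.refl (X.presheaf.stalk p) (G.presheaf.stalk p))).trans
      (TensorProduct.lid (X.presheaf.stalk p) (G.presheaf.stalk p))) h1
    have he1 : eP.symm e = 1 := eP.injective (by rw [eP.apply_symm_apply]; exact (one_smul (X.presheaf.stalk p) e).symm)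
    have h3 : z' = 0 := by simpa [he1] using h2
    rw [h3, map_zero]

end Phi

end Groth.Agent.TwistShriek
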