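import Groth.Agent.TwistShriek.RHomO

/-!
# The right adjoint of the derived direct image along a closed immersion
-/

set_option autoImplicit false
set_option linter.style.haveILetI false
set_option linter.unusedSectionVars false
set_option backward.isDefEq.respectTransparency false
set_option maxHeartbeats 800000

universe u

open CategoryTheory CategoryTheory.Limits AlgebraicGeometry
open Groth.Agent.DCohLib

attribute [local instance] HasDerivedCategory.standard

noncomputable section

namespace Groth.Agent.TwistShriek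

variable {Z X : Scheme.{u}} (i : Z ⟶ X) [IsClosedImmersion i] [Dual3.HasHomO i] [EnoughInjectives X.Modules]
  [DCoh.HasRpush i]

/-- On bounded below objects the right adjoint of the derived direct image is the derived functor of sections killed
by the ideal. -/
theorem nonempty_rightAdjoint_iso_RHomO (hf : DCoh.RpushPreservesQCoh i) (a : DCoh.DQCoh X ⥤ DCoh.DQCoh Z)
    (adj : DCoh.RpushQ i hf ⊣ a)
    (hq : ∀ K : (Dual3.IsBddBelowQ X).FullSubcategory,
      DCoh.IsQCohD ((Dual3.RHomOPlus i).obj ((Dual3.bddToPlus X).obj K)).obj) :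
    Nonempty (Dual3.bddι X ⋙ a ⋙ ObjectProperty.ι _ ≅ Dual3.bddToPlus X ⋙ Dual3.RHomOPlus i ⋙
      (DerivedCategory.Plus.ι : DerivedCategory.Plus Z.Modules ⥤ DCoh.D Z)) := by
  haveI : PreservesFiniteLimits (Scheme.Modules.pushforward i) := DCohLib.preservesFiniteLimits_pushforward i
  haveI : PreservesFiniteColimits (Scheme.Modules.pushforward i) := DCohLib.preservesFiniteColimits_pushforward i
  obtain ⟨R, ⟨adjR⟩, ⟨eR⟩⟩ :=
    exists_rightAdjoint_plus (hres_modules X) (Scheme.Modules.pushforward i) (Dual3.homOAdj i)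
  obtain ⟨eP⟩ := nonempty_rpush_iso_pushD i
  have hR : ∀ K : (Dual3.IsBddBelowQ X).FullSubcategory, DCoh.IsQCohD (R.obj K.obj.obj) := fun K =>
    TildeD.isQCohD_of_iso (eR.app ((Dual3.bddToPlus X).obj K)) (hq K)
  let θ : a ⋙ ObjectProperty.ι _ ⟶ ObjectProperty.ι _ ⋙ R :=
    { app := fun K => adjR.unit.app (a.obj K).obj ≫ R.map (eP.inv.app (a.obj K).obj ≫ (adj.counit.app K).hom)
      naturality := fun K L φ => by
        have h1 := adjR.unit.naturality (a.map φ).hom
        have h2 := eP.inv.naturality (a.map φ).hom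
        have h3 := congrArg (fun t => t.hom) (adj.counit.naturality φ)
        dsimp at h1 h2 h3 ⊢
        rw [reassoc_of% h1, Category.assoc, ← R.map_comp, ← R.map_comp, Category.assoc, reassoc_of% h2]
        erw [h3]
        }
  haveI : ∀ K : (Dual3.IsBddBelowQ X).FullSubcategory, IsIso ((Functor.whiskerLeft (Dual3.bddι X) θ).app K) := by
    intro K
    let N : DCoh.DQCoh Z := ⟨R.obj K.obj.obj, hR K⟩
    let g : N ⟶ a.obj K.obj :=
      adj.homEquiv N K.obj (ObjectProperty.homMk (eP.hom.app N.obj ≫ adjR.counit.app K.obj.obj))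
    have hθ : ∀ (W : DCoh.DQCoh Z) (p : W ⟶ a.obj K.obj), p.hom ≫ θ.app K.obj =
        adjR.homEquiv W.obj K.obj.obj (eP.inv.app W.obj ≫ ((adj.homEquiv W K.obj).symm p).hom) := by
      intro W p
      rw [Adjunction.homEquiv_unit, Adjunction.homEquiv_counit]
      have h1 := adjR.unit.naturality p.hom
      have h2 := eP.inv.naturality p.hom
      dsimp [θ] at h1 h2 ⊢
      rw [reassoc_of% h1, ← R.map_comp, reassoc_of% h2]
    let t : a.obj K.obj ⟶ N := ObjectProperty.homMk (θ.app K.obj : (a.obj K.obj).obj ⟶ N.obj)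
    refine ⟨g.hom, ?_, ?_⟩
    · have h4 : (DCoh.IsQCohD (X := Z)).ι.map (t ≫ g) =
          (DCoh.IsQCohD (X := Z)).ι.map (𝟙 _) := by
        refine congrArg _ ((adj.homEquiv _ _).symm.injective (ObjectProperty.hom_ext _ ?_))
        rw [Adjunction.homEquiv_naturality_left_symm, Adjunction.homEquiv_symm_id]
        erw [Equiv.symm_apply_apply]
        show (DCoh.Rpush i).map (θ.app K.obj) ≫ eP.hom.app N.obj ≫ adjR.counit.app K.obj.obj =
          (adj.counit.app K.obj).hom
        erw [eP.hom.naturality_assoc (θ.app K.obj)]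
        have h5 : (Dual3.pushD i).map (θ.app K.obj) ≫ adjR.counit.app K.obj.obj =
            eP.inv.app (a.obj K.obj).obj ≫ (adj.counit.app K.obj).hom :=
          (adjR.homEquiv_counit _ _ _).symm.trans ((adjR.homEquiv _ _).symm_apply_eq.2 (adjR.homEquiv_unit _ _ _).symm)
        erw [h5]
        exact Iso.hom_inv_id_app_assoc eP _ _
      exact h4
    · refine (hθ N g).trans ?_
      erw [Equiv.symm_apply_apply]
      erw [Iso.inv_hom_id_app_assoc, Adjunction.homEquiv_unit, adjR.right_triangle_components]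
      rfl
  haveI := NatIso.isIso_of_isIso_app (Functor.whiskerLeft (Dual3.bddι X) θ)
  exact ⟨asIso (Functor.whiskerLeft (Dual3.bddι X) θ) ≪≫ Functor.isoWhiskerLeft (Dual3.bddToPlus X) eR.symm⟩

end Groth.Agent.TwistShriek
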