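import Groth.Agent.TwistShriek.CohTest

/-!
# Coherence of the right adjoint of a proper direct image
-/

set_option autoImplicit false
set_option linter.style.haveILetI false
set_option linter.unusedSectionVars false
set_option backward.isDefEq.respectTransparency false
set_option maxHeartbeats 1000000

universe u

open CategoryTheory CategoryTheory.Limits AlgebraicGeometry Pretriangulated
open scoped ZeroObject
open Groth.Agent.DCohLib Groth.Agent.DCohMore Groth.Agent.RelPCLib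

attribute [local instance] HasDerivedCategory.standard

noncomputable section

namespace Groth.Agent.TwistShriek

variable {X Y : Scheme.{u}} [IsNoetherian Y] (f : X ⟶ Y) [IsProper f] [CompactSpace X] [QuasiSeparatedSpace X]
  [IsLocallyNoetherian X] [DCoh.HasRpush f] (hf : DCoh.RpushPreservesQCoh f)
  (a : DCoh.DQCoh Y ⥤ DCoh.DQCoh X) (adj : DCoh.RpushQ f hf ⊣ a)

include adj in
/-- Perfect tests of the right adjoint are bounded below coherent. -/
theorem bddCoh_rpush_lTensor_rightAdjoint (K : DCoh.DQCoh Y) (hK : BddCoh K.obj)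
    (R : CochainComplex X.Modules ℤ) (hR : DCoh.IsKFlat R) (hRp : DCoh.IsPerfect (DerivedCategory.Q.obj R)) :
    BddCoh ((DCoh.Rpush f).obj ((DCoh.LTensorCx R).obj (a.obj K).obj)) := by
  obtain ⟨hKc, c, hc⟩ := hK
  obtain ⟨D, hD, hDp, _, -, ⟨eD⟩⟩ := exists_predual _ hRp
  obtain ⟨e⟩ := nonempty_lTensor_dual D hD hDp R hR eD.symm (a.obj K).obj
  have hpc := fun m => pc_rpush_of_proper f _ hDp m
  obtain ⟨C, hC, _, ⟨eC⟩, ⟨iso⟩⟩ := exists_rpush_rSheafHom_iso f hf a adj D hD hDp hpc K c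
  have hCpc : ∀ m, DCoh.IsPseudoCoherentD m (DerivedCategory.Q.obj C) :=
    fun m => isPseudoCoherentD_iso eC.symm (hpc m)
  obtain ⟨b, hb⟩ := DerSchH7.exists_isZero_above_of_pc (hCpc 0)
  haveI : (DCoh.toD Y C).IsLE b := (DerivedCategory.isLE_iff _ _).2 fun j hj => hb j hj
  exact BddCoh.of_iso (isCohD_rSheafHom C b (TensorCohLib.isCohD_of_pc _ hCpc) K.obj c hKc)
    (iso.symm ≪≫ (DCoh.Rpush f).mapIso e.symm)

include adj in
/-- The right adjoint of a proper direct image preserves coherence of bounded below objects. -/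
theorem isCohD_rightAdjoint (K : DCoh.DQCoh Y) (hK : BddCoh K.obj) : DCoh.IsCohD (a.obj K).obj := fun j => by
  refine isCoh_of_local fun x => ?_
  obtain ⟨_, ⟨V : Y.Opens, hV, rfl⟩, hx, -⟩ :=
    Y.isBasis_affineOpens.exists_subset_of_mem_open (a := f x) (Set.mem_univ _) isOpen_univ
  haveI : IsNoetherianRing Γ(Y, V) := IsLocallyNoetherian.component_noetherian (X := Y) ⟨V, hV⟩
  let U := f ⁻¹ᵁ V
  have hU : IsCompact (U : Set X) := f.isCompact_preimage hV.isCompact
  haveI : CompactSpace (U : Scheme.{u}) := isCompact_iff_compactSpace.1 hU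
  let π : (U : Scheme.{u}) ⟶ Spec (CommRingCat.of Γ(Y, V)) := (f ∣_ V) ≫ hV.isoSpec.hom
  haveI := BC.hasRpush (f ∣_ V)
  haveI := BC.hasRpush hV.isoSpec.hom
  haveI := BC.hasRpush π
  let M := (DCoh.restrictD U.ι).obj (a.obj K).obj
  suffices hM : DCoh.IsCohD M from
    ⟨U, hx, isCoh_iso (restrictHDIso U.ι (a.obj K).obj j) (hM j)⟩
  refine isCohD_of_perfect_test Γ(Y, V) π M (TildeD.isQCohD_restrict U.ι _ (a.obj K).property) fun E hE hEp => ?_
  obtain ⟨R₀, β, i₀, p₀, hR₀, -, hip, -⟩ := DCohMore.liftUpTo_main (X := X) Set.univ isClosed_univ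
    (by rw [Set.compl_univ]; exact isCompact_empty) U hU (0 : DCoh.D X)
    (DCohMore.isQCohD_of_isPerfect (isPerfect_of_perfOn (perfOn_of_isZero (isZero_zero _))))
    (DerivedCategory.Q.obj E) hEp (fun _ _ _ => Set.mem_univ _) 0
  let R := (resX X).obj (DerivedCategory.Q.objPreimage R₀)
  let eR : DerivedCategory.Q.obj R ≅ R₀ := resXIso R₀
  let RU := (resCx U.ι).obj R
  let Mk := (resX (U : Scheme.{u})).obj (DerivedCategory.Q.objPreimage M)
  let eM : DerivedCategory.Q.obj Mk ≅ M := resXIso M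
  let r₀ : Retract (DerivedCategory.Q.obj E) (DerivedCategory.Q.obj RU) :=
    ({ i := i₀, r := p₀, retract := hip } : Retract (DerivedCategory.Q.obj E) _).trans
      (Retract.ofIso ((DCoh.restrictD U.ι).mapIso eR.symm ≪≫ restrictDQ U.ι R))
  obtain ⟨s₁⟩ := nonempty_lTensor_swap E Mk hE (isKFlat_resX _)
  obtain ⟨s₂⟩ := nonempty_lTensor_swap RU Mk (isKFlat_resCx U.ι (isKFlat_resX _)) (isKFlat_resX _)
  let r₁ : Retract ((DCoh.LTensorCx E).obj M)
      ((DCoh.restrictD U.ι).obj ((DCoh.LTensorCx R).obj (a.obj K).obj)) :=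
    ((Retract.ofIso ((DCoh.LTensorCx E).mapIso eM.symm ≪≫ s₁)).trans (r₀.map (DCoh.LTensorCx Mk))).trans
      (Retract.ofIso (s₂.symm ≪≫ (DCoh.LTensorCx RU).mapIso eM ≪≫
        (restrictLTensorIso U R (isKFlat_resX _)).app (a.obj K).obj))
  obtain ⟨bc⟩ := nonempty_restrictD_rpush f V
  obtain ⟨cc⟩ := nonempty_rpushCompIso (f ∣_ V) hV.isoSpec.hom
  have hg : BddCoh ((DCoh.Rpush f).obj ((DCoh.LTensorCx R).obj (a.obj K).obj)) :=
    bddCoh_rpush_lTensor_rightAdjoint f hf a adj K hK R (isKFlat_resX _) (isPerfect_iso eR.symm hR₀)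
  exact ((((hg.restrict V).of_iso (bc.app _)).of_retract (r₁.map (DCoh.Rpush (f ∣_ V)))).rpush
    hV.isoSpec.hom).of_iso (cc.app _)

end Groth.Agent.TwistShriek
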