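import Groth.Agent.TwistShriek.TopDual
import Groth.Agent.DCohMore.ProjUnit
import Groth.Agent.DCohMore.TwistEquiv
import Groth.Agent.DQCohBrown.Cat
import Groth.Agent.DCohMore.SpecThomason
import Groth.Agent.S0845

/-!
# The right adjoint of the direct image from projective space
-/

set_option autoImplicit false
set_option linter.style.haveILetI false
set_option linter.unusedSectionVars false
set_option backward.isDefEq.respectTransparency false
set_option maxHeartbeats 1000000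

universe u

open CategoryTheory CategoryTheory.Limits AlgebraicGeometry Pretriangulated
open Groth.Agent.DCohLib Groth.Agent.CohBase Groth.Agent.DCohMore Groth.Agent.DCohMore.TwistFam
open Groth.Agent.PullbackMod Groth.Agent.CMRegLib Groth.Agent.ModTensor

attribute [local instance] HasDerivedCategory.standard Groth.Agent.TwistShriek.linΓ

noncomputable section

namespace Groth.Agent.TwistShriek

/-- Maps between shifted modules, one of them invertible, vanish with a cohomology group. -/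
theorem hom_invertible_single_eq_zero {X : Scheme.{u}} {A B : X.Modules}
    (e : CohB1.tensorMod B A ≅ Coh.structureModule X) (e' : CohB1.tensorMod A B ≅ Coh.structureModule X)
    (N : X.Modules) (m k : ℤ)
    (h : ∀ q : ℕ, (q : ℤ) = k - m → Subsingleton (Coh.HH X ((DCoh.tensorRightMod A).obj N) q))
    (φ : (DCoh.inD X B)⟦m⟧ ⟶ (DCoh.inD X N)⟦k⟧) : φ = 0 := by
  let F := DCoh.tensorRightMod A
  let G := DCoh.tensorRightMod B
  let T := (ModSite.tensorBi X.sheaf).flip
  let η : F ⋙ G ≅ 𝟭 X.Modules := tensorAssoc X.sheaf A B ≪≫ T.mapIso e' ≪≫ tensorUnitRight X.sheaf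
  let η' : G ⋙ F ≅ 𝟭 X.Modules := tensorAssoc X.sheaf B A ≪≫ T.mapIso e ≪≫ tensorUnitRight X.sheaf
  haveI : F.IsEquivalence := Functor.IsEquivalence.mk' G η.symm η'
  haveI : G.IsEquivalence := Functor.IsEquivalence.mk' F η'.symm η
  haveI : PreservesFiniteLimits F := inferInstance
  haveI : PreservesFiniteColimits F := inferInstance
  haveI : PreservesFiniteLimits G := inferInstance
  haveI : PreservesFiniteColimits G := inferInstance
  obtain ⟨E⟩ := nonempty_mapD_comp_id F G η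
  obtain ⟨E'⟩ := nonempty_mapD_comp_id G F η'
  haveI : F.mapDerivedCategory.IsEquivalence := Functor.IsEquivalence.mk' G.mapDerivedCategory E.symm E'
  let FD := F.mapDerivedCategory
  let eB : FD.obj (DCoh.inD X B) ≅ DCoh.inD X (Coh.structureModule X) :=
    (F.mapDerivedCategorySingleFunctor 0).app B ≪≫ (DerivedCategory.singleFunctor X.Modules 0).mapIso e
  let eN : FD.obj (DCoh.inD X N) ≅ DCoh.inD X (F.obj N) := (F.mapDerivedCategorySingleFunctor 0).app N
  let O := DCoh.inD X (Coh.structureModule X)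
  let cl : (O⟦m⟧)⟦-k⟧ ≅ O⟦m - k⟧ := ((shiftFunctorAdd' (DCoh.D X) m (-k) (m - k) (by omega)).app O).symm
  let cr : ((DCoh.inD X (F.obj N))⟦k⟧)⟦-k⟧ ≅ DCoh.inD X (F.obj N) :=
    (shiftFunctorCompIsoId (DCoh.D X) k (-k) (by omega)).app _
  let a : FD.obj ((DCoh.inD X B)⟦m⟧) ≅ O⟦m⟧ := (FD.commShiftIso m).app _ ≪≫ (shiftFunctor _ m).mapIso eB
  let b : FD.obj ((DCoh.inD X N)⟦k⟧) ≅ (DCoh.inD X (F.obj N))⟦k⟧ :=
    (FD.commShiftIso k).app _ ≪≫ (shiftFunctor _ k).mapIso eN
  refine FD.map_injective ?_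
  rw [Functor.map_zero, ← cancel_epi a.inv, ← cancel_mono b.hom, comp_zero, zero_comp]
  refine (shiftFunctor (DCoh.D X) (-k)).map_injective ?_
  rw [Functor.map_zero, ← cancel_epi cl.inv, ← cancel_mono cr.hom, comp_zero, zero_comp]
  refine hom_single_eq_zero _ _ ?_ _
  by_cases hk : 0 < m - k
  · exact Or.inl hk
  · exact Or.inr (h _ (by omega))

/-- Endomorphisms of the structure sheaf in the derived category are scalars. -/
theorem exists_eq_sc {Z : Scheme.{u}} (u : oD Z ⟶ oD Z) : ∃ r : Coh.Γtop Z, u = sc r (oD Z) := by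
  obtain ⟨m, rfl⟩ := (DerivedCategory.singleFunctor Z.Modules 0).map_surjective u
  obtain ⟨r, hr⟩ : ∃ r : Coh.Γtop Z, m = r • 𝟙 (Coh.structureModule Z) := by
    refine ⟨(show Γ(Z, ⊤) from m.app ⊤ (1 : Γ(Z, ⊤))), hom_unit_ext ?_⟩
    refine Eq.trans ?_ (app_smul_top _ _ _ _).symm
    exact (mul_one (show Γ(Z, ⊤) from m.app ⊤ (1 : Γ(Z, ⊤)))).symm
  exact ⟨r, by rw [hr, Functor.map_smul, CategoryTheory.Functor.map_id]; rfl⟩

/-- If the direct image of `O` is `O`, the unit at `O` is an isomorphism. -/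
theorem isIso_unit_of_iso {X Y : Scheme.{u}} (f : X ⟶ Y) [DCoh.HasLpull f] [DCoh.HasRpush f]
    (e : oD Y ≅ (DCoh.Rpush f).obj ((DCoh.Lpull f).obj (oD Y))) :
    IsIso ((lpullRpushAdj f).unit.app (oD Y)) := by
  let η := (lpullRpushAdj f).unit.app (oD Y)
  obtain ⟨g, hg⟩ := ((lpullRpushAdj f).homEquiv _ _).surjective e.hom
  rw [Adjunction.homEquiv_unit] at hg
  let r := (DCoh.Rpush f).map g ≫ e.inv
  have h1 : η ≫ r = 𝟙 _ := by
    show η ≫ (DCoh.Rpush f).map g ≫ e.inv = _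
    rw [← Category.assoc]
    exact (congrArg (· ≫ e.inv) hg).trans e.hom_inv_id
  obtain ⟨s, hs⟩ := exists_eq_sc (η ≫ e.inv)
  have h2 : (η ≫ e.inv) ≫ e.hom ≫ r = 𝟙 _ := by rw [Category.assoc, e.inv_hom_id_assoc, h1]
  let v : oD Y ⟶ oD Y := e.hom ≫ r
  replace h2 : v ≫ (η ≫ e.inv) = 𝟙 _ := by
    rw [hs] at h2 ⊢
    exact (sc_natural s v).trans h2
  refine ⟨r, h1, ?_⟩
  refine (cancel_epi e.hom).1 ((Category.assoc _ _ _).symm.trans ?_)
  exact ((Iso.comp_inv_eq e).1 ((Category.assoc _ _ _).trans h2)).trans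
    ((Category.id_comp _).trans (Category.comp_id _).symm)

variable (n : ℕ) (R : Type u) [CommRing R]

local notation "π" => CohB1.ProjSpace.toSpec n R
local notation "P" => CohB1.ProjSpace n R

/-- Constant polynomials. -/
theorem nonempty_homogeneous_zero :
    Nonempty (↥(MvPolynomial.homogeneousSubmodule (Fin (n + 1)) R 0) ≃ₗ[R] R) := by
  refine ⟨(LinearEquiv.ofBijective
    ((Algebra.linearMap R (MvPolynomial (Fin (n + 1)) R)).codRestrict
      (MvPolynomial.homogeneousSubmodule (Fin (n + 1)) R 0) fun r => MvPolynomial.isHomogeneous_C _ r) ⟨?_, ?_⟩).symm⟩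
  · exact fun r s h => MvPolynomial.C_injective _ _ (congrArg Subtype.val h)
  · rintro ⟨p, hp⟩
    exact ⟨p.coeff 0, Subtype.ext (MvPolynomial.totalDegree_eq_zero_iff_eq_C.1
      (Nat.le_zero.1 (MvPolynomial.IsHomogeneous.totalDegree_le hp))).symm⟩

/-- A quasi-coherent module with free global sections of rank one is the structure sheaf. -/
theorem nonempty_iso_structure_of_sections {S : CommRingCat.{u}} (H : (Spec S).Modules) [Coh.IsQCoh H]
    (c : (moduleSpecΓFunctor (R := S)).obj H ≃ₗ[S] S) : Nonempty (H ≅ Coh.structureModule (Spec S)) := by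
  haveI : IsIso H.fromTildeΓ := Scheme.Modules.isIso_fromTildeΓ_of_isQuasicoherent H
  exact ⟨(asIso H.fromTildeΓ).symm ≪≫ (tilde.functor S).mapIso
    (LinearEquiv.toModuleIso (R := S) (X₁ := (moduleSpecΓFunctor (R := S)).obj H) (X₂ := S) c) ≪≫ tildeSelf⟩

/-- The direct image of `O(-n-1)[n]` is `O`. -/
theorem nonempty_trace_iso [DCoh.HasRpush π] :
    Nonempty ((DCoh.Rpush π).obj ((DCoh.inD P (Twist.twistProjSpace n R (-((n : ℤ) + 1))))⟦(n : ℤ)⟧) ≅
      oD (Spec (CommRingCat.of R))) := by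
  let N := Twist.twistProjSpace n R (-((n : ℤ) + 1))
  have hN : Coh.IsQCoh N := isQCoh_projMul n R _
  let Q := (DCoh.inD P N)⟦(n : ℤ)⟧
  haveI : DCoh.HasRpush (P ↘ Spec (CommRingCat.of R)) := inferInstanceAs (DCoh.HasRpush π)
  haveI := hasLpull π
  haveI : DCoh.HasLpull (P ↘ Spec (CommRingCat.of R)) := inferInstanceAs (DCoh.HasLpull π)
  haveI : PreservesFiniteLimits (tilde.functor (CommRingCat.of R)) := TildeD.preservesFiniteLimits_tilde
  haveI : SiteCmp.HasRpushD (ModSite.RMor.ofScheme π) := ‹DCoh.HasRpush π›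
  obtain ⟨h₁, -⟩ := SiteCmpLib.exists_triangulated_rpushD (ModSite.RMor.ofScheme π)
  letI : (DCoh.Rpush π).CommShift ℤ := h₁
  let K := (DCoh.Rpush π).obj Q
  have hKq : DCoh.IsQCohD K := DCohMore.isQCohD_rpush π _
    (isQCohD_shift' (TildeD.isQCohD_of_iso ((DerivedCategory.singleFunctorIsoCompQ _ 0).app N).symm
      (isQCohD_sgl₀ N hN)) _)
  have hne : ∀ q : ℤ, q ≠ 0 → IsZero (DCoh.HD K q) := fun q hq =>
    (isZero_HD_rpush_single π N hN (q + n) (by
      rcases lt_or_ge (q + n) 0 with h | h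
      · exact Or.inl h
      · exact Or.inr (ProjTwist.subsingleton_HH n R _ _ (by omega) (by omega)))).of_iso
      ((DerivedCategory.homologyFunctor _ q).mapIso (((DCoh.Rpush π).commShiftIso (n : ℤ)).app (DCoh.inD P N)) ≪≫
        ((DerivedCategory.homologyFunctor (Spec (CommRingCat.of R)).Modules 0).shiftIso (n : ℤ) q (q + n)
          (by omega)).app _)
  haveI : K.IsGE 0 := (DerivedCategory.isGE_iff _ _).2 fun q hq => hne q (by omega)
  haveI : K.IsLE 0 := (DerivedCategory.isLE_iff _ _).2 fun q hq => hne q (by omega)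
  obtain ⟨V, ⟨eV⟩⟩ := DerivedCategory.exists_iso_singleFunctor_obj_of_isGE_of_isLE K 0
  let H := DCoh.HD K 0
  let eV' : H ≅ V := (DerivedCategory.homologyFunctor _ 0).mapIso eV ≪≫
    (DerivedCategory.singleFunctorCompHomologyFunctorIso _ 0).app V
  obtain ⟨e₀⟩ := nonempty_lpull_structure (P ↘ Spec (CommRingCat.of R))
  obtain ⟨c₀⟩ : Nonempty (Coh.HH P N n ≃ₗ[R] ↥(MvPolynomial.homogeneousSubmodule (Fin (n + 1)) R 0)) := by
    have := Groth.Agent.S0845.result R n 0
    rwa [show -((n : ℤ) + 1 + ((0 : ℕ) : ℤ)) = -((n : ℤ) + 1) by simp] at this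
  obtain ⟨c₁⟩ := nonempty_homogeneous_zero n R
  let c : (ΓA R).obj H ≃ₗ[R] R :=
    (LinearEquiv.ofBijective (classH (A := R) (X := P) e₀ N n) (bijective_classH e₀ N n hKq)).symm.trans
      (c₀.trans c₁)
  obtain ⟨t⟩ := @nonempty_iso_structure_of_sections (CommRingCat.of R) H (hKq 0) c
  exact ⟨eV ≪≫ (DerivedCategory.singleFunctor (Spec (CommRingCat.of R)).Modules 0).mapIso (eV'.symm ≪≫ t)⟩

/-- The right adjoint of the direct image from projective space carries `O` to `O(-n-1)[n]`. -/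
theorem nonempty_rightAdjoint_projSpace [DCoh.HasRpush π] (h : DCoh.RpushPreservesQCoh π)
    (a : DCoh.DQCoh (Spec (CommRingCat.of R)) ⥤ DCoh.DQCoh P) (adj : DCoh.RpushQ π h ⊣ a)
    (O : DCoh.DQCoh (Spec (CommRingCat.of R))) (eO : O.obj ≅ oD (Spec (CommRingCat.of R))) :
    Nonempty ((a.obj O).obj ≅ (DCoh.inD P (Twist.twistProjSpace n R (-((n : ℤ) + 1))))⟦(n : ℤ)⟧) := by
  haveI := hasLpull π
  haveI : SiteCmp.HasRpushD (ModSite.RMor.ofScheme π) := ‹DCoh.HasRpush π›
  obtain ⟨h₁, -⟩ := SiteCmpLib.exists_triangulated_rpushD (ModSite.RMor.ofScheme π)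
  letI : (DCoh.Rpush π).CommShift ℤ := h₁
  obtain ⟨tr⟩ := nonempty_trace_iso n R
  let N := Twist.twistProjSpace n R (-((n : ℤ) + 1))
  have hs : ∀ (F : (P).Modules), Coh.IsQCoh F → DCoh.IsQCohD (DCoh.inD P F) := fun F hF =>
    TildeD.isQCohD_of_iso ((DerivedCategory.singleFunctorIsoCompQ _ 0).app F).symm (isQCohD_sgl₀ F hF)
  let Q : DCoh.DQCoh P := ⟨(DCoh.inD P N)⟦(n : ℤ)⟧, isQCohD_shift' (hs N (isQCoh_projMul n R _)) _⟩
  let θ : Q ⟶ a.obj O := adj.homEquiv Q O ⟨tr.hom ≫ eO.inv⟩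
  -- composition with `θ` is bijective on shifted twists
  have hb : ∀ (d : ℕ), d ≤ n → ∀ m : ℤ, Function.Bijective
      fun ψ : (DCoh.inD P (Twist.twistProjSpace n R (-(d : ℤ))))⟦m⟧ ⟶ Q.obj => ψ ≫ θ.hom := by
    intro d hd m
    let G : DCoh.DQCoh P := ⟨(DCoh.inD P (Twist.twistProjSpace n R (-(d : ℤ))))⟦m⟧,
      isQCohD_shift' (hs _ (isQCoh_projMul n R _)) _⟩
    have hR : Function.Bijective fun ψ : G.obj ⟶ Q.obj => (DCoh.Rpush π).map ψ := by
      rcases Nat.eq_zero_or_pos d with rfl | hd0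
      · let z : G.obj ≅ (oD P)⟦m⟧ := (shiftFunctor _ m).mapIso ((DerivedCategory.singleFunctor _ 0).mapIso
          (eqToIso (by simp [projMul_F]) ≪≫ projMulZero n R))
        obtain ⟨e₀⟩ := nonempty_lpull_structure π
        obtain ⟨r₀⟩ := nonempty_rpush_structure n R
        let Y' := (oD (Spec (CommRingCat.of R)))⟦m⟧
        haveI := isIso_unit_of_iso π (r₀.symm ≪≫ (DCoh.Rpush π).mapIso e₀.symm)
        letI := (lpullRpushAdj π).leftAdjointCommShift ℤ
        haveI := (lpullRpushAdj π).commShift_of_rightAdjoint ℤ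
        haveI : IsIso ((lpullRpushAdj π).unit.app Y') := by
          have hsh := NatTrans.shift_app_comm ((lpullRpushAdj π).unit) m (oD (Spec (CommRingCat.of R)))
          haveI : IsIso (((lpullRpushAdj π).unit.app (oD (Spec (CommRingCat.of R))))⟦m⟧') := inferInstance
          exact (isIso_comp_right_iff _ _).1 (hsh ▸ (IsIso.comp_isIso))
        let z' : G.obj ≅ (DCoh.Lpull π).obj Y' :=
          z ≪≫ (shiftFunctor _ m).mapIso e₀.symm ≪≫ (((DCoh.Lpull π).commShiftIso m).app _).symm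
        have hu : (fun ψ : G.obj ⟶ Q.obj => (DCoh.Rpush π).map ψ) =
            ((((DCoh.Rpush π).mapIso z'.symm).symm ≪≫ (asIso ((lpullRpushAdj π).unit.app Y')).symm).symm.homFromEquiv) ∘
              ((lpullRpushAdj π).homEquiv Y' Q.obj) ∘ z'.homFromEquiv := funext fun ψ => by
          simp [Adjunction.homEquiv_unit, ← Functor.map_comp]
        rw [hu]
        exact (Equiv.bijective _).comp ((Equiv.bijective _).comp (Equiv.bijective _))
      · have hz : IsZero ((DCoh.Rpush π).obj G.obj) :=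
          ((shiftFunctor _ m).map_isZero (isZero_rpush_twist n R (-(d : ℤ)) (by omega) (by omega))).of_iso
            (((DCoh.Rpush π).commShiftIso m).app _)
        have h0 : ∀ ψ : G.obj ⟶ Q.obj, ψ = 0 := fun ψ =>
          hom_invertible_single_eq_zero (A := (projMul n R).F (d : ℤ)) (projMulInv n R (by omega))
            (projMulInv n R (by omega)) N m (n : ℤ) (fun q _ => by
              haveI : Subsingleton (Coh.HH (Proj (CohB1.polyGrading n R)) (Twist.twist (CohB1.polyGrading n R) (-((n : ℤ) + 1) + d)) q) :=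
                ProjTwist.subsingleton_HH n R _ q (by omega) (by omega)
              exact ProjCoh.subsingleton_of_iso
                (ProjTwistLib.mulIso (show -((n : ℤ) + 1) + d = _ from rfl) (hasUnit_twist n R _)).symm q) ψ
        exact ⟨fun x y _ => (h0 x).trans (h0 y).symm, fun g => ⟨0, hz.eq_of_src _ _⟩⟩
    have key : (fun ψ : G.obj ⟶ Q.obj => ψ ≫ θ.hom) =
        (fun g : (DCoh.Rpush π).obj G.obj ⟶ O.obj => ((adj.homEquiv G O) ⟨g⟩).hom) ∘
          (tr ≪≫ eO.symm).homToEquiv ∘ fun ψ : G.obj ⟶ Q.obj => (DCoh.Rpush π).map ψ := funext fun ψ =>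
      (congrArg (fun z => z.hom) (adj.homEquiv_naturality_left (⟨ψ⟩ : G ⟶ Q)
        (⟨tr.hom ≫ eO.inv⟩ : (DCoh.RpushQ π h).obj Q ⟶ O))).symm
    rw [key]
    refine Function.Bijective.comp ⟨fun x y e => ?_, fun g => ?_⟩ ((Equiv.bijective _).comp hR)
    · exact congrArg (fun z => z.hom) ((adj.homEquiv G O).injective (ObjectProperty.hom_ext _ e))
    · exact ⟨((adj.homEquiv G O).symm ⟨g⟩).hom, by
        show ((adj.homEquiv G O) ((adj.homEquiv G O).symm ⟨g⟩)).hom = g
        rw [Equiv.apply_symm_apply]⟩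
  -- so the cone of `θ` vanishes
  obtain ⟨C, p, q, hT⟩ := distinguished_cocone_triangle θ.hom
  have hC : DCoh.IsQCohD C := isQCohD_obj₃' _ hT Q.property (a.obj O).property
  have hCz : IsZero C := isZero_of_proj_orth n R C hC fun d hd m φ => by
    let D := DCoh.inD P (Twist.twistProjSpace n R (-(d : ℤ)))
    have hq : φ ≫ q = 0 := by
      let w : (D⟦m⟧)⟦(-1 : ℤ)⟧ ≅ D⟦m - 1⟧ := ((shiftFunctorAdd' (DCoh.D P) m (-1) (m - 1) (by omega)).app D).symm
      let c : ∀ Z : DCoh.D P, (Z⟦(1 : ℤ)⟧)⟦(-1 : ℤ)⟧ ≅ Z := fun Z =>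
        (shiftFunctorCompIsoId (DCoh.D P) (1 : ℤ) (-1) (by omega)).app Z
      refine (shiftFunctor (DCoh.D P) (-1 : ℤ)).map_injective ?_
      rw [Functor.map_zero, ← cancel_epi w.inv, ← cancel_mono (c Q.obj).hom, comp_zero, zero_comp]
      refine (hb d hd (m - 1)).1 ?_
      show _ ≫ θ.hom = 0 ≫ θ.hom
      have hz : q ≫ θ.hom⟦(1 : ℤ)⟧' = 0 := comp_distTriang_mor_zero₃₁ _ hT
      rw [zero_comp, Category.assoc, Category.assoc]
      have hn : (c Q.obj).hom ≫ θ.hom = (θ.hom⟦(1 : ℤ)⟧')⟦(-1 : ℤ)⟧' ≫ (c (a.obj O).obj).hom :=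
        ((shiftFunctorCompIsoId (DCoh.D P) (1 : ℤ) (-1) (by omega)).hom.naturality θ.hom).symm
      rw [hn, ← Functor.map_comp_assoc, Category.assoc, hz, comp_zero, Functor.map_zero, zero_comp, comp_zero]
    obtain ⟨ψ, hψ⟩ := Triangle.coyoneda_exact₃ _ hT φ hq
    obtain ⟨χ, hχ⟩ := (hb d hd m).2 ψ
    rw [hψ]
    show ψ ≫ p = 0
    rw [← show χ ≫ θ.hom = ψ from hχ, Category.assoc, show θ.hom ≫ p = 0 from comp_distTriang_mor_zero₁₂ _ hT,
      comp_zero]
  haveI : IsIso θ.hom := (Triangle.isZero₃_iff_isIso₁ _ hT).1 hCz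
  exact ⟨(asIso θ.hom).symm⟩

end Groth.Agent.TwistShriek
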