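import Groth.Agent.KInj.DerivedAdj
import Groth.Agent.KInj.Main
import Groth.Agent.S14623

/-!
# Right derived functors on bounded below and on unbounded derived categories
-/

set_option autoImplicit false
set_option linter.style.haveILetI false
set_option linter.unusedSectionVars false
set_option backward.isDefEq.respectTransparency false

universe w w' v u v₁ u₁

open CategoryTheory CategoryTheory.Limits

noncomputable section

namespace Groth.Agent.TwistShriek

variable {B : Type u} [Category.{v} B] [Abelian B] [HasDerivedCategory.{w} B] [EnoughInjectives B]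
  {A : Type u₁} [Category.{v₁} A] [Abelian A] [HasDerivedCategory.{w'} A]
  (hres : ∀ K : CochainComplex B ℤ, ∃ (I : CochainComplex B ℤ) (f : K ⟶ I), I.IsKInjective ∧ QuasiIso f)

include hres in
/-- The bounded below derived functor is the restriction of the unbounded one. -/
theorem nonempty_rightDerivedFunctorPlus_iso (G : B ⥤ A) [G.Additive]
    (RG : DerivedCategory B ⥤ DerivedCategory A)
    (α : G.mapHomotopyCategory (ComplexShape.up ℤ) ⋙ DerivedCategory.Qh ⟶ DerivedCategory.Qh ⋙ RG)
    [RG.IsRightDerivedFunctor α (HomotopyCategory.quasiIso B (ComplexShape.up ℤ))] :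
    Nonempty (G.rightDerivedFunctorPlus ⋙ DerivedCategory.Plus.ι ≅ DerivedCategory.Plus.ι ⋙ RG) := by
  let Φ := G.mapHomotopyCategoryPlus ⋙ DerivedCategory.Plus.Qh ⋙ DerivedCategory.Plus.ι
  let β₁ : Φ ⟶ DerivedCategory.Plus.Qh ⋙ G.rightDerivedFunctorPlus ⋙ DerivedCategory.Plus.ι :=
    Functor.whiskerRight G.rightDerivedFunctorPlusUnit DerivedCategory.Plus.ι
  let β₂ : Φ ⟶ DerivedCategory.Plus.Qh ⋙ DerivedCategory.Plus.ι ⋙ RG :=
    Functor.whiskerLeft (HomotopyCategory.Plus.ι B) α
  haveI := S14623.isRightDerived_of_isIso_inj (G.rightDerivedFunctorPlus ⋙ DerivedCategory.Plus.ι) β₁ fun K => by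
    haveI : IsIso (G.rightDerivedFunctorPlusUnit.app ((InjectiveObject.ι B).mapHomotopyCategoryPlus.obj K)) := by
      obtain ⟨L, rfl⟩ := HomotopyCategory.Plus.quotient_obj_surjective K
      infer_instance
    exact inferInstanceAs (IsIso (DerivedCategory.Plus.ι.map
      (G.rightDerivedFunctorPlusUnit.app ((InjectiveObject.ι B).mapHomotopyCategoryPlus.obj K))))
  haveI := S14623.isRightDerived_of_isIso_inj (DerivedCategory.Plus.ι ⋙ RG) β₂ fun K => by
    obtain ⟨(L : CochainComplex.Plus (InjectiveObject B)), rfl⟩ :=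
      HomotopyCategory.Plus.quotient_obj_surjective K
    haveI : CochainComplex.IsKInjective
        (((InjectiveObject.ι B).mapHomologicalComplex (ComplexShape.up ℤ)).obj (ObjectProperty.FullSubcategory.obj L)) :=
      inferInstance
    exact KInj.isIso_app_of_isKInjective hres _ RG α
      (((InjectiveObject.ι B).mapHomologicalComplex (ComplexShape.up ℤ)).obj (ObjectProperty.FullSubcategory.obj L))
  exact ⟨Functor.rightDerivedUnique _ _ β₁ β₂ (HomotopyCategory.Plus.quasiIso B)⟩

include hres in
/-- The right adjoint of an exact left adjoint on derived categories extends the derived right adjoint. -/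
theorem exists_rightAdjoint_plus (F : A ⥤ B) [F.Additive] [PreservesFiniteLimits F] [PreservesFiniteColimits F]
    {G : B ⥤ A} [G.Additive] (adj : F ⊣ G) :
    ∃ R : DerivedCategory B ⥤ DerivedCategory A, Nonempty (F.mapDerivedCategory ⊣ R) ∧
      Nonempty (G.rightDerivedFunctorPlus ⋙ DerivedCategory.Plus.ι ≅ DerivedCategory.Plus.ι ⋙ R) := by
  let G' := G.mapHomotopyCategory (ComplexShape.up ℤ) ⋙ (DerivedCategory.Qh (C := A))
  haveI := KInj.hasRightDerivedFunctor hres G'
  let W₁ := HomotopyCategory.quasiIso A (ComplexShape.up ℤ)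
  let W₂ := HomotopyCategory.quasiIso B (ComplexShape.up ℤ)
  let RG := G'.totalRightDerived (DerivedCategory.Qh (C := B)) W₂
  let α := G'.totalRightDerivedUnit (DerivedCategory.Qh (C := B)) W₂
  let lf := F.mapDerivedCategoryFactorsh
  haveI := Functor.isLeftDerivedFunctor_of_inverts (W := W₁) F.mapDerivedCategory lf
  haveI : (F.mapDerivedCategory ⋙ RG).IsLeftDerivedFunctor
      ((Functor.associator _ _ _).inv ≫ Functor.whiskerRight lf.hom RG) W₁ :=
    Functor.isLeftDerivedFunctor_of_inverts (W := W₁) (F.mapDerivedCategory ⋙ RG)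
      ((Functor.associator _ _ _).symm ≪≫ Functor.isoWhiskerRight lf RG)
  haveI : (RG ⋙ F.mapDerivedCategory).IsRightDerivedFunctor
      (Functor.whiskerRight α F.mapDerivedCategory ≫ (Functor.associator _ _ _).hom) W₂ :=
    KInj.isRightDerivedFunctor_of_isIso_h hres _ _ fun I hI => by
      haveI := hI
      haveI := KInj.isIso_app_of_isKInjective hres _ RG α I
      simp only [NatTrans.comp_app, Functor.associator_hom_app, Functor.whiskerRight_app]
      infer_instance
  exact ⟨RG, ⟨(KInj.homotopyAdjunction adj).derived W₁ W₂ lf.hom α⟩,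
    nonempty_rightDerivedFunctorPlus_iso hres G RG α⟩

end Groth.Agent.TwistShriek
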