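import Groth.Agent.TwistShriek.ClosedTensor
import Groth.Agent.TwistShriek.DerivedPlus
import Groth.Agent.RelPCLib.ClosedPC
import Groth.Agent.DCohMore.RHomQC
import Groth.Agent.DCohMore.RHomCoh
import Groth.Agent.DevLib.Closed
import Groth.Agent.DevLib.TFSub
import Groth.Agent.PullbackMod.Sections
import Groth.Agent.Dual3Lib.PushClosedAdj
import Groth.Agent.DCohMore.BCGeneral

/-!
# The derived functor of sections with support in a closed subscheme, as a derived sheaf Hom
-/

set_option autoImplicit false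
set_option linter.style.haveILetI false
set_option linter.unusedSectionVars false
set_option backward.isDefEq.respectTransparency false
set_option maxHeartbeats 1600000

universe u

open CategoryTheory CategoryTheory.Limits AlgebraicGeometry
open Groth.Agent.DCohLib

attribute [local instance] HasDerivedCategory.standard

noncomputable section

namespace Groth.Agent.TwistShriek

variable {Z X : Scheme.{u}} (i : Z ⟶ X) [IsClosedImmersion i]
  [PreservesFiniteLimits (Scheme.Modules.pushforward i)] [PreservesFiniteColimits (Scheme.Modules.pushforward i)]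

/-- The derived direct image along a closed immersion is the termwise one, naturally. -/
theorem nonempty_rpush_iso_pushD [DCoh.HasRpush i] : Nonempty (DCoh.Rpush i ≅ Dual3.pushD i) := by
  let e : DerivedCategory.Qh ⋙ Dual3.pushD i ≅ DCoh.pushKh i :=
    (Scheme.Modules.pushforward i).mapDerivedCategoryFactorsh
  haveI := Functor.isRightDerivedFunctor_of_inverts (HomotopyCategory.quasiIso Z.Modules (ComplexShape.up ℤ))
    (Dual3.pushD i) e
  exact ⟨Functor.rightDerivedUnique (DCoh.Rpush i) (Dual3.pushD i)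
    ((DCoh.pushKh i).totalRightDerivedUnit DerivedCategory.Qh (HomotopyCategory.quasiIso Z.Modules (ComplexShape.up ℤ)))
    e.inv (HomotopyCategory.quasiIso Z.Modules (ComplexShape.up ℤ))⟩

variable [Dual3.HasHomO i] [EnoughInjectives X.Modules]

/-- A right adjoint of the direct image extending the derived functor, and its direct image as a right adjoint of the
derived tensor product with the structure sheaf. -/
theorem exists_rightAdjoint_closed (E : CochainComplex X.Modules ℤ) [DCoh.HasLTensorCx E]
    (hE : Nonempty (DCoh.toD X E ≅ DCoh.inD X ((Scheme.Modules.pushforward i).obj (Coh.structureModule Z)))) :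
    ∃ R : DCoh.D X ⥤ DCoh.D Z, Nonempty (Dual3.pushD i ⊣ R) ∧
      Nonempty (Dual3.RHomOPlus i ⋙ DerivedCategory.Plus.ι ≅ DerivedCategory.Plus.ι ⋙ R) ∧
      Nonempty (DCoh.LTensorCx E ⊣ R ⋙ Dual3.pushD i) := by
  obtain ⟨R, ⟨adjR⟩, hR⟩ :=
    exists_rightAdjoint_plus (hres_modules X) (Scheme.Modules.pushforward i) (Dual3.homOAdj i)
  haveI : DCoh.HasLpull i := DCohLib.hasLpull _
  haveI := DCohMore.BC.hasRpush i
  obtain ⟨eP⟩ := nonempty_rpush_iso_pushD i
  obtain ⟨θ⟩ := nonempty_lTensor_closed i E hE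
  exact ⟨R, ⟨adjR⟩, hR, ⟨(((lpullRpushAdj i).ofNatIsoRight eP).comp adjR).ofNatIsoLeft θ.symm⟩⟩

/-- The direct image of the derived functor of sections killed by the ideal is a derived sheaf Hom. -/
theorem nonempty_pushD_RHomO_iso (E : CochainComplex X.Modules ℤ) [DCoh.HasLTensorCx E] [DCoh.HasRSheafHom E]
    (hE : Nonempty (DCoh.toD X E ≅ DCoh.inD X ((Scheme.Modules.pushforward i).obj (Coh.structureModule Z)))) :
    Nonempty (Dual3.RHomOPlus i ⋙ DerivedCategory.Plus.ι ⋙ Dual3.pushD i ≅
      DerivedCategory.Plus.ι ⋙ DCoh.RSheafHom E) := by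
  obtain ⟨R, -, ⟨eR⟩, ⟨adj⟩⟩ := exists_rightAdjoint_closed i E hE
  exact ⟨(Functor.associator _ _ _).symm ≪≫ Functor.isoWhiskerRight eR (Dual3.pushD i) ≪≫
    Functor.associator _ _ _ ≪≫
    Functor.isoWhiskerLeft _ (adj.rightAdjointUniq (DCoh.RSheafHomAdj E))⟩

/-- The cohomology of the derived functor, after direct image. -/
theorem exists_push_HD_RHomO (K : DerivedCategory.Plus X.Modules) :
    ∃ (E : CochainComplex X.Modules ℤ) (_ : DCoh.HasLTensorCx E) (_ : DCoh.HasRSheafHom E),
      Nonempty (DCoh.toD X E ≅ DCoh.inD X ((Scheme.Modules.pushforward i).obj (Coh.structureModule Z))) ∧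
      ∀ n : ℤ, Nonempty ((Scheme.Modules.pushforward i).obj (DCoh.HD ((Dual3.RHomOPlus i).obj K).obj n) ≅
        DCoh.HD ((DCoh.RSheafHom E).obj K.obj) n) := by
  haveI : DCoh.HasLTensorCx (closedUnit i) := DCohLib.hasLTensorCx _
  have hE : Nonempty (DCoh.toD X (closedUnit i) ≅
      DCoh.inD X ((Scheme.Modules.pushforward i).obj (Coh.structureModule Z))) :=
    ⟨((DerivedCategory.singleFunctorIsoCompQ X.Modules 0).app _).symm⟩
  obtain ⟨R, -, -, ⟨adj⟩⟩ := exists_rightAdjoint_closed i (closedUnit i) hE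
  haveI : DCoh.HasRSheafHom (closedUnit i) := ⟨_, ⟨adj⟩⟩
  obtain ⟨e⟩ := nonempty_pushD_RHomO_iso i (closedUnit i) hE
  exact ⟨closedUnit i, inferInstance, inferInstance, hE, fun n =>
    ⟨(RelPCLib.pushHDIso i ((Dual3.RHomOPlus i).obj K).obj n).symm ≪≫
      (DerivedCategory.homologyFunctor X.Modules n).mapIso (e.app K)⟩⟩

/-- Quasi-coherence descends along the direct image by a closed immersion. -/
theorem isQCoh_of_push {M : Z.Modules} (h : Coh.IsQCoh ((Scheme.Modules.pushforward i).obj M)) : Coh.IsQCoh M := by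
  haveI := isIso_counit_closedImmersion i M
  haveI := h
  haveI : Coh.IsQCoh ((Scheme.Modules.pullback i).obj ((Scheme.Modules.pushforward i).obj M)) :=
    PullbackMod.isQCoh_pullback i _
  exact (SheafOfModules.isQuasicoherent Z.ringCatSheaf).prop_of_iso
    (asIso ((Scheme.Modules.pullbackPushforwardAdjunction i).counit.app M)) ‹_›

/-- The derived functor preserves quasi-coherence, given pseudo-coherence of the structure sheaf. -/
theorem isQCohD_RHomO
    (hpc : ∀ m : ℤ, DCoh.IsPseudoCoherentD m
      (DCoh.inD X ((Scheme.Modules.pushforward i).obj (Coh.structureModule Z))))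
    (K : DerivedCategory.Plus X.Modules) (hK : DCoh.IsQCohD K.obj) :
    DCoh.IsQCohD ((Dual3.RHomOPlus i).obj K).obj := by
  obtain ⟨E, _, _, ⟨eE⟩, he⟩ := exists_push_HD_RHomO i K
  obtain ⟨a, ha⟩ := K.property
  haveI := ha
  intro n
  obtain ⟨e⟩ := he n
  exact isQCoh_of_push i ((SheafOfModules.isQuasicoherent X.ringCatSheaf).prop_of_iso e.symm
    (DCohMore.isQCoh_HD_rSheafHom E (a - n - 1) a (isPseudoCoherentD_iso eE.symm (hpc _)) K.obj hK n (by omega)))

omit [IsClosedImmersion i] [PreservesFiniteLimits (Scheme.Modules.pushforward i)]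
  [PreservesFiniteColimits (Scheme.Modules.pushforward i)] [Dual3.HasHomO i] [EnoughInjectives X.Modules] in
/-- A coherent module, placed in degree zero, has coherent cohomology. -/
theorem isCohD_inD [IsLocallyNoetherian X] {M : X.Modules} (hM : Coh.IsCoh M) : DCoh.IsCohD (DCoh.inD X M) := by
  intro n
  by_cases hn : n = 0
  · subst hn
    exact DCohLib.isCoh_iso
      ((DerivedCategory.singleFunctorCompHomologyFunctorIso X.Modules 0).app M).symm hM
  · rcases lt_or_gt_of_ne hn with h | h
    · exact DevLib.isCoh_of_isZero (DerivedCategory.isZero_of_isGE _ 0 n h)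
    · exact DevLib.isCoh_of_isZero (DerivedCategory.isZero_of_isLE _ 0 n h)

/-- The derived functor preserves coherence. -/
theorem isCohD_RHomO [IsLocallyNoetherian X] (K : DerivedCategory.Plus X.Modules) (hK : DCoh.IsCohD K.obj) :
    DCoh.IsCohD ((Dual3.RHomOPlus i).obj K).obj := by
  haveI : IsLocallyNoetherian Z := LocallyOfFiniteType.isLocallyNoetherian i
  obtain ⟨E, _, _, ⟨eE⟩, he⟩ := exists_push_HD_RHomO i K
  obtain ⟨a, ha⟩ := K.property
  haveI := ha
  haveI : (DCoh.toD X E).IsLE 0 := DerivedCategory.TStructure.t.isLE_of_iso eE.symm 0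
  have hEc : DCoh.IsCohD (DCoh.toD X E) :=
    DCohMore.isCohD_of_iso' eE.symm (isCohD_inD (DevLib.isCoh_pushforward_closed i (DevLib.isCoh_structureModule Z)))
  intro n
  obtain ⟨e⟩ := he n
  have hR := DCohLib.isCoh_iso e.symm ((DCohMore.isCohD_rSheafHom E 0 hEc K.obj a hK).1 n)
  exact ⟨isQCoh_of_push i hR.1, RelPCLib.isFT_of_push i hR.2⟩

end Groth.Agent.TwistShriek
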