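import Groth.Agent.TwistShriek.TopDualExist
import Groth.Agent.TwistShriek.CohRight
import Groth.Agent.TwistShriek.ProjTrace
import Groth.Agent.ProjTwist.Vanish
import Groth.Agent.TwistShriek.RHomO
import Groth.Agent.DevLib.Closed
import Groth.Prelude.Def_Canon

/-!
# Dualizing pairs from the right adjoint of the direct image
-/

set_option autoImplicit false
set_option linter.style.haveILetI false
set_option linter.unusedSectionVars false
set_option backward.isDefEq.respectTransparency false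
set_option maxHeartbeats 1000000

universe u

open CategoryTheory CategoryTheory.Limits AlgebraicGeometry
open Groth.Agent.DCohLib Groth.Agent.CohBase

attribute [local instance] HasDerivedCategory.standard

noncomputable section

namespace Groth.Agent.TwistShriek

/-- The structure sheaf in `D_QCoh`. -/
def oQ (Z : Scheme.{u}) : DCoh.DQCoh Z :=
  ⟨oD Z, TildeD.isQCohD_of_iso ((DerivedCategory.singleFunctorIsoCompQ Z.Modules 0).app _).symm
    (DCohMore.isQCohD_sgl₀ (Coh.structureModule Z) inferInstance)⟩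

/-- A trace with the universal property gives a dualizing pair. -/
theorem isRDualOver_of_existsUnique (A : Type u) [CommRing A] (X : Scheme.{u}) [X.Over (Spec (CommRingCat.of A))]
    (r : ℕ) (ω : X.Modules) (hω : Coh.IsQCoh ω) (tr : Coh.HH X ω r →ₗ[A] A)
    (h : ∀ F : X.Modules, Coh.IsQCoh F → ∀ ψ : Coh.HH X F r →ₗ[A] A, ∃! φ : F ⟶ ω,
      ∀ x : Coh.HH X F r, ψ x = tr (Sheaf.H.map ((SheafOfModules.toSheaf X.ringCatSheaf).map φ) r x)) :
    Canon.IsRDualOver A X r ω tr := by
  refine ⟨hω, fun F hF => ⟨fun φ φ' e => ?_, fun ψ => ?_⟩⟩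
  · exact (h F hF (Canon.dualityMap A X r ω tr F φ)).unique (fun _ => rfl) (fun x => DFunLike.congr_fun e x)
  · obtain ⟨φ, hφ, -⟩ := h F hF ψ
    exact ⟨φ, LinearMap.ext fun x => (hφ x).symm⟩

/-- A dualizing pair transported along an isomorphism. -/
theorem exists_isRDualOver_of_iso (A : Type u) [CommRing A] (X : Scheme.{u}) [X.Over (Spec (CommRingCat.of A))]
    (r : ℕ) {ω ω' : X.Modules} (e : ω ≅ ω') (tr : Coh.HH X ω r →ₗ[A] A) (h : Canon.IsRDualOver A X r ω tr) :
    ∃ tr' : Coh.HH X ω' r →ₗ[A] A, Canon.IsRDualOver A X r ω' tr' := by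
  refine ⟨tr ∘ₗ Canon.HHlin A e.inv r, isQCoh_of_iso' e h.1, fun F hF => ?_⟩
  have hc : Canon.dualityMap A X r ω' (tr ∘ₗ Canon.HHlin A e.inv r) F =
      Canon.dualityMap A X r ω tr F ∘ fun φ : F ⟶ ω' => φ ≫ e.inv := funext fun φ => LinearMap.ext fun x => by
    show tr (Sheaf.H.map _ r (Sheaf.H.map _ r x)) = tr (Sheaf.H.map _ r x)
    rw [← Sheaf.H.map_comp_apply, ← Functor.map_comp]
  rw [hc]
  exact (h.2 F hF).comp ⟨fun a b hab => (cancel_mono e.inv).1 hab, fun g => ⟨g ≫ e.hom, by simp⟩⟩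

/-- The dual of the top cohomology is represented by the lowest cohomology sheaf of `a(O)`. -/
theorem exists_isRDualOver_adjoint (A : Type u) [CommRing A] (X : Scheme.{u}) [X.Over (Spec (CommRingCat.of A))]
    [QuasiCompact (X ↘ Spec (CommRingCat.of A))] [QuasiSeparated (X ↘ Spec (CommRingCat.of A))]
    [DCoh.HasRpush (X ↘ Spec (CommRingCat.of A))]
    (h : DCoh.RpushPreservesQCoh (X ↘ Spec (CommRingCat.of A)))
    (a : DCoh.DQCoh (Spec (CommRingCat.of A)) ⥤ DCoh.DQCoh X)
    (adj : DCoh.RpushQ (X ↘ Spec (CommRingCat.of A)) h ⊣ a)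
    (O : DCoh.DQCoh (Spec (CommRingCat.of A))) (eO : O.obj ≅ oD (Spec (CommRingCat.of A))) (n : ℕ)
    (hM : (a.obj O).obj.IsGE (-(n : ℤ)))
    (hvan : ∀ F : X.Modules, Coh.IsQCoh F → ∀ j, n < j → Subsingleton (Coh.HH X F j))
    {ω : X.Modules} (eω : DCoh.HD (a.obj O).obj (-(n : ℤ)) ≅ ω) :
    ∃ tr : Coh.HH X ω n →ₗ[A] A, Canon.IsRDualOver A X n ω tr := by
  let Y := Spec (CommRingCat.of A)
  haveI : PreservesFiniteLimits (tilde.functor (CommRingCat.of A)) := TildeD.preservesFiniteLimits_tilde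
  haveI : (oD Y).IsGE 0 := inferInstanceAs ((DCoh.inD Y (Coh.structureModule Y)).IsGE 0)
  have hO : O.obj.IsGE 0 := DerivedCategory.TStructure.t.isGE_of_iso eO.symm 0
  let c : (ΓA A).obj (DCoh.HD O.obj 0) ≃ₗ[A] A :=
    ((ΓA A).mapIso ((DerivedCategory.homologyFunctor _ 0).mapIso eO ≪≫
        (DerivedCategory.singleFunctorCompHomologyFunctorIso Y.Modules 0).app _ ≪≫
        (tildeSelf (R := CommRingCat.of A)).symm) ≪≫
      ((tilde.toTildeΓNatIso (R := CommRingCat.of A)).app _).symm).toLinearEquiv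
  obtain ⟨γ, hγ⟩ := exists_trace_shift A X h a adj O 0 hO n (-(n : ℤ)) (by omega) hM A c
  exact exists_isRDualOver_of_iso A X n eω γ (isRDualOver_of_existsUnique A X n _ ((a.obj O).property _) γ
    fun F hF ψ => hγ F hF (hvan F hF) ψ)

/-- The dualizing pair of projective space. -/
theorem exists_isRDualOver_projSpace (A : Type u) [CommRing A] (d : ℕ) :
    ∃ tr : Coh.HH (CohB1.ProjSpace d A) (Twist.twistProjSpace d A (-((d : ℤ) + 1))) d →ₗ[A] A,
      Canon.IsRDualOver A (CohB1.ProjSpace d A) d (Twist.twistProjSpace d A (-((d : ℤ) + 1))) tr := by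
  let P := CohB1.ProjSpace d A
  let π := CohB1.ProjSpace.toSpec d A
  let Y := Spec (CommRingCat.of A)
  haveI : IsProper π := inferInstance
  haveI : CompactSpace P := QuasiCompact.compactSpace_of_compactSpace π
  haveI : QuasiSeparatedSpace P := quasiSeparatedSpace_of_quasiSeparated π
  haveI : DCoh.HasRpush π := Groth.Agent.KInj.hasRightDerivedFunctor (hres_modules P) _
  haveI : DCoh.HasRpush (P ↘ Y) := inferInstanceAs (DCoh.HasRpush π)
  haveI : QuasiCompact (P ↘ Y) := inferInstanceAs (QuasiCompact π)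
  haveI : QuasiSeparated (P ↘ Y) := inferInstanceAs (QuasiSeparated π)
  have h : DCoh.RpushPreservesQCoh π := fun K hK => DCohMore.isQCohD_rpush π K hK
  haveI := DQCohBrown.isLeftAdjoint_rpushQ π h
  let a := (DCoh.RpushQ π h).rightAdjoint
  let adj : DCoh.RpushQ π h ⊣ a := Adjunction.ofIsLeftAdjoint (DCoh.RpushQ π h)
  let O : DCoh.DQCoh Y := oQ Y
  let N := Twist.twistProjSpace d A (-((d : ℤ) + 1))
  obtain ⟨e⟩ := nonempty_rightAdjoint_projSpace d A h a adj O (Iso.refl _)
  have hQ : ((DCoh.inD P N)⟦(d : ℤ)⟧).IsGE (-(d : ℤ)) :=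
    DerivedCategory.TStructure.t.isGE_shift (DCoh.inD P N) 0 (d : ℤ) (-(d : ℤ)) (by omega)
  exact exists_isRDualOver_adjoint A P h a adj O (Iso.refl _) d
    (DerivedCategory.TStructure.t.isGE_of_iso e.symm _)
    (fun F hF j hj => by haveI := hF; exact CohBase.PS.vanishing_gt d A F j hj)
    ((DerivedCategory.homologyFunctor _ _).mapIso e ≪≫
      ((DerivedCategory.homologyFunctor P.Modules 0).shiftIso (d : ℤ) (-(d : ℤ)) 0 (by omega)).app _ ≪≫
      (DerivedCategory.singleFunctorCompHomologyFunctorIso P.Modules 0).app N)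

/-- A coherent dualizing pair of a proper scheme over a field. -/
theorem exists_isCoh_isRDualOver_field (k : Type u) [Field k] (X : Scheme.{u}) [X.Over (Spec (CommRingCat.of k))]
    [IsProper (X ↘ Spec (CommRingCat.of k))] (r : ℕ) (hdim : topologicalKrullDim X ≤ r) :
    ∃ (ω : X.Modules) (tr : Coh.HH X ω r →ₗ[k] k), Coh.IsCoh ω ∧ Canon.IsRDualOver k X r ω tr := by
  let f := X ↘ Spec (CommRingCat.of k)
  let Y := Spec (CommRingCat.of k)
  haveI : IsNoetherianRing (CommRingCat.of k) := inferInstanceAs (IsNoetherianRing k)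
  haveI : IsLocallyNoetherian X := LocallyOfFiniteType.isLocallyNoetherian f
  haveI : CompactSpace X := QuasiCompact.compactSpace_of_compactSpace f
  haveI : QuasiSeparatedSpace X := quasiSeparatedSpace_of_quasiSeparated f
  haveI : DCoh.HasRpush f := Groth.Agent.KInj.hasRightDerivedFunctor (hres_modules X) _
  have h : DCoh.RpushPreservesQCoh f := fun K hK => DCohMore.isQCohD_rpush f K hK
  haveI := DQCohBrown.isLeftAdjoint_rpushQ f h
  let a := (DCoh.RpushQ f h).rightAdjoint
  let adj : DCoh.RpushQ f h ⊣ a := Adjunction.ofIsLeftAdjoint (DCoh.RpushQ f h)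
  let O : DCoh.DQCoh Y := oQ Y
  have hfib : ∀ y, topologicalKrullDim ↥(f.fiber y) ≤ r := fun y =>
    ((f.fiberι y).isEmbedding.isInducing.topologicalKrullDim_le).trans hdim
  haveI : O.obj.IsGE 0 := inferInstanceAs ((DCoh.inD Y (Coh.structureModule Y)).IsGE 0)
  have hM := isGE_rightAdjoint_of_fibreDim f r hfib h a adj O 0 ‹_›
  have hc : DCoh.IsCohD (a.obj O).obj :=
    isCohD_rightAdjoint f h a adj O ⟨isCohD_inD (DevLib.isCoh_structureModule Y), 0, ‹_›⟩
  obtain ⟨tr, htr⟩ := exists_isRDualOver_adjoint k X h a adj O (Iso.refl _) r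
    (show (a.obj O).obj.IsGE (-(r : ℤ)) by simpa using hM)
    (fun F hF j hj => by
      haveI := hF
      obtain ⟨p, rfl⟩ : ∃ p, j = p + 1 := ⟨j - 1, by omega⟩
      exact subsingleton_HH _ _ (FibreVanishQC.subsingleton_HU_affine f r hfib F p (by omega)))
    (Iso.refl _)
  exact ⟨_, tr, hc _, htr⟩

end Groth.Agent.TwistShriek
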