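import Groth.Agent.TwistShriek.TopDualPair
import Groth.Agent.DCohMore.PushZero
import Groth.Agent.DCohMore.AffinePushHD

/-!
# Top cohomology along affine morphisms, naturally
-/

set_option autoImplicit false
set_option linter.style.haveILetI false
set_option linter.unusedSectionVars false
set_option backward.isDefEq.respectTransparency false
set_option maxHeartbeats 1000000

universe u

open CategoryTheory CategoryTheory.Limits AlgebraicGeometry Abelian
open Groth.Agent.DCohLib Groth.Agent.CohBase

attribute [local instance] HasDerivedCategory.standard Groth.Agent.TwistShriek.linΓ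

noncomputable section

namespace Groth.Agent.TwistShriek

variable {X Z : Scheme.{u}} (π : X ⟶ Z) [IsAffineHom π]

/-- Along an affine morphism the direct image of a quasi-coherent module is the derived one. -/
theorem isIso_eta [DCoh.HasRpush π] (M : X.Modules) [hM : Coh.IsQCoh M] : IsIso ((DCohMore.PushZero.eta π).app M) := by
  have hq : DCoh.IsQCohD (DCoh.inD X M) :=
    TildeD.isQCohD_of_iso ((DerivedCategory.singleFunctorIsoCompQ X.Modules 0).app M).symm
      (DCohMore.isQCohD_sgl₀ M hM)
  refine (DerivedCategory.isIso_iff _ _).2 fun i => ?_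
  by_cases hi : i = 0
  · subst hi
    exact DCohMore.PushZero.isIso_homology_eta π M
  · have h1 : IsZero ((DerivedCategory.homologyFunctor Z.Modules i).obj
        ((Scheme.Modules.pushforward π ⋙ DerivedCategory.singleFunctor Z.Modules 0).obj M)) := by
      rcases lt_or_gt_of_ne hi with h | h
      · exact DerivedCategory.isZero_of_isGE (DCoh.inD Z ((Scheme.Modules.pushforward π).obj M)) 0 i h
      · exact DerivedCategory.isZero_of_isLE (DCoh.inD Z ((Scheme.Modules.pushforward π).obj M)) 0 i h
    have h2 : IsZero ((DerivedCategory.homologyFunctor Z.Modules i).obj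
        ((DerivedCategory.singleFunctor X.Modules 0 ⋙ DCoh.Rpush π).obj M)) := by
      obtain ⟨e⟩ := DCohMore.nonempty_HD_rpush_affine π (DCoh.inD X M) hq i
      refine IsZero.of_iso ((Scheme.Modules.pushforward π).map_isZero ?_) e
      rcases lt_or_gt_of_ne hi with h | h
      · exact DerivedCategory.isZero_of_isGE (DCoh.inD X M) 0 i h
      · exact DerivedCategory.isZero_of_isLE (DCoh.inD X M) 0 i h
    exact ⟨⟨0, h1.eq_of_src _ _, h2.eq_of_src _ _⟩⟩

variable (A : Type u) [CommRing A] [X.Over (Spec (CommRingCat.of A))] [Z.Over (Spec (CommRingCat.of A))]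

/-- Cohomology of quasi-coherent modules along an affine morphism over the base, linearly and naturally. -/
theorem exists_pushLinearEquiv (hπ : π ≫ (Z ↘ Spec (CommRingCat.of A)) = X ↘ Spec (CommRingCat.of A)) (r : ℕ) :
    ∃ θ : ∀ (M : X.Modules), Coh.IsQCoh M → (Coh.HH X M r ≃ₗ[A] Coh.HH Z ((Coh.push π).obj M) r),
      ∀ (M N : X.Modules) (hM : Coh.IsQCoh M) (hN : Coh.IsQCoh N) (φ : M ⟶ N) (x : Coh.HH X M r),
        θ N hN (Canon.HHlin A φ r x) = Canon.HHlin A ((Coh.push π).map φ) r (θ M hM x) := by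
  haveI : DCoh.HasRpush π := Groth.Agent.KInj.hasRightDerivedFunctor (hres_modules X) _
  haveI := hasLpull π
  haveI : SiteCmp.HasRpushD (ModSite.RMor.ofScheme π) := ‹DCoh.HasRpush π›
  obtain ⟨h₁, -⟩ := SiteCmpLib.exists_triangulated_rpushD (ModSite.RMor.ofScheme π)
  letI : (DCoh.Rpush π).CommShift ℤ := h₁
  haveI : PreservesLimitsOfSize.{0, 0} (DCoh.Rpush π) := (lpullRpushAdj π).rightAdjoint_preservesLimits
  haveI : (DCoh.Rpush π).Additive := CategoryTheory.Functor.additive_of_preserves_binary_products _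
  obtain ⟨e₀⟩ := DCohMore.TwistFam.nonempty_lpull_structure π
  let k : ℤ := (r : ℤ)
  let S := shiftFunctor (DCoh.D Z) k
  let c : ∀ M : X.Modules, Coh.IsQCoh M →
      ((DCoh.Rpush π).obj ((DCoh.inD X M)⟦k⟧) ≅ (DCoh.inD Z ((Coh.push π).obj M))⟦k⟧) := fun M hM =>
    ((DCoh.Rpush π).commShiftIso k).app (DCoh.inD X M) ≪≫
      S.mapIso (@asIso _ _ _ _ ((DCohMore.PushZero.eta π).app M) (isIso_eta π M (hM := hM))).symm
  let L : ∀ M : X.Modules, Coh.IsQCoh M → (Coh.HH X M r ≃+ Coh.HH Z ((Coh.push π).obj M) r) := fun M hM =>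
    ((hhEquiv X M r).trans
      (AddEquiv.mk' (e₀.homFromEquiv.symm.trans ((lpullRpushAdj π).homEquiv _ _) |>.trans (c M hM).homToEquiv)
        (fun a b => by
          show (lpullRpushAdj π).homEquiv _ _ (e₀.hom ≫ (a + b)) ≫ _ = _
          rw [Preadditive.comp_add, Adjunction.homEquiv_unit, Functor.map_add, Preadditive.comp_add,
            Preadditive.add_comp]
          rfl))).trans (hhEquiv Z ((Coh.push π).obj M) r).symm
  have hL : ∀ M hM x, hhEquiv Z ((Coh.push π).obj M) r (L M hM x) =
      (lpullRpushAdj π).homEquiv _ _ (e₀.hom ≫ hhEquiv X M r x) ≫ (c M hM).hom := fun M hM x =>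
    (hhEquiv Z ((Coh.push π).obj M) r).apply_symm_apply _
  let θ : ∀ (M : X.Modules), Coh.IsQCoh M → (Coh.HH X M r ≃ₗ[A] Coh.HH Z ((Coh.push π).obj M) r) := fun M hM =>
    { L M hM with
      map_smul' := fun s x => by
        show L M hM (s • x) = s • L M hM x
        apply (hhEquiv Z ((Coh.push π).obj M) r).injective
        rw [hL M hM, show (s • x : Coh.HH X M r) = (Coh.toGlobal (X ↘ Spec (CommRingCat.of A)) s) • x from rfl,
          show (s • L M hM x) = (Coh.toGlobal (Z ↘ Spec (CommRingCat.of A)) s) • L M hM x from rfl,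
          hhEquiv_smul, hhEquiv_smul, hL M hM,
          show Coh.toGlobal (X ↘ Spec (CommRingCat.of A)) s = fa π (Coh.toGlobal (Z ↘ Spec (CommRingCat.of A)) s) by
            rw [← hπ]; rfl,
          ← Category.assoc, Adjunction.homEquiv_naturality_right, rpush_sc, Category.assoc, Category.assoc,
          sc_natural] }
  refine ⟨θ, fun M N hM hN φ x => ?_⟩
  apply (hhEquiv Z ((Coh.push π).obj N) r).injective
  show hhEquiv Z _ r (L N hN (Sheaf.H.map _ r x)) = hhEquiv Z _ r (Sheaf.H.map _ r (L M hM x))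
  rw [hhEquiv_map, hL N hN, hhEquiv_map, hL M hM, ← Category.assoc, Adjunction.homEquiv_naturality_right, Category.assoc,
    Category.assoc]
  refine congrArg (_ ≫ ·) ?_
  haveI := isIso_eta π M (hM := hM)
  haveI := isIso_eta π N (hM := hN)
  have n1 : (DCoh.Rpush π).map (((DerivedCategory.singleFunctor X.Modules 0).map φ)⟦k⟧') ≫
        ((DCoh.Rpush π).commShiftIso k).hom.app (DCoh.inD X N) =
      ((DCoh.Rpush π).commShiftIso k).hom.app (DCoh.inD X M) ≫
        ((DCoh.Rpush π).map ((DerivedCategory.singleFunctor X.Modules 0).map φ))⟦k⟧' :=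
    ((DCoh.Rpush π).commShiftIso k).hom.naturality ((DerivedCategory.singleFunctor X.Modules 0).map φ)
  show _ ≫ ((DCoh.Rpush π).commShiftIso k).hom.app (DCoh.inD X N) ≫ S.map (inv ((DCohMore.PushZero.eta π).app N)) =
    (((DCoh.Rpush π).commShiftIso k).hom.app (DCoh.inD X M) ≫ S.map (inv ((DCohMore.PushZero.eta π).app M))) ≫ _
  refine (Category.assoc _ _ _).symm.trans ((congrArg (· ≫ _) n1).trans ?_)
  rw [Category.assoc, Category.assoc]
  refine congrArg (_ ≫ ·) ?_
  refine (S.map_comp _ _).symm.trans ((congrArg S.map ?_).trans (S.map_comp _ _))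
  rw [IsIso.comp_inv_eq, Category.assoc, IsIso.eq_inv_comp]
  exact ((DCohMore.PushZero.eta π).naturality φ).symm

end Groth.Agent.TwistShriek
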