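import Groth.Agent.TwistShriek.CartierSingle
import Groth.Agent.TwistShriek.RHomOAdj
import Groth.Agent.TwistShriek.ShriekIndep
import Groth.Agent.TwistShriek.TopDualPair
import Groth.Agent.TwistShriek.TopDualPush
import Groth.Agent.TwistShriek.PointTwist
import Groth.Agent.TwistShriek.PairCoh
import Groth.Agent.TwistShriek.DualizingTop
import Groth.Agent.TwistShriek.Canonical
import Groth.Agent.ShriekAlgLib.CMDual
import Groth.Agent.CMCat.Polynomial
import Groth.Agent.QCohLib.Coherent
import Groth.Agent.CurveLib.Euler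
import Groth.Agent.S8914
import Groth.Agent.S3630

/-!
# The dualizing sheaf of an effective Cartier divisor
-/

set_option autoImplicit false
set_option linter.style.haveILetI false
set_option linter.unusedSectionVars false
set_option backward.isDefEq.respectTransparency false
set_option maxHeartbeats 2000000
set_option maxRecDepth 4000

universe u

open CategoryTheory CategoryTheory.Limits AlgebraicGeometry TopologicalSpace
open Groth.Agent.DCohLib Groth.Agent.DCohMore Groth.Agent.PullbackMod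

attribute [local instance] HasDerivedCategory.standard

noncomputable section

namespace Groth.Agent.TwistShriek

attribute [local instance 10] specializationOrder

/-- The equation of a divisor is regular on the lowest cohomology of a concentrated dualizing complex. -/
theorem eq_zero_of_smul_lowest {A : Type u} [CommRing A] [IsLocalRing A] [IsNoetherianRing A] {Ω : Dual.D A}
    (hΩ : Dual.IsDualizing A Ω) (hn : Dual.IsNormalized A Ω) (n : ℕ) (hd : ringKrullDim A = n)
    (hconc : ∀ j : ℤ, j ≠ -(n : ℤ) → Subsingleton (Dual.HD A Ω j))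
    {W : Type u} [AddCommGroup W] [Module A W] (e : Dual.HD A Ω (-(n : ℤ)) ≃ₗ[A] W)
    {f : A} (hf : f ∈ nonZeroDivisors A) {w : W} (hw : f • w = 0) : w = 0 := by
  open DualCxLib in
  by_cases hu : IsUnit f
  · exact hu.smul_eq_zero.1 hw
  have hm : f ∈ IsLocalRing.maximalIdeal A := (IsLocalRing.mem_maximalIdeal f).2 hu
  let M := A ⧸ Ideal.span {f}
  haveI : Nontrivial M := Ideal.Quotient.nontrivial_iff.2
    (ne_top_of_le_ne_top (IsLocalRing.maximalIdeal.isMaximal A).ne_top ((Ideal.span_singleton_le_iff_mem _).2 hm))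
  have hdim := ringKrullDim_quotient_span_singleton_succ_eq_ringKrullDim_of_mem_nonZeroDivisors hf hm
  rw [hd] at hdim
  obtain ⟨d, hd', -⟩ := exists_supportDim_localized hΩ (M := M) (IsLocalRing.closedPoint A)
    (IsLocalRing.closedPoint_mem_support A M)
  have hdM : Module.supportDim A M = d := (supportDim_localized_maximal (M := M)).symm.trans hd'
  have hlt : d < n := by
    rw [Module.supportDim_quotient_eq_ringKrullDim] at hdM
    rw [hdM] at hdim
    have : d + 1 = n := by exact_mod_cast hdim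
    omega
  haveI hHK : Subsingleton (HK Ω (-(n : ℤ)) M) := not_nontrivial_iff_subsingleton.1 fun hnt => by
    have := ((dim_bounds_local hΩ hn hdM).1 _ hnt).1
    omega
  haveI : DerivedCategory.IsGE Ω (-(n : ℤ)) := (DerivedCategory.isGE_iff _ _).2 fun j hj =>
    ModuleCat.isZero_iff_subsingleton.2 (hconc j hj.ne)
  haveI : DerivedCategory.IsLE Ω (-(n : ℤ)) := (DerivedCategory.isLE_iff _ _).2 fun j hj =>
    ModuleCat.isZero_iff_subsingleton.2 (hconc j (ne_of_gt hj))
  obtain ⟨Y, ⟨eY⟩⟩ := DerivedCategory.exists_iso_singleFunctor_obj_of_isGE_of_isLE Ω (-(n : ℤ))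
  let eN : Y ≃ₗ[A] W :=
    ((DerivedCategory.singleFunctorCompHomologyFunctorIso (ModuleCat.{u} A) (-(n : ℤ))).app Y).toLinearEquiv.symm.trans
      (((DerivedCategory.homologyFunctor (ModuleCat.{u} A) (-(n : ℤ))).mapIso eY.symm).toLinearEquiv.trans e)
  let eΩ : Ω⟦(-(n : ℤ))⟧ ≅ (DerivedCategory.singleFunctor (ModuleCat.{u} A) 0).obj Y :=
    (shiftFunctor (Dual.D A) (-(n : ℤ))).mapIso eY ≪≫
      ((DerivedCategory.singleFunctors (ModuleCat.{u} A)).shiftIso (-(n : ℤ)) 0 (-(n : ℤ)) (by simp)).app Y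
  let φ : M →ₗ[A] Y := Submodule.liftQ _ (LinearMap.toSpanSingleton A Y (eN.symm w)) fun a ha => by
    obtain ⟨b, rfl⟩ := Ideal.mem_span_singleton'.1 ha
    rw [LinearMap.mem_ker, LinearMap.toSpanSingleton_apply, mul_smul, ← map_smul, hw, map_zero, smul_zero]
  have h0 : (DerivedCategory.singleFunctor (ModuleCat.{u} A) 0).map (ModuleCat.ofHom φ) = 0 :=
    (cancel_mono eΩ.inv).1 (hHK.elim _ _)
  have hφ : ModuleCat.ofHom φ = 0 :=
    (DerivedCategory.singleFunctor (ModuleCat.{u} A) 0).map_injective (h0.trans (Functor.map_zero _ _ _).symm)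
  have h1 := LinearMap.congr_fun (congrArg ModuleCat.Hom.hom hφ) (Ideal.Quotient.mk _ 1)
  refine eN.symm.injective (Eq.trans ?_ (map_zero eN.symm).symm)
  refine Eq.trans ?_ h1
  exact (one_smul A (eN.symm w)).symm

/-- A point of dimension bounded stalks bounds the dimension. -/
theorem topologicalKrullDim_le_of_closed_stalk {Y : Scheme.{u}} [CompactSpace Y] [IsLocallyNoetherian Y] (m : ℕ)
    (h : ∀ y : Y, IsClosed ({y} : Set Y) → ringKrullDim (Y.presheaf.stalk y) ≤ (m : WithBot ℕ∞)) :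
    topologicalKrullDim Y ≤ (m : WithBot ℕ∞) := by
  rw [ASp.topologicalKrullDim_eq_krullDim]
  cases isEmpty_or_nonempty Y
  · rw [Order.krullDim_eq_bot]; exact bot_le
  rw [Order.krullDim_eq_iSup_coheight]
  refine iSup_le fun y => ?_
  obtain ⟨x₀, hx₀, hcl⟩ := exists_closed_specialization y
  have h1 := h x₀ hcl
  rw [ringKrullDim_stalk_eq_coheight] at h1
  exact le_trans (WithBot.coe_le_coe.2 (Order.coheight_anti (show x₀ ≤ y from hx₀))) h1

/-- A dualizing pair transported along an isomorphism. -/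
theorem exists_isRDualOver_push_iso (k : Type u) [Field k] {D D' : Scheme.{u}} [D.Over (Spec (CommRingCat.of k))]
    [D'.Over (Spec (CommRingCat.of k))] (π : D ⟶ D') [IsIso π]
    (hπ : π ≫ (D' ↘ Spec (CommRingCat.of k)) = D ↘ Spec (CommRingCat.of k)) (r : ℕ) {ω : D.Modules}
    {tr : Coh.HH D ω r →ₗ[k] k} (h : Canon.IsRDualOver k D r ω tr) :
    ∃ tr' : Coh.HH D' ((Coh.push π).obj ω) r →ₗ[k] k,
      Canon.IsRDualOver k D' r ((Coh.push π).obj ω) tr' := by
  haveI := h.1
  obtain ⟨θ, hθ⟩ := exists_pushLinearEquiv π k hπ r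
  refine ⟨tr ∘ₗ (θ ω h.1).symm.toLinearMap, QCohLib.isQCoh_pushforward ω π, fun F hF => ?_⟩
  haveI := hF
  have hsupp : SuppOn π F :=
    { subsingleton := fun y hy => absurd (π.homeomorph.surjective y) hy
      smul_eq_zero := fun x a ha z => by
        rw [show a = 0 from (ConcreteCategory.bijective_of_isIso (π.stalkMap x)).1 (ha.trans (map_zero _).symm),
          zero_smul] }
  haveI := isIso_unit_of_suppOn π hsupp
  haveI : IsIso ((Scheme.Modules.pullbackPushforwardAdjunction π).counit) :=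
    haveI := fun M : D.Modules => isIso_counit_closedImmersion π M
    NatIso.isIso_of_isIso_app _
  let G := (Scheme.Modules.pullback π).obj F
  haveI hG : Coh.IsQCoh G := PullbackMod.isQCoh_pullback π F
  let u : F ≅ (Coh.push π).obj G := asIso ((Scheme.Modules.pullbackPushforwardAdjunction π).unit.app F)
  let FF := (Scheme.Modules.pullbackPushforwardAdjunction π).fullyFaithfulROfIsIsoCounit
  let tr' := tr ∘ₗ (θ ω h.1).symm.toLinearMap
  have e : Canon.dualityMap k D' r ((Coh.push π).obj ω) tr' ((Coh.push π).obj G) ∘ (Coh.push π).map =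
      (θ G hG).congrLeft k k ∘ Canon.dualityMap k D r ω tr G := funext fun φ => LinearMap.ext fun y => by
    obtain ⟨y, rfl⟩ := (θ G hG).surjective y
    show tr ((θ ω h.1).symm (Canon.HHlin k ((Coh.push π).map φ) r (θ G hG y))) =
      tr (Canon.HHlin k φ r ((θ G hG).symm (θ G hG y)))
    rw [← hθ G ω hG h.1 φ y, LinearEquiv.symm_apply_apply, LinearEquiv.symm_apply_apply]
  have hb : Function.Bijective (Canon.dualityMap k D' r ((Coh.push π).obj ω) tr' ((Coh.push π).obj G)) :=
    ((show Function.Bijective ((Coh.push π).map : (G ⟶ ω) → _) from (FF.homEquiv).bijective).of_comp_iff _).1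
      (e ▸ (LinearEquiv.bijective _).comp (h.2 G hG))
  have hHu : Function.Bijective (Canon.HHlin k u.hom r) := by
    refine ⟨fun a b hab => ?_, fun a => ⟨Canon.HHlin k u.inv r a, ?_⟩⟩
    · have h1 := congrArg (Canon.HHlin k u.inv r) hab
      rwa [← HHlin_comp_apply, ← HHlin_comp_apply, u.hom_inv_id, HHlin_id_apply, HHlin_id_apply] at h1
    · rw [← HHlin_comp_apply, u.inv_hom_id, HHlin_id_apply]
  have e2 : Canon.dualityMap k D' r ((Coh.push π).obj ω) tr' F =
      ((LinearEquiv.ofBijective (Canon.HHlin k u.hom r) hHu).congrLeft k k).symm ∘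
        Canon.dualityMap k D' r ((Coh.push π).obj ω) tr' ((Coh.push π).obj G) ∘ (fun ψ => u.inv ≫ ψ) :=
    funext fun ψ => LinearMap.ext fun y => by
      show tr' (Canon.HHlin k ψ r y) = tr' (Canon.HHlin k (u.inv ≫ ψ) r (Canon.HHlin k u.hom r y))
      rw [← HHlin_comp_apply, u.hom_inv_id_assoc]
  rw [e2]
  exact (LinearEquiv.bijective _).comp (hb.comp (Iso.homFromEquiv u).bijective)

section Main

variable (k : Type u) [Field k] (X : Scheme.{u}) [X.Over (Spec (CommRingCat.of k))]
  [IsProper (X ↘ Spec (CommRingCat.of k))]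

/-- The stalks of an effective Cartier divisor. -/
theorem exists_stalk_divisor {D : Scheme.{u}} (i : D ⟶ X) [IsClosedImmersion i]
    (hI : BlowUp.IsEffCartierIdeal i.ker) (d : D) :
    ∃ f : X.presheaf.stalk (i d), f ∈ nonZeroDivisors (X.presheaf.stalk (i d)) ∧
      f ∈ IsLocalRing.maximalIdeal (X.presheaf.stalk (i d)) ∧
      Nonempty ((X.presheaf.stalk (i d) ⧸ Ideal.span {f}) ≃+* D.presheaf.stalk d) := by
  obtain ⟨U, hx, f, hf, hU⟩ := hI (i d)
  let fx := X.presheaf.germ U.1 (i d) hx f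
  have hsurj := i.stalkMap_surjective d
  have hker : RingHom.ker (i.stalkMap d).hom = Ideal.span {fx} := by
    refine Ideal.ext fun a => ?_
    have h : ∀ z : i.ker.subscheme, ∀ (hz : i.ker.subschemeι z = i d) (a : X.presheaf.stalk (i d)),
        i.ker.subschemeι.stalkMap z (X.presheaf.stalkSpecializes (specializes_of_eq hz) a) = 0 ↔
          a ∈ Ideal.span {fx} := fun z hz a => by
      obtain ⟨z', rfl⟩ : ∃ z', z' = z := ⟨z, rfl⟩
      revert a
      have key : ∀ (y : X) (hy : y ∈ U.1) (hyz : i.ker.subschemeι z' = y) (a : X.presheaf.stalk y),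
          i.ker.subschemeι.stalkMap z' (X.presheaf.stalkSpecializes (specializes_of_eq hyz) a) = 0 ↔
            a ∈ Ideal.span {X.presheaf.germ U.1 y hy f} := by
        rintro y hy rfl a
        simp only [TopCat.Presheaf.stalkSpecializes_refl]
        exact stalkMap_eq_zero_of_equation i.ker U hU z' hy a
      exact key (i d) hx hz
    rw [RingHom.mem_ker, ← h (i.toImage d) rfl a]
    haveI : IsIso i.toImage := inferInstance
    have hfac : ∀ (g : D ⟶ X) (hg : i.toImage ≫ i.ker.subschemeι = g) (a : X.presheaf.stalk (g d)),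
        g.stalkMap d a = 0 ↔ i.ker.subschemeι.stalkMap (i.toImage d)
          (X.presheaf.stalkSpecializes (specializes_of_eq (by rw [← hg]; rfl)) a) = 0 := by
      rintro g rfl a
      simp only [TopCat.Presheaf.stalkSpecializes_refl]
      rw [Scheme.Hom.stalkMap_comp]
      show i.toImage.stalkMap d (i.ker.subschemeι.stalkMap (i.toImage d) a) = 0 ↔
        i.ker.subschemeι.stalkMap (i.toImage d) a = 0
      exact ⟨fun h0 => (ConcreteCategory.bijective_of_isIso (i.toImage.stalkMap d)).1 (h0.trans (map_zero _).symm),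
        fun h0 => (congrArg (i.toImage.stalkMap d) h0).trans (map_zero _)⟩
    exact hfac i i.toImage_imageι a
  refine ⟨fx, BlowExistsLib.germ_mem_nonZeroDivisors U.2 (i d) hx hf, ?_,
    ⟨(Ideal.quotEquivOfEq hker.symm).trans (RingHom.quotientKerEquivOfSurjective hsurj)⟩⟩
  refine IsLocalRing.le_maximalIdeal ?_ (hker ▸ Ideal.mem_span_singleton_self fx : fx ∈ RingHom.ker (i.stalkMap d).hom)
  exact RingHom.ker_ne_top _

/-- The local algebra of an effective Cartier divisor. -/
theorem cm_divisor [IsLocallyNoetherian X] (n : ℕ) (hCM : ∀ x : X, LocCoh.IsCohenMacaulayLocalRing (X.presheaf.stalk x))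
    (heq : ∀ x : X, IsClosed ({x} : Set ↥X) → ringKrullDim (X.presheaf.stalk x) = n)
    {D : Scheme.{u}} (i : D ⟶ X) [IsClosedImmersion i] (hI : BlowUp.IsEffCartierIdeal i.ker) (d : D) :
    LocCoh.IsCohenMacaulayLocalRing (D.presheaf.stalk d) ∧
      (IsClosed ({d} : Set ↥D) → 0 < n ∧ ringKrullDim (D.presheaf.stalk d) = (n - 1 : ℕ)) := by
  obtain ⟨f, hf, hm, ⟨e⟩⟩ := exists_stalk_divisor X i hI d
  let A := X.presheaf.stalk (i d)
  haveI : LocCoh.IsCohenMacaulayLocalRing A := hCM (i d)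
  constructor
  · have hw : RingTheory.Sequence.IsWeaklyRegular A [f] :=
      (RingTheory.Sequence.isWeaklyRegular_cons_iff A f []).2 ⟨fun a b hab =>
        mul_cancel_left_mem_nonZeroDivisors hf |>.1 hab, RingTheory.Sequence.IsWeaklyRegular.nil _ _⟩
    haveI := ShriekAlgLib.isCohenMacaulayLocalRing_quot [f] (by simpa using hm) hw
    exact CMCat.isCohenMacaulayLocalRing_of_ringEquiv
      ((Ideal.quotEquivOfEq (Ideal.ofList_singleton f)).trans e)
  · intro hd
    have hcl : IsClosed ({i d} : Set X) := by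
      rw [← Set.image_singleton]
      exact i.isClosedEmbedding.isClosedMap _ hd
    have h1 := ringKrullDim_quotient_span_singleton_succ_eq_ringKrullDim_of_mem_nonZeroDivisors hf hm
    rw [heq _ hcl, ringKrullDim_eq_of_ringEquiv e] at h1
    haveI : IsNoetherianRing (D.presheaf.stalk d) := isNoetherianRing_of_ringEquiv _ e
    obtain ⟨p, hp⟩ : ∃ p : ℕ, ringKrullDim (D.presheaf.stalk d) = p := by
      cases h' : ringKrullDim (D.presheaf.stalk d) with
      | bot => exact absurd h' ringKrullDim_ne_bot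
      | coe v =>
        cases v with
        | top =>
          rw [h'] at h1
          have h2 : ((⊤ + 1 : ℕ∞) : WithBot ℕ∞) = ((n : ℕ∞) : WithBot ℕ∞) := h1
          exact absurd (WithBot.coe_injective h2) (by simp)
        | coe p => exact ⟨p, rfl⟩
    rw [hp] at h1 ⊢
    have : p + 1 = n := by exact_mod_cast h1
    refine ⟨by omega, ?_⟩
    rw [show n - 1 = p by omega]

variable (m : ℕ) (hn : topologicalKrullDim ↥X = (m + 1 : ℕ))
  (hCM : ∀ x : X, LocCoh.IsCohenMacaulayLocalRing (X.presheaf.stalk x))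
  (heq : ∀ x : X, IsClosed ({x} : Set ↥X) → ringKrullDim (X.presheaf.stalk x) = (m + 1 : ℕ))

include hn hCM heq in
/-- The dualizing sheaf of an effective Cartier divisor. -/
theorem exists_isRDualOver_divisor (I : X.IdealSheafData) (hI : BlowUp.IsEffCartierIdeal I) {L : X.Modules}
    (e : CohB1.tensorMod L (ClSub.idealMod I) ≅ Coh.structureModule X) {ωX : X.Modules}
    {trX : Coh.HH X ωX (m + 1) →ₗ[k] k} (hωX : Canon.IsRDualOver k X (m + 1) ωX trX) :
    letI : I.subscheme.Over (Spec (CommRingCat.of k)) := ⟨I.subschemeι ≫ (X ↘ Spec (CommRingCat.of k))⟩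
    ∃ tr : Coh.HH I.subscheme ((Scheme.Modules.pullback I.subschemeι).obj (CohB1.tensorMod L ωX)) m →ₗ[k] k,
      Canon.IsRDualOver k I.subscheme m ((Scheme.Modules.pullback I.subschemeι).obj (CohB1.tensorMod L ωX)) tr := by
  letI : I.subscheme.Over (Spec (CommRingCat.of k)) := ⟨I.subschemeι ≫ (X ↘ Spec (CommRingCat.of k))⟩
  let f := X ↘ Spec (CommRingCat.of k)
  let ι := I.subschemeι
  let S := Spec (CommRingCat.of k)
  haveI : IsNoetherianRing (CommRingCat.of k) := inferInstanceAs (IsNoetherianRing k)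
  haveI : IsLocallyNoetherian X := LocallyOfFiniteType.isLocallyNoetherian f
  haveI : CompactSpace X := QuasiCompact.compactSpace_of_compactSpace f
  haveI : QuasiSeparatedSpace X := quasiSeparatedSpace_of_quasiSeparated f
  haveI : IsLocallyNoetherian I.subscheme := LocallyOfFiniteType.isLocallyNoetherian ι
  haveI : CompactSpace I.subscheme := QuasiCompact.compactSpace_of_compactSpace ι
  haveI : QuasiSeparatedSpace I.subscheme := quasiSeparatedSpace_of_quasiSeparated ι
  haveI : IsNoetherian X := {}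
  haveI : IsNoetherian I.subscheme := {}
  haveI : ∀ R : CommRingCat.{u}, PreservesFiniteLimits (tilde.functor R) :=
    fun R => TildeD.preservesFiniteLimits_tilde
  haveI := BC.hasRpush f
  haveI := BC.hasRpush ι
  haveI := BC.hasRpush (ι ≫ f)
  haveI : DCoh.HasRpush (I.subscheme ↘ S) := inferInstanceAs (DCoh.HasRpush (ι ≫ f))
  haveI := isLeftAdjoint_rpushQ' f
  haveI := isLeftAdjoint_rpushQ' ι
  haveI : Dual3.HasHomO ι := S3630.result _ _ ι
  let adjf := Adjunction.ofIsLeftAdjoint (DCoh.RpushQ f (rpushQC f))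
  let af := (DCoh.RpushQ f (rpushQC f)).rightAdjoint
  let adjι := Adjunction.ofIsLeftAdjoint (DCoh.RpushQ ι (rpushQC ι))
  let aι := (DCoh.RpushQ ι (rpushQC ι)).rightAdjoint
  let OS : DCoh.DQCoh S := ⟨(DCoh.tildeD (CommRingCat.of k)).obj (Dual.inD k k), by
    exact ((TildeD.main (CommRingCat.of k)).2.2 _).2 ⟨_, ⟨Iso.refl _⟩⟩⟩
  let eOS : OS.obj ≅ DCoh.inD S (Coh.structureModule S) := DualCxLib.tildeInD (CommRingCat.of k)
  obtain ⟨hK, hc, hN⟩ := proper_local_setup f (rpushQC f) af adjf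
    (isDualizing_inD_of_isField (Field.toIsField k))
    (fun i hi => subsingleton_HK_inD_of_isField (Field.toIsField k) _ hi)
    OS (Iso.refl _)
  obtain ⟨h1, -⟩ := amplitude_of_normalizedAt _ hc hN (m + 1) hn
  let K := af.obj OS
  have hclosed : ∀ {M : X.Modules}, Coh.IsCoh M →
      (∀ x : X, IsClosed ({x} : Set X) → Subsingleton (M.presheaf.stalk x)) → IsZero M := fun {M} hM h0 =>
    isZero_of_stalks fun y => by
      haveI := hM.1
      by_contra hy
      obtain ⟨x, hx, hcl⟩ := exists_closed_specialization y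
      exact (hx.mem_closed (PullbackMod.isClosed_support_of_isFT hM.2) hy) (h0 x hcl)
  have hdepth : ∀ x : X, IsClosed ({x} : Set X) →
      (LocCoh.depth (X.presheaf.stalk x) (X.presheaf.stalk x) : ℕ∞) = ((m + 1 : ℕ) : ℕ∞) := fun x hx => by
    have h2 := (hCM x).supportDim_eq_depth
    rw [Module.supportDim_self_eq_ringKrullDim, heq x hx] at h2
    exact (WithBot.coe_injective h2).symm
  have hz : ∀ q : ℤ, q ≠ -((m + 1 : ℕ) : ℤ) → IsZero (DCoh.HD K.obj q) := fun q hq => by
    by_cases hr : q < -((m + 1 : ℕ) : ℤ) ∨ 0 < q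
    · exact h1 q hr
    push Not at hr
    refine hclosed (hc q) fun x hx => not_nontrivial_iff_subsingleton.1 fun hnt => ?_
    have h3 := ((nontrivial_iff_depth_le K.obj x (hN x hx) q).1 ⟨q, le_rfl, hr.2, hnt⟩).1
    rw [hdepth x hx, Nat.cast_le] at h3
    omega
  let ω₀ := DCoh.HD K.obj (-((m + 1 : ℕ) : ℤ))
  haveI hω₀ : Coh.IsQCoh ω₀ := (hc _).1
  have hσ : Mono ((cartMul I e).app ω₀) := by
    let T := CurveLib.tensR L
    have hTc : Coh.IsCoh (T.obj ω₀) := CurveLib.isCoh_tmod (hc _)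
      (CurveLib.isCoh_of_isInvertible (isInvertible_inverse e))
    have hkc : Coh.IsCoh (kernel ((cartMul I e).app ω₀)) := (QCohLib.isCoh_kernel_cokernel _ (hc _) hTc).1
    refine Preadditive.mono_of_isZero_kernel _ (hclosed hkc fun x hx => subsingleton_of_forall_eq 0 fun z => ?_)
    obtain ⟨U, hxU, g, hg, hU⟩ := hI x
    obtain ⟨φ, hφ⟩ := exists_stalk_cartMul I e U hg hU x hxU ω₀
    refine (mono_iff_stalk (kernel.ι ((cartMul I e).app ω₀))).1 inferInstance x ?_
    rw [map_zero]
    obtain ⟨Ω, hΩ, hnΩ, he⟩ := exists_local_normalized x (hN x hx)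
    haveI := hΩ.isNoetherianRing
    obtain ⟨eW⟩ := he (-((m + 1 : ℕ) : ℤ))
    refine eq_zero_of_smul_lowest hΩ hnΩ (m + 1) (heq x hx) (fun j hj => ?_) eW
      (BlowExistsLib.germ_mem_nonZeroDivisors U.2 x hxU hg) ?_
    · obtain ⟨ej⟩ := he j
      haveI := DCohLib.subsingleton_stalk_of_isZero (hz j hj) x
      exact ej.toEquiv.subsingleton
    · refine (hφ _).symm.trans ?_
      have h4 := LinearMap.congr_fun ((eq_zero_iff_stalk _).1 (kernel.condition ((cartMul I e).app ω₀)) x) z
      rw [stalkLin_comp, LinearMap.comp_apply, LinearMap.zero_apply] at h4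
      exact (congrArg φ h4).trans (map_zero φ)
  have hKb : Dual3.IsBddBelowQ X K := ⟨-((m + 1 : ℕ) : ℤ), (DerivedCategory.isGE_iff _ _).2 fun i hi => hz i hi.ne⟩
  let Kb : (Dual3.IsBddBelowQ X).FullSubcategory := ⟨K, hKb⟩
  obtain ⟨eR⟩ := nonempty_rightAdjoint_iso_RHomO ι (rpushQC ι) aι adjι fun N =>
    isQCohD_RHomO ι (fun j => DCohMore.isPseudoCoherentD_of_coh _ 0
      (isCohD_inD (DevLib.isCoh_pushforward_closed ι (DevLib.isCoh_structureModule I.subscheme))) j) _ N.obj.property
  obtain ⟨hR1, ⟨hR2⟩⟩ := RHomO_single_cartier I e hI ((Dual3.bddToPlus X).obj Kb) (-((m + 1 : ℕ) : ℤ)) hz hσ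
  obtain ⟨cc⟩ := DCohLib.nonempty_rpushCompIso ι f
  let ccQ : DCoh.RpushQ ι (rpushQC ι) ⋙ DCoh.RpushQ f (rpushQC f) ≅ DCoh.RpushQ (ι ≫ f) (rpushQC (ι ≫ f)) :=
    NatIso.ofComponents (fun N => ObjectProperty.isoMk _ (cc.app N.obj))
      fun φ => ObjectProperty.hom_ext _ (cc.hom.naturality φ.hom)
  let adjD := (adjι.comp adjf).ofNatIsoLeft ccQ
  let eKD : ((af ⋙ aι).obj OS).obj ≅ ((Dual3.RHomOPlus ι).obj ((Dual3.bddToPlus X).obj Kb)).obj := eR.app Kb
  let eH : ∀ q : ℤ, DCoh.HD ((af ⋙ aι).obj OS).obj q ≅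
      DCoh.HD ((Dual3.RHomOPlus ι).obj ((Dual3.bddToPlus X).obj Kb)).obj q := fun q =>
    (DerivedCategory.homologyFunctor _ q).mapIso eKD
  have hGE : ((af ⋙ aι).obj OS).obj.IsGE (-(m : ℤ)) := (DerivedCategory.isGE_iff _ _).2 fun q hq =>
    (hR1 q (by push_cast; omega)).of_iso (eH q)
  obtain ⟨trX₀, htrX₀⟩ := exists_isRDualOver_adjoint k X (rpushQC f) af adjf OS eOS (m + 1)
    ((DerivedCategory.isGE_iff _ _).2 fun i hi => hz i hi.ne)
    (fun F _ j hj => CurveLib.subsingleton_HH_of_dim F hn.le hj) (Iso.refl _)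
  obtain ⟨eωX⟩ := nonempty_iso_of_isRDualOver k htrX₀ hωX
  have hq : (-((m + 1 : ℕ) : ℤ)) + 1 = -(m : ℤ) := by push_cast; ring
  rw [hq] at hR2
  let eω : DCoh.HD ((af ⋙ aι).obj OS).obj (-(m : ℤ)) ≅
      (Scheme.Modules.pullback ι).obj (CohB1.tensorMod L ωX) :=
    eH (-(m : ℤ)) ≪≫ hR2 ≪≫ (Scheme.Modules.pullback ι).mapIso
      ((CurveLib.tensR L).mapIso eωX ≪≫ CurveLib.tmodComm ωX L)
  have hDdim : topologicalKrullDim I.subscheme ≤ (m : WithBot ℕ∞) :=
    topologicalKrullDim_le_of_closed_stalk m fun d hd => by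
      have h5 := ((cm_divisor X (m + 1) hCM heq (D := I.subscheme) ι (show BlowUp.IsEffCartierIdeal I.subschemeι.ker by rwa [Scheme.IdealSheafData.ker_subschemeι]) d).2 hd).2
      rw [h5, Nat.add_sub_cancel]
  exact exists_isRDualOver_adjoint k I.subscheme (rpushQC (ι ≫ f)) (af ⋙ aι) adjD OS eOS m hGE
    (fun F _ j hj => CurveLib.subsingleton_HH_of_dim F hDdim hj) eω

end Main

end Groth.Agent.TwistShriek
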