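import Groth.Agent.TwistShriek.SurfRR
import Groth.Agent.TwistShriek.DivisorDual
import Groth.Agent.IntLib.Divisor
import Groth.Agent.IntLib.Push
import Groth.Agent.RegLocal.UFD
import Groth.Agent.S1684

/-!
# Curves on regular surfaces
-/

set_option autoImplicit false
set_option backward.isDefEq.respectTransparency false
set_option linter.style.haveILetI false
set_option maxHeartbeats 1000000

universe u

open CategoryTheory CategoryTheory.Limits AlgebraicGeometry TopologicalSpace
open Groth.Agent.PullbackMod Groth.Agent.DCohLib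

noncomputable section

namespace Groth.Agent.TwistShriek

attribute [local instance 10] specializationOrder

/-- An integral curve on an integral regular surface is an effective Cartier divisor. -/
theorem isEffCartierIdeal_curve {k : Type u} [Field k] {X C : Scheme.{u}} (p : X ⟶ Spec (CommRingCat.of k))
    [LocallyOfFiniteType p] [CompactSpace X] [IsIntegral X] (hdim : topologicalKrullDim X = 2)
    (hreg : ∀ x : X, IsRegularLocalRing (X.presheaf.stalk x)) (i : C ⟶ X) [IsClosedImmersion i] [IsIntegral C]
    (hC : topologicalKrullDim C = 1) : BlowUp.IsEffCartierIdeal i.ker := by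
  haveI : IsLocallyNoetherian X := LocallyOfFiniteType.isLocallyNoetherian p
  haveI : IsIso i.toImage := inferInstance
  haveI : Nonempty i.ker.subscheme := ⟨i.toImage (genericPoint C)⟩
  haveI : IsIntegral i.ker.subscheme := isIntegral_of_isOpenImmersion (inv i.toImage)
  refine Groth.Agent.S1684.result X i.ker ?_ fun x _ => ?_
  swap
  · haveI := hreg x
    exact ⟨inferInstance, RegLocal.ufd _⟩
  let ι := i.ker.subschemeι
  let η := ι (genericPoint i.ker.subscheme)
  have hgen : ∀ y ∈ (i.ker.support : Set X), η ⤳ y := fun y hy => by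
    rw [← Scheme.IdealSheafData.range_subschemeι] at hy
    obtain ⟨z, rfl⟩ := hy
    exact (genericPoint_specializes z).map ι.continuous
  have hsub : topologicalKrullDim i.ker.subscheme = 1 := by
    rw [← hC]
    exact (IsHomeomorph.topologicalKrullDim_eq _ i.toImage.homeomorph.isHomeomorph).symm
  rw [ringKrullDim_stalk_eq_coheight]
  obtain ⟨x₀, hx₀, hcl⟩ := exists_closed_specialization η
  have hne : x₀ ≠ η := by
    intro h0
    subst h0
    haveI : Subsingleton i.ker.subscheme := ⟨fun a b => ι.isClosedEmbedding.injective (by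
      have ha : ι a ∈ ({η} : Set X) := ((genericPoint_specializes a).map ι.continuous).mem_closed hcl rfl
      have hb : ι b ∈ ({η} : Set X) := ((genericPoint_specializes b).map ι.continuous).mem_closed hcl rfl
      exact (Set.mem_singleton_iff.1 ha).trans (Set.mem_singleton_iff.1 hb).symm)⟩
    rw [ASp.topologicalKrullDim_eq_krullDim, Order.krullDim_eq_zero] at hsub
    exact absurd hsub (by norm_num)
  have hneg : η ≠ genericPoint X := by
    intro h0
    have huniv : ∀ y : X, y ∈ (i.ker.support : Set X) := fun y => by
      refine (h0 ▸ genericPoint_specializes y : η ⤳ y).mem_closed i.ker.support.isClosed ?_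
      rw [← Scheme.IdealSheafData.range_subschemeι]
      exact ⟨_, rfl⟩
    have hh : IsHomeomorph (ι : i.ker.subscheme → X) := (isHomeomorph_iff_isEmbedding_surjective).2
      ⟨ι.isClosedEmbedding.isEmbedding, fun y => by
        have := huniv y
        rwa [← Scheme.IdealSheafData.range_subschemeι] at this⟩
    rw [IsHomeomorph.topologicalKrullDim_eq _ hh, hdim] at hsub
    exact absurd hsub (by norm_num)
  have h1 : (1 : ℕ∞) ≤ Order.coheight η := by
    refine Order.one_le_iff_pos.2 (Order.coheight_pos.2 fun hmax => hneg ?_)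
    exact (genericPoint_specializes η).antisymm (hmax (show η ≤ genericPoint X from genericPoint_specializes η)) |>.eq.symm
  have h2 : (1 : ℕ∞) ≤ Order.height η := by
    refine Order.one_le_iff_pos.2 (Order.height_pos.2 fun hmin => hne ?_)
    exact (hx₀.antisymm (hmin (show x₀ ≤ η from hx₀))).eq.symm
  have h3 : ((Order.height η + Order.coheight η : ℕ∞) : WithBot ℕ∞) ≤ ((2 : ℕ∞) : WithBot ℕ∞) := by
    haveI : Nonempty X := ⟨η⟩
    rw [show ((2 : ℕ∞) : WithBot ℕ∞) = topologicalKrullDim X from hdim.symm, ASp.topologicalKrullDim_eq_krullDim,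
      Order.krullDim_eq_iSup_height_add_coheight_of_nonempty]
    exact WithBot.coe_le_coe.2 (le_iSup (fun a : X => Order.height a + Order.coheight a) η)
  have h4 := WithBot.coe_le_coe.1 h3
  have h5 : Order.coheight η ≤ 1 := by
    have : (1 : ℕ∞) + Order.coheight η ≤ 1 + 1 := le_trans (add_le_add_left h2 _) (le_of_le_of_eq h4 one_add_one_eq_two.symm)
    exact (ENat.add_le_add_iff_left ENat.one_ne_top).1 this
  exact congrArg WithBot.some (le_antisymm h5 h1)

variable (k : Type u) [Field k] {X C : Scheme.{u}} [X.Over (Spec (CommRingCat.of k))]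
  [IsProper (X ↘ Spec (CommRingCat.of k))]

/-- The Euler characteristic of a closed subscheme, on the ambient scheme. -/
theorem euler_quotMod_ker (i : C ⟶ X) [IsClosedImmersion i] :
    letI : C.Over (Spec (CommRingCat.of k)) := ⟨i ≫ (X ↘ Spec (CommRingCat.of k))⟩
    Curv2.euler k X (ClSub.quotMod i.ker) = Curv2.euler k C (Coh.structureModule C) := by
  letI : C.Over (Spec (CommRingCat.of k)) := ⟨i ≫ (X ↘ Spec (CommRingCat.of k))⟩
  letI : i.ker.subscheme.Over (Spec (CommRingCat.of k)) := ⟨i.ker.subschemeι ≫ (X ↘ Spec (CommRingCat.of k))⟩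
  haveI := EulerIneqLib.isNoetherian_proper (X := X) k
  haveI : IsLocallyNoetherian i.ker.subscheme := LocallyOfFiniteType.isLocallyNoetherian i.ker.subschemeι
  haveI : IsLocallyNoetherian C := LocallyOfFiniteType.isLocallyNoetherian i
  haveI : IsProper (i.ker.subscheme ↘ Spec (CommRingCat.of k)) :=
    inferInstanceAs (IsProper (i.ker.subschemeι ≫ (X ↘ Spec (CommRingCat.of k))))
  let π := i.toImage
  haveI : IsIso π := inferInstanceAs (IsIso i.toImage)
  let S := i.ker.subscheme
  haveI : Coh.IsQCoh (Coh.structureModule C) := (DevLib.isCoh_structureModule C).1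
  haveI : Coh.IsQCoh (Coh.structureModule S) := (DevLib.isCoh_structureModule S).1
  have hsupp : SuppOn π (Coh.structureModule S) :=
    { subsingleton := fun y hy => absurd (π.homeomorph.surjective y) hy
      smul_eq_zero := fun x a ha z => by
        rw [show a = 0 from (ConcreteCategory.bijective_of_isIso (π.stalkMap x)).1 (ha.trans (map_zero _).symm),
          zero_smul] }
  haveI := isIso_unit_of_suppOn π hsupp
  let u : Coh.structureModule S ≅ (Scheme.Modules.pushforward π).obj (Coh.structureModule C) :=
    asIso ((Scheme.Modules.pullbackPushforwardAdjunction π).unit.app (Coh.structureModule S)) ≪≫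
      (Scheme.Modules.pushforward π).mapIso (AmpleLib.pullO π)
  refine (IntLib.euler_push k i.ker.subschemeι rfl (Coh.structureModule S)).trans ?_
  refine (CurveLib.euler_iso (K := k) u).trans (IntLib.euler_push k π ?_ _)
  show π ≫ i.ker.subschemeι ≫ (X ↘ Spec (CommRingCat.of k)) = i ≫ (X ↘ Spec (CommRingCat.of k))
  exact (Category.assoc _ _ _).symm.trans (congrArg (· ≫ (X ↘ Spec (CommRingCat.of k))) i.toImage_imageι)

/-- Adjunction from numerical Serre duality. -/
theorem intNum_adjunction (hd : topologicalKrullDim X ≤ ((2 : ℕ) : WithBot ℕ∞)) {W : X.Modules}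
    (hW : PicF.IsInvertible W)
    (hdual : ∀ L L' : X.Modules, PicF.IsInvertible L →
      Nonempty (CohB1.tensorMod L L' ≅ Coh.structureModule X) →
      Curv2.euler k X (CohB1.tensorMod W L') = Curv2.euler k X L)
    (i : C ⟶ X) [IsClosedImmersion i] (hI : PicF.IsInvertible (ClSub.idealMod i.ker)) :
    letI : C.Over (Spec (CommRingCat.of k)) := ⟨i ≫ (X ↘ Spec (CommRingCat.of k))⟩
    FGA.intNum k X 2 ![ClSub.idealMod i.ker, ClSub.idealMod i.ker] (Coh.structureModule X) -
        FGA.intNum k X 2 ![ClSub.idealMod i.ker, W] (Coh.structureModule X) =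
      -2 * Curv2.euler k C (Coh.structureModule C) := by
  have h1 := two_mul_euler_of_duality k hd hW hdual hI
  have h2 := IntLib.pairing_quotMod k hI 1
  rw [mul_one, IntLib.pairing_one, IntLib.pairing_dif] at h2
  have h3 := euler_quotMod_ker k i
  have h4 := CurveLib.euler_iso (K := k) (AmpleLib.unitL (ClSub.idealMod i.ker))
  linarith

end Groth.Agent.TwistShriek

namespace Groth.Agent.TwistShriek

/-- The quotient by the ideal of a closed immersion is the direct image of the structure sheaf. -/
theorem nonempty_quotMod_ker_iso {X C : Scheme.{u}} [IsLocallyNoetherian X] (i : C ⟶ X) [IsClosedImmersion i] :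
    Nonempty (ClSub.quotMod i.ker ≅ (Scheme.Modules.pushforward i).obj (Coh.structureModule C)) := by
  haveI : IsLocallyNoetherian i.ker.subscheme := LocallyOfFiniteType.isLocallyNoetherian i.ker.subschemeι
  let π := i.toImage
  haveI : IsIso π := inferInstanceAs (IsIso i.toImage)
  let S := i.ker.subscheme
  haveI : Coh.IsQCoh (Coh.structureModule S) := (DevLib.isCoh_structureModule S).1
  have hsupp : SuppOn π (Coh.structureModule S) :=
    { subsingleton := fun y hy => absurd (π.homeomorph.surjective y) hy
      smul_eq_zero := fun x a ha z => by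
        rw [show a = 0 from (ConcreteCategory.bijective_of_isIso (π.stalkMap x)).1 (ha.trans (map_zero _).symm),
          zero_smul] }
  haveI := isIso_unit_of_suppOn π hsupp
  let u : Coh.structureModule S ≅ (Scheme.Modules.pushforward π).obj (Coh.structureModule C) :=
    asIso ((Scheme.Modules.pullbackPushforwardAdjunction π).unit.app (Coh.structureModule S)) ≪≫
      (Scheme.Modules.pushforward π).mapIso (AmpleLib.pullO π)
  exact ⟨(Scheme.Modules.pushforward i.ker.subschemeι).mapIso u ≪≫
    (Scheme.Modules.pushforwardComp π i.ker.subschemeι).app _ ≪≫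
    (Scheme.Modules.pushforwardCongr i.toImage_imageι).app _⟩

/-- Intersection with a curve is the degree of the restriction. -/
theorem intNum_ideal_inv_eq (k : Type u) [Field k] {X C : Scheme.{u}} [X.Over (Spec (CommRingCat.of k))]
    [IsProper (X ↘ Spec (CommRingCat.of k))] (hd : topologicalKrullDim X ≤ ((2 : ℕ) : WithBot ℕ∞)) (i : C ⟶ X)
    [IsClosedImmersion i] (hI : PicF.IsInvertible (ClSub.idealMod i.ker)) {L L' : X.Modules}
    (hL : PicF.IsInvertible L) (e : CohB1.tensorMod L L' ≅ Coh.structureModule X) :
    letI : C.Over (Spec (CommRingCat.of k)) := ⟨i ≫ (X ↘ Spec (CommRingCat.of k))⟩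
    FGA.intNum k X 2 ![ClSub.idealMod i.ker, L'] (Coh.structureModule X) =
      Curv2.euler k C ((Scheme.Modules.pullback i).obj L) - Curv2.euler k C (Coh.structureModule C) := by
  letI : C.Over (Spec (CommRingCat.of k)) := ⟨i ≫ (X ↘ Spec (CommRingCat.of k))⟩
  haveI : IsProper (C ↘ Spec (CommRingCat.of k)) := inferInstanceAs (IsProper (i ≫ (X ↘ Spec (CommRingCat.of k))))
  haveI := EulerIneqLib.isNoetherian_proper (X := X) k
  haveI := EulerIneqLib.isNoetherian_proper (X := C) k
  have hL' : PicF.IsInvertible L' := AmpleLib.isInvertible_of_tensor_iso (AmpleLib.comm L' L ≪≫ e)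
  rw [IntLib.intNum_eq k hd _ ![ClSub.idealMod i.ker, L'] (fun j => by fin_cases j <;> assumption), Fin.prod_univ_two]
  show IntLib.pairing k _ (IntLib.dif hI * IntLib.dif hL') = _
  have hO := DevLib.isCoh_structureModule X
  have h1 := IntLib.pairing_dif_inv k hL hL' e hO (r := 1)
    (lt_of_le_of_lt (Topology.IsInducing.subtypeVal.topologicalKrullDim_le.trans hd)
      (by exact_mod_cast Nat.lt_succ_self 2)) ![ClSub.idealMod i.ker] (fun j => by fin_cases j; exact hI)
  rw [Fin.prod_univ_one] at h1
  rw [mul_comm]
  refine h1.trans ?_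
  show -IntLib.pairing k _ (IntLib.dif hL * IntLib.dif hI) = _
  rw [mul_comm, ← IntLib.pairing_quotMod k hI, IntLib.pairing_dif, euler_quotMod_ker k i]
  obtain ⟨f⟩ := nonempty_quotMod_ker_iso i
  have h2 : Curv2.euler k X (CohB1.tensorMod (ClSub.quotMod i.ker) L) =
      Curv2.euler k C ((Scheme.Modules.pullback i).obj L) :=
    ((CurveLib.euler_iso (K := k) (((DCoh.tensorBi (X := X)).mapIso f).app L)).trans
      (IntLib.euler_push_tensor k (i := i) rfl (DevLib.isCoh_structureModule C) hL)).trans
      (CurveLib.euler_iso (K := k) (AmpleLib.unitL _))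
  rw [h2]
  ring

end Groth.Agent.TwistShriek
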