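import Groth.Agent.TwistShriek.DivisorDual
import Groth.Agent.IntLib.Restrict
import Groth.Agent.CurveLib.Deg
import Groth.Agent.H1ZeroLib.Twist
import Groth.Agent.CliffCurveLib.Basic
import Groth.Agent.FlatDepth.Basic

/-!
# The intersection number of two divisors on a Cohen–Macaulay surface
-/

set_option autoImplicit false
set_option backward.isDefEq.respectTransparency false
set_option linter.style.haveILetI false
set_option maxHeartbeats 1000000

universe u

open CategoryTheory CategoryTheory.Limits AlgebraicGeometry TopologicalSpace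
open Groth.Agent.PullbackMod Groth.Agent.DCohLib Groth.Agent.H1ZeroLib
open scoped TensorProduct

noncomputable section

namespace Groth.Agent.TwistShriek

/-- Points of finite closed subsets of Jacobson spaces are closed. -/
theorem isClosed_singleton_of_mem_finite {T : Type u} [TopologicalSpace T] [JacobsonSpace T] {Z : Set T}
    (hZ : IsClosed Z) (hfin : Z.Finite) {x : T} (hx : x ∈ Z) : IsClosed ({x} : Set T) := by
  have hsub : closure {x} ⊆ Z := hZ.closure_subset_iff.2 (Set.singleton_subset_iff.2 hx)
  have hd := closure_inter_closedPoints (isClosed_closure (s := ({x} : Set T)))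
  have hfin' : (closure ({x} : Set T) ∩ closedPoints T).Finite := hfin.subset fun y hy => hsub hy.1
  have hcl : IsClosed (closure ({x} : Set T) ∩ closedPoints T) := by
    rw [← Set.biUnion_of_singleton (closure ({x} : Set T) ∩ closedPoints T)]
    exact hfin'.isClosed_biUnion fun y hy => hy.2
  rw [hcl.closure_eq] at hd
  exact (hd.symm.subset (subset_closure (Set.mem_singleton x))).2

/-- A finite closed subset of a Jacobson space has dimension zero. -/
theorem topologicalKrullDim_finite_le {T : Type u} [TopologicalSpace T] [JacobsonSpace T] {Z : Set T}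
    (hZ : IsClosed Z) (hfin : Z.Finite) : topologicalKrullDim Z ≤ 0 := by
  haveI := hfin.to_subtype
  haveI : T1Space Z := ⟨fun z => by
    have := (isClosed_singleton_of_mem_finite hZ hfin z.2).preimage (continuous_subtype_val (p := (· ∈ Z)))
    convert this using 1
    ext w
    simp [Subtype.ext_iff]⟩
  refine Order.krullDim_nonpos_iff_forall_isMax.2 fun a => ?_
  intro b hab
  have : ∀ c : IrreducibleCloseds Z, ∃ z, (c : Set Z) = {z} := fun c => by
    have h := c.isIrreducible
    obtain ⟨z, hz⟩ := (isPreirreducible_iff_subsingleton (S := (c : Set Z))).1 h.2 |>.eq_empty_or_singleton.resolve_left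
      h.1.ne_empty
    exact ⟨z, hz⟩
  obtain ⟨z, hz⟩ := this a
  obtain ⟨w, hw⟩ := this b
  intro y hy
  have hy' : y ∈ ({w} : Set Z) := hw ▸ hy
  have hzw : z ∈ ({w} : Set Z) := hw ▸ hab (show z ∈ (a : Set Z) by rw [hz]; exact rfl)
  show y ∈ (a : Set Z)
  rw [hz, Set.mem_singleton_iff.1 hy', Set.mem_singleton_iff.1 hzw]
  exact rfl

variable {X : Scheme.{u}}

/-- The tensor product of two quotients of the structure sheaf. -/
theorem nonempty_quotMod_tensor (A B : X.IdealSheafData) :
    Nonempty (tmod (ClSub.quotMod A) (ClSub.quotMod B) ≅ ClSub.quotMod (A ⊔ B)) := by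
  let φ : ClSub.quotMod B ⟶ ClSub.quotMod (A ⊔ B) := qmap le_sup_right
  have hs : ∀ x, Function.Surjective (stalkLin φ x) := surjective_qmap _
  have hkill : ∀ x (n : (ClSub.quotMod A).presheaf.stalk x) (a : (ClSub.quotMod B).presheaf.stalk x),
      stalkLin φ x a = 0 → n ⊗ₜ[X.presheaf.stalk x] a = 0 := fun x n a ha => by
    obtain ⟨r, rfl⟩ := qv_surjective B x a
    rw [stalk_qmap, qv_eq_zero_iff, stalkIdeal_sup] at ha
    obtain ⟨c, hc, d, hd, rfl⟩ := Submodule.mem_sup.1 ha
    have h1 : qv B x (c + d) = c • qv B x 1 := by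
      rw [qv, add_smul, map_add, show stalkLin (ClSub.toSubscheme B) x (d • ParaFLib.oneG x) = 0 from
        (qv_eq_zero_iff B x d).2 hd, add_zero]
      exact qv_eq_smul B x c
    rw [h1, ← TensorProduct.smul_tmul, killed_quotMod A x c hc n, TensorProduct.zero_tmul]
  haveI := isIso_mulR (N := ClSub.quotMod A) φ hs hkill
  have hk : Killed A (ClSub.quotMod (A ⊔ B)) := fun x r hr n =>
    killed_quotMod (A ⊔ B) x r (stalkIdeal_mono le_sup_left x hr) n
  let e₁ : tmod (ClSub.quotMod A) (ClSub.quotMod B) ≅ tmod (ClSub.quotMod A) (ClSub.quotMod (A ⊔ B)) :=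
    asIso (((DCoh.tensorBi (X := X)).obj (ClSub.quotMod A)).map φ)
  let e₂ := CliffCurveLib.killedIso hk
  exact ⟨e₁ ≪≫ e₂⟩

variable (k : Type u) [Field k] [X.Over (Spec (CommRingCat.of k))] [IsProper (X ↘ Spec (CommRingCat.of k))]

/-- Divisors with finite intersection on a Cohen–Macaulay surface meet in as many points as their number. -/
theorem intNum_eq_finrank_inter (hd : topologicalKrullDim X ≤ ((2 : ℕ) : WithBot ℕ∞))
    (hCM : ∀ x : X, LocCoh.IsCohenMacaulayLocalRing (X.presheaf.stalk x))
    (heq : ∀ x : X, IsClosed ({x} : Set ↥X) → ringKrullDim (X.presheaf.stalk x) = (2 : ℕ))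
    (IC ID : X.IdealSheafData) (hC : BlowUp.IsEffCartierIdeal IC) (hD : BlowUp.IsEffCartierIdeal ID)
    (hfin : ((IC ⊔ ID).support : Set X).Finite) :
    FGA.intNum k X 2 ![ClSub.idealMod IC, ClSub.idealMod ID] (Coh.structureModule X) =
      (Module.finrank k (Coh.HH X (ClSub.quotMod (IC ⊔ ID)) 0) : ℤ) := by
  haveI := EulerIneqLib.isNoetherian_proper (X := X) k
  haveI := LocallyOfFiniteType.jacobsonSpace (X ↘ Spec (CommRingCat.of k))
  haveI : JacobsonSpace ↥(Spec (CommRingCat.of k)) := inferInstance
  have hIC : PicF.IsInvertible (ClSub.idealMod IC) := (S8914.result IC).2 hC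
  have hID : PicF.IsInvertible (ClSub.idealMod ID) := (S8914.result ID).2 hD
  have hassO : ∀ x ∈ ID.support, ¬ Curv2.IsAssPoint (Coh.structureModule X) x := by
    intro x hx hass
    obtain ⟨z, rfl⟩ : ∃ z, ID.subschemeι z = x := by
      have h : x ∈ Set.range ID.subschemeι := by rw [Scheme.IdealSheafData.range_subschemeι]; exact hx
      exact h
    obtain ⟨f, hf, hm, -⟩ := exists_stalk_divisor X ID.subschemeι
      (show BlowUp.IsEffCartierIdeal ID.subschemeι.ker by rwa [Scheme.IdealSheafData.ker_subschemeι]) z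
    obtain ⟨hp, m, hm'⟩ := isAssociatedPrime_iff.1 ((AssLib.isAssPoint_structureModule_iff _).1 hass)
    have h1 : m * f = 0 := by
      have h2 : f ∈ Submodule.colon ⊥ {m} := hm' ▸ hm
      rw [Submodule.mem_colon_singleton, Submodule.mem_bot, smul_eq_mul] at h2
      rwa [mul_comm]
    refine hp.ne_top (hm'.trans (eq_top_iff.2 fun a _ => ?_))
    rw [Submodule.mem_colon_singleton, Submodule.mem_bot, (mul_right_mem_nonZeroDivisors_eq_zero_iff hf).1 h1, smul_zero]
  have hassQ : ∀ x ∈ IC.support, ¬ Curv2.IsAssPoint (ClSub.quotMod ID) x := by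
    intro x hx hass
    haveI : Coh.IsQCoh (Coh.structureModule ID.subscheme) := (DevLib.isCoh_structureModule ID.subscheme).1
    haveI : IsLocallyNoetherian ID.subscheme := LocallyOfFiniteType.isLocallyNoetherian ID.subschemeι
    obtain ⟨z, rfl, hz⟩ := AssLib.exists_isWeakAssPoint_of_push ID.subschemeι (Coh.structureModule ID.subscheme)
      ((AssLib.isWeakAssPoint_iff_isAssPoint _ _).2 hass)
    have hz' := (AssLib.isAssPoint_structureModule_iff z).1 ((AssLib.isWeakAssPoint_iff_isAssPoint _ _).1 hz)
    have hxZ : ID.subschemeι z ∈ ((IC ⊔ ID).support : Set X) := by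
      rw [SetLike.mem_coe, mem_support_iff_stalk, stalkIdeal_sup]
      exact fun h => (IsLocalRing.maximalIdeal.isMaximal (X.presheaf.stalk (ID.subschemeι z))).ne_top
        (top_le_iff.1 (h ▸ sup_le (stalkIdeal_le_maximal hx) (stalkIdeal_le_maximal (by
          rw [← SetLike.mem_coe, ← Scheme.IdealSheafData.range_subschemeι]; exact ⟨z, rfl⟩))))
    have hxc := isClosed_singleton_of_mem_finite (IC ⊔ ID).support.isClosed hfin hxZ
    have hzc : IsClosed ({z} : Set ID.subscheme) := by
      have h := hxc.preimage ID.subschemeι.continuous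
      convert h using 1
      ext w
      exact ⟨fun h => by simp [Set.mem_singleton_iff.1 h],
        fun h => ID.subschemeι.isClosedEmbedding.injective (Set.mem_singleton_iff.1 h)⟩
    obtain ⟨hcm, hdim⟩ := cm_divisor X 2 hCM heq ID.subschemeι
      (show BlowUp.IsEffCartierIdeal ID.subschemeι.ker by rwa [Scheme.IdealSheafData.ker_subschemeι]) z
    obtain ⟨-, hdim⟩ := hdim hzc
    have h1 := hcm.supportDim_eq_depth
    rw [Module.supportDim_self_eq_ringKrullDim, hdim] at h1
    have h2 : (LocCoh.depth (ID.subscheme.presheaf.stalk z) (ID.subscheme.presheaf.stalk z) : ℕ∞) = 0 := by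
      obtain ⟨hp, m, hm⟩ := isAssociatedPrime_iff.1 hz'
      refine FlatDepth.depth_eq_zero_iff.2 ⟨m, fun h0 => hp.ne_top (hm.trans (eq_top_iff.2 fun a _ => by
        rw [Submodule.mem_colon_singleton, Submodule.mem_bot, h0, smul_zero])), fun r hr => ?_⟩
      rw [hm, Submodule.mem_colon_singleton, Submodule.mem_bot] at hr
      exact hr
    rw [h2] at h1
    exact absurd (WithBot.coe_injective h1) (by norm_num)
  rw [IntLib.intNum_eq k hd _ ![ClSub.idealMod IC, ClSub.idealMod ID] (fun i => by fin_cases i <;> assumption),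
    Fin.prod_univ_two]
  show IntLib.pairing k (Coh.structureModule X) (IntLib.dif hIC * IntLib.dif hID) = _
  rw [mul_comm, ← IntLib.pairing_tensor_quotMod k hID (DevLib.isCoh_structureModule X) hassO,
    IntLib.pairing_iso k (AmpleLib.unitL (ClSub.quotMod ID)), ← mul_one (IntLib.dif hIC),
    ← IntLib.pairing_tensor_quotMod k hIC (IntLib.isCoh_quotMod ID) hassQ, IntLib.pairing_one]
  obtain ⟨e⟩ := nonempty_quotMod_tensor ID IC
  refine (CurveLib.euler_iso (K := k) e).trans ?_
  rw [sup_comm ID IC]
  exact CurveLib.euler_of_dim_le_zero (IC ⊔ ID).support.isClosed (IntLib.support_quotMod_subset _)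
    (topologicalKrullDim_finite_le (IC ⊔ ID).support.isClosed hfin)

end Groth.Agent.TwistShriek
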