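import Groth.Agent.TwistShriek.SurfRR
import Groth.Agent.TwistShriek.SurfCurve
import Groth.Agent.TwistShriek.SurfInter
import Groth.Agent.NakaiLib.Strict
import Groth.Agent.AmpleLib.Basis
import Groth.Agent.AmpleEmb.TwistOne
import Groth.Agent.AmpleEmb.SectionsGe
import Groth.Agent.CurveLib.Deg
import Groth.Agent.ASp.GeomRedEt
import Groth.Agent.ASp.ChartDim
import Groth.Agent.S10881
import Groth.Agent.S0025
import Groth.Agent.S2354
import Groth.Agent.S0234
import Groth.Agent.S6039

/-!
# Proper regular surfaces over a field are projective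
-/

set_option autoImplicit false
set_option backward.isDefEq.respectTransparency false
set_option maxHeartbeats 2000000
set_option linter.style.haveILetI false

universe u

open CategoryTheory CategoryTheory.Limits AlgebraicGeometry TopologicalSpace Opposite
open Groth.Agent.PullbackMod Groth.Agent.DCohLib Groth.Agent.AmpleLib
open Groth.Agent.IntLib (PicRing pairing dif inv')

noncomputable section

namespace Groth.Agent.TwistShriek

attribute [local instance 10] specializationOrder

/-- Projective space over an affine base has an ample module. -/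
theorem exists_isAmple_projSpaceOver (n : ℕ) (S : Scheme.{u}) [IsAffine S] :
    ∃ P : (CohB1.ProjSpaceOver n S).Modules, CohB1.IsAmple P := by
  let g : CohB1.ProjSpaceOver n S ⟶ CohB1.ProjSpace n (ULift.{u} ℤ) := pullback.fst _ _
  haveI : IsAffineHom (specULiftZIsTerminal.from S) := isAffineHom_of_isAffine _
  haveI : IsAffineHom g := MorphismProperty.pullback_fst _ _ inferInstance
  exact ⟨_, isAmple_pullback g (AmpleEmb.isAmple_twistOne n (ULift.{u} ℤ))⟩

variable {k : Type u} [Field k] {X : Scheme.{u}}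

/-- A proper integral scheme, regular in codimension one, is quasi-projective off codimension two. -/
theorem exists_quasiProjective_open (f : X ⟶ Spec (CommRingCat.of k)) [IsProper f] [IsIntegral X]
    (hreg : ∀ x : X, IsRegularLocalRing (X.presheaf.stalk x)) :
    ∃ (V : X.Opens) (P : (V : Scheme.{u}).Modules),
      (∀ x : X, ringKrullDim (X.presheaf.stalk x) ≤ 1 → x ∈ V) ∧ CohB1.IsAmple P := by
  haveI : IsLocallyNoetherian X := LocallyOfFiniteType.isLocallyNoetherian f
  haveI : CompactSpace X := QuasiCompact.compactSpace_of_compactSpace f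
  haveI : IsNoetherian X := ⟨⟩
  obtain ⟨n, X', π, j, hj, -, hπ, -, U, hU, hiso⟩ := Groth.Agent.S0025.result f
  haveI := hπ
  haveI := hiso
  haveI := hj
  obtain ⟨V, -, s, hs, -, hV⟩ := Groth.Agent.S2354.result (fun y _ => hreg y) π π.isClosedMap U hU
    (inv (π ∣_ U) ≫ (π ⁻¹ᵁ U).ι) (by rw [Category.assoc, ← morphismRestrict_ι, IsIso.inv_hom_id_assoc])
  obtain ⟨P, hP⟩ := exists_isAmple_projSpaceOver n (Spec (CommRingCat.of k))
  haveI : IsImmersion (s ≫ π) := by rw [hs]; infer_instance
  haveI : IsImmersion s := IsImmersion.of_comp s π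
  haveI : CompactSpace (V : Scheme.{u}) := isCompact_iff_compactSpace.1 (NoetherianSpace.isCompact (V : Set X))
  exact ⟨V, _, hV, isAmple_pullback_of_isInducing (s ≫ j) (s ≫ j).isEmbedding.isInducing hP⟩

/-- Sections extend from a big open subset. -/
theorem isIso_restrictUnit {M : X.Modules} (V : X.Opens)
    (h : ∀ W : X.Opens, Function.Bijective (M.val.map (homOfLE (inf_le_left : W ⊓ V ≤ W)).op).hom) :
    IsIso ((Scheme.Modules.restrictAdjunction V.ι).unit.app M) := by
  refine Scheme.Modules.Hom.isIso_iff_isIso_app.2 fun W => ?_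
  rw [Scheme.Modules.restrictAdjunction_unit_app_app, ConcreteCategory.isIso_iff_bijective]
  have e : V.ι ''ᵁ V.ι ⁻¹ᵁ W = W ⊓ V := by
    rw [Scheme.Hom.image_preimage_eq_opensRange_inf, Scheme.Opens.opensRange_ι, inf_comm]
  have : (homOfLE (V.ι.image_preimage_le W)).op = (homOfLE (inf_le_left : W ⊓ V ≤ W)).op ≫ (eqToHom e).op :=
    Subsingleton.elim _ _
  rw [this, Functor.map_comp]
  exact (ConcreteCategory.bijective_of_isIso (M.presheaf.map (eqToHom e).op)).comp (h W)

/-- A section of the restriction to a big open extends. -/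
theorem exists_extend_hom {M : X.Modules} (V : X.Opens)
    (h : ∀ W : X.Opens, Function.Bijective (M.val.map (homOfLE (inf_le_left : W ⊓ V ≤ W)).op).hom)
    {A : X.Modules} (t : (Scheme.Modules.pullback V.ι).obj A ⟶ (Scheme.Modules.pullback V.ι).obj M) :
    ∃ s : A ⟶ M, (Scheme.Modules.pullback V.ι).map s = t := by
  haveI := isIso_restrictUnit V h
  let E := Scheme.Modules.restrictFunctorIsoPullback V.ι
  let a := Scheme.Modules.restrictAdjunction V.ι
  obtain ⟨t', ht'⟩ : ∃ t' : (Scheme.Modules.restrictFunctor V.ι).obj A ⟶ (Scheme.Modules.restrictFunctor V.ι).obj M,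
      t' = E.hom.app A ≫ t ≫ E.inv.app M := ⟨_, rfl⟩
  refine ⟨a.homEquiv _ _ t' ≫ inv (a.unit.app M), ?_⟩
  have h1 : (Scheme.Modules.restrictFunctor V.ι).map (a.homEquiv _ _ t' ≫ inv (a.unit.app M)) = t' := by
    apply (a.homEquiv _ _).injective
    rw [Adjunction.homEquiv_unit, a.unit_naturality, Category.assoc]
    exact (congrArg (fun z => a.homEquiv _ _ t' ≫ z) (IsIso.inv_hom_id (a.unit.app M))).trans (Category.comp_id _)
  rw [← cancel_epi (E.hom.app A), ← E.hom.naturality, h1, ht', Category.assoc, Category.assoc, Iso.inv_hom_id_app,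
    Category.comp_id]

/-- **Zariski–Goodman**: a proper regular surface over a field has an ample module. -/
theorem exists_ample_of_regular [X.Over (Spec (CommRingCat.of k))] [IsProper (X ↘ Spec (CommRingCat.of k))]
    [IsIntegral X] (hdim : topologicalKrullDim X = 2) (hreg : ∀ x : X, IsRegularLocalRing (X.presheaf.stalk x)) :
    ∃ H : X.Modules, CohB1.IsAmple H := by
  haveI := EulerIneqLib.isNoetherian_proper (X := X) k
  haveI : CompactSpace X := QuasiCompact.compactSpace_of_compactSpace (X ↘ Spec (CommRingCat.of k))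
  haveI : JacobsonSpace X := LocallyOfFiniteType.jacobsonSpace (X ↘ Spec (CommRingCat.of k))
  obtain ⟨V, P, hV, hP⟩ := exists_quasiProjective_open (X ↘ Spec (CommRingCat.of k)) hreg
  -- the complement consists of closed points
  have hclosed : ∀ x : X, x ∉ V → IsClosed ({x} : Set X) := fun x hx => by
    by_contra hnc
    refine hx (hV x ?_)
    rw [ringKrullDim_stalk_eq_coheight]
    obtain ⟨x₀, hx₀, hcl⟩ := exists_closed_specialization x
    have h2 : (1 : ℕ∞) ≤ Order.height x := by
      refine Order.one_le_iff_pos.2 (Order.height_pos.2 fun hmin => hnc ?_)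
      exact (hx₀.antisymm (hmin (show x₀ ≤ x from hx₀))).eq ▸ hcl
    have h3 : ((Order.height x + Order.coheight x : ℕ∞) : WithBot ℕ∞) ≤ ((2 : ℕ∞) : WithBot ℕ∞) := by
      haveI : Nonempty X := ⟨x⟩
      rw [show ((2 : ℕ∞) : WithBot ℕ∞) = topologicalKrullDim X from hdim.symm, ASp.topologicalKrullDim_eq_krullDim,
        Order.krullDim_eq_iSup_height_add_coheight_of_nonempty]
      exact WithBot.coe_le_coe.2 (le_iSup (fun a : X => Order.height a + Order.coheight a) x)
    have : (1 : ℕ∞) + Order.coheight x ≤ 1 + 1 :=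
      le_trans (add_le_add_left h2 _) (le_of_le_of_eq (WithBot.coe_le_coe.1 h3) one_add_one_eq_two.symm)
    exact WithBot.coe_le_coe.2 ((ENat.add_le_add_iff_left ENat.one_ne_top).1 this)
  obtain ⟨L, hL, ⟨e⟩⟩ := Groth.Agent.S0234.result X V P hP.1 fun x _ => haveI := hreg x; RegLocal.ufd _
  let e' : (Scheme.Modules.pullback V.ι).obj L ≅ P := ((Scheme.Modules.restrictFunctorIsoPullback V.ι).app L).symm ≪≫ e
  have hdepth : ∀ m (W : X.Opens), Function.Bijective
      ((CohB1.tensorPow L m).val.map (homOfLE (inf_le_left : W ⊓ V ≤ W)).op).hom := fun m => by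
    have hM := isInvertible_tensorPow hL m
    refine (Groth.Agent.S6039.result X V _ (CurveLib.isCoh_of_isInvertible hM)).1 fun x hx => ?_
    obtain ⟨g, hg⟩ := ParaFLib.exists_stalk_gen hM x
    rw [Depth.depth_congr (LinearEquiv.ofBijective (LinearMap.toSpanSingleton _ _ g) hg).symm]
    haveI := hreg x
    obtain ⟨-, hdepth⟩ : ringKrullDim (X.presheaf.stalk x) = (2 : ℕ) ∧
        (2 : ℕ∞) ≤ LocCoh.depth (X.presheaf.stalk x) (X.presheaf.stalk x) := by
      have h2 := dim_closed_point_integral (X ↘ Spec (CommRingCat.of k)) (n := 2) hdim x (hclosed x hx)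
      have h := (S10881.cm_of_regular (X.presheaf.stalk x)).supportDim_eq_depth
      rw [Module.supportDim_self_eq_ringKrullDim, h2] at h
      exact ⟨h2, le_of_eq (WithBot.coe_injective h)⟩
    exact hdepth
  -- sections separating a curve from a point on it
  have hsep : ∀ (ξ : X), ¬ IsClosed ({ξ} : Set X) → ∃ (m : ℕ) (s : Coh.structureModule X ⟶ CohB1.tensorPow L (m + 1))
      (c : X), ξ ∈ CohB1.genLocus _ s ∧ c ∈ closure ({ξ} : Set X) ∧ c ∉ CohB1.genLocus _ s := by
    intro ξ hξ
    have hξV : ξ ∈ V := by_contra fun h => hξ (hclosed ξ h)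
    obtain ⟨c, hcV, hcξ, hne⟩ : ∃ c ∈ V, ξ ⤳ c ∧ ¬ c ⤳ ξ := by
      obtain ⟨c, hc, hcl⟩ := nonempty_inter_closedPoints
        (⟨ξ, subset_closure rfl, hξV⟩ : (closure ({ξ} : Set X) ∩ (V : Set X)).Nonempty)
        (isClosed_closure.isLocallyClosed.inter V.isOpen.isLocallyClosed)
      refine ⟨c, hc.2, specializes_iff_mem_closure.2 hc.1, fun h => hξ ?_⟩
      have := (h.antisymm (specializes_iff_mem_closure.2 hc.1)).eq
      rw [← this]
      exact hcl
    let O : (V : Scheme.{u}).Opens := ⟨(closure {(⟨c, hcV⟩ : V)})ᶜ, isClosed_closure.isOpen_compl⟩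
    obtain ⟨m, t, htξ, htO, -⟩ := exists_small_genLocus hP (U := O) (x := ⟨ξ, hξV⟩) fun h =>
      hne ((specializes_iff_mem_closure.2 h).map V.ι.continuous)
    let ep := pullPow V.ι L (m + 1) ≪≫ AmpleLib.powCongr e' (m + 1)
    obtain ⟨s, hs⟩ := exists_extend_hom V (hdepth (m + 1)) ((pullO V.ι).hom ≫ t ≫ ep.inv)
    have hgl : V.ι ⁻¹ᵁ CohB1.genLocus _ s = CohB1.genLocus _ t := by
      rw [← genLocus_pullS V.ι (isInvertible_tensorPow hL _),
        show pullS V.ι s = t ≫ ep.inv by rw [pullS, hs, Iso.inv_hom_id_assoc]]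
      exact genLocus_comp_iso t ep.symm
    refine ⟨m, s, c, ?_, specializes_iff_mem_closure.1 hcξ, fun hcs => ?_⟩
    · show (⟨ξ, hξV⟩ : V) ∈ V.ι ⁻¹ᵁ CohB1.genLocus _ s
      rw [hgl]; exact htξ
    · have hc' : (⟨c, hcV⟩ : V) ∈ CohB1.genLocus _ t := hgl ▸ hcs
      exact htO hc' (subset_closure rfl)
  have hsepJ : ∀ (ξ : X) (i : (Scheme.IdealSheafData.vanishingIdeal (⟨closure {ξ}, isClosed_closure⟩ : Closeds X)).subscheme ⟶ X),
      i = (Scheme.IdealSheafData.vanishingIdeal (⟨closure {ξ}, isClosed_closure⟩ : Closeds X)).subschemeι →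
      ¬ IsClosed ({ξ} : Set X) → ∃ (m : ℕ) (t : Coh.structureModule _ ⟶ (Scheme.Modules.pullback i).obj (CohB1.tensorPow L (m + 1))),
        t ≠ 0 ∧ ¬ IsIso t := by
    intro ξ i hi hξ
    obtain ⟨m, s, c, hsξ, hcξ, hcs⟩ := hsep ξ hξ
    have hrange : Set.range i = closure {ξ} := by rw [hi]; exact Nakai.range_vanishing ξ
    have hinv := isInvertible_pullback i (isInvertible_tensorPow hL (m + 1))
    have hgl := genLocus_pullS i (isInvertible_tensorPow hL _) s
    obtain ⟨a, ha⟩ : ξ ∈ Set.range i := by rw [hrange]; exact subset_closure rfl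
    obtain ⟨b, hb⟩ : c ∈ Set.range i := by rw [hrange]; exact hcξ
    refine ⟨m, pullS i s, fun h0 => ?_, fun hiso => ?_⟩
    · have hmem : a ∈ CohB1.genLocus _ (pullS i s) := by rw [hgl, Scheme.Hom.mem_preimage, ha]; exact hsξ
      rw [h0] at hmem
      refine AmpleEmb.not_mem_genLocus_zero hinv a ?_
      rwa [show DCohLib.secHom ((Scheme.Modules.pullback i).obj (CohB1.tensorPow L (m + 1))) 0 = 0 from ?_]
      apply (SheafOfModules.unitHomEquiv _).injective
      ext U
      simp [DCohLib.secHom]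
      rfl
    · have hmem : b ∈ CohB1.genLocus _ (pullS i s) := by
        haveI := hiso
        rw [show pullS i s = 𝟙 _ ≫ (asIso (pullS i s)).hom by simp, genLocus_comp_iso, genLocus_id]
        trivial
      rw [hgl] at hmem
      exact hcs (hb ▸ hmem)
  have hstrict : Nakai.StrictP k hL := fun ξ hξ => by
    let J := Scheme.IdealSheafData.vanishingIdeal (⟨closure {ξ}, isClosed_closure⟩ : Closeds X)
    have hnc : ¬ IsClosed ({ξ} : Set X) := fun h => by
      rw [h.closure_eq] at hξ
      have h0 := topologicalKrullDim_finite_le h (Set.finite_singleton ξ)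
      rw [hξ] at h0
      exact absurd h0 (by norm_num)
    obtain ⟨m, t, ht, hti⟩ := hsepJ ξ J.subschemeι rfl hnc
    letI : J.subscheme.Over (Spec (CommRingCat.of k)) := ⟨J.subschemeι ≫ (X ↘ Spec (CommRingCat.of k))⟩
    haveI : IsProper (J.subscheme ↘ Spec (CommRingCat.of k)) :=
      (inferInstanceAs (IsProper (J.subschemeι ≫ (X ↘ Spec (CommRingCat.of k)))))
    haveI := EulerIneqLib.isNoetherian_proper (X := J.subscheme) k
    haveI := CurveLib.isIntegral_vanishingIdeal (X := X) (C := closure {ξ}) isClosed_closure isIrreducible_singleton.closure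
    have hdJ : topologicalKrullDim J.subscheme = ((1 : ℕ) : WithBot ℕ∞) := (Nakai.dim_vanishing ξ).trans hξ
    have hM := isInvertible_tensorPow hL (m + 1)
    have hMJ := isInvertible_pullback J.subschemeι hM
    obtain ⟨h1, h2⟩ := CurveLib.deg_le_of_ne_zero (k := k) hdJ.le ParaFLib.isInvertible_structureModule hMJ ht
    rw [CurveLib.deg_structureModule] at h1 h2
    have hpos : 0 < Curv2.deg k J.subscheme ((Scheme.Modules.pullback J.subschemeι).obj (CohB1.tensorPow L (m + 1))) 1 :=
      lt_of_le_of_ne h1 fun h => hti (h2 h)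
    have hQ := IntLib.isCoh_quotMod J
    have hdQ : topologicalKrullDim (CohB1.support (ClSub.quotMod J)) < ((1 + 1 : ℕ) : WithBot ℕ∞) :=
      Nakai.dim_supp_quotMod (d := 1) (by rw [Scheme.IdealSheafData.coe_support_vanishingIdeal]; exact hξ)
    have hp : pairing k (ClSub.quotMod J) (Nakai.cl hM) =
        Curv2.deg k J.subscheme ((Scheme.Modules.pullback J.subschemeι).obj (CohB1.tensorPow L (m + 1))) 1 := by
      refine (Nakai.pairing_push k J.subschemeι rfl (DevLib.isCoh_structureModule J.subscheme) _).trans ?_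
      rw [Nakai.pullRing_cl, Nakai.pairing_cl, CurveLib.euler_iso (K := k) (AmpleLib.unitL _)]
      show _ = _ - ((1 : ℕ) : ℤ) * _
      rw [Nat.cast_one, one_mul]
    rw [Nakai.pairing_congr k (Nakai.cl_tensorPow_sub_mem hL (m + 1)) hQ hdQ, ← nsmul_eq_mul, map_nsmul,
      nsmul_eq_mul] at hp
    show 0 < pairing k (IntLib.compMod ξ) (Nakai.cl hL)
    rw [← hp] at hpos
    exact pos_of_mul_pos_right hpos (Nat.cast_nonneg _)
  refine ⟨L, Nakai.isAmple_of_sections k hstrict fun ξ => ?_⟩
  let J := Scheme.IdealSheafData.vanishingIdeal (⟨closure {ξ}, isClosed_closure⟩ : Closeds X)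
  by_cases hξ : IsClosed ({ξ} : Set X)
  · have hrange : Set.range J.subschemeι = closure {ξ} := Nakai.range_vanishing ξ
    rw [hξ.closure_eq] at hrange
    obtain ⟨a, ha⟩ : ξ ∈ Set.range J.subschemeι := by rw [hrange]; rfl
    have hsub : ∀ b : J.subscheme, b = a := fun b =>
      J.subschemeι.isEmbedding.injective ((Set.mem_singleton_iff.1 (hrange ▸ ⟨b, rfl⟩ : J.subschemeι b ∈ ({ξ} : Set X))).trans ha.symm)
    have hP1 := isInvertible_tensorPow (isInvertible_pullback J.subschemeι hL) (0 + 1)
    obtain ⟨W, g, haW, hg⟩ := ParaFLib.exists_gen_nhd hP1 a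
    have hW : W = ⊤ := Opens.ext (Set.eq_univ_of_forall fun b => hsub b ▸ haW)
    subst hW
    refine ⟨0, DCohLib.secHom _ g, fun h0 => ?_⟩
    have hmem : a ∈ CohB1.genLocus _ (DCohLib.secHom _ g) := (mem_genLocus_iff hP1).2 (by
      rw [sec_secHom]; exact hg.bijective_germ a haW)
    rw [h0] at hmem
    refine AmpleEmb.not_mem_genLocus_zero hP1 a ?_
    rwa [show DCohLib.secHom (CohB1.tensorPow ((Scheme.Modules.pullback J.subschemeι).obj L) (0 + 1)) 0 = 0 from ?_]
    apply (SheafOfModules.unitHomEquiv _).injective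
    ext U
    simp [DCohLib.secHom]
    rfl
  · obtain ⟨m, t, ht, -⟩ := hsepJ ξ J.subschemeι rfl hξ
    exact ⟨m, t ≫ (pullPow J.subschemeι L (m + 1)).hom, fun h0 => ht ((cancel_mono (pullPow J.subschemeι L (m + 1)).hom).1 (h0.trans zero_comp.symm))⟩

/-- A proper smooth surface over a field has an ample module. -/
theorem exists_ample_of_smooth [X.Over (Spec (CommRingCat.of k))] [IsProper (X ↘ Spec (CommRingCat.of k))]
    [Smooth (X ↘ Spec (CommRingCat.of k))] [IsIntegral X] (hdim : topologicalKrullDim X = 2) :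
    ∃ H : X.Modules, CohB1.IsAmple H :=
  exists_ample_of_regular (k := k) hdim fun x => ASp.isRegularLocalRing_stalk_of_smooth_field (X ↘ Spec (CommRingCat.of k)) x

end Groth.Agent.TwistShriek
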