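import Mathlib

/-!
# Linear algebra of hyperbolic and negative definite forms
-/

set_option autoImplicit false

open Finset Filter
open scoped Topology

namespace Groth.Agent.TwistShriek.NumForm

section Approx

variable {ι : Type*}

/-- Integral points approximate real points up to scaling. -/
theorem tendsto_floor (c : ι → ℝ) :
    Tendsto (fun m : ℕ => fun i => (⌊(m : ℝ) * c i⌋ : ℝ) / m) atTop (𝓝 c) := by
  refine tendsto_pi_nhds.2 fun i => ?_
  have h0 : Tendsto (fun m : ℕ => (1 : ℝ) / m) atTop (𝓝 0) := tendsto_one_div_atTop_nhds_zero_nat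
  refine tendsto_of_tendsto_of_tendsto_of_le_of_le' (by simpa using (tendsto_const_nhds (x := c i)).sub h0)
    tendsto_const_nhds ?_ ?_
  all_goals filter_upwards [eventually_gt_atTop 0] with m hm
  · have hm' : (0 : ℝ) < m := by exact_mod_cast hm
    rw [le_div_iff₀ hm', sub_mul, inv_mul_cancel₀ hm'.ne', mul_comm (c i)]
    exact (Int.sub_one_lt_floor _).le
  · have hm' : (0 : ℝ) < m := by exact_mod_cast hm
    rw [div_le_iff₀ hm', mul_comm (c i)]
    exact Int.floor_le _

/-- A quadratic function nonpositive on integral points is nonpositive. -/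
theorem nonpos_of_int {F : (ι → ℝ) → ℝ} (hc : Continuous F) (hh : ∀ (t : ℝ) c, F (t • c) = t ^ 2 * F c)
    (hint : ∀ a : ι → ℤ, F (fun i => (a i : ℝ)) ≤ 0) (c : ι → ℝ) : F c ≤ 0 := by
  refine le_of_tendsto ((hc.tendsto c).comp (tendsto_floor c)) (Eventually.of_forall fun m => ?_)
  simp only [Function.comp_apply]
  rw [show (fun i => (⌊(m : ℝ) * c i⌋ : ℝ) / m) = (1 / (m : ℝ)) • fun i => ((⌊(m : ℝ) * c i⌋ : ℤ) : ℝ) by
    funext i; simp [div_eq_inv_mul], hh]
  exact mul_nonpos_of_nonneg_of_nonpos (sq_nonneg _) (hint _)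

end Approx

section NegDef

variable {ι : Type*} [Fintype ι] {R : Type*} [CommRing R] [LinearOrder R] [IsStrictOrderedRing R]

/-- Combinations with disjoint supports pair nonnegatively. -/
theorem cross_nonneg {G : ι → ι → R} (hoff : ∀ i j, i ≠ j → 0 ≤ G i j) {p m : ι → R} (hp : ∀ i, 0 ≤ p i)
    (hm : ∀ i, 0 ≤ m i) (hd : ∀ i, p i * m i = 0) : 0 ≤ ∑ i, ∑ j, p i * m j * G i j := by
  refine Finset.sum_nonneg fun i _ => Finset.sum_nonneg fun j _ => ?_
  by_cases hij : i = j
  · subst hij; rw [hd, zero_mul]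
  · exact mul_nonneg (mul_nonneg (hp i) (hm j)) (hoff i j hij)

theorem pos_mul_neg (x : R) : max x 0 * max (-x) 0 = 0 := by
  rcases le_total 0 x with h | h
  · rw [max_eq_right (neg_nonpos.2 h), mul_zero]
  · rw [max_eq_right h, zero_mul]

theorem pos_sub_neg (x : R) : max x 0 - max (-x) 0 = x := by
  rcases le_total 0 x with h | h
  · rw [max_eq_right (neg_nonpos.2 h), max_eq_left h, sub_zero]
  · rw [max_eq_right h, max_eq_left (neg_nonneg.2 h), zero_sub, neg_neg]

/-- A combination pairing nonpositively with all members of a negative definite configuration is nonnegative. -/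
theorem nonneg_of_negDef {G : ι → ι → R} (hoff : ∀ i j, i ≠ j → 0 ≤ G i j)
    (hneg : ∀ a : ι → R, a ≠ 0 → ∑ i, ∑ j, a i * a j * G i j < 0) {s : ι → R}
    (hs : ∀ j, ∑ i, s i * G i j ≤ 0) : ∀ i, 0 ≤ s i := by
  obtain ⟨p, hp⟩ : ∃ p : ι → R, p = fun i => max (s i) 0 := ⟨_, rfl⟩
  obtain ⟨m, hm⟩ : ∃ m : ι → R, m = fun i => max (-s i) 0 := ⟨_, rfl⟩
  have hsplit : ∀ i, s i = p i - m i := fun i => by rw [hp, hm]; exact (pos_sub_neg _).symm
  have hm0 : ∀ i, 0 ≤ m i := fun i => hm ▸ le_max_right _ _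
  have h1 : 0 ≤ ∑ i, ∑ j, p i * m j * G i j :=
    cross_nonneg hoff (fun i => hp ▸ le_max_right _ _) hm0 (fun i => by rw [hp, hm]; exact pos_mul_neg _)
  have h2 : ∑ j, m j * ∑ i, s i * G i j ≤ 0 :=
    Finset.sum_nonpos fun j _ => mul_nonpos_of_nonneg_of_nonpos (hm0 j) (hs j)
  have h3 : ∑ j, m j * ∑ i, s i * G i j =
      (∑ i, ∑ j, p i * m j * G i j) - ∑ i, ∑ j, m i * m j * G i j := by
    simp_rw [Finset.mul_sum]
    rw [Finset.sum_comm, ← Finset.sum_sub_distrib]
    refine Finset.sum_congr rfl fun i _ => ?_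
    rw [← Finset.sum_sub_distrib]
    refine Finset.sum_congr rfl fun j _ => ?_
    rw [hsplit i]; ring
  have hm2 : m = 0 := by
    by_contra hne
    linarith [hneg m hne]
  intro i
  rw [hsplit i, hm2, Pi.zero_apply, sub_zero, hp]
  exact le_max_right _ _

end NegDef

section RealNegDef

variable {ι : Type*} [Fintype ι] [DecidableEq ι]

/-- Negative definiteness on integral vectors gives it on real vectors. -/
theorem real_negDef {G : ι → ι → ℤ} (hsymm : ∀ i j, G i j = G j i)
    (hneg : ∀ a : ι → ℤ, a ≠ 0 → ∑ i, ∑ j, a i * a j * G i j < 0) (a : ι → ℝ) (ha : a ≠ 0) :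
    ∑ i, ∑ j, a i * a j * (G i j : ℝ) < 0 := by
  obtain ⟨M, hM⟩ : ∃ M : Matrix ι ι ℝ, M = Matrix.of fun i j => (G i j : ℝ) := ⟨_, rfl⟩
  obtain ⟨Q, hQdef⟩ : ∃ Q : (ι → ℝ) → ℝ, Q = fun c => ∑ i, ∑ j, c i * c j * (G i j : ℝ) := ⟨_, rfl⟩
  have hsemi : ∀ c, Q c ≤ 0 := by
    refine nonpos_of_int (by rw [hQdef]; fun_prop) (fun t c => ?_) (fun b => ?_)
    · simp only [hQdef, Pi.smul_apply, smul_eq_mul, Finset.mul_sum]
      refine Finset.sum_congr rfl fun i _ => Finset.sum_congr rfl fun j _ => ?_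
      ring
    · by_cases hb : b = 0
      · subst hb; simp [hQdef]
      · simp only [hQdef]; exact_mod_cast (hneg b hb).le
  have hQB : ∀ c, Q c = Matrix.toBilin' M c c := fun c => by
    rw [Matrix.toBilin'_apply, hQdef]
    refine Finset.sum_congr rfl fun i _ => Finset.sum_congr rfl fun j _ => ?_
    rw [hM, Matrix.of_apply]; ring
  rw [show ∑ i, ∑ j, a i * a j * (G i j : ℝ) = Q a by rw [hQdef]]
  refine lt_of_le_of_ne (hsemi a) fun h0 => ?_
  have hdiag : ∀ j, (G j j : ℝ) < 0 := fun j => by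
    have h := hneg (Pi.single j 1) (by simp)
    simp [Pi.single_apply] at h
    exact_mod_cast h
  have hker : Matrix.vecMul a M = 0 := by
    funext j
    have hsym : Matrix.toBilin' M (Pi.single j 1) a = Matrix.vecMul a M j := by
      rw [Matrix.toBilin'_apply', single_dotProduct, one_mul]
      simp only [Matrix.mulVec, Matrix.vecMul, dotProduct, hM, Matrix.of_apply]
      exact Finset.sum_congr rfl fun i _ => by rw [hsymm j i, mul_comm]
    have hright : Matrix.toBilin' M a (Pi.single j 1) = Matrix.vecMul a M j := by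
      rw [Matrix.toBilin'_apply', Matrix.dotProduct_mulVec, dotProduct_single, mul_one]
    have hjj : Matrix.toBilin' M (Pi.single j 1) (Pi.single j 1) = (G j j : ℝ) := by
      rw [Matrix.toBilin'_single, hM, Matrix.of_apply]
    by_contra hw
    obtain ⟨g, hg⟩ : ∃ g : ℝ, g = (G j j : ℝ) := ⟨_, rfl⟩
    obtain ⟨w, hwdef⟩ : ∃ w : ℝ, w = Matrix.vecMul a M j := ⟨_, rfl⟩
    have h := hsemi (a + (-(w / g)) • Pi.single j 1)
    simp only [hQB, map_add, map_smul, LinearMap.add_apply, LinearMap.smul_apply, hsym, hright, hjj, ← hg, ← hwdef,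
      smul_eq_mul] at h
    rw [← hQB a, h0] at h
    simp only [Pi.zero_apply] at hw
    have hgn : g < 0 := hg ▸ hdiag j
    have hw2 : 0 < w * w := mul_self_pos.2 (hwdef ▸ hw)
    have h2 : 0 < -(w * w / g) := neg_pos.2 (div_neg_of_pos_of_neg hw2 hgn)
    have : -(w * w / g) = 0 + -(w / g) * w + (-(w / g) * w + -(w / g) * (-(w / g) * g)) := by
      have := hgn.ne
      field_simp
      ring
    linarith
  have hdet : M.det = 0 := Matrix.exists_vecMul_eq_zero_iff.1 ⟨a, ha, hker⟩
  have hdetZ : (Matrix.of G).det = 0 := by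
    have h : ((Matrix.of G).det : ℝ) = M.det := by
      rw [hM]
      exact (Int.castRingHom ℝ).map_det (Matrix.of G)
    rw [hdet] at h
    exact_mod_cast h
  obtain ⟨v, hv, hv0⟩ := Matrix.exists_vecMul_eq_zero_iff.2 hdetZ
  have h := hneg v hv
  rw [Finset.sum_comm] at h
  have hz : ∀ j, ∑ i, v i * v j * G i j = 0 := fun j => by
    have hj := congrFun hv0 j
    simp only [Matrix.vecMul, dotProduct, Matrix.of_apply, Pi.zero_apply] at hj
    rw [show ∑ i, v i * v j * G i j = v j * ∑ i, v i * G i j by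
      rw [Finset.mul_sum]; exact Finset.sum_congr rfl fun i _ => by ring, hj, mul_zero]
  rw [Finset.sum_eq_zero fun j _ => hz j] at h
  exact lt_irrefl _ h

end RealNegDef

/-- A symmetric form with one positive direction `h` and definite on its orthogonal. -/
structure IsHodge {V : Type*} [AddCommGroup V] [Module ℝ V] (B : V →ₗ[ℝ] V →ₗ[ℝ] ℝ) (h : V) : Prop where
  symm : ∀ x y, B x y = B y x
  pos : 0 < B h h
  definite : ∀ x, B x h = 0 → 0 ≤ B x x → x = 0

namespace IsHodge

variable {V : Type*} [AddCommGroup V] [Module ℝ V] {B : V →ₗ[ℝ] V →ₗ[ℝ] ℝ} {h : V} (H : IsHodge B h)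
include H

theorem ne_zero_of_pos {x : V} (hx : 0 < B x x) : B x h ≠ 0 := fun h0 => by
  rw [H.definite x h0 hx.le, map_zero] at hx
  exact lt_irrefl _ hx

theorem orth {p x : V} (hp : 0 < B p p) (hxp : B x p = 0) (hx : 0 ≤ B x x) : x = 0 := by
  have hpx : B p x = 0 := (H.symm p x).trans hxp
  have hw : B p h • x - B x h • p = 0 := by
    refine H.definite _ ?_ ?_
    · simp only [map_sub, map_smul, LinearMap.sub_apply, LinearMap.smul_apply, smul_eq_mul]; ring
    · have e : B (B p h • x - B x h • p) (B p h • x - B x h • p) = B p h ^ 2 * B x x + B x h ^ 2 * B p p := by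
        simp only [map_sub, map_smul, LinearMap.sub_apply, LinearMap.smul_apply, smul_eq_mul, hxp, hpx]; ring
      rw [e]
      exact add_nonneg (mul_nonneg (sq_nonneg _) hx) (mul_nonneg (sq_nonneg _) hp.le)
  have h2 := congrArg (fun z => B z p) hw
  simp only [map_sub, map_smul, LinearMap.sub_apply, LinearMap.smul_apply, smul_eq_mul, hxp, map_zero,
    LinearMap.zero_apply, mul_zero, zero_sub, neg_eq_zero] at h2
  rw [(mul_eq_zero.1 h2).resolve_right hp.ne', zero_smul, sub_zero] at hw
  exact (smul_eq_zero.1 hw).resolve_left (H.ne_zero_of_pos hp)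

/-- Two classes in the closed cone pair nonnegatively, and positively if one is inside. -/
theorem pairing_nonneg {x y : V} (hx : 0 ≤ B x x) (hxh : 0 ≤ B x h) (hy : 0 ≤ B y y) (hyh : 0 ≤ B y h) :
    0 ≤ B x y := by
  rcases hxh.lt_or_eq with hxh | hxh
  swap
  · rw [H.definite x hxh.symm hx, map_zero, LinearMap.zero_apply]
  rcases hyh.lt_or_eq with hyh | hyh
  swap
  · rw [H.definite y hyh.symm hy, map_zero]
  by_contra hlt
  push Not at hlt
  have e : B (B y h • x - B x h • y) (B y h • x - B x h • y) =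
      B y h ^ 2 * B x x + B x h ^ 2 * B y y + 2 * (B y h * B x h * (-B x y)) := by
    simp only [map_sub, map_smul, LinearMap.sub_apply, LinearMap.smul_apply, smul_eq_mul, H.symm y x]; ring
  have hpos : 0 < B (B y h • x - B x h • y) (B y h • x - B x h • y) := by
    rw [e]
    have h1 := mul_nonneg (sq_nonneg (B y h)) hx
    have h2 := mul_nonneg (sq_nonneg (B x h)) hy
    have h3 := mul_pos (mul_pos hyh hxh) (neg_pos.2 hlt)
    linarith
  rw [H.definite (B y h • x - B x h • y) (by
    simp only [map_sub, map_smul, LinearMap.sub_apply, LinearMap.smul_apply, smul_eq_mul]; ring) hpos.le,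
    map_zero] at hpos
  exact lt_irrefl _ hpos

theorem pairing_pos {x y : V} (hx : 0 < B x x) (hxh : 0 < B x h) (hy : 0 ≤ B y y) (hyh : 0 < B y h) : 0 < B x y := by
  refine lt_of_le_of_ne (H.pairing_nonneg hx.le hxh.le hy hyh.le) fun h0 => ?_
  rw [H.orth hx ((H.symm y x).trans h0.symm) hy, map_zero, LinearMap.zero_apply] at hyh
  exact lt_irrefl _ hyh

theorem convex : Convex ℝ {x : V | 0 < B x x ∧ 0 < B x h} := by
  rintro x ⟨hx, hxh⟩ y ⟨hy, hyh⟩ a b ha hb hab
  rcases ha.lt_or_eq with ha | ha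
  swap
  · subst ha
    rw [zero_add] at hab
    subst hab
    simpa using And.intro hy hyh
  have hxy := H.pairing_pos hx hxh hy.le hyh
  refine ⟨?_, ?_⟩
  · simp only [map_add, map_smul, LinearMap.add_apply, LinearMap.smul_apply, smul_eq_mul, H.symm y x]
    have h1 := mul_pos (mul_pos ha ha) hx
    have h2 := mul_nonneg (mul_nonneg hb hb) hy.le
    have h3 := mul_nonneg (mul_nonneg ha.le hb) hxy.le
    linarith
  · simp only [map_add, map_smul, LinearMap.add_apply, LinearMap.smul_apply, smul_eq_mul]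
    exact add_pos_of_pos_of_nonneg (mul_pos ha hxh) (mul_nonneg hb hyh.le)

end IsHodge

end Groth.Agent.TwistShriek.NumForm
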