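import Groth.Agent.NakaiLib.Ring
import Groth.Agent.FundLocIsoLib.LciDual

/-!
# Riemann–Roch on proper surfaces from numerical Serre duality
-/

set_option autoImplicit false
set_option backward.isDefEq.respectTransparency false
set_option linter.style.haveILetI false
set_option maxHeartbeats 800000

universe u

open CategoryTheory CategoryTheory.Limits AlgebraicGeometry TopologicalSpace
open Groth.Agent.PullbackMod Groth.Agent.DCohLib
open Groth.Agent.IntLib (PicRing pairing dif inv' mk mk_congr mk_tensor MCls pairing_of pairing_one chiC_mk)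

noncomputable section

namespace Groth.Agent.TwistShriek

variable {X : Scheme.{u}} (k : Type u) [Field k] [X.Over (Spec (CommRingCat.of k))]
  [IsProper (X ↘ Spec (CommRingCat.of k))]

/-- Riemann–Roch on a proper surface, given numerical Serre duality for invertible modules. -/
theorem two_mul_euler_of_duality (hd : topologicalKrullDim X ≤ ((2 : ℕ) : WithBot ℕ∞)) {W : X.Modules}
    (hW : PicF.IsInvertible W)
    (hdual : ∀ L L' : X.Modules, PicF.IsInvertible L →
      Nonempty (CohB1.tensorMod L L' ≅ Coh.structureModule X) →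
      Curv2.euler k X (CohB1.tensorMod W L') = Curv2.euler k X L)
    {L : X.Modules} (hL : PicF.IsInvertible L) :
    2 * Curv2.euler k X L = FGA.intNum k X 2 ![L, L] (Coh.structureModule X) -
      FGA.intNum k X 2 ![L, W] (Coh.structureModule X) + 2 * Curv2.euler k X (Coh.structureModule X) := by
  haveI := EulerIneqLib.isNoetherian_proper (X := X) k
  obtain ⟨L', hL', ⟨e⟩⟩ := AmpleEmb.exists_isInverseOf hL
  rw [IntLib.intNum_eq k hd _ ![L, L] (fun i => by fin_cases i <;> assumption),
    IntLib.intNum_eq k hd _ ![L, W] (fun i => by fin_cases i <;> assumption), Fin.prod_univ_two, Fin.prod_univ_two]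
  show 2 * Curv2.euler k X L = pairing k (Coh.structureModule X) (dif hL * dif hL) -
      pairing k (Coh.structureModule X) (dif hL * dif hW) + _
  have hO := DevLib.isCoh_structureModule X
  have hdO : topologicalKrullDim (CohB1.support (Coh.structureModule X)) < ((3 : ℕ) : WithBot ℕ∞) :=
    lt_of_le_of_lt (Topology.IsInducing.subtypeVal.topologicalKrullDim_le.trans hd)
      (by exact_mod_cast Nat.lt_succ_self 2)
  have hof : ∀ {G : X.Modules} (hG : PicF.IsInvertible G),
      pairing k (Coh.structureModule X) (MonoidAlgebra.of ℤ _ (inv' hG)) = Curv2.euler k X G := fun {G} hG => by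
    rw [← mul_one (MonoidAlgebra.of ℤ _ (inv' hG)), IntLib.pairing_of_mul, pairing_one]
    exact CurveLib.euler_iso (K := k) (CurveLib.tmodComm (Coh.structureModule X) G ≪≫ DCohLib.tensorStructureIso G)
  set u := MonoidAlgebra.of ℤ _ (inv' hL) with hu
  set u' := MonoidAlgebra.of ℤ _ (inv' hL') with hu'
  set w := MonoidAlgebra.of ℤ _ (inv' hW) with hw
  have huu : u * u' = 1 := by
    rw [hu, hu', ← map_mul, show inv' hL * inv' hL' = 1 from
      Subtype.ext ((mk_tensor L L').symm.trans (mk_congr e)), map_one]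
  have pu : pairing k (Coh.structureModule X) u = Curv2.euler k X L := by
    rw [hu, hof]
  have pw : pairing k (Coh.structureModule X) w = Curv2.euler k X W := by
    rw [hw, hof]
  have pwu' : pairing k (Coh.structureModule X) (w * u') = Curv2.euler k X (CohB1.tensorMod W L') := by
    rw [hw, hu', IntLib.pairing_of_mul, ← mul_one (MonoidAlgebra.of ℤ _ (inv' hL')), IntLib.pairing_of_mul, pairing_one]
    exact CurveLib.euler_iso (K := k) (((DCoh.tensorBi (X := X)).mapIso
      (CurveLib.tmodComm (Coh.structureModule X) W ≪≫ DCohLib.tensorStructureIso W)).app L')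
  have hW1 : Curv2.euler k X W = Curv2.euler k X (Coh.structureModule X) := by
    rw [← hdual (Coh.structureModule X) (Coh.structureModule X) ParaFLib.isInvertible_structureModule
      ⟨(DCohLib.tensorStructureIso (Coh.structureModule X) : CohB1.tensorMod (Coh.structureModule X) (Coh.structureModule X) ≅ Coh.structureModule X)⟩]
    exact (CurveLib.euler_iso (K := k) (DCohLib.tensorStructureIso W)).symm
  have aug : ∀ {a b c : PicRing X}, a ∈ Nakai.Aug X → b ∈ Nakai.Aug X → c ∈ Nakai.Aug X →
      pairing k (Coh.structureModule X) (a * b * c) = 0 := fun ha hb hc =>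
    Nakai.pairing_mem_eq_zero k (n := 3)
      (by rw [pow_succ, pow_two]; exact Ideal.mul_mem_mul (Ideal.mul_mem_mul ha hb) hc) hO hdO
  have h1 := aug (Nakai.cl_mem hL) (Nakai.cl_mem hL) (Nakai.cl_mem hL')
  have h2 := aug (Nakai.cl_mem hL) (Nakai.cl_mem hW) (Nakai.cl_mem hL')
  rw [Nakai.cl, Nakai.cl, ← hu, ← hu'] at h1
  rw [Nakai.cl, Nakai.cl, Nakai.cl, ← hu, ← hu', ← hw] at h2
  have e1 : (u - 1) * (u - 1) * (u' - 1) = 3 • u - u * u + u' - 3 • (1 : PicRing X) + (u * u' - 1) * (u - 2) := by
    rw [nsmul_eq_mul, nsmul_eq_mul]; push_cast; ring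
  have e2 : (u - 1) * (w - 1) * (u' - 1) =
      u + u' + 2 • w - 2 • (1 : PicRing X) - u * w - w * u' + (u * u' - 1) * (w - 1) := by
    rw [nsmul_eq_mul, nsmul_eq_mul]; push_cast; ring
  have e3 : dif hL * dif hL = u * u - 2 • u + 1 := by
    rw [dif, ← hu, nsmul_eq_mul]; push_cast; ring
  have e4 : dif hL * dif hW = u * w - u - w + 1 := by
    rw [dif, dif, ← hu, ← hw]; ring
  rw [e1, huu, sub_self, zero_mul, add_zero] at h1
  rw [e2, huu, sub_self, zero_mul, add_zero] at h2
  simp only [e3, e4, map_add, map_sub, map_nsmul, pairing_one, pu, pw, pwu'] at h1 h2 ⊢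
  simp only [nsmul_eq_mul, smul_eq_mul] at h1 h2 ⊢
  push_cast at h1 h2 ⊢
  linarith [hdual L L' hL ⟨e⟩, hW1]

variable {N : ℕ} (ι : X ⟶ CohB1.ProjSpace N k) [IsClosedImmersion ι]

include ι

/-- A dualizing sheaf on a Cohen–Macaulay projective surface gives numerical Serre duality. -/
theorem euler_dual_of_trace {ω : X.Modules} (hω : Coh.IsCoh ω) (hn : topologicalKrullDim X ≤ ((2 : ℕ) : WithBot ℕ∞))
    (hCM : ∀ x : X, IsClosed ({x} : Set ↥X) →
      LocCoh.IsCohenMacaulayLocalRing (X.presheaf.stalk x) ∧ ringKrullDim (X.presheaf.stalk x) = (2 : ℕ))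
    (t : Coh.HH X ω 2 →ₗ[k] k)
    (hdual : ∀ F : X.Modules, Coh.IsCoh F → ∀ ψ : Coh.HH X F 2 →ₗ[k] k,
      ∃! φ : F ⟶ ω, ∀ x : Coh.HH X F 2, ψ x = t (Sheaf.H.map ((SheafOfModules.toSheaf X.ringCatSheaf).map φ) 2 x))
    (L L' : X.Modules) (hL : PicF.IsInvertible L) (e : Nonempty (CohB1.tensorMod L L' ≅ Coh.structureModule X)) :
    Curv2.euler k X (CohB1.tensorMod ω L') = Curv2.euler k X L := by
  haveI := EulerIneqLib.isNoetherian_proper (X := X) k
  haveI : ModSite.HasSheafHom (O := X.sheaf) L := ModTensor.hasSheafHom (O := X.sheaf) L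
  obtain ⟨f⟩ := FundLocIsoLib.nonempty_hF_invertible hL e.some ω
  have h := ProjSerreLib.finrank_hF_gen ι hω (ProjSerreLib.vanish_of_cm ι hCM) t hn hdual
  have hj : ∀ j, j ≤ 2 → Module.finrank k (Coh.HH X (CohB1.tensorMod ω L') j) =
      Module.finrank k (Coh.HH X L (2 - j)) := fun j hj => by
    rw [← h j hj L (CurveLib.isFinLocFree_of_isInvertible hL)]
    exact (LinearEquiv.ofBijective _ (CurveLib.hMap_bijective_iso (k := k) f j)).finrank_eq.symm
  have hs : ∀ M : X.Modules, Curv2.euler k X M =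
      ∑ i ∈ Finset.range 3, (-1 : ℤ) ^ i * (Module.finrank k (Coh.HH X M i) : ℤ) := fun M =>
    CurveLib.euler_eq_sum (K := k) M 3 fun p hp => CurveLib.subsingleton_HH_of_dim M hn (by omega)
  rw [hs, hs]
  simp only [Finset.sum_range_succ, Finset.sum_range_zero, zero_add, hj 0 (by omega), hj 1 (by omega), hj 2 le_rfl,
    pow_zero, pow_one, neg_one_sq, Nat.sub_zero, Nat.sub_self, show (2 : ℕ) - 1 = 1 from rfl]
  ring

/-- Riemann–Roch on a Cohen–Macaulay projective surface with an invertible dualizing sheaf. -/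
theorem two_mul_euler_of_trace {ω : X.Modules} (hω : Coh.IsCoh ω) (hωinv : PicF.IsInvertible ω)
    (hn : topologicalKrullDim X ≤ ((2 : ℕ) : WithBot ℕ∞))
    (hCM : ∀ x : X, IsClosed ({x} : Set ↥X) →
      LocCoh.IsCohenMacaulayLocalRing (X.presheaf.stalk x) ∧ ringKrullDim (X.presheaf.stalk x) = (2 : ℕ))
    (t : Coh.HH X ω 2 →ₗ[k] k)
    (hdual : ∀ F : X.Modules, Coh.IsCoh F → ∀ ψ : Coh.HH X F 2 →ₗ[k] k,
      ∃! φ : F ⟶ ω, ∀ x : Coh.HH X F 2, ψ x = t (Sheaf.H.map ((SheafOfModules.toSheaf X.ringCatSheaf).map φ) 2 x))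
    {L : X.Modules} (hL : PicF.IsInvertible L) :
    2 * Curv2.euler k X L = FGA.intNum k X 2 ![L, L] (Coh.structureModule X) -
      FGA.intNum k X 2 ![L, ω] (Coh.structureModule X) + 2 * Curv2.euler k X (Coh.structureModule X) :=
  two_mul_euler_of_duality k hn hωinv (euler_dual_of_trace k ι hω hn hCM t hdual) hL

end Groth.Agent.TwistShriek

namespace Groth.Agent.TwistShriek

/-- Closed points of an integral surface have two-dimensional local rings. -/
theorem dim_closed_point_integral {k : Type u} [Field k] {X : Scheme.{u}} [IsIntegral X] (p : X ⟶ Spec (CommRingCat.of k))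
    [LocallyOfFiniteType p] {n : ℕ} (hdim : topologicalKrullDim X = n) (x : X) (hx : IsClosed ({x} : Set ↥X)) :
    ringKrullDim (X.presheaf.stalk x) = (n : WithBot ℕ∞) :=
  ProjSerreLib.dim_closed_point_of_equidim p hdim.le (fun Z hZ => by
    have hu : Z = Set.univ :=
      (Set.subset_univ Z).antisymm (hZ.2 ⟨Set.univ_nonempty, PreirreducibleSpace.isPreirreducible_univ⟩ (Set.subset_univ Z))
    subst hu
    exact ((Homeomorph.Set.univ _).isHomeomorph.topologicalKrullDim_eq).trans hdim) x hx

end Groth.Agent.TwistShriek
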