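import Groth.Agent.TwistShriek.PointBlow
import Groth.Agent.BMCohLib.Split
import Groth.Agent.ParaFLib.Glue
import Groth.Agent.ParaFLib.Stalk

/-!
# The normal bundle of the exceptional divisor of a point
-/

set_option autoImplicit false
set_option backward.isDefEq.respectTransparency false
set_option backward.isDefEq.respectTransparency.types false
set_option linter.style.haveILetI false
set_option maxHeartbeats 1000000

universe u

open CategoryTheory CategoryTheory.Limits AlgebraicGeometry TopologicalSpace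
open Groth.Agent.BlowChartLib Groth.Agent.BlowExistsLib

noncomputable section

namespace Groth.Agent.TwistShriek.PointBlow

/-- A principal ideal of a regular element on an affine scheme is trivial as a module. -/
theorem mk_idealMod_principal {A : Type u} [CommRing A] {a : A} (ha : a ∈ nonZeroDivisors A) :
    IntLib.mk (ClSub.idealMod (Curv2.idealSheaf A (Ideal.span {a}))) = 1 := by
  let T : (Spec (CommRingCat.of A)).affineOpens := ⟨⊤, isAffineOpen_top _⟩
  let si := (Scheme.ΓSpecIso (CommRingCat.of A)).symm.commRingCatIsoToRingEquiv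
  obtain ⟨s, hs⟩ := S8914.gen_of_ideal_eq_span (Curv2.idealSheaf A (Ideal.span {a})) T (si a)
    (MulEquivClass.map_nonZeroDivisors si ▸ ⟨_, ha, rfl⟩) (by
      simp [Curv2.idealSheaf, T, si, Ideal.map_span]; rfl)
  rw [← IntLib.mk_structureModule]
  exact IntLib.mk_eq_mk.2 (ParaFLib.nonempty_iso_of_bases (ι := PUnit.{u+1}) (U := fun _ => ⊤) (s := fun _ => s)
    (t := fun _ => (1 : Γ(Spec (CommRingCat.of A), ⊤))) (iSup_const) (fun _ => hs) (fun _ => ParaFLib.gen_one ⊤)
    (fun _ _ => 1) (fun _ _ => (one_smul _ _).symm) (fun _ _ => (one_smul _ _).symm))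

variable {X X' : Scheme.{u}} {x : X} {hx : IsClosed ({x} : Set X)} {π : X' ⟶ X}
variable (hb : BlowUp.IsBlowUp π (pointIdeal hx)) (P : PointParams hx)

/-- The exceptional divisor. -/
abbrev E (π : X' ⟶ X) (hx : IsClosed ({x} : Set X)) : Scheme.{u} := (BlowUp.exceptional π (pointIdeal hx)).subscheme

/-- The inclusion of the exceptional divisor. -/
abbrev jE (π : X' ⟶ X) (hx : IsClosed ({x} : Set X)) : E π hx ⟶ X' :=
  (BlowUp.exceptional π (pointIdeal hx)).subschemeι

theorem range_jE_subset : Set.range (jE π hx) ⊆ Set.range (π ⁻¹ᵁ P.U.1).ι := by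
  rintro _ ⟨y, rfl⟩
  have h : jE π hx y ∈ (((pointIdeal hx).comap π).support : Set X') := by
    rw [← Scheme.IdealSheafData.range_subschemeι]; exact ⟨y, rfl⟩
  rw [Scheme.IdealSheafData.support_comap, TopologicalSpace.Closeds.coe_preimage,
    Scheme.IdealSheafData.coe_support_vanishingIdeal] at h
  rw [Scheme.Opens.range_ι]
  show π _ ∈ P.U.1
  rw [show π (jE π hx y) = x from h]
  exact P.mem

/-- The exceptional divisor inside the part over the parameters. -/
def jW (π : X' ⟶ X) : E π hx ⟶ W P π := IsOpenImmersion.lift (π ⁻¹ᵁ P.U.1).ι (jE π hx) (range_jE_subset P)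

@[reassoc]
theorem jW_ι : jW P π ≫ (π ⁻¹ᵁ P.U.1).ι = jE π hx := IsOpenImmersion.lift_fac _ _ _

instance jW_isClosedImmersion : IsClosedImmersion (jW P π) := by
  haveI : IsClosedImmersion (jW P π ≫ (π ⁻¹ᵁ P.U.1).ι) := by rw [jW_ι]; infer_instance
  exact IsClosedImmersion.of_comp _ (π ⁻¹ᵁ P.U.1).ι

theorem ker_jW : (jW P π).ker = EW P π := by
  haveI : IsClosedImmersion (jW P π ≫ (π ⁻¹ᵁ P.U.1).ι) := by rw [jW_ι]; infer_instance
  have h := comap_ker_of_mono (jW P π) (π ⁻¹ᵁ P.U.1).ι
  rw [jW_ι, Scheme.IdealSheafData.ker_subschemeι] at h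
  exact h.symm

/-- The ideal of the exceptional divisor in a chart. -/
abbrev excI (i : Fin 2) : Ideal (B P i) := Ideal.span {algebraMap Γ(X, P.U.1) (B P i) (P.f i)}

/-- The chart rings of the exceptional divisor. -/
abbrev C (i : Fin 2) : Type u := B P i ⧸ excI P i

/-- The quotient map to the exceptional divisor. -/
abbrev qC (i : Fin 2) : B P i →+* C P i :=
  Ideal.Quotient.mk (excI P i)

theorem ker_le_d (i : Fin 2) :
    (jW P π).ker ≤ (Spec.map (CommRingCat.ofHom (R := B P i) (S := C P i) (qC P i)) ≫ e hb P i).ker := by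
  rw [ker_jW, Scheme.Hom.ker_comp, Scheme.IdealSheafData.le_map_iff_comap_le, EW_e, ker_specMap, Ideal.mk_ker]

/-- The charts of the exceptional divisor. -/
def d (i : Fin 2) : Spec (CommRingCat.of (C P i)) ⟶ E π hx :=
  IsClosedImmersion.lift (jW P π) _ (ker_le_d hb P i)

@[reassoc]
theorem d_jW (i : Fin 2) : d hb P i ≫ jW P π =
    Spec.map (CommRingCat.ofHom (R := B P i) (S := C P i) (qC P i)) ≫ e hb P i := IsClosedImmersion.lift_fac _ _ _

theorem isPullback_d (i : Fin 2) :
    IsPullback (Spec.map (CommRingCat.ofHom (R := B P i) (S := C P i) (qC P i))) (d hb P i) (e hb P i) (jW P π) := by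
  haveI : IsClosedImmersion (Spec.map (CommRingCat.ofHom (R := B P i) (S := C P i) (qC P i))) :=
    IsClosedImmersion.spec_of_surjective _ Ideal.Quotient.mk_surjective
  refine isPullback_of_isClosedImmersion _ _ _ _ (d_jW hb P i).symm ?_
  rw [ker_jW, EW_e, ker_specMap, Ideal.mk_ker]

instance d_isOpenImmersion (i : Fin 2) : IsOpenImmersion (d hb P i) :=
  MorphismProperty.of_isPullback (isPullback_d hb P i) inferInstance

include hb in
theorem d_cover (y : E π hx) : ∃ i, y ∈ Set.range (d hb P i) := by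
  obtain ⟨i, z, hz⟩ := e_cover hb P (jW P π y)
  obtain ⟨w, -, hw⟩ := Scheme.exists_preimage_of_isPullback (isPullback_d hb P i) z y hz
  exact ⟨i, w, hw⟩

/-- The point where the strict transform of the first parameter meets the exceptional divisor. -/
theorem exists_sigma :
    ∃ σ : Spec (CommRingCat.of (Γ(X, P.U.1) ⧸ (pointIdeal hx).ideal P.U)) ⟶ W P π,
      σ ≫ q π P = Spec.map (CommRingCat.ofHom (Ideal.Quotient.mk _)) ∧
      (∀ z, e hb P 0 z ∉ Set.range σ) ∧
      ∃ φ : B P 1 →+* Γ(X, P.U.1) ⧸ (pointIdeal hx).ideal P.U, σ = Spec.map (CommRingCat.ofHom φ) ≫ e hb P 1 ∧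
        RingHom.ker φ = Ideal.span {algebraMap Γ(X, P.U.1) (B P 1) (P.f 1), frac (P.f (1 + 1)) (mem_ideal P _)} := by
  obtain ⟨φ, hφC, hφf, hk⟩ := PointChart.exists_point P.quasiRegular P.span_eq 1 (mem_ideal P _)
  refine ⟨Spec.map (CommRingCat.ofHom φ) ≫ e hb P 1, ?_, ?_, φ, rfl, hk⟩
  · rw [Category.assoc, e_q, ← Spec.map_comp]
    congr 1
    exact CommRingCat.hom_ext (RingHom.ext hφC)
  · rintro z ⟨s, hs⟩
    have h1 : emb hb (mem_ideal P 1) (Spec.map (CommRingCat.ofHom φ) s) ∈ chartOpen (pointIdeal hx) P.U (P.f (1 + 1)) π := by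
      rw [← opensRange_emb hb (mem_ideal P (1 + 1))]
      have h2 : (π ⁻¹ᵁ P.U.1).ι (e hb P 0 z) = emb hb (mem_ideal P 1) (Spec.map (CommRingCat.ofHom φ) s) := by
        rw [← hs, ← Scheme.Hom.comp_apply, Category.assoc, e_ι, Scheme.Hom.comp_apply]
      rw [← h2, ← Scheme.Hom.comp_apply, e_ι]
      exact ⟨z, rfl⟩
    rw [preimage_range_emb hb (mem_ideal P 1) (mem_ideal P (1 + 1))] at h1
    exact h1 (show φ _ ∈ s.asIdeal by rw [hφf]; exact zero_mem _)

variable [IsLocallyNoetherian X]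

include hb in
omit P in
/-- The normal bundle of the exceptional divisor has a section vanishing at one point. -/
theorem exists_point_exceptional (P : PointParams hx) :
    ∃ (F : Type u) (_ : Field F) (σ : Spec (CommRingCat.of F) ⟶ E π hx), IsClosedImmersion σ ∧
      (σ ≫ jE π hx ≫ π).ker = pointIdeal hx ∧ IsClosedImmersion (σ ≫ jE π hx ≫ π) ∧
      BlowUp.IsEffCartierIdeal σ.ker ∧
      IntLib.mk ((Scheme.Modules.pullback (jE π hx)).obj (ClSub.idealMod (BlowUp.exceptional π (pointIdeal hx)))) *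
        IntLib.mk (ClSub.idealMod σ.ker) = 1 := by
  haveI := isProper hb
  haveI := P.isMaximal
  letI : Field (Γ(X, P.U.1) ⧸ (pointIdeal hx).ideal P.U) := Ideal.Quotient.field _
  obtain ⟨σW, hσq, hσ0, φ, hσφ, hk⟩ := exists_sigma hb P
  obtain ⟨J, hJ, hJe, hJ0, hJ1⟩ := exists_strict hb P
  have hσ : σW ≫ (π ⁻¹ᵁ P.U.1).ι ≫ π =
      Spec.map (CommRingCat.ofHom (Ideal.Quotient.mk ((pointIdeal hx).ideal P.U))) ≫ P.U.2.fromSpec := by
    rw [← q_fromSpec, ← Category.assoc, hσq]
  let τ := Spec.map (CommRingCat.ofHom (Ideal.Quotient.mk ((pointIdeal hx).ideal P.U))) ≫ P.U.2.fromSpec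
  haveI : IsClosedImmersion (Spec.map (CommRingCat.ofHom (Ideal.Quotient.mk ((pointIdeal hx).ideal P.U)))) :=
    IsClosedImmersion.spec_of_surjective _ Ideal.Quotient.mk_surjective
  have hτr : Set.range τ = {x} := by
    have h1 : ∀ s, τ s = x := fun s => by
      have h2 : (pointIdeal hx).ideal P.U ≤
          (Spec.map (CommRingCat.ofHom (Ideal.Quotient.mk ((pointIdeal hx).ideal P.U))) s).asIdeal := fun a ha => by
        show Ideal.Quotient.mk ((pointIdeal hx).ideal P.U) a ∈ s.asIdeal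
        rw [Ideal.Quotient.eq_zero_iff_mem.2 ha]; exact zero_mem _
      let p := Spec.map (CommRingCat.ofHom (Ideal.Quotient.mk ((pointIdeal hx).ideal P.U))) s
      have hp : p.asIdeal = (P.U.2.primeIdealOf ⟨x, P.mem⟩).asIdeal := by
        have h4 : (pointIdeal hx).ideal P.U = (P.U.2.primeIdealOf ⟨x, P.mem⟩).asIdeal := by
          have hpre : P.U.2.fromSpec ⁻¹' ({x} : Set X) = {P.U.2.primeIdealOf ⟨x, P.mem⟩} := by
            ext p
            refine ⟨fun h => P.U.2.fromSpec.isOpenEmbedding.injective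
              (Eq.trans h (P.U.2.fromSpec_primeIdealOf ⟨x, P.mem⟩).symm), ?_⟩
            rintro rfl
            exact P.U.2.fromSpec_primeIdealOf _
          show PrimeSpectrum.vanishingIdeal (P.U.2.fromSpec ⁻¹' ({x} : Set X)) = _
          rw [hpre, PrimeSpectrum.vanishingIdeal_singleton]
        rw [← h4]
        exact (P.isMaximal.eq_of_le p.isPrime.ne_top h2).symm
      show P.U.2.fromSpec p = x
      rw [show p = P.U.2.primeIdealOf ⟨x, P.mem⟩ from PrimeSpectrum.ext hp]
      exact P.U.2.fromSpec_primeIdealOf _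
    exact Set.ext fun y => ⟨fun ⟨s, hs⟩ => hs ▸ h1 s, fun hy => ⟨default, (h1 _).trans (hy : y = x).symm⟩⟩
  haveI : IsClosedImmersion τ := IsClosedImmersion.of_isPreimmersion τ (hτr ▸ hx)
  haveI : IsClosedImmersion (σW ≫ (π ⁻¹ᵁ P.U.1).ι ≫ π) := hσ ▸ inferInstanceAs (IsClosedImmersion τ)
  haveI : IsClosedImmersion (σW ≫ (π ⁻¹ᵁ P.U.1).ι) := by
    haveI : IsClosedImmersion ((σW ≫ (π ⁻¹ᵁ P.U.1).ι) ≫ π) := by rw [Category.assoc]; infer_instance
    exact IsClosedImmersion.of_comp _ π
  haveI : IsClosedImmersion σW := IsClosedImmersion.of_comp σW (π ⁻¹ᵁ P.U.1).ι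
  have hker : σW.ker = J ⊔ EW P π := by
    refine ext_of_cover (e hb P) (e_cover hb P) fun i => ?_
    fin_cases i
    · show σW.ker.comap (e hb P 0) = (J ⊔ EW P π).comap (e hb P 0)
      rw [Scheme.IdealSheafData.comap_sup, hJ0, top_sup_eq, ← Scheme.IdealSheafData.support_eq_bot_iff]
      refine SetLike.ext' (Set.eq_empty_iff_forall_notMem.2 fun z hz => hσ0 z ?_)
      rw [Scheme.IdealSheafData.support_comap, TopologicalSpace.Closeds.coe_preimage, Scheme.Hom.support_ker,
        Set.mem_preimage] at hz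
      rwa [σW.isClosedEmbedding.isClosed_range.closure_eq] at hz
    · show σW.ker.comap (e hb P 1) = (J ⊔ EW P π).comap (e hb P 1)
      haveI : IsClosedImmersion (Spec.map (CommRingCat.ofHom φ) ≫ e hb P 1) := hσφ ▸ inferInstance
      rw [Scheme.IdealSheafData.comap_sup, hJ1, EW_e, ← idealSheaf_sup, hσφ, comap_ker_of_mono, ker_specMap, hk,
        ← Ideal.span_union, Set.union_comm, Set.singleton_union]
  have hle : (jW P π).ker ≤ σW.ker := by rw [ker_jW, hker]; exact le_sup_right
  let σ := IsClosedImmersion.lift (jW P π) σW hle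
  have hσj : σ ≫ jW P π = σW := IsClosedImmersion.lift_fac _ _ _
  haveI : IsClosedImmersion (σ ≫ jW P π) := by rw [hσj]; infer_instance
  haveI : IsClosedImmersion σ := IsClosedImmersion.of_comp σ (jW P π)
  have hsk : σ.ker = J.comap (jW P π) := by
    haveI : IsClosedImmersion (𝟙 (E π hx) ≫ jW P π) := by rw [Category.id_comp]; infer_instance
    have h0 := comap_ker_of_mono (𝟙 (E π hx)) (jW P π)
    rw [Category.id_comp, Scheme.Hom.ker_eq_bot_of_isIso (𝟙 (E π hx))] at h0
    rw [← comap_ker_of_mono σ (jW P π), hσj, hker, Scheme.IdealSheafData.comap_sup, ← ker_jW, h0, sup_bot_eq]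
  have hJE : BlowUp.IsEffCartierIdeal (J.comap (jW P π)) := by
    refine isEffCartierIdeal_of_cover (d hb P) (d_cover hb P) ?_
    rw [Fin.forall_fin_two]
    constructor
    · refine ⟨(1 : C P 0), one_mem _, ?_⟩
      rw [← Scheme.IdealSheafData.comap_comp, d_jW, Scheme.IdealSheafData.comap_comp, hJ0,
        Scheme.IdealSheafData.comap_top, Ideal.span_singleton_one, idealSheaf_top]
    · refine ⟨qC P 1 (frac (P.f (1 + 1)) (mem_ideal P _)), ?_, ?_⟩
      · refine (mem_nonZeroDivisors_iff_left (M₀ := C P 1)).2 ?_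
        intro z hz
        obtain ⟨z, rfl⟩ := Ideal.Quotient.mk_surjective z
        exact Ideal.Quotient.eq_zero_iff_mem.2 (PointChart.mem_of_frac_mul P.quasiRegular P.span_eq 1 _ z
          (Ideal.Quotient.eq_zero_iff_mem.1 ((map_mul (qC P 1) _ _).trans hz)))
      · rw [← Scheme.IdealSheafData.comap_comp, d_jW, Scheme.IdealSheafData.comap_comp, hJ1, idealSheaf_comap,
          Ideal.map_span, Set.image_singleton]
  refine ⟨_, inferInstance, σ, inferInstance, ?_, ?_, hsk ▸ hJE, ?_⟩
  · rw [← jW_ι_assoc P, ← Category.assoc, hσj]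
    haveI : IsReduced (Spec (CommRingCat.of (Γ(X, P.U.1) ⧸ (pointIdeal hx).ideal P.U))) := inferInstance
    obtain ⟨z, hz⟩ := BMCohLib.exists_lift_vanishingIdeal τ (⟨{x}, hx⟩ : Closeds X) hτr.le
    haveI : IsClosedImmersion (z ≫ (pointIdeal hx).subschemeι) := by rw [hz]; infer_instance
    haveI : IsClosedImmersion z := IsClosedImmersion.of_comp z (pointIdeal hx).subschemeι
    haveI : Surjective z := ⟨fun a => ⟨default, (pointIdeal hx).subschemeι.isClosedEmbedding.injective (by
      have h1 : (pointIdeal hx).subschemeι a ∈ ((pointIdeal hx).support : Set X) :=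
        (Scheme.IdealSheafData.range_subschemeι (pointIdeal hx)) ▸ ⟨a, rfl⟩
      rw [Scheme.IdealSheafData.coe_support_vanishingIdeal] at h1
      rw [← Scheme.Hom.comp_apply, hz]
      exact (hτr.le ⟨_, rfl⟩ : τ default = x).trans (h1 : _ = x).symm)⟩⟩
    haveI : IsReduced (pointIdeal hx).subscheme := DVRCrit.isReduced_vanishingIdeal _
    haveI : IsIso z := isIso_of_isClosedImmersion_of_surjective _
    rw [hσ, show Spec.map _ ≫ P.U.2.fromSpec = τ from rfl, ← hz, Scheme.Hom.ker_comp_of_isIso,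
      Scheme.IdealSheafData.ker_subschemeι]
  · rw [← jW_ι_assoc P, ← Category.assoc, hσj]
    infer_instance
  · haveI : IsLocallyNoetherian X' := LocallyOfFiniteType.isLocallyNoetherian π
    haveI : IsLocallyNoetherian (W P π) := LocallyOfFiniteType.isLocallyNoetherian (π ⁻¹ᵁ P.U.1).ι
    have hEW := isEffCartier_EW hb P
    have hA := fa_isEffCartier P 0
    have hAW : BlowUp.IsEffCartierIdeal ((fa P 0).comap (q π P)) := by
      haveI : ∀ i, IsDomain (B P i) := isDomain_B P
      exact isEffCartierIdeal_of_cover (e hb P) (e_cover hb P) fun i =>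
        ⟨_, mem_nonZeroDivisors_of_ne_zero (alg_ne_zero P i 0), fa_e hb P i 0⟩
    obtain ⟨i1⟩ := JacLib.nonempty_iso_pullback_idealMod (π ⁻¹ᵁ P.U.1).ι _ hb.1 hEW
    obtain ⟨i2⟩ := JacLib.nonempty_iso_pullback_idealMod (jW P π) J hJ hJE
    obtain ⟨i3⟩ := JacLib.nonempty_iso_pullback_idealMod (q π P) _ hA hAW
    obtain ⟨i4⟩ := nonempty_idealMod_mul_iso ((S8914.result _).2 hEW) ((S8914.result _).2 hJ)
      ((S8914.result _).2 (hJe ▸ hAW))
    have hm : IntLib.mk (ClSub.idealMod (EW P π)) * IntLib.mk (ClSub.idealMod J) = 1 := by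
      rw [← IntLib.mk_tensor, ← IntLib.mk_congr i4, ← hJe, ← IntLib.mk_congr i3, ← IntLib.pullCls_mk]
      haveI := P.isDomain
      rw [show fa P 0 = Curv2.idealSheaf _ (Ideal.span {P.f 0}) from rfl,
        mk_idealMod_principal (mem_nonZeroDivisors_of_ne_zero (P.ne_zero 0)), map_one]
    have hE : IntLib.mk ((Scheme.Modules.pullback (jE π hx)).obj (ClSub.idealMod (BlowUp.exceptional π (pointIdeal hx)))) =
        IntLib.pullCls (jW P π) (IntLib.mk (ClSub.idealMod (EW P π))) := by
      rw [IntLib.pullCls_mk]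
      exact IntLib.mk_congr (eqToIso (by rw [jW_ι]) ≪≫
        ((Scheme.Modules.pullbackComp (jW P π) (π ⁻¹ᵁ P.U.1).ι).app _).symm ≪≫
          (Scheme.Modules.pullback (jW P π)).mapIso i1)
    rw [hE, hsk, ← IntLib.mk_congr i2, ← IntLib.pullCls_mk, ← map_mul, hm, map_one]

end Groth.Agent.TwistShriek.PointBlow
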