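import Groth.Agent.TwistShriek.PointInter
import Groth.Agent.BlowSurfLib.MV1
import Groth.Agent.BlowSurfLib.TwoChart
import Groth.Agent.CurveLib.Euler

/-!
# The exceptional divisor of a point is a smooth rational curve
-/

set_option autoImplicit false
set_option backward.isDefEq.respectTransparency false
set_option backward.isDefEq.respectTransparency.types false
set_option linter.style.haveILetI false
set_option maxHeartbeats 1000000

universe u

open CategoryTheory CategoryTheory.Limits AlgebraicGeometry TopologicalSpace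
open Groth.Agent.BlowChartLib Groth.Agent.BlowExistsLib

noncomputable section

namespace Groth.Agent.TwistShriek.PointBlow

variable {X X' : Scheme.{u}} {x : X} {hx : IsClosed ({x} : Set X)} {π : X' ⟶ X}
variable (hb : BlowUp.IsBlowUp π (pointIdeal hx))

include hb in
/-- The exceptional divisor of a point is irreducible and reduced. -/
theorem isIntegral_E (P : PointParams hx) : IsIntegral (E π hx) := by
  haveI := P.isMaximal
  haveI : ∀ i, IsDomain (C P i) := fun i =>
    (Ideal.Quotient.isDomain_iff_prime (excI P i)).2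
      (PointChart.isPrime_exceptional P.quasiRegular P.span_eq P.isMaximal.isPrime i)
  haveI : ∀ i, IsIntegral (Spec (CommRingCat.of (C P i))) := fun i => inferInstance
  haveI : IsReduced (E π hx) := by
    haveI : ∀ y : E π hx, _root_.IsReduced ((E π hx).presheaf.stalk y) := fun y => by
      obtain ⟨i, z, rfl⟩ := d_cover hb P y
      exact isReduced_of_injective _ (asIso ((d hb P i).stalkMap z)).commRingCatIsoToRingEquiv.injective
    exact isReduced_of_isReduced_stalk _
  let η₁ : E π hx := d hb P 1 (genericPoint _)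
  have h01 : η₁ ∈ Set.range (d hb P 0) := by
    let z : Spec (CommRingCat.of (B P 1)) :=
      Spec.map (CommRingCat.ofHom (R := B P 1) (S := C P 1) (qC P 1)) (genericPoint _)
    have hfr : frac (P.f (1 + 1)) (mem_ideal P _) ∉ z.asIdeal := by
      intro h
      have h1 : qC P 1 (frac (P.f (1 + 1)) (mem_ideal P _)) ∈ (genericPoint (Spec (CommRingCat.of (C P 1)))).asIdeal := h
      rw [genericPoint_eq_bot_of_affine] at h1
      have h2 : (1 : B P 1) ∈ excI P 1 :=
        PointChart.mem_of_frac_mul P.quasiRegular P.span_eq 1 _ 1 (by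
          rw [mul_one]; exact Ideal.Quotient.eq_zero_iff_mem.1 (Ideal.mem_bot.1 h1))
      exact (PointChart.isPrime_exceptional P.quasiRegular P.span_eq P.isMaximal.isPrime 1).ne_top
        ((Ideal.eq_top_iff_one _).2 h2)
    have hmem := (preimage_range_emb hb (mem_ideal P 1) (mem_ideal P (1 + 1)) z).2 hfr
    rw [← opensRange_emb hb (mem_ideal P (1 + 1))] at hmem
    obtain ⟨w, hw⟩ := hmem
    have hw' : jW P π η₁ = e hb P 0 w := by
      refine (π ⁻¹ᵁ P.U.1).ι.isOpenEmbedding.injective ?_
      rw [← Scheme.Hom.comp_apply (e hb P 0), e_ι]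
      refine Eq.trans ?_ hw.symm
      show (π ⁻¹ᵁ P.U.1).ι (jW P π (d hb P 1 (genericPoint _))) = _
      rw [← Scheme.Hom.comp_apply (d hb P 1), d_jW, Scheme.Hom.comp_apply, ← Scheme.Hom.comp_apply (e hb P 1), e_ι]
    obtain ⟨v, -, hv⟩ := Scheme.exists_preimage_of_isPullback (isPullback_d hb P 0) w η₁ hw'.symm
    exact ⟨v, hv⟩
  have hη : ∀ y : E π hx, η₁ ⤳ y := fun y => by
    obtain ⟨i, z, rfl⟩ := d_cover hb P y
    rcases PointChart.eq_or 0 i with rfl | rfl
    · obtain ⟨v, hv⟩ := h01
      have hgen : genericPoint (Spec (CommRingCat.of (C P 0))) = v := by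
        refine ((genericPoint_specializes v).antisymm ?_).eq
        rw [← (d hb P 0).isOpenEmbedding.isEmbedding.isInducing.specializes_iff, hv]
        obtain ⟨w, hw⟩ : d hb P 0 (genericPoint _) ∈ Set.range (d hb P 1) := by
          have h1 : d hb P 0 (genericPoint _) ⤳ η₁ := hv ▸ (genericPoint_specializes v).map (d hb P 0).continuous
          exact h1.mem_open (d hb P 1).isOpenEmbedding.isOpen_range ⟨_, rfl⟩
        rw [← hw]
        exact (genericPoint_specializes w).map (d hb P 1).continuous
      rw [← hv, ← hgen]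
      exact (genericPoint_specializes z).map (d hb P 0).continuous
    · exact (genericPoint_specializes z).map (d hb P (0 + 1)).continuous
  haveI : IrreducibleSpace (E π hx) := by
    haveI : Nonempty (E π hx) := ⟨η₁⟩
    haveI : PreirreducibleSpace (E π hx) := ⟨by
      have h : (Set.univ : Set (E π hx)) = closure {η₁} :=
        (Set.eq_univ_of_forall fun y => (hη y).mem_closure).symm
      rw [h]
      exact isIrreducible_singleton.closure.2⟩
    exact ⟨inferInstance⟩
  exact isIntegral_of_irreducibleSpace_of_isReduced _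

include hb in
/-- The exceptional divisor has no first cohomology. -/
theorem subsingleton_H1_E [IsLocallyNoetherian X] (P : PointParams hx) :
    Subsingleton (Coh.HH (E π hx) (Coh.structureModule (E π hx)) 1) := by
  haveI := isProper hb
  haveI : IsLocallyNoetherian X' := LocallyOfFiniteType.isLocallyNoetherian π
  haveI : IsLocallyNoetherian (E π hx) := LocallyOfFiniteType.isLocallyNoetherian (jE π hx)
  haveI : Coh.IsQCoh (Coh.structureModule (E π hx)) := (DevLib.isCoh_structureModule (E π hx)).1
  let j := jE π hx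
  let D0 := BlowSurfLib.chart hb (mem_ideal P 0)
  let D1 := BlowSurfLib.chart hb (mem_ideal P 1)
  have hA0 : IsAffineOpen D0 := (isAffineOpen_top _).image_of_isOpenImmersion _
  have hA1 : IsAffineOpen D1 := (isAffineOpen_top _).image_of_isOpenImmersion _
  have hA01 : IsAffineOpen (D0 ⊓ D1) := by
    show IsAffineOpen (BlowSurfLib.both hb (mem_ideal P 0) (mem_ideal P 1))
    rw [BlowSurfLib.both_eq]
    exact hA0.basicOpen _
  refine CohBase.subsingleton_HH _ 1 ?_
  have hcov : j ⁻¹ᵁ D0 ⊔ j ⁻¹ᵁ D1 = ⊤ := by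
    rw [← Scheme.Hom.preimage_sup, eq_top_iff]
    intro y _
    obtain ⟨i, z, hz⟩ := e_cover hb P (jW P π y)
    have h1 : j y = emb hb (mem_ideal P i) z := by
      rw [← e_ι hb P i, Scheme.Hom.comp_apply, hz, ← Scheme.Hom.comp_apply, jW_ι]
    show j y ∈ D0 ⊔ D1
    rw [h1]
    rcases PointChart.eq_or 0 i with rfl | rfl
    · exact Or.inl ⟨z, trivial, rfl⟩
    · exact Or.inr ⟨z, trivial, rfl⟩
  rw [← hcov]
  haveI := CohBase.affine_vanishing (Coh.structureModule (E π hx)) (hA0.preimage j) 0
  haveI := CohBase.affine_vanishing (Coh.structureModule (E π hx)) (hA1.preimage j) 0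
  refine BlowSurfLib.subsingleton_HU_one_sup (Coh.toAb (Coh.structureModule (E π hx))) _ _ ?_
  intro (s : Γ(E π hx, j ⁻¹ᵁ D0 ⊓ j ⁻¹ᵁ D1))
  have hpre : j ⁻¹ᵁ D0 ⊓ j ⁻¹ᵁ D1 = j ⁻¹ᵁ (D0 ⊓ D1) := rfl
  obtain ⟨t, ht⟩ := (BlowUp.exceptional π (pointIdeal hx)).subschemeι_app_surjective ⟨D0 ⊓ D1, hA01⟩ s
  have hI : (pointIdeal hx).ideal P.U = Ideal.span {P.f 0, P.f 1} := by
    rw [P.span_eq]; congr 1; ext z; simp [Fin.exists_fin_two, eq_comm]
  obtain ⟨p, q, hpq⟩ := BlowSurfLib.exists_add hb (mem_ideal P 0) (mem_ideal P 1) hI t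
  refine ⟨j.app D0 p, - j.app D1 q, ?_⟩
  show (E π hx).presheaf.map _ (j.app D0 p) - (E π hx).presheaf.map _ (- j.app D1 q) = s
  rw [map_neg, sub_neg_eq_add, ← ht, ← hpq, map_add]
  congr 1
  · exact (ConcreteCategory.congr_hom (j.naturality (homOfLE (inf_le_left : D0 ⊓ D1 ≤ D0)).op) p).symm
  · exact (ConcreteCategory.congr_hom (j.naturality (homOfLE (inf_le_right : D0 ⊓ D1 ≤ D1)).op) q).symm

variable (k : Type u) [Field k] [X.Over (Spec (CommRingCat.of k))] [X'.Over (Spec (CommRingCat.of k))]
  [IsProper (X ↘ Spec (CommRingCat.of k))] [IsProper (X' ↘ Spec (CommRingCat.of k))]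

include hb in
/-- The exceptional divisor over an algebraically closed field has Euler characteristic one. -/
theorem euler_exceptional [IsAlgClosed k] (P : PointParams hx) :
    Curv2.euler k X' (ClSub.quotMod (BlowUp.exceptional π (pointIdeal hx))) = 1 := by
  haveI := EulerIneqLib.isNoetherian_proper (X := X) k
  haveI := EulerIneqLib.isNoetherian_proper (X := X') k
  have h := euler_quotMod_ker k (jE π hx)
  rw [Scheme.IdealSheafData.ker_subschemeι] at h
  rw [h]
  letI : (E π hx).Over (Spec (CommRingCat.of k)) := ⟨jE π hx ≫ (X' ↘ Spec (CommRingCat.of k))⟩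
  haveI : IsProper (E π hx ↘ Spec (CommRingCat.of k)) :=
    inferInstanceAs (IsProper (jE π hx ≫ (X' ↘ Spec (CommRingCat.of k))))
  haveI := isIntegral_E hb P
  haveI := EulerIneqLib.isNoetherian_proper (X := E π hx) k
  have hv : ∀ p, 1 ≤ p → Subsingleton (Coh.HH (E π hx) (Coh.structureModule (E π hx)) p) := fun p hp => by
    rcases hp.eq_or_lt with rfl | hp
    · exact subsingleton_H1_E hb P
    · exact CurveLib.subsingleton_HH_of_dim (Coh.structureModule (E π hx)) (d := 1) (topologicalKrullDim_E_le hb P) hp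
  show Curv2.euler k (E π hx) _ = 1
  rw [CurveLib.euler_eq_sum (K := k) _ 1 hv, Finset.sum_range_one, pow_zero, one_mul,
    CurveLib.finrank_H0_structure]
  norm_num

end Groth.Agent.TwistShriek.PointBlow
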