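import Groth.Agent.TwistShriek.RelTor
import Groth.Agent.RelPCLib.Comp
import Groth.Agent.PerfMorLib.Regular
import Groth.Agent.TensorCohLib.Basic
import Groth.Agent.DerSchH7.RelBound
import Groth.Agent.DCohMore.RHomCoh
import Groth.Agent.DCohMore.RpushBdd

/-!
# Relative pseudo-coherence of direct images over a locally Noetherian base
-/

set_option autoImplicit false
set_option linter.style.haveILetI false
set_option backward.isDefEq.respectTransparency false
set_option maxHeartbeats 1000000

universe u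

open CategoryTheory CategoryTheory.Limits AlgebraicGeometry
open Groth.Agent.DCohLib Groth.Agent.DCohMore

attribute [local instance] HasDerivedCategory.standard

noncomputable section

namespace Groth.Agent.TwistShriek

variable {X Y S : Scheme.{u}}

/-- Relative pseudo-coherence over a locally Noetherian base is absolute pseudo-coherence. -/
theorem rel_iff_abs [IsLocallyNoetherian S] (p : X ⟶ S) [LocallyOfFiniteType p] (m : ℤ) (E : DCoh.D X) :
    DerSch.IsPseudoCoherentRel p m E ↔ DCoh.IsPseudoCoherentD m E := by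
  have h := RelPCLib.rel_comp_iff p (𝟙 X) (fun V W h hV hW => by
    haveI : IsNoetherianRing Γ(S, W) := IsLocallyNoetherian.component_noetherian ⟨W, hW⟩
    exact PerfMorLib.pcHom_of_finiteType_noetherian _ (p.finiteType_appLE hW hV h)) m E
  rw [Category.id_comp] at h
  exact h.symm.trans (RelPCLib.rel_id_iff m E)

/-- Direct images of pseudo-coherent objects along proper morphisms to locally Noetherian schemes. -/
theorem pc_rpush_proper [IsLocallyNoetherian Y] (f : X ⟶ Y) [IsProper f] [DCoh.HasRpush f] (E : DCoh.D X) (a : ℤ)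
    [E.IsGE a] (hE : ∀ m : ℤ, DCoh.IsPseudoCoherentD m E) (m : ℤ) :
    DCoh.IsPseudoCoherentD m ((DCoh.Rpush f).obj E) := by
  haveI : IsLocallyNoetherian X := LocallyOfFiniteType.isLocallyNoetherian f
  have hc := TensorCohLib.isCohD_of_pc E hE
  have huniv : ClSub.IsProperOver f (Set.univ : Set X) :=
    (ClSubLib.isProperOver_iff f (𝟙 _) (Set.range_id)).2 (by rw [Category.id_comp]; infer_instance)
  have hs : ∀ i : ℤ, ClSub.IsProperOver f (CohB1.support (DCoh.HD E i)) := fun i =>
    ClSubLib.isProperOver_subset f huniv (PullbackMod.isClosed_support_of_isFT (hc i).2) (Set.subset_univ _)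
  have hR := isCohD_rpush f E a hc hs
  refine isPseudoCoherentD_of_local fun y => ?_
  obtain ⟨_, ⟨U : Y.Opens, hU, rfl⟩, hy, -⟩ :=
    Y.isBasis_affineOpens.exists_subset_of_mem_open (a := y) (Set.mem_univ _) TopologicalSpace.isOpen_univ
  haveI : IsAffine (U : Scheme.{u}) := hU
  haveI : IsLocallyNoetherian (U : Scheme.{u}) := isLocallyNoetherian_of_isOpenImmersion U.ι
  let fU := f ∣_ U
  haveI := BC.hasRpush fU
  obtain ⟨eV⟩ := nonempty_restrictD_rpush f U
  haveI : CompactSpace ((f ⁻¹ᵁ U : X.Opens) : Scheme.{u}) := QuasiCompact.compactSpace_of_compactSpace fU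
  let E' := (DCoh.restrictD (f ⁻¹ᵁ U).ι).obj E
  obtain ⟨b, hb⟩ := DerSchH7.exists_isZero_above_of_pc (isPseudoCoherentD_restrict (f ⁻¹ᵁ U).ι (hE m))
  haveI : E'.IsLE b := (DerivedCategory.isLE_iff _ _).2 hb
  obtain ⟨N, hN⟩ := exists_isLE_rpush_qcoh fU
  haveI := hN E' b (TildeD.isQCohD_restrict _ _ fun i => (hc i).1) inferInstance
  haveI : ((DCoh.restrictD U.ι).obj ((DCoh.Rpush f).obj E)).IsLE (b + N) :=
    (DerivedCategory.isLE_iff _ _).2 fun i hi => ((DerivedCategory.isLE_iff _ (b + N)).1 ‹_› i hi).of_iso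
      ((DerivedCategory.homologyFunctor _ i).mapIso (eV.app E))
  exact ⟨U, U.ι, inferInstance, ⟨y, hy⟩, rfl, isPseudoCoherentD_of_coh _ (b + N) (fun i =>
    isCoh_iso (restrictHDIso U.ι _ i).symm (isCoh_restrict' (hR i) U)) m⟩

/-- Relative pseudo-coherence of direct images over a locally Noetherian base. -/
theorem relAll_rpush_proper [IsLocallyNoetherian S] (p : X ⟶ S) (q : Y ⟶ S) [LocallyOfFiniteType p]
    [LocallyOfFiniteType q] (f : X ⟶ Y) [IsProper f] [DCoh.HasRpush f] (E : DCoh.D X) (a : ℤ) [E.IsGE a]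
    (hE : DerSch.IsPseudoCoherentRelAll p E) : DerSch.IsPseudoCoherentRelAll q ((DCoh.Rpush f).obj E) := by
  haveI : IsLocallyNoetherian Y := LocallyOfFiniteType.isLocallyNoetherian q
  exact fun m => (rel_iff_abs q m _).2 (pc_rpush_proper f E a (fun k => (rel_iff_abs p k E).1 (hE k)) m)

end Groth.Agent.TwistShriek
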