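import Groth.Agent.TwistShriek.Basic
import Groth.Agent.DCohMore.ProjQC
import Groth.Agent.DCohLib.ProjMap

/-!
# The natural comparison map for twisted inverse images, and its value at invertible objects
-/

set_option autoImplicit false
set_option linter.style.haveILetI false
set_option backward.isDefEq.respectTransparency false
set_option maxHeartbeats 1600000

universe u

open CategoryTheory CategoryTheory.Limits AlgebraicGeometry HomologicalComplex
open Groth.Agent.DCohLib Groth.Agent.DCohMore Groth.Agent.KFlat Groth.Agent.FMKLib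

attribute [local instance] HasDerivedCategory.standard

noncomputable section

namespace Groth.Agent.TwistShriek

variable {X Y : Scheme.{u}}

/-- The functorial resolution as an isomorphism of functors to the derived category. -/
def resIso (Y : Scheme.{u}) : resX Y ⋙ DerivedCategory.Q ≅ DerivedCategory.Q :=
  haveI : ∀ P, IsIso ((Functor.whiskerRight (resXπ Y) DerivedCategory.Q).app P) := fun P => isIso_Q_resXπ P
  haveI := NatIso.isIso_of_isIso_app (Functor.whiskerRight (resXπ Y) DerivedCategory.Q)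
  asIso (Functor.whiskerRight (resXπ Y) DerivedCategory.Q) ≪≫ DerivedCategory.Q.leftUnitor

/-- Descent of a transformation defined on functorial resolutions. -/
def liftRes {H : Type*} [Category H] {F G : DCoh.D Y ⥤ H}
    (τ : (resX Y ⋙ DerivedCategory.Q) ⋙ F ⟶ (resX Y ⋙ DerivedCategory.Q) ⋙ G) : F ⟶ G :=
  letI : Localization.Lifting DerivedCategory.Q (HomologicalComplex.quasiIso Y.Modules (ComplexShape.up ℤ))
      (DerivedCategory.Q ⋙ F) F := ⟨Iso.refl _⟩
  letI : Localization.Lifting DerivedCategory.Q (HomologicalComplex.quasiIso Y.Modules (ComplexShape.up ℤ))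
      (DerivedCategory.Q ⋙ G) G := ⟨Iso.refl _⟩
  Localization.liftNatTrans DerivedCategory.Q (HomologicalComplex.quasiIso Y.Modules (ComplexShape.up ℤ))
    (DerivedCategory.Q ⋙ F) (DerivedCategory.Q ⋙ G) F G
    (Functor.whiskerRight (resIso Y).inv F ≫ τ ≫ Functor.whiskerRight (resIso Y).hom G)

theorem liftRes_app {H : Type*} [Category H] {F G : DCoh.D Y ⥤ H}
    (τ : (resX Y ⋙ DerivedCategory.Q) ⋙ F ⟶ (resX Y ⋙ DerivedCategory.Q) ⋙ G) (K : CochainComplex Y.Modules ℤ) :
    (liftRes τ).app (DerivedCategory.Q.obj K) =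
      F.map ((resIso Y).inv.app K) ≫ τ.app K ≫ G.map ((resIso Y).hom.app K) := by
  rw [liftRes, Localization.liftNatTrans_app]
  exact (Category.id_comp _).trans (Category.comp_id _)

theorem isIso_of_isIso_liftRes {H : Type*} [Category H] {F G : DCoh.D Y ⥤ H}
    (τ : (resX Y ⋙ DerivedCategory.Q) ⋙ F ⟶ (resX Y ⋙ DerivedCategory.Q) ⋙ G) (K : CochainComplex Y.Modules ℤ)
    [IsIso (τ.app K)] : IsIso ((liftRes τ).app (DerivedCategory.Q.obj K)) := by
  rw [liftRes_app]
  exact IsIso.comp_isIso' (F.map_isIso _) (IsIso.comp_isIso' inferInstance (G.map_isIso _))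

section

variable (f : X ⟶ Y) [DCoh.HasRpush f] [DCoh.HasLpull f] (I : CochainComplex X.Modules ℤ)
  [DCoh.HasLTensorCx I]
  {J : CochainComplex Y.Modules ℤ} (εc : (pfCx f).obj I ⟶ J) (η : unitCx Y ⟶ J)

/-- The functor `f_*(f^*(-) ⊗ I)`. -/
abbrev pushTens : DCoh.D Y ⥤ DCoh.D Y := DCoh.Lpull f ⋙ DCoh.LTensorCx I ⋙ DCoh.Rpush f

/-- Tensoring on the left with the unit complex. -/
def unitL : DCoh.tensorCx.obj (unitCx Y) ≅ 𝟭 (CochainComplex Y.Modules ℤ) :=
  (NatIso.ofComponents (F := (DCoh.tensorCx (X := Y)).flip.obj (unitCx Y)) (fun P => symS P (unitCx Y))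
    fun {P P'} β => symS_natural_left β (unitCx Y)).symm ≪≫ tensorUnitCxIso

theorem isIso_Q_eta [QuasiIso η] (P : CochainComplex Y.Modules ℤ) (hP : DCoh.IsKFlat P) :
    IsIso (DerivedCategory.Q.map ((DCoh.tensorCx.map η).app P)) := by
  have h := symS_natural_left η P
  have h2 : DerivedCategory.Q.map ((DCoh.tensorCx.map η).app P) =
      DerivedCategory.Q.map (symS (unitCx Y) P).hom ≫ DerivedCategory.Q.map ((DCoh.tensorCx.obj P).map η) ≫
        DerivedCategory.Q.map (symS J P).inv := by
    rw [← Functor.map_comp_assoc, ← h, Functor.map_comp, Category.assoc, ← Functor.map_comp, Iso.hom_inv_id,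
      CategoryTheory.Functor.map_id, Category.comp_id]
  haveI : IsIso (DerivedCategory.Q.map ((DCoh.tensorCx.obj P).map η)) :=
    (DerivedCategory.isIso_Q_map_iff_quasiIso (C := Y.Modules) _).2
      (quasiIso_tensorCx_obj_map hP η inferInstance)
  rw [h2]
  infer_instance

/-- The evaluation on K-flat complexes. -/
def epsRes [QuasiIso η] : resX Y ⋙ projSrc f I ⟶ resX Y ⋙ DerivedCategory.Q where
  app K := haveI := isIso_Q_eta η _ (isKFlat_resX K)
    DerivedCategory.Q.map ((DCoh.tensorCx.map εc).app ((resX Y).obj K)) ≫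
      inv (DerivedCategory.Q.map ((DCoh.tensorCx.map η).app ((resX Y).obj K))) ≫
      DerivedCategory.Q.map (unitL.hom.app ((resX Y).obj K))
  naturality K K' β := by
    haveI := isIso_Q_eta η _ (isKFlat_resX K)
    haveI := isIso_Q_eta η _ (isKFlat_resX K')
    show DerivedCategory.Q.map ((DCoh.tensorCx.obj ((pfCx f).obj I)).map ((resX Y).map β)) ≫ _ =
      _ ≫ DerivedCategory.Q.map ((resX Y).map β)
    rw [← Functor.map_comp_assoc, (DCoh.tensorCx.map εc).naturality, Functor.map_comp_assoc, Category.assoc,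
      Category.assoc, ← Functor.map_comp]
    refine congrArg (_ ≫ ·) ?_
    have e := unitL.hom.naturality ((resX Y).map β)
    simp only [Functor.id_map] at e
    rw [← e, Functor.map_comp, IsIso.eq_inv_comp, ← Category.assoc (DerivedCategory.Q.map ((DCoh.tensorCx.map η).app _)),
      ← Functor.map_comp, ← (DCoh.tensorCx.map η).naturality, Functor.map_comp, Category.assoc, IsIso.hom_inv_id_assoc]

/-- The source identification. -/
def srcIso [DCoh.HasLTensorCx ((pfCx f).obj I)] :
    (resX Y ⋙ DerivedCategory.Q) ⋙ DCoh.LTensorCx ((pfCx f).obj I) ≅ resX Y ⋙ projSrc f I :=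
  lTensorFlatIso ((pfCx f).obj I) (resX Y) (fun P => isKFlat_resX P) ≪≫
    Functor.isoWhiskerLeft (resX Y) (Functor.isoWhiskerRight
      (NatIso.ofComponents (F := (DCoh.tensorCx (X := Y)).flip.obj ((pfCx f).obj I))
        (fun P => symS P ((pfCx f).obj I)) fun {P P'} β => symS_natural_left β ((pfCx f).obj I))
      DerivedCategory.Q)

/-- The derived tensor product with the inverse image, on resolutions. -/
def tensPullIso : (resX Y ⋙ DerivedCategory.Q) ⋙ DCoh.Lpull f ⋙ DCoh.LTensorCx I ≅
      resX Y ⋙ (pullCx f ⋙ DCoh.tensorCx.obj I) ⋙ DerivedCategory.Q :=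
  (Functor.associator _ _ _).symm ≪≫
    Functor.isoWhiskerRight (lpullResIso f ≪≫ (Functor.associator _ _ _).symm) _ ≪≫
    (lTensorFlatIso I (resX Y ⋙ pullCx f) (fun P => isKFlat_pullback f (isKFlat_resX P)) ≪≫
      Functor.associator _ _ _ ≪≫
      Functor.isoWhiskerLeft (resX Y) ((Functor.associator _ _ _).symm ≪≫
        Functor.isoWhiskerRight (Functor.isoWhiskerLeft (pullCx f)
          (NatIso.ofComponents (F := (DCoh.tensorCx (X := X)).flip.obj I)
            (fun P => symS P I) fun {P P'} β => symS_natural_left β I)) DerivedCategory.Q))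

/-- The target identification. -/
def tgtIso : (resX Y ⋙ DerivedCategory.Q) ⋙ pushTens f I ≅ resX Y ⋙ projTgt f I :=
  Functor.isoWhiskerLeft _ (Functor.associator _ _ _).symm ≪≫ (Functor.associator _ _ _).symm ≪≫
    Functor.isoWhiskerRight (tensPullIso f I) _ ≪≫ Functor.associator _ _ _

theorem tgtIso_hom_app (K : CochainComplex Y.Modules ℤ) :
    (tgtIso f I).hom.app K = (DCoh.Rpush f).map ((tensPullIso f I).hom.app K) := by
  simp only [tgtIso, Iso.trans_hom, NatTrans.comp_app, Functor.isoWhiskerLeft_hom, Functor.whiskerLeft_app,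
    Iso.symm_hom, Functor.associator_inv_app, Functor.associator_hom_app, Functor.isoWhiskerRight_hom,
    Functor.whiskerRight_app]
  exact (Category.id_comp _).trans ((Category.id_comp _).trans (Category.comp_id _))

variable [DCoh.HasLTensorCx ((pfCx f).obj I)]

/-- The projection map, descended. -/
def projD : DCoh.LTensorCx ((pfCx f).obj I) ⟶ pushTens f I :=
  liftRes ((srcIso f I).hom ≫ Functor.whiskerLeft (resX Y) (projTau f I) ≫ (tgtIso f I).inv)

/-- The evaluation map, descended. -/
def epsD' [QuasiIso η] : DCoh.LTensorCx ((pfCx f).obj I) ⟶ 𝟭 (DCoh.D Y) :=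
  liftRes ((srcIso f I).hom ≫ epsRes f I εc η ≫ (resX Y ⋙ DerivedCategory.Q).rightUnitor.inv)

variable [QuasiCompact f] [QuasiSeparated f] [I.IsKInjective]

theorem isIso_tau (hI : DCoh.IsQCohD (DerivedCategory.Q.obj I)) (K : CochainComplex Y.Modules ℤ)
    (hK : DCoh.IsQCohD (DerivedCategory.Q.obj K)) : IsIso ((projTau f I).app ((resX Y).obj K)) :=
  isIso_projTau f I hI _ (isKFlat_resX K) (TildeD.isQCohD_of_iso ((resIso Y).app K).symm hK)

theorem isIso_projD (hI : DCoh.IsQCohD (DerivedCategory.Q.obj I)) (N : DCoh.DQCoh Y) :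
    IsIso ((projD f I).app N.obj) := by
  let e : DerivedCategory.Q.obj (DerivedCategory.Q.objPreimage N.obj) ≅ N.obj :=
    DerivedCategory.Q.objObjPreimageIso N.obj
  haveI := isIso_tau f I hI _ (TildeD.isQCohD_of_iso e.symm N.property)
  refine (NatTrans.isIso_app_iff_of_iso (projD f I) e).1 ?_
  haveI : IsIso (((srcIso f I).hom ≫ Functor.whiskerLeft (resX Y) (projTau f I) ≫ (tgtIso f I).inv).app
      (DerivedCategory.Q.objPreimage N.obj)) := by
    simp only [NatTrans.comp_app, Functor.whiskerLeft_app]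
    infer_instance
  exact isIso_of_isIso_liftRes _ _

/-- The transformation `f_*(f^* N ⊗ I) ⟶ N`. -/
def traceD [QuasiIso η] (hI : DCoh.IsQCohD (DerivedCategory.Q.obj I)) :
    ObjectProperty.ι (DCoh.IsQCohD (X := Y)) ⋙ pushTens f I ⟶ ObjectProperty.ι (DCoh.IsQCohD (X := Y)) :=
  haveI : ∀ N, IsIso ((Functor.whiskerLeft (ObjectProperty.ι (DCoh.IsQCohD (X := Y))) (projD f I)).app N) :=
    isIso_projD f I hI
  haveI := NatIso.isIso_of_isIso_app (Functor.whiskerLeft (ObjectProperty.ι (DCoh.IsQCohD (X := Y))) (projD f I))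
  inv (Functor.whiskerLeft (ObjectProperty.ι (DCoh.IsQCohD (X := Y))) (projD f I)) ≫
    Functor.whiskerLeft (ObjectProperty.ι (DCoh.IsQCohD (X := Y))) (epsD' f I εc η)

/-- The transformation on resolutions computes the descended one. -/
theorem traceD_app [QuasiIso η] (hI : DCoh.IsQCohD (DerivedCategory.Q.obj I)) (K : CochainComplex Y.Modules ℤ)
    (hK : DCoh.IsQCohD (DerivedCategory.Q.obj K)) :
    haveI := isIso_tau f I hI K hK
    (traceD f I εc η hI).app ⟨DerivedCategory.Q.obj K, hK⟩ =
      (DCoh.Rpush f).map ((DCoh.Lpull f ⋙ DCoh.LTensorCx I).map ((resIso Y).inv.app K) ≫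
        (tensPullIso f I).hom.app K) ≫ inv ((projTau f I).app ((resX Y).obj K)) ≫ (epsRes f I εc η).app K ≫
        (resIso Y).hom.app K := by
  haveI := isIso_tau f I hI K hK
  haveI := isIso_projD f I hI ⟨DerivedCategory.Q.obj K, hK⟩
  simp only [traceD, NatTrans.comp_app, NatIso.isIso_inv_app, Functor.whiskerLeft_app, ObjectProperty.ι_obj]
  rw [IsIso.inv_comp_eq, projD, epsD', liftRes_app, liftRes_app]
  simp only [NatTrans.comp_app, Functor.whiskerLeft_app, Functor.rightUnitor_inv_app, Category.assoc,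
    Category.id_comp, Functor.id_map, Functor.map_comp, ← tgtIso_hom_app]
  refine congrArg (_ ≫ ·) (congrArg (_ ≫ ·) ?_)
  symm
  erw [← (pushTens f I).map_comp_assoc, Iso.hom_inv_id_app, CategoryTheory.Functor.map_id, Category.id_comp,
    Iso.inv_hom_id_app_assoc, IsIso.hom_inv_id_assoc]

theorem projTau_natural_left {I' : CochainComplex X.Modules ℤ} (ψ : I' ⟶ I) (P : CochainComplex Y.Modules ℤ) :
    DerivedCategory.Q.map ((DCoh.tensorCx.map ((pfCx f).map ψ)).app P) ≫ (projTau f I).app P =
      (projTau f I').app P ≫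
        (DCoh.Rpush f).map (DerivedCategory.Q.map ((DCoh.tensorCx.map ψ).app ((pullCx f).obj P))) := by
  show DerivedCategory.Q.map _ ≫ DerivedCategory.Q.map (ptm f I P) ≫ _ =
    (DerivedCategory.Q.map (ptm f I' P) ≫ _) ≫ _
  rw [← Functor.map_comp_assoc, ptm_natural_left f ψ P, Functor.map_comp_assoc, Category.assoc]
  exact congrArg (_ ≫ ·) ((rpushNat f).naturality _)

theorem Q_tens_map (P : CochainComplex Y.Modules ℤ) (hP : DCoh.IsKFlat P) [DCoh.HasLTensorCx P]
    {A B : CochainComplex Y.Modules ℤ} (χ : A ⟶ B) :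
    DerivedCategory.Q.map ((DCoh.tensorCx.map χ).app P) =
      (lTensorQIso P hP).inv.app A ≫ (DCoh.LTensorCx P).map (DerivedCategory.Q.map χ) ≫
        (lTensorQIso P hP).hom.app B := by
  have h := (lTensorQIso P hP).hom.naturality χ
  simp only [Functor.comp_map] at h
  rw [h, Iso.inv_hom_id_app_assoc]
  rfl

/-- The trace gives the universal property against objects tensored with an invertible complex. -/
theorem bijective_trace_core [QuasiIso η] [J.IsKInjective]
    (hI : DCoh.IsQCohD (DerivedCategory.Q.obj I))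
    (P : CochainComplex Y.Modules ℤ) (hP : DCoh.IsKFlat P) (hPq : DCoh.IsQCohD (DerivedCategory.Q.obj P))
    [DCoh.HasLTensorCx P] [(DCoh.LTensorCx P).IsEquivalence]
    [DCoh.HasLTensorCx ((pullCx f).obj P)] [(DCoh.LTensorCx ((pullCx f).obj P)).IsEquivalence]
    (hrefl : ∀ Z, DCoh.IsQCohD ((DCoh.LTensorCx ((pullCx f).obj P)).obj Z) → DCoh.IsQCohD Z)
    (huniv : ∀ Z : DCoh.D X, DCoh.IsQCohD Z → Function.Bijective fun k : Z ⟶ DerivedCategory.Q.obj I =>
      (DCoh.Rpush f).map k ≫ (rpushInjIso f I).inv ≫ DerivedCategory.Q.map εc)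
    {T : DCoh.D Y} (v : DerivedCategory.Q.obj ((DCoh.tensorCx.obj J).obj P) ≅ T)
    (W : DCoh.D X) (hW : DCoh.IsQCohD W) :
    haveI := isIso_projTau f I hI P hP hPq
    Function.Bijective fun g : W ⟶ DerivedCategory.Q.obj ((DCoh.tensorCx.obj I).obj ((pullCx f).obj P)) =>
      (DCoh.Rpush f).map g ≫ inv ((projTau f I).app P) ≫
        DerivedCategory.Q.map ((DCoh.tensorCx.map εc).app P) ≫ v.hom := by
  haveI := isIso_projTau f I hI P hP hPq
  let P' := (pullCx f).obj P
  have hP' : DCoh.IsKFlat P' := isKFlat_pullback f hP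
  let L' := DCoh.LTensorCx P'
  let Z := L'.objPreimage W
  obtain ⟨I', hI', -, ⟨eI'⟩⟩ := exists_injective_resolution X Z
  haveI := hI'
  have hI'q : DCoh.IsQCohD (DerivedCategory.Q.obj I') :=
    TildeD.isQCohD_of_iso eI' (hrefl _ (TildeD.isQCohD_of_iso (L'.objObjPreimageIso W).symm hW))
  haveI := isIso_projTau f I' hI'q P hP hPq
  let q := lTensorQIso P' hP'
  let e : DerivedCategory.Q.obj ((DCoh.tensorCx.obj I').obj P') ≅ W :=
    (q.app I').symm ≪≫ L'.mapIso eI'.symm ≪≫ L'.objObjPreimageIso W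
  let L := DCoh.LTensorCx P
  let p := lTensorQIso P hP
  let S := fun k : DerivedCategory.Q.obj I' ⟶ DerivedCategory.Q.obj I =>
    e.inv ≫ q.inv.app I' ≫ L'.map k ≫ q.hom.app I
  have hS : Function.Bijective S :=
    e.homFromEquiv.bijective.comp ((((q.app I').homFromEquiv).trans ((q.app I).homToEquiv)).bijective.comp
      (Equiv.ofBijective _ ⟨L'.map_injective, L'.map_surjective⟩).bijective) |>.imp
        (fun h k k' hk => h (by simpa [S] using hk)) (fun h g => by
          obtain ⟨k, hk⟩ := h g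
          exact ⟨k, by simpa [S] using hk⟩)
  let tgt := fun g : W ⟶ DerivedCategory.Q.obj ((DCoh.tensorCx.obj I).obj P') =>
    (DCoh.Rpush f).map g ≫ inv ((projTau f I).app P) ≫
      DerivedCategory.Q.map ((DCoh.tensorCx.map εc).app P) ≫ v.hom
  let M := fun x : (DCoh.Rpush f).obj (DerivedCategory.Q.obj I') ⟶ DerivedCategory.Q.obj J =>
    (DCoh.Rpush f).map e.inv ≫ inv ((projTau f I').app P) ≫ p.inv.app ((pfCx f).obj I') ≫
      L.map ((rpushInjIso f I').hom ≫ x) ≫ p.hom.app J ≫ v.hom
  have hM : Function.Bijective M := by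
    refine ⟨fun x y hxy => ?_, fun z => ?_⟩
    · simp only [M, cancel_epi] at hxy
      have h' := (cancel_mono (p.hom.app J ≫ v.hom)).1 (by simpa only [Category.assoc] using hxy)
      exact (cancel_epi (rpushInjIso f I').hom).1 (L.map_injective h')
    · obtain ⟨w, hw⟩ := L.map_surjective (p.hom.app ((pfCx f).obj I') ≫ (projTau f I').app P ≫
        (DCoh.Rpush f).map e.hom ≫ z ≫ v.inv ≫ p.inv.app J)
      refine ⟨(rpushInjIso f I').inv ≫ w, ?_⟩
      simp only [M, Iso.hom_inv_id_assoc, hw, Category.assoc, Iso.inv_hom_id_app_assoc, IsIso.inv_hom_id_assoc,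
        Iso.inv_hom_id_app, Category.comp_id, Iso.inv_hom_id]
      rw [← Functor.map_comp_assoc, e.inv_hom_id, CategoryTheory.Functor.map_id, Category.id_comp]
  have key : tgt ∘ S = M ∘ (fun k : DerivedCategory.Q.obj I' ⟶ DerivedCategory.Q.obj I =>
      (DCoh.Rpush f).map k ≫ (rpushInjIso f I).inv ≫ DerivedCategory.Q.map εc) := by
    funext k
    obtain ⟨ψ, rfl⟩ := exists_Q_map k
    have h1 : q.inv.app I' ≫ L'.map (DerivedCategory.Q.map ψ) ≫ q.hom.app I =
        DerivedCategory.Q.map ((DCoh.tensorCx.map ψ).app P') := by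
      have h := q.hom.naturality ψ
      simp only [Functor.comp_map] at h
      rw [h, Iso.inv_hom_id_app_assoc]
      rfl
    have h2 : (rpushInjIso f I').hom ≫ (DCoh.Rpush f).map (DerivedCategory.Q.map ψ) ≫ (rpushInjIso f I).inv =
        DerivedCategory.Q.map ((pfCx f).map ψ) := by
      have h := (rpushNat f).naturality ψ
      rw [rpushNat_app_eq, rpushNat_app_eq] at h
      rw [← Category.assoc, Iso.comp_inv_eq]
      exact h.symm
    have h3 : (DCoh.Rpush f).map (DerivedCategory.Q.map ((DCoh.tensorCx.map ψ).app P')) ≫ inv ((projTau f I).app P) =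
        inv ((projTau f I').app P) ≫ DerivedCategory.Q.map ((DCoh.tensorCx.map ((pfCx f).map ψ)).app P) := by
      rw [IsIso.comp_inv_eq, Category.assoc, IsIso.eq_inv_comp]
      exact (projTau_natural_left f I ψ P).symm
    simp only [Function.comp, tgt, S, M]
    rw [h1, reassoc_of% h2, ← Functor.map_comp, Functor.map_comp (DCoh.Rpush f) e.inv, Category.assoc,
      reassoc_of% h3]
    refine congrArg (_ ≫ ·) (congrArg (_ ≫ ·) ?_)
    rw [← Functor.map_comp_assoc, ← NatTrans.comp_app, ← Functor.map_comp, Q_tens_map P hP]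
    simp only [Category.assoc, Functor.map_comp]
    rfl
  have h0 : Function.Bijective (tgt ∘ S) := key ▸ hM.comp (huniv _ hI'q)
  exact ⟨hS.surjective.forall.2 fun a => hS.surjective.forall.2 fun b hab => congrArg S (h0.1 hab), h0.2.of_comp⟩

end

end Groth.Agent.TwistShriek
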