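import Groth.Agent.FMKLib.NatPF
import Groth.Agent.DCohLib.DualPerf
import Groth.Agent.DCohLib.LTensorCoprod
import Groth.Agent.DCohMore.BCTwistOps
import Groth.Agent.DCohMore.SpecTors

/-!
# Preliminaries for twisted inverse images: restriction, derived tensor products, supports of duals
-/

set_option autoImplicit false
set_option linter.style.haveILetI false
set_option backward.isDefEq.respectTransparency false
set_option maxHeartbeats 800000

universe u

open CategoryTheory CategoryTheory.Limits AlgebraicGeometry Pretriangulated ZeroObject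
open Groth.Agent.DCohLib Groth.Agent.DCohMore Groth.Agent.KFlat Groth.Agent.FMKLib

attribute [local instance] HasDerivedCategory.standard

noncomputable section

namespace Groth.Agent.TwistShriek

variable {X U : Scheme.{u}}

/-- Restriction to an open is the derived inverse image, naturally. -/
theorem nonempty_restrictD_iso_lpull (j : U ⟶ X) [IsOpenImmersion j] [DCoh.HasLpull j] :
    Nonempty (DCoh.restrictD j ≅ DCoh.Lpull j) :=
  nonempty_iso_of_resX (Functor.associator _ _ _ ≪≫
    Functor.isoWhiskerLeft (resX X) ((Scheme.Modules.restrictFunctor j).mapDerivedCategoryFactors ≪≫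
      Functor.isoWhiskerRight (NatIso.mapHomologicalComplex (Scheme.Modules.restrictFunctorIsoPullback j)
        (ComplexShape.up ℤ)) DerivedCategory.Q) ≪≫ (lpullResIso j).symm)

/-- The adjunction between restriction to an open and the derived direct image. -/
def restrictAdj (j : U ⟶ X) [IsOpenImmersion j] [DCoh.HasLpull j] [DCoh.HasRpush j] :
    DCoh.restrictD j ⊣ DCoh.Rpush j :=
  (lpullRpushAdj j).ofNatIsoLeft (nonempty_restrictD_iso_lpull j).some.symm

/-- An object vanishing on the members of an open cover of an open vanishes on that open. -/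
theorem isZero_restrictD_of_cover (W : X.Opens) (K : DCoh.D X)
    (h : ∀ x ∈ W, ∃ V : X.Opens, x ∈ V ∧ IsZero ((DCoh.restrictD V.ι).obj K)) :
    IsZero ((DCoh.restrictD W.ι).obj K) := by
  refine isZero_restrictD_of_support W fun i x hx => ?_
  obtain ⟨V, hxV, hV⟩ := h x hx
  exact fun hs => (isZero_restrictD_iff_support V K).1 hV i hs hxV

theorem isZero_restrictD_mono {V W : X.Opens} (hVW : V ≤ W) {K : DCoh.D X}
    (h : IsZero ((DCoh.restrictD W.ι).obj K)) : IsZero ((DCoh.restrictD V.ι).obj K) :=
  isZero_restrictD_of_cover V K fun _ hx => ⟨W, hVW hx, h⟩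

/-- Derived tensor products are triangulated up to the connecting map. -/
theorem exTri_lTensorCx (E : CochainComplex X.Modules ℤ) [DCoh.HasLTensorCx E] : ExTri (DCoh.LTensorCx E) := by
  let E' := (resX X).obj E
  have hE' : DCoh.IsKFlat E' := isKFlat_resX E
  haveI : IsIso (DerivedCategory.Q.map ((resXπ X).app E)) := isIso_Q_resXπ E
  obtain ⟨a⟩ := nonempty_lTensor_of_iso (E := E) (E' := E') (asIso (DerivedCategory.Q.map ((resXπ X).app E)))
  refine ExTri.of_natIso (exTri_of_split (DCoh.LTensorCx E') fun S hS => ?_) a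
  let q := lTensorQIso E' hE'
  refine exists_triangle_of_iso (q.app S.X₁) (q.app S.X₂) (q.app S.X₃) (q.hom.naturality S.f) (q.hom.naturality S.g) ?_
  have h := DCohLib.shortExact_tenL (fun n => (hS n).some) E'
  have h' : (S.map (tenR E')).ShortExact := ShortComplex.shortExact_of_iso
    (ShortComplex.isoMk (symS E' S.X₁) (symS E' S.X₂) (symS E' S.X₃)
      (symS_natural_right E' S.f).symm (symS_natural_right E' S.g).symm) h
  exact exists_triangle_of_shortExact (S := S.map (tenR E')) h'

/-- Derived tensor products commute with sums. -/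
theorem preservesCoproduct_lTensorCx (E : CochainComplex X.Modules ℤ) [DCoh.HasLTensorCx E] {κ : Type u}
    (W : κ → DCoh.D X) : PreservesColimit (Discrete.functor W) (DCoh.LTensorCx E) := by
  haveI := hasCoproduct_D' W
  haveI := hasCoproduct_D' fun k => (DCoh.LTensorCx E).obj (W k)
  haveI := isIso_sigmaComparison_lTensorCx E W
  exact PreservesCoproduct.of_iso_comparison _ _

/-- The internal Hom out of a complex vanishing on an open vanishes there. -/
theorem isZero_restrict_hCx {K : CochainComplex X.Modules ℤ} (hK : DCoh.IsKFlat K) (V : X.Opens)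
    (h : IsZero ((DCoh.restrictD V.ι).obj (DerivedCategory.Q.obj K))) (R : CochainComplex X.Modules ℤ)
    [R.IsKInjective] : IsZero ((DCoh.restrictD V.ι).obj (DerivedCategory.Q.obj ((hCx K).obj R))) := by
  let Z : CochainComplex X.Modules ℤ := 0
  have hZ : IsZero Z := isZero_zero _
  let β : Z ⟶ K := 0
  have hβ : QuasiIso ((resCx V.ι).map β) := by
    haveI : IsIso (DerivedCategory.Q.map ((resCx V.ι).map β)) :=
      ⟨0, (DerivedCategory.Q.map_isZero ((resCx V.ι).map_isZero hZ)).eq_of_src _ _,
        (h.of_iso (restrictDQ V.ι K).symm).eq_of_src _ _⟩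
    exact (DerivedCategory.isIso_Q_map_iff_quasiIso (C := (V : Scheme.{u}).Modules) _).1 inferInstance
  haveI := quasiIso_res_hMap β (isKFlat_of_isZero hZ) hK hβ R
  haveI : IsIso (DerivedCategory.Q.map ((resCx V.ι).map ((hMap β).app R))) :=
    (DerivedCategory.isIso_Q_map_iff_quasiIso (C := (V : Scheme.{u}).Modules) _).2 ‹_›
  exact ((DerivedCategory.Q.map_isZero ((resCx V.ι).map_isZero (isZero_hCx hZ R))).of_iso
    (asIso (DerivedCategory.Q.map ((resCx V.ι).map ((hMap β).app R))))).of_iso (restrictDQ V.ι _)

/-- The derived internal Hom out of an object vanishing on an open vanishes there. -/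
theorem isZero_restrict_rSheafHom {K : CochainComplex X.Modules ℤ} (hK : DCoh.IsKFlat K) [DCoh.HasLTensorCx K]
    [DCoh.HasRSheafHom K] (V : X.Opens) (h : IsZero ((DCoh.restrictD V.ι).obj (DerivedCategory.Q.obj K)))
    (M : DCoh.D X) : IsZero ((DCoh.restrictD V.ι).obj ((DCoh.RSheafHom K).obj M)) := by
  obtain ⟨R, hR, -, ⟨e⟩⟩ := exists_injective_resolution X M
  haveI := hR
  obtain ⟨eR⟩ := nonempty_rSheafHom_hCx K hK R
  exact (isZero_restrict_hCx hK V h R).of_iso
    ((DCoh.restrictD V.ι).mapIso ((DCoh.RSheafHom K).mapIso e ≪≫ eR.symm))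

/-- The derived internal Hom out of a perfect object preserves quasi-coherence. -/
theorem isQCohD_rSheafHom {K : CochainComplex X.Modules ℤ} (hK : DCoh.IsKFlat K)
    (hKp : DCoh.IsPerfect (DerivedCategory.Q.obj K)) [DCoh.HasLTensorCx K] [DCoh.HasRSheafHom K]
    (M : DCoh.D X) (hM : DCoh.IsQCohD M) : DCoh.IsQCohD ((DCoh.RSheafHom K).obj M) := by
  let O' := (DCoh.RSheafHom K).obj ((DerivedCategory.singleFunctor X.Modules 0).obj (Coh.structureModule X))
  let D := (resX X).obj (DerivedCategory.Q.objPreimage O')
  obtain ⟨e⟩ := nonempty_lTensor_dual K hK hKp D (isKFlat_resX _) (resXIso O') M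
  exact TildeD.isQCohD_of_iso e (TildeD.isQCohD_lTensorCx D
    (isQCohD_of_isPerfect (isPerfect_iso (resXIso O').symm (isPerfect_rSheafHom_unit K hK hKp))) M hM)

end Groth.Agent.TwistShriek
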