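import Groth.Agent.TwistShriek.NumForm
import Groth.Agent.TwistShriek.SurfSec
import Groth.Agent.TwistShriek.SurfCurve
import Groth.Agent.TwistShriek.SurfInter
import Groth.Agent.ASp.GeomRedEt
import Groth.Agent.CurveLib.GlobalFun
import Groth.Agent.S8914
import Groth.Prelude.Def_NumR

/-!
# Classes modulo numerical equivalence on a surface
-/

set_option autoImplicit false
set_option backward.isDefEq.respectTransparency false
set_option maxHeartbeats 1000000
set_option linter.style.haveILetI false

universe u

open CategoryTheory CategoryTheory.Limits AlgebraicGeometry TopologicalSpace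
open Groth.Agent.PullbackMod Groth.Agent.DCohLib Groth.Agent.Nakai
open Groth.Agent.IntLib (PicRing pairing dif inv')

noncomputable section

namespace Groth.Agent.TwistShriek

section NoLaw

variable (k : Type u) [Field k] {X : Scheme.{u}} [X.Over (Spec (CommRingCat.of k))]
  [IsProper (X ↘ Spec (CommRingCat.of k))] [Smooth (X ↘ Spec (CommRingCat.of k))] [IsIntegral X]

include k in
/-- The ideal of an integral curve on a smooth surface is invertible. -/
theorem invertible_curve (hdim : topologicalKrullDim X = 2) (J : X.IdealSheafData) (hJ : IsIntegral J.subscheme)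
    (hJd : topologicalKrullDim (J.support : Set X) = 1) : PicF.IsInvertible (ClSub.idealMod J) := by
  haveI := hJ
  haveI : CompactSpace X := QuasiCompact.compactSpace_of_compactSpace (X ↘ Spec (CommRingCat.of k))
  have hd : topologicalKrullDim J.subscheme = 1 := by
    rw [← hJd, ← Scheme.IdealSheafData.range_subschemeι]
    exact (J.subschemeι.isEmbedding.toHomeomorph).isHomeomorph.topologicalKrullDim_eq
  refine (S8914.result _).2 ?_
  have h := isEffCartierIdeal_curve (X ↘ Spec (CommRingCat.of k)) hdim
    (fun x => ASp.isRegularLocalRing_stalk_of_smooth_field (X ↘ Spec (CommRingCat.of k)) x) J.subschemeι hd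
  rwa [Scheme.IdealSheafData.ker_subschemeι] at h

omit [Smooth (X ↘ Spec (CommRingCat.of k))] [IsIntegral X] in
/-- The degree on a curve as a form. -/
theorem pairing_quotMod_cl {J : X.IdealSheafData} (hI : PicF.IsInvertible (ClSub.idealMod J)) (z : PicRing X) :
    pairing k (ClSub.quotMod J) z = - form k (cl hI) z := by
  rw [IntLib.pairing_quotMod k hI, form, cl_eq_neg_dif, neg_mul, map_neg, neg_neg]

/-- A module orthogonal to everything is numerically trivial. -/
theorem isNumEquivZero_of_form (hdim : topologicalKrullDim X = 2) {L : X.Modules} (hL : PicF.IsInvertible L)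
    (h : ∀ (M : X.Modules) (hM : PicF.IsInvertible M), form k (cl hL) (cl hM) = 0) :
    Pic13.IsNumEquivZero k X L := by
  haveI := EulerIneqLib.isNoetherian_proper (X := X) k
  haveI : CompactSpace X := QuasiCompact.compactSpace_of_compactSpace (X ↘ Spec (CommRingCat.of k))
  intro Y i _ hY hYd
  haveI := hY
  have hI : PicF.IsInvertible (ClSub.idealMod i.ker) := (S8914.result _).2
    (isEffCartierIdeal_curve (X ↘ Spec (CommRingCat.of k)) hdim
      (fun x => ASp.isRegularLocalRing_stalk_of_smooth_field (X ↘ Spec (CommRingCat.of k)) x) i hYd)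
  obtain ⟨f⟩ := nonempty_quotMod_ker_iso i
  rw [curveDeg_eq k hL i (hYd.trans Nat.cast_one.symm), ← IntLib.pairing_iso k f, pairing_quotMod_cl k hI,
    form_comm, h _ hI, neg_zero]

end NoLaw

section Classes

variable {k : Type u} [Field k] {X : Scheme.{u}} [X.Over (Spec (CommRingCat.of k))] [PicGrp.Law X]

theorem clR_tensor {L M : X.Modules} (hL : PicF.IsInvertible L) (hM : PicF.IsInvertible M)
    (h : PicF.IsInvertible (CohB1.tensorMod L M)) :
    NumR.clR k X (CohB1.tensorMod L M) h = NumR.clR k X L hL + NumR.clR k X M hM := by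
  have e : PicGrp.cls (CohB1.tensorMod L M) h = PicGrp.cls L hL * PicGrp.cls M hM :=
    Subtype.ext (PicGrp.cls_mul_cls_val hL hM).symm
  simp only [NumR.clR, NumR.cl, e, ofMul_mul, map_add]

theorem exists_clR_eq (y : NumR.N1 k X) :
    ∃ (N : X.Modules) (hN : PicF.IsInvertible N), NumR.toN1R k X y = NumR.clR k X N hN := by
  obtain ⟨N, hN, rfl⟩ := NumR.exists_eq_cl y
  exact ⟨N, hN, rfl⟩

/-- Integral combinations of classes are classes. -/
theorem exists_clR_sum {ι : Type*} (s : Finset ι) (a : ι → ℤ) (L : ι → X.Modules) (hL : ∀ i, PicF.IsInvertible (L i)) :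
    ∃ (N : X.Modules) (hN : PicF.IsInvertible N),
      NumR.clR k X N hN = ∑ i ∈ s, (a i : ℝ) • NumR.clR k X (L i) (hL i) := by
  obtain ⟨N, hN, h⟩ := exists_clR_eq (∑ i ∈ s, a i • NumR.cl k X (L i) (hL i))
  refine ⟨N, hN, h.symm.trans ?_⟩
  rw [map_sum]
  exact Finset.sum_congr rfl fun i _ => by rw [map_zsmul, Int.cast_smul_eq_zsmul]; rfl

theorem clR_structureModule (h : PicF.IsInvertible (Coh.structureModule X)) :
    NumR.clR k X (Coh.structureModule X) h = 0 := by
  have e : PicGrp.cls (Coh.structureModule X) h = 1 := PicGrp.cls_structureModule_eq_one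
  simp only [NumR.clR, NumR.cl, e, ofMul_one, map_zero]

theorem clR_iso {L M : X.Modules} (hL : PicF.IsInvertible L) (hM : PicF.IsInvertible M) (e : L ≅ M) :
    NumR.clR k X L hL = NumR.clR k X M hM := by
  simp only [NumR.clR, NumR.cl, (PicGrp.cls_eq_cls_iff hL hM).2 ⟨e⟩]

end Classes

section Form

variable {k : Type u} [Field k] {X : Scheme.{u}} [X.Over (Spec (CommRingCat.of k))]
  [IsProper (X ↘ Spec (CommRingCat.of k))] [PicGrp.Law X] {B : NumR.N1R k X →ₗ[ℝ] NumR.N1R k X →ₗ[ℝ] ℝ}
  (hdim : topologicalKrullDim X = 2) (hB : NumR.IsIntForm₂ k X B)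
include hdim hB

theorem B_clR {L M : X.Modules} (hL : PicF.IsInvertible L) (hM : PicF.IsInvertible M) :
    B (NumR.clR k X L hL) (NumR.clR k X M hM) = (form k (cl hL) (cl hM) : ℝ) := by
  rw [hB L M hL hM, intNum_eq_form k hdim.le hL hM]

theorem B_symm (x y : NumR.N1R k X) : B x y = B y x := by
  have h : NumR.IsIntForm₂ k X B.flip := fun L M hL hM => by
    rw [LinearMap.flip_apply, B_clR hdim hB hM hL, form_comm, intNum_eq_form k hdim.le hL hM]
  rw [← LinearMap.flip_apply (f := B), NumR.isIntForm₂_unique h hB]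

theorem B_curveCl {J : X.IdealSheafData} (hI : PicF.IsInvertible (ClSub.idealMod J)) {M : X.Modules}
    (hM : PicF.IsInvertible M) :
    B (NumR.clR k X M hM) (NumR.curveCl k X J hI) = (pairing k (ClSub.quotMod J) (cl hM) : ℝ) := by
  rw [NumR.curveCl, map_neg, B_clR hdim hB hM hI, pairing_quotMod_cl k hI, Int.cast_neg, form_comm]

theorem B_curve_curve {I J : X.IdealSheafData} (hI : PicF.IsInvertible (ClSub.idealMod I))
    (hJ : PicF.IsInvertible (ClSub.idealMod J)) :
    B (NumR.curveCl k X I hI) (NumR.curveCl k X J hJ) = (form k (cl hI) (cl hJ) : ℝ) := by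
  rw [NumR.curveCl, NumR.curveCl, map_neg, map_neg, LinearMap.neg_apply, neg_neg, B_clR hdim hB hI hJ]

variable [Smooth (X ↘ Spec (CommRingCat.of k))] [IsIntegral X]

theorem clR_eq_zero {L : X.Modules} (hL : PicF.IsInvertible L)
    (h : ∀ (M : X.Modules) (hM : PicF.IsInvertible M), B (NumR.clR k X L hL) (NumR.clR k X M hM) = 0) :
    NumR.clR k X L hL = 0 := by
  have h0 : NumR.cl k X L hL = 0 := NumR.cl_eq_zero hL (isNumEquivZero_of_form k hdim hL fun M hM => by
    have h1 := h M hM
    rw [B_clR hdim hB] at h1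
    exact_mod_cast h1)
  rw [NumR.clR_def, h0, map_zero]

variable [Module.Finite ℝ (NumR.N1R k X)]

omit hdim hB [IsProper (X ↘ Spec (CommRingCat.of k))] [Smooth (X ↘ Spec (CommRingCat.of k))] [IsIntegral X] in
theorem exists_basis_clR : ∃ (n : ℕ) (L : Fin n → X.Modules) (hL : ∀ i, PicF.IsInvertible (L i))
    (b : Module.Basis (Fin n) ℝ (NumR.N1R k X)), ∀ i, b i = NumR.clR k X (L i) (hL i) := by
  let b0 := Module.Basis.ofSpan (NumR.span_clR (k := k) (X := X)).ge
  haveI : Fintype _ := FiniteDimensional.fintypeBasisIndex b0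
  let b := b0.reindex (Fintype.equivFin _)
  have hb : ∀ i, ∃ (L : X.Modules) (hL : PicF.IsInvertible L), b i = NumR.clR k X L hL := fun i => by
    rw [Module.Basis.reindex_apply]
    exact Module.Basis.ofSpan_subset (NumR.span_clR (k := k) (X := X)).ge ⟨_, rfl⟩
  choose L hL h using hb
  exact ⟨_, L, hL, b, h⟩

/-- The intersection form is nondegenerate. -/
theorem eq_zero_of_radical {x : NumR.N1R k X} (hx : ∀ y, B x y = 0) : x = 0 := by
  classical
  obtain ⟨n, L, hL, b, hb⟩ := exists_basis_clR (k := k) (X := X)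
  let G : Matrix (Fin n) (Fin n) ℤ := Matrix.of fun i j => form k (cl (hL i)) (cl (hL j))
  have hGB : ∀ i j, B (b i) (b j) = (G i j : ℝ) := fun i j => by rw [hb, hb, B_clR hdim hB]; rfl
  have hdet : G.det ≠ 0 := fun h0 => by
    obtain ⟨v, hv, hv0⟩ := Matrix.exists_vecMul_eq_zero_iff.2 h0
    obtain ⟨N, hN, hNv⟩ := exists_clR_sum (k := k) Finset.univ v L hL
    have hNb : ∀ j, B (NumR.clR k X N hN) (b j) = 0 := fun j => by
      rw [hNv, map_sum, LinearMap.sum_apply]
      simp only [map_smul, LinearMap.smul_apply, smul_eq_mul, ← hb, hGB]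
      exact_mod_cast congrFun hv0 j
    have hN0 : NumR.clR k X N hN = 0 := clR_eq_zero hdim hB hN fun M hM => by
      rw [← b.sum_repr (NumR.clR k X M hM), map_sum]
      exact Finset.sum_eq_zero fun j _ => by rw [map_smul, hNb, smul_zero]
    rw [hN0] at hNv
    simp only [← hb] at hNv
    exact hv (funext fun i => by exact_mod_cast Fintype.linearIndependent_iff.1 b.linearIndependent _ hNv.symm i)
  have hc : Matrix.vecMul (fun i => b.repr x i) (G.map (Int.castRingHom ℝ)) = 0 := funext fun j => by
    have h1 := hx (b j)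
    rw [← b.sum_repr x, map_sum, LinearMap.sum_apply] at h1
    simp only [map_smul, LinearMap.smul_apply, smul_eq_mul, hGB] at h1
    simpa [Matrix.vecMul, dotProduct] using h1
  have hdetR : (G.map (Int.castRingHom ℝ)).det ≠ 0 := fun h0 => by
    rw [← RingHom.mapMatrix_apply, ← RingHom.map_det] at h0
    exact hdet (Int.cast_eq_zero.1 h0)
  by_contra hne
  refine hdetR (Matrix.exists_vecMul_eq_zero_iff.1 ⟨_, fun h0 => hne ?_, hc⟩)
  rw [← b.sum_repr x]
  exact Finset.sum_eq_zero fun i _ => by rw [show b.repr x i = 0 from congrFun h0 i, zero_smul]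

/-- Hodge index theorem for real classes. -/
theorem isHodge {H : X.Modules} (hH : CohB1.IsAmple H) : NumForm.IsHodge B (NumR.clR k X H hH.1) where
  symm := B_symm hdim hB
  pos := by
    rw [B_clR hdim hB]
    exact_mod_cast form_ample_pos k hdim hH
  definite := by
    obtain ⟨h, hh⟩ : ∃ h, h = NumR.clR k X H hH.1 := ⟨_, rfl⟩
    have hpos : 0 < B h h := by rw [hh, B_clR hdim hB]; exact_mod_cast form_ample_pos k hdim hH
    have key : ∀ x, B x h = 0 → B x x ≤ 0 := by
      obtain ⟨n, L, hL, b, hb⟩ := exists_basis_clR (k := k) (X := X)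
      intro x hxh
      have hq := NumForm.nonpos_of_int
        (F := fun c : Fin n → ℝ => B h h * B (∑ i, c i • b i) (∑ i, c i • b i) - B (∑ i, c i • b i) h ^ 2) ?_ ?_ ?_
        (fun i => b.repr x i)
      · simp only [b.sum_repr, hxh] at hq
        by_contra hlt
        push Not at hlt
        nlinarith [mul_pos hpos hlt]
      · simp only [map_sum, map_smul, LinearMap.sum_apply, LinearMap.smul_apply, smul_eq_mul]
        fun_prop
      · intro t c
        have e : ∑ i, (t • c) i • b i = t • ∑ i, c i • b i := by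
          rw [Finset.smul_sum]
          exact Finset.sum_congr rfl fun i _ => by rw [Pi.smul_apply, smul_eq_mul, mul_smul]
        simp only [e, map_smul, LinearMap.smul_apply, smul_eq_mul]
        ring
      · intro a
        obtain ⟨N, hN, hNa⟩ := exists_clR_sum (k := k) Finset.univ a L hL
        simp only [hb, ← hNa, hh, B_clR hdim hB]
        suffices hle : form k (cl hH.1) (cl hH.1) * form k (cl hN) (cl hN) - form k (cl hN) (cl hH.1) ^ 2 ≤ 0 by
          exact_mod_cast hle
        have ha := form_ample_pos k hdim hH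
        have h1 := form_nonpos k hdim hH
          (u := form k (cl hH.1) (cl hH.1) • cl hN + (-form k (cl hN) (cl hH.1)) • cl hH.1)
          (add_mem (zsmul_mem (cl_mem _) _) (zsmul_mem (cl_mem _) _))
          (by rw [form_add_left, form_smul_left, form_smul_left]; ring)
        simp only [form_add_left, form_smul_left, form_add_right, form_smul_right,
          form_comm k (cl hH.1) (cl hN)] at h1
        nlinarith [h1, ha]
    intro x hxh hxx
    rw [← hh] at hxh
    have hx0 : B x x = 0 := le_antisymm (key x hxh) hxx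
    have hy0 : ∀ y, B y h = 0 → B x y = 0 := fun y hy => by
      obtain ⟨c, hc⟩ : ∃ c : ℝ, c = B x y := ⟨_, rfl⟩
      obtain ⟨d, hd⟩ : ∃ d : ℝ, d = -B y y := ⟨_, rfl⟩
      have hd0 : 0 ≤ d := hd ▸ neg_nonneg.2 (key y hy)
      have h1 := key ((d + 1) • x + c • y) (by
        simp only [map_add, map_smul, LinearMap.add_apply, LinearMap.smul_apply, smul_eq_mul, hxh, hy]; ring)
      simp only [map_add, map_smul, LinearMap.add_apply, LinearMap.smul_apply, smul_eq_mul, hx0,
        B_symm hdim hB y x, ← hc, show B y y = -d by rw [hd, neg_neg]] at h1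
      rw [← hc]
      nlinarith [mul_nonneg (mul_self_nonneg c) hd0]
    refine eq_zero_of_radical hdim hB fun z => ?_
    have h2 := hy0 (B h h • z - B z h • h) (by
      simp only [map_sub, map_smul, LinearMap.sub_apply, LinearMap.smul_apply, smul_eq_mul]; ring)
    simp only [map_sub, map_smul, smul_eq_mul, hxh, mul_zero, sub_zero] at h2
    exact (mul_eq_zero.1 h2).resolve_left hpos.ne'

end Form

end Groth.Agent.TwistShriek
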