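import Groth.Agent.TwistShriek.SurfBlowPlane
import Groth.Agent.TwistShriek.SurfSec
import Groth.Agent.NakaiLib.Hodge

/-! # Sections of invertible modules on smooth surfaces -/

set_option autoImplicit false
set_option backward.isDefEq.respectTransparency false
set_option linter.style.haveILetI false
set_option maxHeartbeats 1000000

universe u

open CategoryTheory CategoryTheory.Limits AlgebraicGeometry TopologicalSpace
open Groth.Agent.PullbackMod Groth.Agent.DCohLib Groth.Agent.Nakai
open Groth.Agent.IntLib (PicRing pairing dif)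

noncomputable section

namespace Groth.Agent.TwistShriek

theorem num_rr {c a b h0 h1 h2 : ℤ} (h : 2 * c = a - b + 2 * (h0 - h1 + h2)) (ha : a = 0) (hb : b = 0)
    (e : h1 = 0) (e0 : h0 = 1) (e2 : h2 = 1) : c = 2 := by omega
theorem num_two {c l0 l1 l2 : ℤ} (h : c = l0 - l1 + l2) (hc : c = 2) (h1 : 0 ≤ l1) (e : l0 = 0) (e' : l2 = 0) :
    False := by omega
theorem num_growth {a b c h0 h1 : ℤ} {m m₀ : ℕ} (ha : 0 < a) (hm₀ : 2 * |b| + 4 * |c| < (m₀ : ℤ)) (hm : m₀ ≤ m)
    (h : 2 * (h0 - h1) = (m : ℤ) * ((m : ℤ) * a) - (m : ℤ) * b + 2 * c) (h1n : 0 ≤ h1) :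
    (m : ℤ) * ((m : ℤ) * a) < 4 * h0 := by
  have hm' : (m₀ : ℤ) ≤ m := by exact_mod_cast hm
  have hbn := abs_nonneg b
  have hcn := abs_nonneg c
  have hm1 : (1 : ℤ) ≤ m := by omega
  have e1 : (m : ℤ) * b ≤ (m : ℤ) * |b| := mul_le_mul_of_nonneg_left (le_abs_self b) (by omega)
  have e2 : -c ≤ (m : ℤ) * |c| := le_trans (neg_le_abs c) (le_mul_of_one_le_left hcn hm1)
  have e3 : (m : ℤ) * (2 * |b| + 4 * |c|) < (m : ℤ) * m := by
    refine mul_lt_mul_of_pos_left ?_ (by omega)
    omega
  have e4 : (m : ℤ) * (m : ℤ) ≤ (m : ℤ) * ((m : ℤ) * a) :=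
    mul_le_mul_of_nonneg_left (le_mul_of_one_le_right (by omega) ha) (by omega)
  nlinarith

theorem num_big {b c w x m : ℤ} (h : 2 * b + 4 * c + |w| + 1 ≤ m) (hb : 0 ≤ b) (hc : 0 ≤ c) (hx : 0 < x) :
    2 * b + 4 * c < m ∧ w < m * x := by
  have h2 := abs_nonneg w
  exact ⟨by omega, lt_of_lt_of_le (show w < m by have := le_abs_self w; omega) (le_mul_of_one_le_right (by omega) hx)⟩

theorem num_neg {w p x : ℤ} (h1 : 0 ≤ w + p) (h2 : x = -p) (h : w < x) : False := by omega

variable (k : Type u) [Field k] {X : Scheme.{u}} [X.Over (Spec (CommRingCat.of k))]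
  [IsProper (X ↘ Spec (CommRingCat.of k))]

theorem inverse_mem {L L' : X.Modules} (hL : PicF.IsInvertible L) (hL' : PicF.IsInvertible L')
    (e : CohB1.tensorMod L L' ≅ Coh.structureModule X) : cl hL - (- cl hL') ∈ Aug X ^ 2 := by
  have h := cl_mul_inverse_mem hL hL' e
  rwa [show dif hL' = - cl hL' by rw [cl_eq_neg_dif, neg_neg]] at h

theorem form_neg_left (u v : PicRing X) : form k (-u) v = - form k u v := by rw [form, form, neg_mul, map_neg]

/-- Intersection numbers with an inverse. -/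
theorem form_inverse (hdim : topologicalKrullDim X = 2) {L L' : X.Modules} (hL : PicF.IsInvertible L)
    (hL' : PicF.IsInvertible L') (e : CohB1.tensorMod L L' ≅ Coh.structureModule X) {v : PicRing X}
    (hv : v ∈ Aug X) : form k (cl hL) v = - form k (cl hL') v :=
  (form_congr k hdim (inverse_mem hL hL' e) hv).trans (form_neg_left k _ _)

variable [IsIntegral X] [Smooth (X ↘ Spec (CommRingCat.of k))] [IsAlgClosed k]

/-- A module orthogonal to an ample one which has a section is trivial. -/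
theorem nonempty_iso_of_section (hdim : topologicalKrullDim X = 2) {H : X.Modules} (hH : CohB1.IsAmple H)
    {L : X.Modules} (hL : PicF.IsInvertible L) (h0 : form k (cl hL) (cl hH.1) = 0)
    (hs : Nontrivial (Coh.HH X L 0)) : Nonempty (L ≅ Coh.structureModule X) := by
  haveI := EulerIneqLib.isNoetherian_proper (X := X) k
  haveI := hs
  obtain ⟨s, hs0⟩ := CurveLib.exists_hom_ne_zero L
  have hne : (CohB1.genLocus L s : Set X).Nonempty := by
    by_contra h
    exact hs0 (S7641.eq_zero_of_genLocus_eq_bot hL s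
      (TopologicalSpace.Opens.ext (Set.not_nonempty_iff_eq_empty.1 h)))
  obtain ⟨D, hD, ⟨θ⟩⟩ := exists_divisor_of_genLocus hL s hne
  have hDI : PicF.IsInvertible (ClSub.idealMod D) := (S8914.result _).2 hD
  rw [form_inverse k hdim hL hDI θ (cl_mem hH.1), neg_eq_zero] at h0
  by_cases hDt : D = ⊤
  · subst hDt
    have hz : IsZero (ClSub.quotMod (⊤ : X.IdealSheafData)) := DCohLib.isZero_of_stalks fun x => by
      by_contra hns
      simpa using IntLib.support_quotMod_subset (⊤ : X.IdealSheafData) hns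
    let eI : ClSub.idealMod (⊤ : X.IdealSheafData) ≅ Coh.structureModule X :=
      kernelIsoOfEq (hz.eq_of_tgt (ClSub.toSubscheme (⊤ : X.IdealSheafData)) 0) ≪≫ kernelZeroIsoSource
    exact ⟨(AmpleLib.unitR L).symm ≪≫ AmpleLib.tIso (Iso.refl L) eI.symm ≪≫ θ⟩
  · exact absurd h0 (form_ideal_neg k hdim.le hH hDI (dim_divisor k hdim hD hDt)).ne

/-- On a surface with trivial canonical module and no irregularity numerically trivial modules are trivial. -/
theorem nonempty_iso_of_numTrivial_K3 (hdim : topologicalKrullDim X = 2) {H : X.Modules} (hH : CohB1.IsAmple H)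
    (hK : ExtPow.IsExtPow 2 (Omega.sheaf (X ↘ Spec (CommRingCat.of k))) (Coh.structureModule X))
    (hq : Module.finrank k (Coh.HH X (Coh.structureModule X) 1) = 0)
    {L : X.Modules} (hL : PicF.IsInvertible L) (hnum : ∀ v ∈ Aug X, form k (cl hL) v = 0) :
    Nonempty (L ≅ Coh.structureModule X) := by
  haveI := EulerIneqLib.isNoetherian_proper (X := X) k
  obtain ⟨hOi, hd, hdj⟩ := canonical_data_proper k hdim hK
  obtain ⟨L', hL', ⟨e⟩⟩ := AmpleEmb.exists_isInverseOf hL
  have hcl0 : cl hOi = 0 := by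
    have e1 : IntLib.inv' hOi = 1 := Subtype.ext rfl
    rw [cl, e1, map_one, sub_self]
  have hsum : ∀ A : X.Modules, Curv2.euler k X A = (Module.finrank k (Coh.HH X A 0) : ℤ) -
      Module.finrank k (Coh.HH X A 1) + Module.finrank k (Coh.HH X A 2) := fun A => by
    rw [CurveLib.euler_eq_sum (K := k) A 3 fun p hp => CurveLib.subsingleton_HH_of_dim A (d := 2) hdim.le (by omega),
      Finset.sum_range_succ, Finset.sum_range_succ, Finset.sum_range_succ, Finset.sum_range_zero]
    simp only [pow_zero, pow_one, one_mul, neg_one_mul, zero_add, neg_one_sq]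
    ring
  have hh0 : Module.finrank k (Coh.HH X (Coh.structureModule X) 0) = 1 := CurveLib.finrank_H0_structure
  have hO2 := hdj (Coh.structureModule X) (Coh.structureModule X) hOi ⟨AmpleLib.unitL _⟩ 0 (by omega)
  rw [(CurveLib.hMap_bijective_finrank (k := k) (AmpleLib.unitL (Coh.structureModule X)) 0), hh0, Nat.sub_zero] at hO2
  have hrr := two_mul_euler_of_duality k hdim.le hOi hd hL
  rw [intNum_eq_form k hdim.le hL hL, intNum_eq_form k hdim.le hL hOi, hsum (Coh.structureModule X)] at hrr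
  have hc := num_rr hrr (hnum _ (cl_mem hL)) (hnum _ (cl_mem hOi)) (by exact_mod_cast hq) (by exact_mod_cast hh0)
    (by exact_mod_cast hO2.symm)
  have hL2 := hdj L L' hL ⟨e⟩ 0 (by omega)
  rw [CurveLib.hMap_bijective_finrank (k := k) (AmpleLib.unitL L') 0, Nat.sub_zero] at hL2
  haveI := EulerIneqLib.finite_HH (k := k) (CurveLib.isCoh_of_isInvertible hL) 0
  haveI := EulerIneqLib.finite_HH (k := k) (CurveLib.isCoh_of_isInvertible hL') 0
  by_cases h0 : Module.finrank k (Coh.HH X L 0) = 0
  · have h2 : 0 < Module.finrank k (Coh.HH X L' 0) := by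
      by_contra h
      push Not at h
      exact num_two (hsum L) hc (Int.natCast_nonneg _) (by exact_mod_cast h0)
        (by exact_mod_cast hL2.symm.trans (Nat.le_zero.1 h))
    have h' : form k (cl hL') (cl hH.1) = 0 := by
      rw [← neg_eq_zero, ← form_inverse k hdim hL hL' e (cl_mem hH.1)]
      exact hnum _ (cl_mem hH.1)
    obtain ⟨eL'⟩ := nonempty_iso_of_section k hdim hH hL' h' (Module.nontrivial_of_finrank_pos h2)
    exact ⟨(AmpleLib.unitR L).symm ≪≫ AmpleLib.tIso (Iso.refl L) eL'.symm ≪≫ e⟩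
  · exact nonempty_iso_of_section k hdim hH hL (hnum _ (cl_mem hH.1))
      (Module.nontrivial_of_finrank_pos (Nat.pos_of_ne_zero h0))

/-- Quadratic growth of sections. -/
theorem growth_h0 (hdim : topologicalKrullDim X = 2) {M : X.Modules} (hM : CohB1.IsAmple M) {W : X.Modules}
    (hW : ExtPow.IsExtPow 2 (Omega.sheaf (X ↘ Spec (CommRingCat.of k))) W)
    {L L' : X.Modules} (hL : PicF.IsInvertible L) (hL' : PicF.IsInvertible L')
    (e : CohB1.tensorMod L L' ≅ Coh.structureModule X) (hsq : 0 < form k (cl hL) (cl hL))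
    (hLM : 0 < form k (cl hL) (cl hM.1)) :
    ∃ c : ℚ, 0 < c ∧ ∃ m₀ : ℕ, ∀ m : ℕ, m₀ ≤ m →
      c * (m : ℚ) ^ 2 < (Module.finrank k (Coh.HH X (CohB1.tensorPow L m) 0) : ℚ) := by
  haveI := EulerIneqLib.isNoetherian_proper (X := X) k
  obtain ⟨hWi, hd, hdj⟩ := canonical_data_proper k hdim hW
  set a := form k (cl hL) (cl hL) with ha
  set b := form k (cl hL) (cl hWi) with hb
  set w := form k (cl hWi) (cl hM.1) with hw
  set c := Curv2.euler k X (Coh.structureModule X) with hc
  have hn : NefP k hM.1 := fun ξ hξ => by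
    have := (isPos_cl_pow k hM 1 _ (IntLib.isPiece_compMod ξ).coh (lt_of_le_of_lt
      ((Topology.IsEmbedding.inclusion ((IntLib.support_quotMod_subset _).trans
        (Scheme.IdealSheafData.coe_support_vanishingIdeal _).le)).isInducing.topologicalKrullDim_le.trans hξ.le)
      (by exact_mod_cast Nat.lt_succ_self 1))).1
    rwa [pow_one] at this
  refine ⟨(a : ℚ) / 4, div_pos (by exact_mod_cast hsq) (by norm_num),
    (2 * |b| + 4 * |c| + |w| + 1).toNat, fun m hm => ?_⟩
  obtain ⟨hm', hwm⟩ : 2 * |b| + 4 * |c| < (m : ℤ) ∧ w < (m : ℤ) * form k (cl hL) (cl hM.1) := by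
    have h1 : 2 * |b| + 4 * |c| + |w| + 1 ≤ (m : ℤ) := le_trans (Int.self_le_toNat _) (by exact_mod_cast hm)
    exact num_big h1 (abs_nonneg b) (abs_nonneg c) hLM
  have hP := AmpleLib.isInvertible_tensorPow hL m
  obtain ⟨P', hP', ⟨eP⟩⟩ := AmpleEmb.exists_isInverseOf hP
  have hpow := cl_tensorPow_sub_mem hL m
  have hf : ∀ {v : PicRing X}, v ∈ Aug X → form k (cl hP) v = (m : ℤ) * form k (cl hL) v := fun {v} hv => by
    rw [form_congr k hdim hpow hv, form, form, mul_assoc, ← nsmul_eq_mul, map_nsmul, nsmul_eq_mul]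
  have hrr := two_mul_euler_of_duality k hdim.le hWi hd hP
  rw [intNum_eq_form k hdim.le hP hP, intNum_eq_form k hdim.le hP hWi, hf (cl_mem hP), form_comm,
    hf (cl_mem hL), hf (cl_mem hWi)] at hrr
  have h2z : Module.finrank k (Coh.HH X (CohB1.tensorPow L m) 2) = 0 := by
    have h := hdj _ P' hP ⟨eP⟩ 0 (by omega)
    rw [Nat.sub_zero] at h
    rw [← h]
    by_contra hne
    have hWP := AmpleLib.isInvertible_tensor hWi hP'
    have h1 := form_nef_section k hdim hn hWP (Module.nontrivial_of_finrank_pos (Nat.pos_of_ne_zero hne))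
    rw [form_congr k hdim (u := cl hWP) (w := cl hWi + cl hP') (by
      rw [cl_tensor hWi hP', add_sub_cancel_left, pow_two]
      exact Ideal.mul_mem_mul (cl_mem _) (cl_mem _)) (cl_mem hM.1), form_add_left] at h1
    have h2 := form_inverse k hdim hP hP' eP (cl_mem hM.1)
    rw [hf (cl_mem hM.1)] at h2
    exact num_neg h1 h2 hwm
  have hsum : Curv2.euler k X (CohB1.tensorPow L m) = (Module.finrank k (Coh.HH X (CohB1.tensorPow L m) 0) : ℤ) -
      Module.finrank k (Coh.HH X (CohB1.tensorPow L m) 1) := by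
    rw [CurveLib.euler_eq_sum (K := k) (CohB1.tensorPow L m) 3 fun p hp =>
        CurveLib.subsingleton_HH_of_dim _ (d := 2) hdim.le (by omega),
      Finset.sum_range_succ, Finset.sum_range_succ, Finset.sum_range_succ, Finset.sum_range_zero, h2z]
    simp [sub_eq_add_neg]
  rw [hsum] at hrr
  have h4 := num_growth (m₀ := m) hsq hm' le_rfl hrr (Int.natCast_nonneg _)
  have h4q : ((m : ℚ) * ((m : ℚ) * (a : ℚ))) < 4 * (Module.finrank k (Coh.HH X (CohB1.tensorPow L m) 0) : ℚ) := by
    exact_mod_cast h4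
  linarith

end Groth.Agent.TwistShriek

namespace Groth.Agent.TwistShriek

variable (k : Type u) [Field k] {X : Scheme.{u}} [X.Over (Spec (CommRingCat.of k))]
  [IsProper (X ↘ Spec (CommRingCat.of k))]

/-- Numerical triviality in terms of the form. -/
theorem form_eq_zero_of_num [IsIntegral X] (hdim : topologicalKrullDim X = 2) {L : X.Modules}
    (hL : PicF.IsInvertible L)
    (h : ∀ M : X.Modules, PicF.IsInvertible M → FGA.intNum k X 2 ![L, M] (Coh.structureModule X) = 0)
    {v : PicRing X} (hv : v ∈ Aug X) : form k (cl hL) v = 0 := by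
  obtain ⟨N, hN, hNv⟩ := mem_clsSub hv
  rw [form_comm, ← form_congr k hdim hNv (cl_mem hL), form_comm, ← intNum_eq_form k hdim.le hL hN]
  exact h N hN

end Groth.Agent.TwistShriek
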