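import Groth.Agent.TwistShriek.DualizingCover
import Groth.Agent.TwistShriek.Basic
import Groth.Agent.GorSp.BaseChange
import Groth.Agent.DualCxLib.GorFibres

/-!
# Pull back of dualizing complexes along flat Gorenstein morphisms
-/

set_option autoImplicit false
set_option linter.style.haveILetI false
set_option linter.unusedSectionVars false
set_option backward.isDefEq.respectTransparency false
set_option maxHeartbeats 1000000
set_option maxRecDepth 4000

universe u

open CategoryTheory CategoryTheory.Limits AlgebraicGeometry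
open Groth.Agent.DCohLib
open scoped TensorProduct

attribute [local instance] HasDerivedCategory.standard

noncomputable section

namespace Groth.Agent.TwistShriek

open Groth.Agent.DualCxLib Groth.Agent.GorSp Groth.Agent.CMFlatLib

variable {X Y : Scheme.{u}} (f : X ⟶ Y)

theorem gorFibre_localRingHom_congr {A B : Type u} [CommRing A] [CommRing B] (φ : A →+* B) {p p' : Ideal A} [p.IsPrime]
    [p'.IsPrime] {q q' : Ideal B} [q.IsPrime] [q'.IsPrime] (hp : p' = p) (hq : q' = q) (h' : p' = q'.comap φ)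
    (h : p = q.comap φ) (H : GorFibre (Localization.localRingHom p' q' φ h')) :
    GorFibre (Localization.localRingHom p q φ h) := by
  subst hp
  subst hq
  exact H

/-- The fibre rings of a Gorenstein morphism on affine opens are Gorenstein. -/
theorem gorenstein_fiber_of_gorensteinMor (hf : Dual3.IsGorensteinMor f) {V : Y.Opens} (hV : IsAffineOpen V)
    {U : X.Opens} (hU : IsAffineOpen U) (hUV : U ≤ f ⁻¹ᵁ V) [LocallyOfFiniteType f] (p : Ideal Γ(Y, V)) [p.IsPrime] :
    letI := (f.appLE V U hUV).hom.toAlgebra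
    LocCoh.IsGorensteinRing (p.Fiber Γ(X, U)) := by
  letI := (f.appLE V U hUV).hom.toAlgebra
  haveI : Algebra.FiniteType Γ(Y, V) Γ(X, U) := f.finiteType_appLE hV hU hUV
  haveI : IsNoetherianRing (p.Fiber Γ(X, U)) := Algebra.FiniteType.isNoetherianRing p.ResidueField _
  refine { isGorensteinLocalRing_localization := fun Q hQ => ?_ }
  let q : Ideal Γ(X, U) := Q.comap (Algebra.TensorProduct.includeRight : Γ(X, U) →ₐ[Γ(Y, V)] p.Fiber Γ(X, U)).toRingHom
  haveI : q.LiesOver p := ⟨(Ideal.over_def Q p).trans (by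
    ext z
    simp only [q, Ideal.under_def, Ideal.mem_comap, AlgHom.toRingHom_eq_coe, RingHom.coe_coe, AlgHom.commutes])⟩
  let qq : PrimeSpectrum Γ(X, U) := ⟨q, inferInstance⟩
  let x := hU.fromSpec qq
  have hxU : x ∈ U := by
    show x ∈ (U : Set X)
    rw [← hU.range_fromSpec]
    exact ⟨qq, rfl⟩
  have hq : (hU.primeIdealOf ⟨x, hxU⟩).asIdeal = q :=
    congrArg PrimeSpectrum.asIdeal (hU.fromSpec.isOpenEmbedding.injective (hU.fromSpec_primeIdealOf ⟨x, hxU⟩))
  have hp : (hV.primeIdealOf ⟨f x, hUV hxU⟩).asIdeal = p := by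
    refine (congr($(IsAffineOpen.comap_primeIdealOf_appLE V hV U hU hUV hxU).1).symm).trans ?_
    show ((hU.primeIdealOf ⟨x, hxU⟩).asIdeal).comap (f.appLE V U hUV).hom = p
    rw [hq]
    exact (q.over_def p).symm
  have h1 := ((gorAt_iff_gorFibre f x).1 (hf x)).2
  rw [appLE_stalkMap_iff respectsIso_gorFibre f hV hU hUV x hxU] at h1
  exact (localRingHom_gorFibre_iff p q ⟨Q, hQ⟩ rfl).1
    (gorFibre_localRingHom_congr (algebraMap Γ(Y, V) Γ(X, U)) hp hq _ _ h1)

variable [IsLocallyNoetherian X] [IsLocallyNoetherian Y]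
  [∀ (U : Scheme.{u}) (j : U ⟶ X) [IsOpenImmersion j], PreservesFiniteLimits (Scheme.Modules.restrictFunctor j)]
  [∀ (U : Scheme.{u}) (j : U ⟶ Y) [IsOpenImmersion j], PreservesFiniteLimits (Scheme.Modules.restrictFunctor j)]
  [∀ (R : CommRingCat.{u}), PreservesFiniteLimits (tilde.functor R)]

/-- The restriction of a derived pullback to affine opens is the derived base change. -/
theorem nonempty_restrictD_lpull_tilde [DCoh.HasLpull f] {A B : Type u} [CommRing A] [CommRing B] (φ : A →+* B)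
    (j : Spec (CommRingCat.of B) ⟶ X) [IsOpenImmersion j] (v : Spec (CommRingCat.of A) ⟶ Y) [IsOpenImmersion v]
    (w : j ≫ f = Spec.map (CommRingCat.ofHom φ) ≫ v) [DRing.HasLBaseChange φ] (K : DCoh.D Y) (ωA : Dual.D A)
    (eA : (DCoh.restrictD v).obj K ≅ (DCoh.tildeD (CommRingCat.of A)).obj ωA) :
    Nonempty ((DCoh.restrictD j).obj ((DCoh.Lpull f).obj K) ≅
      (DCoh.tildeD (CommRingCat.of B)).obj ((DRing.LBaseChange φ).obj ωA)) := by
  let π := Spec.map (CommRingCat.ofHom φ)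
  haveI : DCoh.HasLpull j := DCohLib.hasLpull _
  haveI : DCoh.HasLpull v := DCohLib.hasLpull _
  haveI : DCoh.HasLpull π := DCohLib.hasLpull _
  haveI : DCoh.HasLpull (j ≫ f) := DCohLib.hasLpull _
  haveI : DCoh.HasLpull (π ≫ v) := DCohLib.hasLpull _
  obtain ⟨c₁⟩ := nonempty_lpullCompIso j f
  obtain ⟨c₂⟩ := nonempty_lpullCompIso π v
  obtain ⟨r₁⟩ := nonempty_restrictD_lpull j ((DCoh.Lpull f).obj K)
  obtain ⟨r₂⟩ := nonempty_restrictD_lpull v K
  have key : ∀ (g : Spec (CommRingCat.of B) ⟶ Y) (_ : j ≫ f = g) [DCoh.HasLpull g],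
      Nonempty ((DCoh.Lpull (j ≫ f)).obj K ≅ (DCoh.Lpull g).obj K) := fun g h => by
    subst h
    exact ⟨Iso.refl _⟩
  obtain ⟨c₃⟩ := key (π ≫ v) w
  exact ⟨r₁ ≪≫ c₁.app K ≪≫ c₃ ≪≫ (c₂.app K).symm ≪≫ (DCoh.Lpull π).mapIso (r₂.symm ≪≫ eA) ≪≫
    ((TildeLpull.lbcLpullIso φ).app ωA).symm⟩

/-- Flat Gorenstein morphisms of finite type pull dualizing complexes back to dualizing complexes. -/
theorem isDualizingSch_lpull [Flat f] [LocallyOfFiniteType f] (hf : Dual3.IsGorensteinMor f) [DCoh.HasLpull f]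
    (K : DCoh.D Y) (hK : Dual2.IsDualizingSch Y K) : Dual2.IsDualizingSch X ((DCoh.Lpull f).obj K) := by
  have h : ∀ x : X, ∃ (V : Y.Opens) (U : X.Opens), IsAffineOpen V ∧ IsAffineOpen U ∧ x ∈ U ∧ U ≤ f ⁻¹ᵁ V := fun x => by
    obtain ⟨V, hV, hyV, -⟩ := exists_isAffineOpen_mem_and_subset (X := Y) (x := f x) (U := ⊤) trivial
    obtain ⟨U, hU, hxU, hUV⟩ := exists_isAffineOpen_mem_and_subset (X := X) (x := x) (U := f ⁻¹ᵁ V) hyV
    exact ⟨V, U, hV, hU, hxU, hUV⟩
  choose V U hV hU hxU hUV using h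
  let j : ∀ x, Spec (CommRingCat.of Γ(X, U x)) ⟶ X := fun x => (hU x).fromSpec
  haveI : ∀ x, IsOpenImmersion (j x) := fun x => inferInstanceAs (IsOpenImmersion (hU x).fromSpec)
  refine isDualizingSch_of_cover _ (fun x => Γ(X, U x)) j
    (fun x => ⟨x, (Set.ext_iff.1 (hU x).range_fromSpec x).2 (hxU x)⟩) fun x => ?_
  let A := Γ(Y, V x)
  let B := Γ(X, U x)
  haveI : IsOpenImmersion (hV x).fromSpec := inferInstance
  obtain ⟨ωA, hωA, ⟨eA⟩⟩ := hK A (hV x).fromSpec
  letI : Algebra A B := (f.appLE (V x) (U x) (hUV x)).hom.toAlgebra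
  haveI : Module.Flat A B := RingHom.flat_algebraMap_iff.mp (f.flat_appLE (hV x) (hU x) (hUV x))
  haveI : Algebra.FiniteType A B := f.finiteType_appLE (hV x) (hU x) (hUV x)
  haveI := hωA.isNoetherianRing
  haveI : IsNoetherianRing B := isNoetherianRing_of_isOpenImmersion (j x)
  haveI : DRing.HasLBaseChange (algebraMap A B) := DRingLib.hasLBaseChange _
  obtain ⟨N, hN⟩ := exists_fibre_dim_bound A B
  obtain ⟨e⟩ := nonempty_restrictD_lpull_tilde f (algebraMap A B) (j x) (hV x).fromSpec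
    (IsAffineOpen.SpecMap_appLE_fromSpec f (hV x) (hU x) (hUV x)).symm K ωA eA
  exact ⟨_, isDualizing_bcD_of_fibres A B hωA
    (fun p _ => gorenstein_fiber_of_gorensteinMor f hf (hV x) (hU x) (hUV x) p) N hN, ⟨e⟩⟩

end Groth.Agent.TwistShriek
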