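import Groth.Agent.DualCxLib.FibreDual
import Groth.Agent.DualCxLib.LocCover
import Groth.Agent.TildeLpull.Main
import Groth.Agent.TildeD.QCohPull
import Groth.Agent.DCohLib.TensorPerf
import Groth.Agent.DCohLib.PerfPred
import Groth.Agent.TildePerf.Mod
import Groth.Agent.TildePerf.PC
import Groth.Agent.DCohMore.DescFPPF
import Groth.Prelude.Def_DualSch

/-!
# Dualizing complexes on schemes from dualizing stalks
-/

set_option autoImplicit false
set_option linter.style.haveILetI false
set_option linter.unusedSectionVars false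
set_option backward.isDefEq.respectTransparency false
set_option maxHeartbeats 1000000

universe u

open CategoryTheory CategoryTheory.Limits AlgebraicGeometry
open Groth.Agent.DCohLib

attribute [local instance] HasDerivedCategory.standard

noncomputable section

namespace Groth.Agent.TwistShriek

open Groth.Agent.DualCxLib

/-- The localization of a complex at a prime is dualizing. -/
def Good {A : Type u} [CommRing A] (ω : Dual.D A) (p : PrimeSpectrum A) : Prop :=
  haveI : DRing.HasLBaseChange (algebraMap A (Localization.AtPrime p.asIdeal)) := DRingLib.hasLBaseChange _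
  Dual.IsDualizing (Localization.AtPrime p.asIdeal)
    ((DRing.LBaseChange (algebraMap A (Localization.AtPrime p.asIdeal))).obj ω)

theorem Good.of_iso {A : Type u} [CommRing A] {ω ω' : Dual.D A} {p : PrimeSpectrum A} (e : ω ≅ ω')
    (h : Good ω p) : Good ω' p :=
  haveI : DRing.HasLBaseChange (algebraMap A (Localization.AtPrime p.asIdeal)) := DRingLib.hasLBaseChange _
  isDualizing_of_iso ((DRing.LBaseChange (algebraMap A (Localization.AtPrime p.asIdeal))).mapIso e) h

/-- Good primes are stable under generization. -/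
theorem Good.of_le {A : Type u} [CommRing A] [IsNoetherianRing A] {ω : Dual.D A} {p p₀ : PrimeSpectrum A}
    (hle : p ≤ p₀) (h : Good ω p₀) : Good ω p := by
  let P := Localization.AtPrime p.asIdeal
  let P₀ := Localization.AtPrime p₀.asIdeal
  have hM : p₀.asIdeal.primeCompl ≤ p.asIdeal.primeCompl := fun s hs hsp => hs (hle hsp)
  letI : Algebra P₀ P :=
    (IsLocalization.lift (M := p₀.asIdeal.primeCompl) (g := algebraMap A P)
      fun s => IsLocalization.map_units P (⟨s, hM s.2⟩ : p.asIdeal.primeCompl)).toAlgebra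
  haveI : IsScalarTower A P₀ P := IsScalarTower.of_algebraMap_eq' (IsLocalization.lift_comp _).symm
  haveI := IsLocalization.isLocalization_of_submonoid_le P₀ P p₀.asIdeal.primeCompl p.asIdeal.primeCompl hM
  haveI : IsNoetherianRing P₀ := IsLocalization.isNoetherianRing p₀.asIdeal.primeCompl P₀ ‹_›
  haveI : DRing.HasLBaseChange (algebraMap A P₀) := DRingLib.hasLBaseChange _
  haveI : DRing.HasLBaseChange (algebraMap A P) := DRingLib.hasLBaseChange _
  haveI : DRing.HasLBaseChange (algebraMap P₀ P) := DRingLib.hasLBaseChange _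
  obtain ⟨c⟩ := nonempty_bcD_comp A P₀ P ω
  exact isDualizing_of_iso c (isDualizing_lbc (p.asIdeal.primeCompl.map (algebraMap A P₀)) P h)

/-- Good primes and open immersions of affine schemes. -/
theorem good_lbc_iff {B C : Type u} [CommRing B] [CommRing C] [IsNoetherianRing B] [IsNoetherianRing C] [Algebra B C]
    [IsOpenImmersion (Spec.map (CommRingCat.ofHom (algebraMap B C)))] [DRing.HasLBaseChange (algebraMap B C)]
    (ω : Dual.D B) (q : PrimeSpectrum C) :
    Good ((DRing.LBaseChange (algebraMap B C)).obj ω) q ↔ Good ω (q.comap (algebraMap B C)) := by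
  let p := q.comap (algebraMap B C)
  let P := Localization.AtPrime p.asIdeal
  let Q := Localization.AtPrime q.asIdeal
  let g : P →+* Q := Localization.localRingHom p.asIdeal q.asIdeal (algebraMap B C) rfl
  have hg : Function.Bijective g := by
    haveI : IsIso (CommRingCat.ofHom g) :=
      ((MorphismProperty.isomorphisms CommRingCat.{u}).arrow_mk_iso_iff
        (Scheme.arrowStalkMapSpecIso (CommRingCat.ofHom (algebraMap B C)) q)).1
        (inferInstanceAs (IsIso ((Spec.map (CommRingCat.ofHom (algebraMap B C))).stalkMap q)))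
    exact ConcreteCategory.bijective_of_isIso (CommRingCat.ofHom g)
  letI : Algebra P Q := g.toAlgebra
  haveI : IsScalarTower B P Q := IsScalarTower.of_algebraMap_eq fun x => by
    show algebraMap B Q x = g (algebraMap B P x)
    rw [IsScalarTower.algebraMap_apply B C Q]
    exact (Localization.localRingHom_to_map _ _ _ _ x).symm
  haveI : IsNoetherianRing P := IsLocalization.isNoetherianRing p.asIdeal.primeCompl P ‹_›
  haveI : IsNoetherianRing Q := IsLocalization.isNoetherianRing q.asIdeal.primeCompl Q ‹_›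
  let eQ : P ≃ₗ[P] Q := LinearEquiv.ofBijective (Algebra.linearMap P Q) hg
  haveI : Module.Flat P Q := Module.Flat.of_linearEquiv eQ.symm
  haveI : Module.FaithfullyFlat P Q := Module.FaithfullyFlat.of_linearEquiv _ _ eQ.symm
  haveI : DRing.HasLBaseChange (algebraMap B P) := DRingLib.hasLBaseChange _
  haveI : DRing.HasLBaseChange (algebraMap P Q) := DRingLib.hasLBaseChange _
  haveI : DRing.HasLBaseChange (algebraMap C Q) := DRingLib.hasLBaseChange _
  haveI : DRing.HasLBaseChange (algebraMap B Q) := DRingLib.hasLBaseChange _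
  obtain ⟨c₁⟩ := nonempty_bcD_comp B P Q ω
  obtain ⟨c₂⟩ := nonempty_bcD_comp B C Q ω
  refine ⟨fun h => isDualizing_of_bcD P Q (isDualizing_of_iso (c₂ ≪≫ c₁.symm) h), fun h =>
    isDualizing_of_iso (c₁ ≪≫ c₂.symm) (isDualizing_bcD_of_maximal P Q h fun n _ =>
      ⟨n.comap (algebraMap P Q), Ideal.map_comap_of_surjective _ hg.2 n⟩)⟩

variable [∀ (R : CommRingCat.{u}), PreservesFiniteLimits (tilde.functor R)]

/-- Restriction of a derived tilde along an open immersion of affine schemes. -/
theorem nonempty_restrictD_tildeD {B C : Type u} [CommRing B] [CommRing C] (φ : B →+* C)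
    [IsOpenImmersion (Spec.map (CommRingCat.ofHom φ))] [DRing.HasLBaseChange φ] (ω : Dual.D B) :
    Nonempty ((DCoh.restrictD (Spec.map (CommRingCat.ofHom φ))).obj ((DCoh.tildeD (CommRingCat.of B)).obj ω) ≅
      (DCoh.tildeD (CommRingCat.of C)).obj ((DRing.LBaseChange φ).obj ω)) := by
  haveI : DCoh.HasLpull (Spec.map (CommRingCat.ofHom φ)) := DCohLib.hasLpull _
  haveI : IsOpenImmersion (TildeLpull.specMap φ) := ‹_›
  obtain ⟨e⟩ := nonempty_restrictD_lpull (Spec.map (CommRingCat.ofHom φ)) ((DCoh.tildeD (CommRingCat.of B)).obj ω)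
  exact ⟨e ≪≫ ((TildeLpull.lbcLpullIso φ).app ω).symm⟩

variable {X : Scheme.{u}}

/-- The object is dualizing at the stalk of a point, measured in some affine open. -/
def GoodAt (K : DCoh.D X) (x : X) : Prop :=
  ∃ (A : Type u) (_ : CommRing A) (j : Spec (CommRingCat.of A) ⟶ X) (_ : IsOpenImmersion j) (ω : Dual.D A)
    (p : PrimeSpectrum A), j p = x ∧ Nonempty ((DCoh.restrictD j).obj K ≅ (DCoh.tildeD (CommRingCat.of A)).obj ω) ∧
      Good ω p

variable [IsLocallyNoetherian X]

theorem isNoetherianRing_of_isOpenImmersion {A : Type u} [CommRing A] (j : Spec (CommRingCat.of A) ⟶ X)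
    [IsOpenImmersion j] : IsNoetherianRing A :=
  haveI := isLocallyNoetherian_of_isOpenImmersion j
  (isLocallyNoetherian_Spec (R := CommRingCat.of A)).1 this

/-- Goodness at a point does not depend on the chosen affine open. -/
theorem good_of_goodAt {K : DCoh.D X} {x : X} (h : GoodAt K x) {B : Type u} [CommRing B]
    (k : Spec (CommRingCat.of B) ⟶ X) [IsOpenImmersion k] (ω' : Dual.D B)
    (e' : (DCoh.restrictD k).obj K ≅ (DCoh.tildeD (CommRingCat.of B)).obj ω') (q : PrimeSpectrum B) (hq : k q = x) :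
    Good ω' q := by
  obtain ⟨A, _, j, _, ω, p, hp, ⟨e⟩, hg⟩ := h
  obtain ⟨W, hW, hxW, hWle⟩ := exists_isAffineOpen_mem_and_subset (X := X) (x := x)
    (U := j.opensRange ⊓ k.opensRange) ⟨⟨p, hp⟩, ⟨q, hq⟩⟩
  let C := Γ(X, W)
  let w : Spec (CommRingCat.of C) ⟶ X := hW.fromSpec
  haveI : IsOpenImmersion w := inferInstanceAs (IsOpenImmersion hW.fromSpec)
  obtain ⟨r, hr⟩ : ∃ r : PrimeSpectrum C, w r = x :=
    ⟨hW.primeIdealOf ⟨x, hxW⟩, hW.fromSpec_primeIdealOf ⟨x, hxW⟩⟩
  have step : ∀ {A : Type u} [CommRing A] (j : Spec (CommRingCat.of A) ⟶ X) [IsOpenImmersion j]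
      (_ : W ≤ j.opensRange) (ω : Dual.D A)
      (_ : (DCoh.restrictD j).obj K ≅ (DCoh.tildeD (CommRingCat.of A)).obj ω) (p : PrimeSpectrum A) (_ : j p = x),
      ∃ ωC : Dual.D C, Nonempty ((DCoh.restrictD w).obj K ≅ (DCoh.tildeD (CommRingCat.of C)).obj ωC) ∧
        (Good ωC r ↔ Good ω p) := by
    intro A _ j _ hWj ω e p hp
    have hrange : Set.range w ⊆ Set.range j := by
      rintro _ ⟨z, rfl⟩
      refine hWj ?_
      show hW.fromSpec z ∈ (W : Set X)
      rw [← hW.range_fromSpec]
      exact ⟨z, rfl⟩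
    let l := IsOpenImmersion.lift j w hrange
    let φ : A →+* C := (Spec.preimage l).hom
    have hl : Spec.map (CommRingCat.ofHom φ) = l := Spec.map_preimage l
    have hw : Spec.map (CommRingCat.ofHom φ) ≫ j = w := by rw [hl]; exact IsOpenImmersion.lift_fac j w hrange
    haveI : IsOpenImmersion (Spec.map (CommRingCat.ofHom φ) ≫ j) := hw.symm ▸ inferInstance
    haveI : IsOpenImmersion (Spec.map (CommRingCat.ofHom φ)) := IsOpenImmersion.of_comp _ j
    letI : Algebra A C := φ.toAlgebra
    haveI : IsOpenImmersion (Spec.map (CommRingCat.ofHom (algebraMap A C))) := ‹_›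
    haveI : DRing.HasLBaseChange (algebraMap A C) := DRingLib.hasLBaseChange _
    haveI : IsNoetherianRing A := isNoetherianRing_of_isOpenImmersion j
    haveI : IsNoetherianRing C := isNoetherianRing_of_isOpenImmersion w
    obtain ⟨t⟩ := nonempty_restrictD_tildeD (algebraMap A C) ω
    refine ⟨(DRing.LBaseChange (algebraMap A C)).obj ω,
      ⟨(restrictDCongr hw.symm).app K ≪≫ (restrictDComp _ j).app K ≪≫
        (DCoh.restrictD (Spec.map (CommRingCat.ofHom φ))).mapIso e ≪≫ t⟩, ?_⟩
    rw [good_lbc_iff]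
    have hpr : r.comap (algebraMap A C) = p := j.isOpenEmbedding.injective (by
      rw [hp, ← hr, ← hw, Scheme.Hom.comp_apply]
      rfl)
    rw [hpr]
  obtain ⟨ω₁, ⟨e₁⟩, h₁⟩ := step j (hWle.trans inf_le_left) ω e p hp
  obtain ⟨ω₂, ⟨e₂⟩, h₂⟩ := step k (hWle.trans inf_le_right) ω' e' q hq
  haveI := (TildeD.main (CommRingCat.of C)).1
  haveI := (TildeD.main (CommRingCat.of C)).2.1
  exact h₂.1 ((h₁.2 hg).of_iso ((DCoh.tildeD (CommRingCat.of C)).preimageIso (e₁.symm ≪≫ e₂)))

/-- Good points are stable under generization. -/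
theorem GoodAt.of_specializes {K : DCoh.D X} {x x₀ : X} (hx : x ⤳ x₀) (h : GoodAt K x₀) : GoodAt K x := by
  obtain ⟨A, _, j, _, ω, p₀, hp₀, he, hg⟩ := h
  obtain ⟨p, hp⟩ : x ∈ Set.range j := hx.mem_open j.isOpenEmbedding.isOpen_range ⟨p₀, hp₀⟩
  haveI : IsNoetherianRing A := isNoetherianRing_of_isOpenImmersion j
  refine ⟨A, _, j, inferInstance, ω, p, hp, he, hg.of_le ((PrimeSpectrum.le_iff_specializes p p₀).2 ?_)⟩
  rw [← j.isOpenEmbedding.isInducing.specializes_iff]
  exact hp ▸ hp₀ ▸ hx

/-- A bounded below coherent object, dualizing at every point and on a scheme with finite dimensional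
affine opens, is dualizing. -/
theorem isDualizingSch_of_goodAt
    [∀ (U : Scheme.{u}) (j : U ⟶ X) [IsOpenImmersion j], PreservesFiniteLimits (Scheme.Modules.restrictFunctor j)]
    (K : DCoh.D X) (hK : DCoh.IsCohD K) (c : ℤ) [K.IsGE c] (hgood : ∀ x : X, GoodAt K x)
    (hdim : ∀ (A : Type u) [CommRing A] (j : Spec (CommRingCat.of A) ⟶ X) [IsOpenImmersion j], ringKrullDim A < ⊤) :
    Dual2.IsDualizingSch X K := by
  intro A _ j _
  haveI : IsNoetherianRing A := isNoetherianRing_of_isOpenImmersion j
  let T := CommRingCat.of A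
  have hq : DCoh.IsQCohD ((DCoh.restrictD j).obj K) := TildeD.isQCohD_restrict j K fun i => (hK i).1
  obtain ⟨ω, ⟨e⟩⟩ := ((TildeD.main T).2.2 _).1 hq
  haveI : (tilde.functor T).Additive := TildeKFlat.additive_til T
  haveI : PreservesFiniteColimits (tilde.functor T) := by
    haveI : PreservesColimitsOfSize.{0, 0} (tilde.functor T) :=
      (tilde.adjunction (R := T)).leftAdjoint_preservesColimits
    exact PreservesColimitsOfSize.preservesFiniteColimits _
  let eH : ∀ i, (tilde.functor T).obj ((DerivedCategory.homologyFunctor (ModuleCat.{u} T) i).obj ω) ≅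
      (Scheme.Modules.restrictFunctor j).obj (DCoh.HD K i) := fun i =>
    ((TildeD.nu (tilde.functor T) i).app ω).symm ≪≫ (DerivedCategory.homologyFunctor _ i).mapIso e ≪≫
      restrictHDIso j K i
  have hfin : ∀ i, Module.Finite A (Dual.HD A ω i) := fun i =>
    TildePerf.finite_of_isFT _ (TildePerf.isFT_of_iso (eH i).symm (DCohMore.isFT_restrictFunctor j (hK i).2))
  haveI : (tilde.functor T).Full := tilde.fullyFaithfulFunctor.full
  haveI : (tilde.functor T).Faithful := tilde.fullyFaithfulFunctor.faithful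
  haveI : DerivedCategory.IsGE ω c := (DerivedCategory.isGE_iff _ _).2 fun i hi =>
    IsZero.of_full_of_faithful_of_isZero (tilde.functor T) _
      (((Scheme.Modules.restrictFunctor j).map_isZero (DerivedCategory.isZero_of_isGE K c i hi)).of_iso (eH i))
  refine ⟨ω, isDualizing_of_pointwise (hdim A j) ω hfin c fun p => ?_, ⟨e.symm⟩⟩
  exact ⟨DRingLib.hasLBaseChange _, good_of_goodAt (hgood (j p)) j ω e.symm p rfl⟩

end Groth.Agent.TwistShriek
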