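import Groth.Agent.DualCxLib.SchStalk
import Groth.Agent.DualCxLib.LocDual
import Groth.Agent.DCohMore.TildeStalkAmp
import Groth.Agent.DerSchH7.Local
import Groth.Agent.TwistShriek.DualizingGlue

/-!
# Stalks of the cohomology sheaves of a dualizing complex
-/

set_option autoImplicit false
set_option linter.style.haveILetI false
set_option linter.unusedSectionVars false
set_option backward.isDefEq.respectTransparency false
set_option maxHeartbeats 1000000

universe u

open CategoryTheory CategoryTheory.Limits AlgebraicGeometry
open Groth.Agent.DCohLib Groth.Agent.DRingLib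
open scoped TensorProduct

attribute [local instance] HasDerivedCategory.standard

noncomputable section

namespace Groth.Agent.TwistShriek

open Groth.Agent.DualCxLib

variable {X : Scheme.{u}}

/-- The map from a ring to the local ring at a point of an affine open. -/
def chartToStalk {A : Type u} [CommRing A] (j : Spec (CommRingCat.of A) ⟶ X) [IsOpenImmersion j]
    (p : PrimeSpectrum A) : A →+* X.presheaf.stalk (j p) :=
  (asIso (j.stalkMap p)).commRingCatIsoToRingEquiv.symm.toRingHom.comp (DCohMore.toStk (A := CommRingCat.of A) p)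

theorem isLocalization_chartToStalk {A : Type u} [CommRing A] (j : Spec (CommRingCat.of A) ⟶ X) [IsOpenImmersion j]
    (p : PrimeSpectrum A) :
    letI : Algebra A (X.presheaf.stalk (j p)) := (chartToStalk j p).toAlgebra
    IsLocalization.AtPrime (X.presheaf.stalk (j p)) p.asIdeal := by
  letI : Algebra A (X.presheaf.stalk (j p)) := (chartToStalk j p).toAlgebra
  letI : Algebra A ((Spec (CommRingCat.of A)).presheaf.stalk p) := StructureSheaf.stalkAlgebra A p
  haveI : IsLocalization.AtPrime ((Spec (CommRingCat.of A)).presheaf.stalk p) p.asIdeal :=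
    StructureSheaf.IsLocalization.to_stalk A p
  exact IsLocalization.isLocalization_of_algEquiv (S := (Spec (CommRingCat.of A)).presheaf.stalk p)
    p.asIdeal.primeCompl
    (@AlgEquiv.ofRingEquiv A _ _ _ _ _ _ (chartToStalk j p).toAlgebra
      (asIso (j.stalkMap p)).commRingCatIsoToRingEquiv.symm fun a => rfl)

variable [∀ (U : Scheme.{u}) (j : U ⟶ X) [IsOpenImmersion j], PreservesFiniteLimits (Scheme.Modules.restrictFunctor j)]
  [∀ (R : CommRingCat.{u}), PreservesFiniteLimits (tilde.functor R)]

/-- The stalks of the cohomology are the cohomology modules of the localized complex of rings. -/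
theorem exists_stalk_HD_equiv_aux {R : CommRingCat.{u}} [IsNoetherianRing R]
    (j : Spec R ⟶ X) [IsOpenImmersion j] {K : DCoh.D X} {ω : Dual.D R}
    (e : (DCoh.restrictD j).obj K ≅ (DCoh.tildeD R).obj ω) (p : PrimeSpectrum R)
    [DRing.HasLBaseChange (chartToStalk (A := R) j p)] (i : ℤ) :
    Nonempty (Dual.HD (X.presheaf.stalk (j p)) ((DRing.LBaseChange (chartToStalk (A := R) j p)).obj ω) i ≃ₗ[X.presheaf.stalk (j p)]
      ((DCoh.HD K i).presheaf.stalk (j p))) := by
  let S := X.presheaf.stalk (j p)
  letI : Algebra R S := (chartToStalk (A := R) j p).toAlgebra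
  haveI hloc : IsLocalization.AtPrime S p.asIdeal := isLocalization_chartToStalk (A := R) j p
  haveI : DRing.HasLBaseChange (algebraMap R S) := ‹_›
  haveI := IsLocalization.flat S p.asIdeal.primeCompl
  let M : ModuleCat.{u} R := (DerivedCategory.homologyFunctor (ModuleCat.{u} R) i).obj ω
  haveI : (tilde.functor R).Additive := TildeKFlat.additive_til R
  haveI : PreservesFiniteColimits (tilde.functor R) := by
    haveI : PreservesColimitsOfSize.{0, 0} (tilde.functor R) :=
      (tilde.adjunction (R := R)).leftAdjoint_preservesColimits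
    exact PreservesColimitsOfSize.preservesFiniteColimits _
  let i1 : (Scheme.Modules.restrictFunctor j).obj (DCoh.HD K i) ≅ (tilde.functor R).obj M :=
    ((TildeD.nu (Scheme.Modules.restrictFunctor j) i).app K).symm ≪≫
      (DerivedCategory.homologyFunctor _ i).mapIso e ≪≫ (TildeD.nu (tilde.functor R) i).app ω
  let L : (stkF (j.base p)).obj (DCoh.HD K i) ≅ (DerSch.stalkOver j p).obj ((tilde.functor R).obj M) :=
    (DerSchH7.restrictStalkOverIso j p _).symm ≪≫ (DerSch.stalkOver j p).mapIso i1
  let N : Type u := (DCoh.HD K i).presheaf.stalk (j p)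
  letI : Module R N := Module.compHom N (chartToStalk (A := R) j p)
  haveI : IsScalarTower R S N := .of_algebraMap_smul fun _ _ => rfl
  let g : M ⟶ (ModuleCat.restrictScalars (chartToStalk (A := R) j p)).obj ((stkF (j.base p)).obj (DCoh.HD K i)) :=
    ModuleCat.ofHom (X := M) (Y := (ModuleCat.restrictScalars (chartToStalk (A := R) j p)).obj
        ((stkF (j.base p)).obj (DCoh.HD K i)))
      { toFun := fun m => L.inv.hom ((tilde.toStalk M p).hom m)
        map_add' := fun m m' => (congrArg L.inv.hom (map_add _ m m')).trans (map_add _ _ _)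
        map_smul' := fun a m => by
          refine (congrArg L.inv.hom ?_).trans
            (L.inv.hom.map_smul (chartToStalk (A := R) j p a) ((tilde.toStalk M p).hom m))
          refine ((tilde.toStalk M p).hom.map_smul a m).trans ?_
          show _ = (j.stalkMap p).hom (chartToStalk (A := R) j p a) • (tilde.toStalk M p).hom m
          rw [show (j.stalkMap p).hom (chartToStalk (A := R) j p a) = DCohMore.toStk (A := R) p a from
            (asIso (j.stalkMap p)).commRingCatIsoToRingEquiv.apply_symm_apply _]
          rfl }
  let g' : M →ₗ[R] N := g.hom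
  haveI : IsLocalizedModule p.asIdeal.primeCompl g' := by
    have hA : IsLocalizedModule p.asIdeal.primeCompl (tilde.toStalk M p).hom := inferInstance
    let F : ((tilde.functor R).obj M).presheaf.stalk p ≃+ N :=
      { toFun := fun z => L.inv.hom z
        invFun := fun z => L.hom.hom z
        left_inv := fun z => congrArg (fun k => k z) (congrArg (fun k => (ModuleCat.Hom.hom k : _ → _)) L.inv_hom_id)
        right_inv := fun z => congrArg (fun k => k z) (congrArg (fun k => (ModuleCat.Hom.hom k : _ → _)) L.hom_inv_id)
        map_add' := fun a b => map_add L.inv.hom a b }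
    refine ⟨fun s => ?_, fun y => ?_, fun {m m'} h => ?_⟩
    · rw [Module.End.isUnit_iff]
      have hu : IsUnit (chartToStalk (A := R) j p (s : R)) := IsLocalization.map_units S s
      exact hu.smul_bijective
    · obtain ⟨⟨m, s⟩, hm⟩ := IsLocalizedModule.surj p.asIdeal.primeCompl (tilde.toStalk M p).hom (F.symm y)
      refine ⟨(m, s), ?_⟩
      show chartToStalk (A := R) j p (s : R) • y = L.inv.hom ((tilde.toStalk M p).hom m)
      rw [← hm]
      conv_lhs => rw [← F.apply_symm_apply y]
      refine (L.inv.hom.map_smul (chartToStalk (A := R) j p (s : R)) _).symm.trans (congrArg L.inv.hom ?_)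
      show (j.stalkMap p).hom (chartToStalk (A := R) j p (s : R)) • F.symm y = _
      rw [show (j.stalkMap p).hom (chartToStalk (A := R) j p (s : R)) = DCohMore.toStk (A := R) p (s : R) from
            (asIso (j.stalkMap p)).commRingCatIsoToRingEquiv.apply_symm_apply _]
      rfl
    · exact IsLocalizedModule.exists_of_eq (S := p.asIdeal.primeCompl) (f := (tilde.toStalk M p).hom)
        (F.injective h)
  obtain ⟨eb⟩ := nonempty_HD_lbc p.asIdeal.primeCompl S ω i
  let eA : S ⊗[R] M ≃ₗ[R] N := (IsLocalizedModule.linearEquiv p.asIdeal.primeCompl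
    (TensorProduct.mk R S M 1) g')
  exact ⟨eb.trans (eA.extendScalarsOfIsLocalization p.asIdeal.primeCompl S)⟩

theorem exists_stalk_HD_equiv {A : Type u} [CommRing A] [IsNoetherianRing A]
    (j : Spec (CommRingCat.of A) ⟶ X) [IsOpenImmersion j] {K : DCoh.D X} {ω : Dual.D A}
    (e : (DCoh.restrictD j).obj K ≅ (DCoh.tildeD (CommRingCat.of A)).obj ω) (p : PrimeSpectrum A)
    [DRing.HasLBaseChange (chartToStalk j p)] (i : ℤ) :
    Nonempty (Dual.HD (X.presheaf.stalk (j p)) ((DRing.LBaseChange (chartToStalk j p)).obj ω) i ≃ₗ[X.presheaf.stalk (j p)]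
      ((DCoh.HD K i).presheaf.stalk (j p))) :=
  exists_stalk_HD_equiv_aux (R := CommRingCat.of A) j e p i

end Groth.Agent.TwistShriek
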