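import Groth.Agent.TwistShriek.Theta
import Groth.Agent.DCohLib.DualEval

/-!
# Tensoring with the dual of a perfect complex is the derived internal Hom, naturally
-/

set_option autoImplicit false
set_option linter.style.haveILetI false
set_option backward.isDefEq.respectTransparency false
set_option maxHeartbeats 1600000

universe u

open CategoryTheory CategoryTheory.Limits AlgebraicGeometry HomologicalComplex
open Groth.Agent.DCohLib Groth.Agent.DCohMore Groth.Agent.KFlat Groth.Agent.FMKLib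

attribute [local instance] HasDerivedCategory.standard

noncomputable section

namespace Groth.Agent.TwistShriek

theorem kflat_tensor {X : Scheme.{u}} {D : CochainComplex X.Modules ℤ} (hD : DCoh.IsKFlat D)
    (P : CochainComplex X.Modules ℤ) (hP : DCoh.IsKFlat P) : DCoh.IsKFlat ((DCoh.tensorCx.obj P).obj D) :=
  isKFlat_tensorCx hP hD

theorem isKFlat_tenR {X : Scheme.{u}} {D : CochainComplex X.Modules ℤ} (hD : DCoh.IsKFlat D)
    (P : CochainComplex X.Modules ℤ) (hP : DCoh.IsKFlat P) : DCoh.IsKFlat ((tenR D).obj P) :=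
  kflat_tensor hD P hP

variable {X : Scheme.{u}} {J : CochainComplex X.Modules ℤ} (η : unitCx X ⟶ J) [QuasiIso η]
  (K : CochainComplex X.Modules ℤ) [DCoh.HasLTensorCx K]
  {D : CochainComplex X.Modules ℤ} [DCoh.HasLTensorCx D] (hD : DCoh.IsKFlat D) (π : D ⟶ (hCx K).obj J)

theorem assocS_natural_first {A A' : CochainComplex X.Modules ℤ} (φ : A ⟶ A') (L M : CochainComplex X.Modules ℤ) :
    (tenR M).map ((DCoh.tensorCx.map φ).app L) ≫ (assocS A' L M).hom =
      (assocS A L M).hom ≫ (DCoh.tensorCx.map φ).app ((DCoh.tensorCx.obj L).obj M) := by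
  delta assocS
  exact assocCx_natural X.sheaf L M φ

/-- Evaluation on complexes. -/
def evalPre : tenR D ⋙ tenR K ⟶ (DCoh.tensorCx (X := X)).flip.obj J where
  app A := (assocS A D K).hom ≫ (DCoh.tensorCx.obj A).map ((tenR K).map π ≫ (hAdj K).counit.app J)
  naturality A B φ := by
    show (tenR K).map ((DCoh.tensorCx.map φ).app D) ≫ _ = (_ ≫ _) ≫ (DCoh.tensorCx.map φ).app J
    rw [Category.assoc, (DCoh.tensorCx.map φ).naturality, reassoc_of% assocS_natural_first φ D K]

theorem quasiIso_flip_eta (A : CochainComplex X.Modules ℤ) (hA : DCoh.IsKFlat A) :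
    IsIso (DerivedCategory.Q.map ((DCoh.tensorCx.obj A).map η)) :=
  (DerivedCategory.isIso_Q_map_iff_quasiIso (C := X.Modules) _).2 (quasiIso_tensorCx_obj_map hA η inferInstance)

/-- The target of evaluation. -/
def evalTarget : resX X ⋙ (DCoh.tensorCx (X := X)).flip.obj J ⋙ DerivedCategory.Q ⟶ resX X ⋙ DerivedCategory.Q where
  app A := haveI := quasiIso_flip_eta η _ (isKFlat_resX A)
    inv (DerivedCategory.Q.map ((DCoh.tensorCx.obj ((resX X).obj A)).map η)) ≫
      DerivedCategory.Q.map (tensorUnitCxIso.hom.app ((resX X).obj A))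
  naturality A B φ := by
    haveI := quasiIso_flip_eta η _ (isKFlat_resX A)
    haveI := quasiIso_flip_eta η _ (isKFlat_resX B)
    show DerivedCategory.Q.map ((DCoh.tensorCx.map ((resX X).map φ)).app J) ≫ _ =
      (_ ≫ _) ≫ DerivedCategory.Q.map ((resX X).map φ)
    have e := (tensorUnitCxIso (X := X)).hom.naturality ((resX X).map φ)
    simp only [Functor.id_map] at e
    rw [Category.assoc, IsIso.eq_inv_comp, ← Functor.map_comp_assoc, (DCoh.tensorCx.map ((resX X).map φ)).naturality,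
      Functor.map_comp_assoc, IsIso.hom_inv_id_assoc, ← Functor.map_comp, ← Functor.map_comp]
    exact congrArg _ e

theorem isIso_evalTarget_app (A : CochainComplex X.Modules ℤ) : IsIso ((evalTarget η).app A) := by
  haveI := quasiIso_flip_eta η _ (isKFlat_resX A)
  show IsIso (_ ≫ _)
  infer_instance

include hD in
theorem isKFlat_resX_tensor (A : CochainComplex X.Modules ℤ) :
    DCoh.IsKFlat ((resX X ⋙ tenR D).obj A) := by
  rw [Functor.comp_obj]
  exact isKFlat_tenR hD _ (isKFlat_resX A)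

/-- Tensoring once, on resolutions. -/
def tensOneIso : (resX X ⋙ DerivedCategory.Q) ⋙ DCoh.LTensorCx D ≅
    (resX X ⋙ tenR D) ⋙ DerivedCategory.Q :=
  lTensorFlatIso D (resX X) (fun A => isKFlat_resX A) ≪≫
    Functor.isoWhiskerLeft (resX X) (Iso.refl (tenR D ⋙ DerivedCategory.Q)) ≪≫
    (Functor.associator _ _ _).symm

/-- Tensoring twice, on resolutions. -/
def tensTensIso : (resX X ⋙ DerivedCategory.Q) ⋙ DCoh.LTensorCx D ⋙ DCoh.LTensorCx K ≅
    resX X ⋙ (tenR D ⋙ tenR K) ⋙ DerivedCategory.Q :=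
  let e₁ : ((resX X ⋙ DerivedCategory.Q) ⋙ DCoh.LTensorCx D) ⋙ DCoh.LTensorCx K ≅
      ((resX X ⋙ tenR D) ⋙ DerivedCategory.Q) ⋙ DCoh.LTensorCx K :=
    Functor.isoWhiskerRight (tensOneIso (D := D)) _
  let e₂ : ((resX X ⋙ tenR D) ⋙ DerivedCategory.Q) ⋙ DCoh.LTensorCx K ≅
      (resX X ⋙ tenR D) ⋙ DCoh.tensorCxQ K :=
    lTensorFlatIso K (resX X ⋙ tenR D) (isKFlat_resX_tensor hD)
  (Functor.associator _ _ _).symm ≪≫ e₁ ≪≫ e₂ ≪≫
    Functor.isoWhiskerLeft (resX X ⋙ tenR D)
      (Iso.refl (tenR K ⋙ DerivedCategory.Q)) ≪≫ Functor.associator _ _ _ ≪≫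
    Functor.isoWhiskerLeft (resX X) (Functor.associator _ _ _).symm

/-- The derived evaluation. -/
def evalD : DCoh.LTensorCx D ⋙ DCoh.LTensorCx K ⟶ 𝟭 (DCoh.D X) :=
  liftRes ((tensTensIso K hD).hom ≫
    Functor.whiskerLeft (resX X) (Functor.whiskerRight (evalPre K π) DerivedCategory.Q) ≫ evalTarget η ≫
    (resX X ⋙ DerivedCategory.Q).rightUnitor.inv)

variable [DCoh.HasRSheafHom K]

/-- The comparison `M ⊗ K^∨ ⟶ RHom(K, M)`. -/
def dualTau : DCoh.LTensorCx D ⟶ DCoh.RSheafHom K where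
  app M := (DCoh.RSheafHomAdj K).homEquiv _ _ ((evalD η K hD π).app M)
  naturality M N φ := by
    rw [← Adjunction.homEquiv_naturality_left, ← Adjunction.homEquiv_naturality_right]
    exact congrArg _ ((evalD η K hD π).naturality φ)

theorem isIso_dualTau_app [J.IsKInjective] (hK : DCoh.IsKFlat K) (hKp : DCoh.IsPerfect (DerivedCategory.Q.obj K))
    [QuasiIso π] (A₀ : CochainComplex X.Modules ℤ) :
    IsIso ((dualTau η K hD π).app (DerivedCategory.Q.obj A₀)) := by
  let A := (resX X).obj A₀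
  obtain ⟨R, φ, hR, hφ⟩ := hres_modules X ((DCoh.tensorCx.obj A).obj J)
  haveI := hR
  haveI : IsIso (DerivedCategory.Q.map φ) :=
    (DerivedCategory.isIso_Q_map_iff_quasiIso (C := X.Modules) _).2 hφ
  let g := (DCoh.tensorCx.obj A).map π ≫ theta A φ K
  haveI : IsIso (DerivedCategory.Q.map g) := by
    refine (DerivedCategory.isIso_Q_map_iff_quasiIso (C := X.Modules) _).2 ?_
    haveI := quasiIso_tensorCx_obj_map (isKFlat_resX A₀) π inferInstance
    haveI := quasiIso_theta φ hK hKp (isKFlat_resX A₀) (isFlat_resX A₀) hφ η ‹_›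
    exact quasiIso_comp _ _
  let i : (DCoh.LTensorCx D).obj (DerivedCategory.Q.obj A₀) ≅ DerivedCategory.Q.obj ((DCoh.tensorCx.obj A).obj D) :=
    (DCoh.LTensorCx D).mapIso ((resIso X).app A₀).symm ≪≫ (lTensorFlatIso D (resX X) (fun B => isKFlat_resX B)).app A₀
  let w : DerivedCategory.Q.obj R ⟶ DerivedCategory.Q.obj A₀ :=
    inv (DerivedCategory.Q.map φ) ≫ (evalTarget η).app A₀ ≫ (resIso X).hom.app A₀
  haveI := isIso_evalTarget_app η A₀
  haveI : IsIso w := by infer_instance
  have hpre : (evalPre K π).app A ≫ φ = ((hAdj K).homEquiv _ R).symm g := by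
    rw [Adjunction.homEquiv_naturality_left_symm]
    show _ = _ ≫ ((hAdj K).homEquiv _ R).symm ((hAdj K).homEquiv _ _ (thetaPre A φ K))
    rw [Equiv.symm_apply_apply]
    show ((assocS A D K).hom ≫ _) ≫ φ = _ ≫ (assocS A _ K).hom ≫ _ ≫ φ
    rw [Functor.map_comp, reassoc_of% assocS_natural_middle A π K]
    simp only [Category.assoc]
    rfl
  have heps : (evalD η K hD π).app (DerivedCategory.Q.obj A₀) =
      (DCoh.LTensorCx K).map (i.hom ≫ DerivedCategory.Q.map g) ≫ epsD K hK R ≫ w := by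
    rw [Functor.map_comp, Category.assoc, ← Category.assoc ((DCoh.LTensorCx K).map (DerivedCategory.Q.map g)),
      lTensor_map_epsD, ← hpre, Functor.map_comp, evalD, liftRes_app]
    simp only [w, i, tensTensIso, tensOneIso, lTensorFlatIso, lTensorQIso, asIso_hom, Iso.refl_hom,
      NatTrans.id_app, Functor.isoWhiskerLeft_hom, NatTrans.comp_app, Functor.whiskerLeft_app, Functor.whiskerRight_app,
      Iso.trans_hom, Iso.app_hom, Functor.isoWhiskerRight_hom, Functor.associator_hom_app,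
      Functor.associator_inv_app, Iso.symm_hom, Iso.app_inv, Functor.mapIso_hom, Functor.rightUnitor_inv_app,
      Category.assoc, Category.id_comp, Category.comp_id, IsIso.hom_inv_id_assoc, Functor.map_comp,
      Functor.comp_map, Functor.id_map]
    refine congrArg (_ ≫ ·) (congrArg (_ ≫ ·) ?_)
    erw [CategoryTheory.Functor.map_id, Category.id_comp, Category.id_comp, Category.id_comp]
    rfl
  show IsIso ((DCoh.RSheafHomAdj K).homEquiv _ _ _)
  rw [heps, Adjunction.homEquiv_naturality_left, Adjunction.homEquiv_naturality_right]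
  haveI : IsIso ((DCoh.RSheafHomAdj K).homEquiv _ _ (epsD K hK R)) := by
    rw [isIso_iff_yoneda_map_bijective]
    intro B
    have e : (fun g : B ⟶ DerivedCategory.Q.obj ((hCx K).obj R) =>
          g ≫ (DCoh.RSheafHomAdj K).homEquiv _ _ (epsD K hK R)) =
        (DCoh.RSheafHomAdj K).homEquiv B _ ∘ (fun g => (DCoh.LTensorCx K).map g ≫ epsD K hK R) := by
      funext g
      exact ((DCoh.RSheafHomAdj K).homEquiv_naturality_left g (epsD K hK R)).symm
    rw [e]
    exact ((DCoh.RSheafHomAdj K).homEquiv B _).bijective.comp (bijective_epsD K hK R B)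
  infer_instance

omit [DCoh.HasLTensorCx D] in
/-- Tensoring with the dual of a perfect complex is the derived internal Hom. -/
theorem nonempty_lTensor_iso_rSheafHom (hKp : DCoh.IsPerfect (DerivedCategory.Q.obj K))
    (D' : CochainComplex X.Modules ℤ) [DCoh.HasLTensorCx D']
    (eD : DerivedCategory.Q.obj D' ≅ (DCoh.RSheafHom K).obj (DCoh.inD X (Coh.structureModule X))) :
    Nonempty (DCoh.LTensorCx D' ≅ DCoh.RSheafHom K) := by
  let K' := (resX X).obj K
  haveI := hasRSheafHom_of_isKFlat K' (isKFlat_resX K)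
  let eK : DerivedCategory.Q.obj K' ≅ DerivedCategory.Q.obj K := (resIso X).app K
  obtain ⟨t⟩ := nonempty_lTensor_of_iso (E := K) (E' := K') eK
  let r : DCoh.RSheafHom K ≅ DCoh.RSheafHom K' :=
    ((DCoh.RSheafHomAdj K).ofNatIsoLeft t.symm).rightAdjointUniq (DCoh.RSheafHomAdj K')
  obtain ⟨J, η, hJ, hη⟩ := hres_modules X (unitCx X)
  haveI := hJ
  haveI := hη
  haveI : IsIso (DerivedCategory.Q.map η) := (DerivedCategory.isIso_Q_map_iff_quasiIso (C := X.Modules) _).2 hη
  obtain ⟨eJ⟩ := nonempty_rSheafHom_hCx K' (isKFlat_resX K) J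
  let H := (hCx K').obj J
  haveI : QuasiIso ((resXπ X).app H) := quasiIso_resXπ H
  haveI : IsIso (DerivedCategory.Q.map ((resXπ X).app H)) := isIso_Q_resXπ H
  let c : DerivedCategory.Q.obj ((resX X).obj H) ≅ DerivedCategory.Q.obj D' :=
    asIso (DerivedCategory.Q.map ((resXπ X).app H)) ≪≫ eJ ≪≫
      (DCoh.RSheafHom K').mapIso (unitDIso ≪≫ asIso (DerivedCategory.Q.map η)).symm ≪≫
      r.symm.app _ ≪≫ eD.symm
  obtain ⟨d⟩ := nonempty_lTensor_of_iso (E := D') (E' := (resX X).obj H) c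
  have hKp' : DCoh.IsPerfect (DerivedCategory.Q.obj K') := isPerfect_iso eK.symm hKp
  haveI : ∀ M, IsIso ((dualTau η K' (isKFlat_resX H) ((resXπ X).app H)).app M) := fun M =>
    (NatTrans.isIso_app_iff_of_iso _ (DerivedCategory.Q.objObjPreimageIso M)).1
      (isIso_dualTau_app η K' (isKFlat_resX H) _ (isKFlat_resX K) hKp' _)
  haveI := NatIso.isIso_of_isIso_app (dualTau η K' (isKFlat_resX H) ((resXπ X).app H))
  exact ⟨d.symm ≪≫ asIso (dualTau η K' (isKFlat_resX H) ((resXπ X).app H)) ≪≫ r.symm⟩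

end Groth.Agent.TwistShriek
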