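import Groth.Agent.TwistShriek.Basic
import Groth.Agent.PerfDual.Bidual
import Groth.Agent.DQCohBrown.Cat
import Groth.Agent.DCohLib.DualEval
import Groth.Agent.BCLib.SteinFlat
import Groth.Agent.DCohMore.FibreChart

/-!
# The right adjoint of a direct image and internal Homs out of perfect objects
-/

set_option autoImplicit false
set_option linter.style.haveILetI false
set_option backward.isDefEq.respectTransparency false
set_option maxHeartbeats 1000000

universe u

open CategoryTheory CategoryTheory.Limits AlgebraicGeometry Pretriangulated Opposite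
open Groth.Agent.DCohLib Groth.Agent.DCohMore Groth.Agent.KFlat Groth.Agent.FMKLib

attribute [local instance] HasDerivedCategory.standard

noncomputable section

namespace Groth.Agent.TwistShriek

variable {X Y : Scheme.{u}}

section

variable (K : CochainComplex X.Modules ℤ) [DCoh.HasLTensorCx K]

/-- The derived tensor product with a quasi-coherent object on the quasi-coherent subcategory. -/
abbrev tensQ (hK : DCoh.IsQCohD (DerivedCategory.Q.obj K)) : DCoh.DQCoh X ⥤ DCoh.DQCoh X :=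
  ObjectProperty.lift _ (ObjectProperty.ι _ ⋙ DCoh.LTensorCx K) fun M =>
    TildeD.isQCohD_lTensorCx K hK M.obj M.property

variable [DCoh.HasRSheafHom K] (hK : DCoh.IsKFlat K) (hKp : DCoh.IsPerfect (DerivedCategory.Q.obj K))

/-- The derived internal Hom out of a perfect object on the quasi-coherent subcategory. -/
abbrev homQ : DCoh.DQCoh X ⥤ DCoh.DQCoh X :=
  ObjectProperty.lift _ (ObjectProperty.ι _ ⋙ DCoh.RSheafHom K) fun M =>
    isQCohD_rSheafHom hK hKp M.obj M.property

/-- Tensor and internal Hom on the quasi-coherent subcategory. -/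
def tensHomAdj : tensQ K (isQCohD_of_isPerfect hKp) ⊣ homQ K hK hKp :=
  (DCoh.RSheafHomAdj K).restrictFullyFaithful (ObjectProperty.fullyFaithfulι _)
    (ObjectProperty.fullyFaithfulι _) (Iso.refl _) (Iso.refl _)

end

variable [CompactSpace X] [QuasiSeparatedSpace X] [CompactSpace Y] [QuasiSeparatedSpace Y]
  (f : X ⟶ Y) [DCoh.HasRpush f] (hf : DCoh.RpushPreservesQCoh f)
  (a : DCoh.DQCoh Y ⥤ DCoh.DQCoh X) (adj : DCoh.RpushQ f hf ⊣ a)

omit [CompactSpace Y] in
/-- The morphism between qcqs schemes is quasi-compact and quasi-separated. -/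
theorem qcqs_hom : QuasiCompact f ∧ QuasiSeparated f := by
  haveI : QuasiCompact (f ≫ terminal.from Y) := by
    rw [terminal.hom_ext (f ≫ terminal.from Y) (terminal.from X)]
    infer_instance
  haveI : QuasiSeparated (f ≫ terminal.from Y) := by
    rw [terminal.hom_ext (f ≫ terminal.from Y) (terminal.from X)]
    infer_instance
  exact ⟨QuasiCompact.of_comp f (terminal.from Y), QuasiSeparated.of_comp f (terminal.from Y)⟩

include adj in
/-- The right adjoint of the direct image commutes with internal Hom out of perfect objects. -/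
theorem nonempty_rightAdjoint_rSheafHom [DCoh.HasLpull f] (D : CochainComplex Y.Modules ℤ) (hD : DCoh.IsKFlat D)
    (hDp : DCoh.IsPerfect (DerivedCategory.Q.obj D)) (D' : CochainComplex X.Modules ℤ) (hD' : DCoh.IsKFlat D')
    (hD'p : DCoh.IsPerfect (DerivedCategory.Q.obj D'))
    (e : DerivedCategory.Q.obj D' ≅ (DCoh.Lpull f).obj (DerivedCategory.Q.obj D))
    [DCoh.HasRSheafHom D] [DCoh.HasRSheafHom D'] :
    Nonempty (homQ D hD hDp ⋙ a ≅ a ⋙ homQ D' hD' hD'p) := by
  obtain ⟨_, _⟩ := qcqs_hom f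
  obtain ⟨p⟩ := nonempty_proj_left f D (isQCohD_of_isPerfect hDp) D' e
  let ι := ObjectProperty.ι (DCoh.IsQCohD (X := Y))
  let l : DCoh.RpushQ f hf ⋙ tensQ D (isQCohD_of_isPerfect hDp) ≅
      tensQ D' (isQCohD_of_isPerfect hD'p) ⋙ DCoh.RpushQ f hf :=
    Functor.fullyFaithfulCancelRight ι p
  exact ⟨(adj.comp (tensHomAdj D hD hDp)).rightAdjointUniq
    (((tensHomAdj D' hD' hD'p).comp adj).ofNatIsoLeft l.symm)⟩

/-- A perfect object is the derived internal Hom into the structure sheaf of a perfect K-flat complex,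
vanishing where it vanishes. -/
theorem exists_predual (Q : DCoh.D Y) (hQ : DCoh.IsPerfect Q) :
    ∃ (D : CochainComplex Y.Modules ℤ) (hD : DCoh.IsKFlat D) (_ : DCoh.IsPerfect (DerivedCategory.Q.obj D))
      (_ : DCoh.HasRSheafHom D),
      (∀ V : Y.Opens, IsZero ((DCoh.restrictD V.ι).obj Q) →
        IsZero ((DCoh.restrictD V.ι).obj (DerivedCategory.Q.obj D))) ∧
      Nonempty ((DCoh.RSheafHom D).obj (DCoh.inD Y (Coh.structureModule Y)) ≅ Q) := by
  let E := (resX Y).obj (DerivedCategory.Q.objPreimage Q)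
  let eE : DerivedCategory.Q.obj E ≅ Q := resXIso Q
  let D₀ := (PerfDual.Dv Y).obj (op Q)
  let D := (resX Y).obj (DerivedCategory.Q.objPreimage D₀)
  let eD : DerivedCategory.Q.obj D ≅ D₀ := resXIso D₀
  haveI := hasRSheafHom_of_isKFlat D (isKFlat_resX _)
  refine ⟨D, isKFlat_resX _, isPerfect_iso eD.symm (PerfDual.isPerfect_Dv hQ), inferInstance, fun V hV => ?_, ?_⟩
  · exact (isZero_restrict_hCx (isKFlat_resX _) V (hV.of_iso ((DCoh.restrictD V.ι).mapIso eE))
      (PerfDual.Jc Y)).of_iso ((DCoh.restrictD V.ι).mapIso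
        (eD ≪≫ (PerfDual.Dv Y).mapIso eE.op ≪≫ PerfDual.dvObjIso (isKFlat_resX _)))
  · obtain ⟨r⟩ := nonempty_rSheafHom_hCx D (isKFlat_resX _) (PerfDual.Jc Y)
    haveI := PerfDual.quasiIso_ηc Y
    haveI : IsIso (DerivedCategory.Q.map (PerfDual.ηc Y)) := inferInstance
    haveI := PerfDual.isIso_bid_app hQ
    exact ⟨(DCoh.RSheafHom D).mapIso (unitDIso ≪≫ asIso (DerivedCategory.Q.map (PerfDual.ηc Y))) ≪≫ r.symm ≪≫
      (PerfDual.dvObjIso (isKFlat_resX _)).symm ≪≫ (PerfDual.Dv Y).mapIso eD.op.symm ≪≫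
      (asIso ((PerfDual.bid Y).app Q)).symm⟩

include adj in
/-- The right adjoint of a perfect object vanishes over an open where the object does. -/
theorem isZero_rightAdjoint_of_isPerfect [DCoh.HasLpull f] (Q : DCoh.DQCoh Y) (hQ : DCoh.IsPerfect Q.obj)
    (V : Y.Opens) (h : IsZero ((DCoh.restrictD V.ι).obj Q.obj)) :
    IsZero ((DCoh.restrictD (f ⁻¹ᵁ V).ι).obj (a.obj Q).obj) := by
  obtain ⟨D, hD, hDp, _, hDV, ⟨eQ⟩⟩ := exists_predual Q.obj hQ
  let L := (DCoh.Lpull f).obj (DerivedCategory.Q.obj D)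
  let D' := (resX X).obj (DerivedCategory.Q.objPreimage L)
  let eD' : DerivedCategory.Q.obj D' ≅ L := resXIso L
  haveI := hasRSheafHom_of_isKFlat D' (isKFlat_resX _)
  obtain ⟨t⟩ := nonempty_rightAdjoint_rSheafHom f hf a adj D hD hDp D' (isKFlat_resX _)
    (isPerfect_iso eD'.symm (isPerfect_lpull f _ hDp)) eD'
  let O : DCoh.DQCoh Y := ⟨DCoh.inD Y (Coh.structureModule Y),
    isQCohD_of_isPerfect (isPerfect_inD (BCLib.isFinLocFree_structureModule Y))⟩
  let ι := ObjectProperty.ι (DCoh.IsQCohD (X := Y))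
  have hU : IsZero ((DCoh.restrictD (f ⁻¹ᵁ V).ι).obj (DerivedCategory.Q.obj D')) := by
    haveI : DCoh.HasLpull (f ∣_ V) := DCohLib.hasLpull _
    obtain ⟨s⟩ := nonempty_restrictD_lpull_square (f ⁻¹ᵁ V).ι f (f ∣_ V) V.ι (morphismRestrict_ι f V).symm
      (DerivedCategory.Q.obj D)
    haveI : (DCoh.Lpull (f ∣_ V)).IsLeftAdjoint :=
      haveI := BC.hasRpush (f ∣_ V)
      (lpullRpushAdj (f ∣_ V)).isLeftAdjoint
    exact (((DCoh.Lpull (f ∣_ V)).map_isZero (hDV V h)).of_iso s).of_iso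
      ((DCoh.restrictD (f ⁻¹ᵁ V).ι).mapIso eD')
  exact (isZero_restrict_rSheafHom (isKFlat_resX _) (f ⁻¹ᵁ V) hU (a.obj O).obj).of_iso
    ((DCoh.restrictD (f ⁻¹ᵁ V).ι).mapIso ((ObjectProperty.ι _).mapIso
      (a.mapIso (ι.preimageIso (X := Q) (Y := (homQ D hD hDp).obj O) eQ.symm) ≪≫ t.app O)))

end Groth.Agent.TwistShriek
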