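import Groth.Agent.TwistShriek.DualNat
import Groth.Agent.TwistShriek.DualTwist
import Groth.Agent.DCohLib.PullComp
import Groth.Agent.DQCohBrown.Cat

/-!
# Adjoints of kernel functors
-/

set_option autoImplicit false
set_option linter.style.haveILetI false
set_option backward.isDefEq.respectTransparency false
set_option maxHeartbeats 1000000

universe u

open CategoryTheory CategoryTheory.Limits AlgebraicGeometry Opposite
open Groth.Agent.DCohLib Groth.Agent.DCohMore Groth.Agent.KFlat Groth.Agent.FMKLib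

attribute [local instance] HasDerivedCategory.standard

noncomputable section

namespace Groth.Agent.TwistShriek

variable {W Z X Y : Scheme.{u}}

/-- Derived inverse image along an isomorphism is an equivalence. -/
theorem isEquivalence_lpull_iso (σ : W ⟶ Z) [IsIso σ] [DCoh.HasLpull σ] : (DCoh.Lpull σ).IsEquivalence := by
  haveI := DCohLib.hasLpull (inv σ)
  haveI := DCohLib.hasLpull (𝟙 W)
  haveI := DCohLib.hasLpull (𝟙 Z)
  obtain ⟨a⟩ := nonempty_lpull_square σ (inv σ) (𝟙 W) (𝟙 W) (by simp)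
  obtain ⟨b⟩ := nonempty_lpull_square (inv σ) σ (𝟙 Z) (𝟙 Z) (by simp)
  let lW : DCoh.Lpull (𝟙 W) ≅ 𝟭 (DCoh.D W) := lpullRestrictNatIso (𝟙 W) ≪≫ restrictDId W
  let lZ : DCoh.Lpull (𝟙 Z) ≅ 𝟭 (DCoh.D Z) := lpullRestrictNatIso (𝟙 Z) ≪≫ restrictDId Z
  let eW : DCoh.Lpull (inv σ) ⋙ DCoh.Lpull σ ≅ 𝟭 (DCoh.D W) :=
    a ≪≫ Functor.isoWhiskerRight lW _ ≪≫ Functor.leftUnitor _ ≪≫ lW
  let eZ : DCoh.Lpull σ ⋙ DCoh.Lpull (inv σ) ≅ 𝟭 (DCoh.D Z) :=
    b ≪≫ Functor.isoWhiskerRight lZ _ ≪≫ Functor.leftUnitor _ ≪≫ lZ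
  exact (CategoryTheory.Equivalence.mk (DCoh.Lpull σ) (DCoh.Lpull (inv σ)) eZ.symm eW).isEquivalence_functor

/-- Kernel functors are unchanged by an isomorphism of the correspondence. -/
theorem nonempty_kernel_transport (σ : W ⟶ Z) [IsIso σ] (q : Z ⟶ Y) (p : Z ⟶ X) (q' : W ⟶ Y) (p' : W ⟶ X)
    (hq : σ ≫ q = q') (hp : σ ≫ p = p') (T : CochainComplex Z.Modules ℤ) (T' : CochainComplex W.Modules ℤ)
    [DCoh.HasLTensorCx T] [DCoh.HasLTensorCx T'] [DCoh.HasLpull q] [DCoh.HasLpull q'] [DCoh.HasRpush p]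
    [DCoh.HasRpush p'] [DCoh.HasLpull σ]
    (e : DerivedCategory.Q.obj T' ≅ (DCoh.Lpull σ).obj (DerivedCategory.Q.obj T)) :
    Nonempty (DCoh.Lpull q' ⋙ DCoh.LTensorCx T' ⋙ DCoh.Rpush p' ≅
      DCoh.Lpull q ⋙ DCoh.LTensorCx T ⋙ DCoh.Rpush p) := by
  subst hq hp
  haveI := BC.hasRpush σ
  haveI := DCohLib.hasLpull p
  haveI := DCohLib.hasLpull (σ ≫ p)
  obtain ⟨cq⟩ := nonempty_lpullCompIso σ q
  obtain ⟨cp⟩ := nonempty_lpullCompIso σ p
  obtain ⟨t⟩ := nonempty_lpull_lTensor_natIso σ T T' e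
  haveI := isEquivalence_lpull_iso σ
  let adjσ := lpullRpushAdj σ
  haveI : IsIso adjσ.unit := inferInstance
  let r : DCoh.Rpush (σ ≫ p) ≅ DCoh.Rpush σ ⋙ DCoh.Rpush p :=
    (lpullRpushAdj (σ ≫ p)).rightAdjointUniq (((lpullRpushAdj p).comp adjσ).ofNatIsoLeft cp)
  exact ⟨Functor.isoWhiskerRight cq.symm _ ≪≫
    Functor.isoWhiskerLeft (DCoh.Lpull q ⋙ DCoh.Lpull σ) (Functor.isoWhiskerLeft (DCoh.LTensorCx T') r) ≪≫
    Functor.associator _ _ _ ≪≫
    Functor.isoWhiskerLeft (DCoh.Lpull q) ((Functor.associator _ _ _).symm ≪≫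
      Functor.isoWhiskerRight t.symm _ ≪≫ Functor.associator _ _ _ ≪≫
      Functor.isoWhiskerLeft (DCoh.LTensorCx T) ((Functor.associator _ _ _).symm ≪≫
        Functor.isoWhiskerRight (asIso adjσ.unit).symm _ ≪≫ Functor.leftUnitor _))⟩

variable (p : Z ⟶ X) (q : Z ⟶ Y) [CompactSpace Z] [QuasiSeparatedSpace Z] [CompactSpace X] [QuasiSeparatedSpace X]
  [CompactSpace Y] [QuasiSeparatedSpace Y]
  [DCoh.HasLpull p] [DCoh.HasRpush p] [DCoh.HasLpull q] [DCoh.HasRpush q]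
  (hp : DCoh.RpushPreservesQCoh p) (hq : DCoh.RpushPreservesQCoh q)
  (a : DCoh.DQCoh Y ⥤ DCoh.DQCoh Z) (adj : DCoh.RpushQ q hq ⊣ a)
  (K : CochainComplex Z.Modules ℤ) [DCoh.HasLTensorCx K] [DCoh.HasRSheafHom K]

/-- The inverse image on objects with quasi-coherent cohomology. -/
abbrev lpullQ : DCoh.DQCoh X ⥤ DCoh.DQCoh Z :=
  ObjectProperty.lift _ (ObjectProperty.ι _ ⋙ DCoh.Lpull p) fun M => TildeD.isQCohD_lpull p M.obj M.property

/-- Inverse and direct images on objects with quasi-coherent cohomology. -/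
def lpullRpushQAdj : lpullQ p ⊣ DCoh.RpushQ p hp :=
  (lpullRpushAdj p).restrictFullyFaithful (ObjectProperty.fullyFaithfulι _)
    (ObjectProperty.fullyFaithfulι _) (Iso.refl _) (Iso.refl _)

omit [CompactSpace Z] [QuasiSeparatedSpace Z] in
include hp adj in
/-- The right adjoint of a kernel functor with perfect kernel. -/
theorem nonempty_phi_adjunction (hK : DCoh.IsPerfect (DerivedCategory.Q.obj K)) (E : CochainComplex Z.Modules ℤ)
    (hE : DCoh.IsQCohD (DerivedCategory.Q.obj E))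
    (ea : a ⋙ ObjectProperty.ι _ ≅ ObjectProperty.ι _ ⋙ DCoh.Lpull q ⋙ DCoh.LTensorCx E)
    (T : CochainComplex Z.Modules ℤ) [DCoh.HasLTensorCx T]
    (eT : DerivedCategory.Q.obj T ≅ (DCoh.RSheafHom K).obj (DerivedCategory.Q.obj E))
    (F : DCoh.DQCoh X ⥤ DCoh.DQCoh Y) (G : DCoh.DQCoh Y ⥤ DCoh.DQCoh X)
    (eF : F ⋙ ObjectProperty.ι _ ≅ ObjectProperty.ι _ ⋙ DCoh.Lpull p ⋙ DCoh.LTensorCx K ⋙ DCoh.Rpush q)
    (eG : G ⋙ ObjectProperty.ι _ ≅ ObjectProperty.ι _ ⋙ DCoh.Lpull q ⋙ DCoh.LTensorCx T ⋙ DCoh.Rpush p) :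
    Nonempty (F ⊣ G) := by
  let ιX := ObjectProperty.ι (DCoh.IsQCohD (X := X))
  let ιY := ObjectProperty.ι (DCoh.IsQCohD (X := Y))
  let ιZ := ObjectProperty.ι (DCoh.IsQCohD (X := Z))
  have hKq : DCoh.IsQCohD (DerivedCategory.Q.obj K) := isQCohD_of_isPerfect hK
  let K' := (resX Z).obj K
  let O := DCoh.inD Z (Coh.structureModule Z)
  let D := (resX Z).obj (DerivedCategory.Q.objPreimage ((DCoh.RSheafHom K).obj O))
  let eD : DerivedCategory.Q.obj D ≅ (DCoh.RSheafHom K).obj O := resXIso _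
  haveI := hasRSheafHom_of_isKFlat D (isKFlat_resX _)
  obtain ⟨rD⟩ := nonempty_lTensor_iso_rSheafHom K hK D eD
  have hDp : DCoh.IsPerfect (DerivedCategory.Q.obj D) := by
    refine isPerfect_iso eD.symm ?_
    haveI := hasRSheafHom_of_isKFlat K' (isKFlat_resX K)
    let eK : DerivedCategory.Q.obj K' ≅ DerivedCategory.Q.obj K := (resIso Z).app K
    obtain ⟨t⟩ := nonempty_lTensor_of_iso (E := K) (E' := K') eK
    let r : DCoh.RSheafHom K ≅ DCoh.RSheafHom K' :=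
      ((DCoh.RSheafHomAdj K).ofNatIsoLeft t.symm).rightAdjointUniq (DCoh.RSheafHomAdj K')
    exact isPerfect_iso (r.app O).symm
      (isPerfect_rSheafHom_unit K' (isKFlat_resX K) (isPerfect_iso eK.symm hK))
  have hDq : DCoh.IsQCohD (DerivedCategory.Q.obj D) := isQCohD_of_isPerfect hDp
  let adjK : tensQ K hKq ⊣ tensQ D hDq :=
    ((DCoh.RSheafHomAdj K).ofNatIsoRight rD.symm).restrictFullyFaithful (ObjectProperty.fullyFaithfulι _)
      (ObjectProperty.fullyFaithfulι _) (Iso.refl _) (Iso.refl _)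
  let total := (lpullRpushQAdj p hp).comp (adjK.comp adj)
  let ED := (DCoh.tensorCx.obj E).obj D
  obtain ⟨c⟩ := nonempty_lTensorCompIso E D (isKFlat_resX _)
  obtain ⟨w⟩ := nonempty_lTensor_of_iso (E := T) (E' := ED)
    (((lTensorQIso D (isKFlat_resX _)).app E).symm ≪≫ rD.app _ ≪≫ eT.symm)
  let eF' : lpullQ p ⋙ tensQ K hKq ⋙ DCoh.RpushQ q hq ≅ F := Functor.fullyFaithfulCancelRight ιY (eF.symm)
  let eT' : DCoh.LTensorCx E ⋙ DCoh.LTensorCx D ≅ DCoh.LTensorCx T := c ≪≫ w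
  let eG' : (a ⋙ tensQ D hDq) ⋙ DCoh.RpushQ p hp ≅ G := Functor.fullyFaithfulCancelRight ιX
    ((Functor.isoWhiskerRight ea (DCoh.LTensorCx D ⋙ DCoh.Rpush p) :
        ((a ⋙ tensQ D hDq) ⋙ DCoh.RpushQ p hp) ⋙ ιX ≅
          (ιY ⋙ DCoh.Lpull q ⋙ DCoh.LTensorCx E) ⋙ DCoh.LTensorCx D ⋙ DCoh.Rpush p) ≪≫
      Functor.associator _ _ _ ≪≫ Functor.isoWhiskerLeft ιY (Functor.associator _ _ _ ≪≫
        Functor.isoWhiskerLeft (DCoh.Lpull q) ((Functor.associator _ _ _).symm ≪≫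
          Functor.isoWhiskerRight eT' (DCoh.Rpush p))) ≪≫ eG.symm)
  exact ⟨(total.ofNatIsoLeft eF').ofNatIsoRight eG'⟩

end Groth.Agent.TwistShriek
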