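import Groth.Agent.TwistShriek.RestrictAdj
import Groth.Agent.TwistShriek.RHomO
import Groth.Agent.DCohMore.GoodMod
import Groth.Agent.RpushLib.Finite
import Mathlib.CategoryTheory.Adjunction.Restrict

/-!
# Duality for finite morphisms
-/

set_option autoImplicit false
set_option linter.style.haveILetI false
set_option linter.unusedSectionVars false
set_option backward.isDefEq.respectTransparency false
set_option maxHeartbeats 1600000

universe u

open CategoryTheory CategoryTheory.Limits AlgebraicGeometry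
open Groth.Agent.DCohLib Groth.Agent.DCohMore Groth.Agent.KFlat

attribute [local instance] HasDerivedCategory.standard

noncomputable section

namespace Groth.Agent.TwistShriek

/-- Tensoring with the structure sheaf in degree zero does nothing. -/
theorem nonempty_lTensor_structure {X : Scheme.{u}} (W : CochainComplex X.Modules ℤ) [DCoh.HasLTensorCx W]
    (hW : Nonempty (DCoh.toD X W ≅ DCoh.inD X (Coh.structureModule X))) :
    Nonempty (DCoh.LTensorCx W ≅ 𝟭 (DCoh.D X)) := by
  let O₀ := (HomologicalComplex.single X.Modules (ComplexShape.up ℤ) 0).obj (Coh.structureModule X)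
  haveI : DCoh.HasLTensorCx O₀ := DCohLib.hasLTensorCx _
  obtain ⟨e⟩ := hW
  obtain ⟨a⟩ := nonempty_lTensor_of_iso (E := W) (E' := O₀)
    (((DerivedCategory.singleFunctorIsoCompQ X.Modules 0).app _).symm ≪≫ e.symm)
  let c : DCoh.tensorCx.flip.obj O₀ ≅ 𝟭 (CochainComplex X.Modules ℤ) :=
    (NatIso.ofComponents
      (F := ((DCoh.tensorBi (X := X)).flip.obj (Coh.structureModule X)).mapHomologicalComplex (ComplexShape.up ℤ))
      (G := (DCoh.tensorCx (X := X)).flip.obj O₀)
      (fun I => totSingleIso I _) (fun f => totSingleIso_natural f _)).symm ≪≫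
      NatIso.mapHomologicalComplex (Groth.Agent.ModTensor.tensorUnitRight X.sheaf) (ComplexShape.up ℤ) ≪≫
      Functor.mapHomologicalComplexIdIso _ _
  obtain ⟨b⟩ : Nonempty (DCoh.LTensorCx O₀ ≅ 𝟭 (DCoh.D X)) := by
    refine FMKLib.nonempty_iso_of_resX ?_
    exact FMKLib.lTensorFlatIso O₀ (resX X) (fun A => isKFlat_resX A) ≪≫
      Functor.isoWhiskerLeft (resX X) (Functor.isoWhiskerRight c DerivedCategory.Q ≪≫ Functor.leftUnitor _) ≪≫
      (Functor.rightUnitor _).symm
  exact ⟨a.symm ≪≫ b⟩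

variable {Y X : Scheme.{u}} [IsNoetherian X] (f : Y ⟶ X) [IsFinite f] [DCoh.HasRpush f]

/-- Duality for a finite morphism, after direct image. -/
theorem nonempty_rpush_rightAdjoint_finite (hf : DCoh.RpushPreservesQCoh f) (a : DCoh.DQCoh X ⥤ DCoh.DQCoh Y)
    (adj : DCoh.RpushQ f hf ⊣ a) (E : CochainComplex X.Modules ℤ)
    (hE : Nonempty (DCoh.toD X E ≅ DCoh.inD X ((Scheme.Modules.pushforward f).obj (Coh.structureModule Y))))
    [DCoh.HasLTensorCx E] [DCoh.HasRSheafHom E] :
    Nonempty (Dual3.bddι X ⋙ a ⋙ DCoh.RpushQ f hf ⋙ ObjectProperty.ι _ ≅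
      Dual3.bddι X ⋙ ObjectProperty.ι _ ⋙ DCoh.RSheafHom E) := by
  obtain ⟨eE⟩ := hE
  haveI : IsLocallyNoetherian Y := LocallyOfFiniteType.isLocallyNoetherian f
  haveI : DCoh.HasLpull f := DCohLib.hasLpull _
  have hLf : Dual3.LpullPreservesQCoh f := fun K hK => TildeD.isQCohD_lpull f K hK
  let adjQ : Dual3.LpullQ f hLf ⊣ DCoh.RpushQ f hf :=
    (lpullRpushAdj f).restrictFullyFaithful (ObjectProperty.fullyFaithfulι _) (ObjectProperty.fullyFaithfulι _)
      (Iso.refl _) (Iso.refl _)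
  haveI : Coh.IsQCoh (Coh.structureModule Y) := (DevLib.isCoh_structureModule Y).1
  let W := (HomologicalComplex.single Y.Modules (ComplexShape.up ℤ) 0).obj (Coh.structureModule Y)
  haveI : DCoh.HasLTensorCx W := DCohLib.hasLTensorCx _
  let eW : DCoh.inD Y (Coh.structureModule Y) ≅ DCoh.toD Y W :=
    (DerivedCategory.singleFunctorIsoCompQ Y.Modules 0).app _
  obtain ⟨ep⟩ := DCohMore.nonempty_rpush_inD_affine f (Coh.structureModule Y)
  obtain ⟨p⟩ := FMKLib.nonempty_proj_right f W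
    (TildeD.isQCohD_of_iso eW fun n => (isCohD_inD (DevLib.isCoh_structureModule Y) n).1) E
    (eE ≪≫ ep.symm ≪≫ (DCoh.Rpush f).mapIso eW)
  obtain ⟨u⟩ := nonempty_lTensor_structure W ⟨eW.symm⟩
  let T : ObjectProperty.ι (DCoh.IsQCohD (X := X)) ⋙ DCoh.LTensorCx E ≅
      (Dual3.LpullQ f hLf ⋙ DCoh.RpushQ f hf) ⋙ ObjectProperty.ι _ :=
    p ≪≫ Functor.isoWhiskerLeft _ (Functor.isoWhiskerLeft _ (Functor.isoWhiskerRight u _ ≪≫ Functor.leftUnitor _))
  have hpc : ∀ m : ℤ, DCoh.IsPseudoCoherentD m (DCoh.toD X E) := fun m => isPseudoCoherentD_iso eE.symm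
    (DCohMore.isPseudoCoherentD_of_coh _ 0 (isCohD_inD (RpushLib.isCoh_push f (DevLib.isCoh_structureModule Y))) m)
  have h : ∀ b : (Dual3.IsBddBelowQ X).FullSubcategory, DCoh.IsQCohD ((DCoh.RSheafHom E).obj b.obj.obj) := by
    intro b n
    obtain ⟨c, hc⟩ := b.property
    haveI := hc
    exact DCohMore.isQCoh_HD_rSheafHom E (c - n - 1) c (hpc _) b.obj.obj b.obj.property n (by omega)
  exact nonempty_restrict_rightAdjoint (DCoh.RSheafHomAdj E) (adjQ.comp adj) T (Dual3.bddι X) h

end Groth.Agent.TwistShriek
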