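import Groth.Agent.TwistShriek.DualTwist
import Groth.Agent.TwistShriek.DualNat
import Groth.Agent.TwistShriek.RHomFinite
import Groth.Agent.TwistShriek.KernelAdj
import Groth.Agent.RelPCLib.TorProd
import Groth.Agent.DCohMore.ProjUnit

/-!
# Duals of perfect objects and inverse images
-/

set_option autoImplicit false
set_option linter.style.haveILetI false
set_option linter.unusedSectionVars false
set_option backward.isDefEq.respectTransparency false
set_option maxHeartbeats 1600000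

universe u

open CategoryTheory CategoryTheory.Limits AlgebraicGeometry
open Groth.Agent.DCohLib Groth.Agent.DCohMore Groth.Agent.KFlat Groth.Agent.FMKLib

attribute [local instance] HasDerivedCategory.standard

noncomputable section

namespace Groth.Agent.TwistShriek

variable {X Y : Scheme.{u}}

/-- Tensoring a complex with the structure sheaf gives it back. -/
theorem nonempty_lTensor_inD_structure (W : CochainComplex X.Modules ℤ) [DCoh.HasLTensorCx W] :
    Nonempty ((DCoh.LTensorCx W).obj (DCoh.inD X (Coh.structureModule X)) ≅ DCoh.toD X W) := by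
  haveI : DCoh.HasLTensorCx (unitCx X) := DCohLib.hasLTensorCx _
  obtain ⟨s⟩ := RelPCLib.nonempty_lTensor_symm W (unitCx X)
  obtain ⟨u⟩ := nonempty_lTensor_structure (unitCx X) ⟨unitDIso.symm⟩
  exact ⟨(DCoh.LTensorCx W).mapIso unitDIso ≪≫ s ≪≫ u.app _⟩

/-- The derived internal Hom out of the dual is the tensor product. -/
theorem nonempty_rSheafHom_dual (D : CochainComplex X.Modules ℤ) (hD : DCoh.IsKFlat D)
    (hDp : DCoh.IsPerfect (DerivedCategory.Q.obj D)) [DCoh.HasLTensorCx D] [DCoh.HasRSheafHom D]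
    (P : CochainComplex X.Modules ℤ) [DCoh.HasLTensorCx P] [DCoh.HasRSheafHom P]
    (eP : DCoh.toD X P ≅ (DCoh.RSheafHom D).obj (DCoh.inD X (Coh.structureModule X))) :
    Nonempty (DCoh.RSheafHom P ≅ DCoh.LTensorCx D) := by
  let O₀ := (resX X).obj (unitCx X)
  haveI := hasRSheafHom_of_isKFlat O₀ (isKFlat_resX _)
  haveI : IsIso (DerivedCategory.Q.map ((resXπ X).app (unitCx X))) := isIso_Q_resXπ _
  let eO : DCoh.toD X O₀ ≅ DCoh.inD X (Coh.structureModule X) :=
    asIso (DerivedCategory.Q.map ((resXπ X).app (unitCx X))) ≪≫ unitDIso.symm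
  obtain ⟨u⟩ := nonempty_lTensor_structure O₀ ⟨eO⟩
  let h : DCoh.RSheafHom O₀ ≅ 𝟭 (DCoh.D X) :=
    ((DCoh.RSheafHomAdj O₀).ofNatIsoLeft u).rightAdjointUniq Adjunction.id
  let O := DCoh.inD X (Coh.structureModule X)
  obtain ⟨ev⟩ := nonempty_rSheafHom_evaluation D O₀ hD hDp P (eP ≪≫ (DCoh.RSheafHom D).mapIso eO.symm) O
  obtain ⟨t⟩ := nonempty_lTensor_inD_structure D
  obtain ⟨r⟩ := nonempty_lTensor_iso_rSheafHom P (isPerfect_iso eP.symm (isPerfect_rSheafHom_unit D hD hDp)) D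
    (t.symm ≪≫ (DCoh.LTensorCx D).mapIso (h.app O).symm ≪≫ ev)
  exact ⟨r.symm⟩

variable (f : X ⟶ Y) [QuasiCompact f] [QuasiSeparated f] [DCoh.HasLpull f]

/-- Inverse images commute with duals of perfect objects. -/
theorem nonempty_lpull_dual (D : CochainComplex Y.Modules ℤ) (hD : DCoh.IsKFlat D)
    (hDp : DCoh.IsPerfect (DerivedCategory.Q.obj D)) (D' : CochainComplex X.Modules ℤ) (hD' : DCoh.IsKFlat D')
    (hD'p : DCoh.IsPerfect (DerivedCategory.Q.obj D'))
    (e : DerivedCategory.Q.obj D' ≅ (DCoh.Lpull f).obj (DerivedCategory.Q.obj D))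
    [DCoh.HasRSheafHom D] [DCoh.HasRSheafHom D'] :
    Nonempty ((DCoh.Lpull f).obj ((DCoh.RSheafHom D).obj (DCoh.inD Y (Coh.structureModule Y))) ≅
      (DCoh.RSheafHom D').obj (DCoh.inD X (Coh.structureModule X))) := by
  haveI := DCohMore.BC.hasRpush f
  have hRf : DCoh.RpushPreservesQCoh f := fun M hM => DCohMore.isQCohD_rpush f M hM
  let E := (DCoh.RSheafHom D).obj (DCoh.inD Y (Coh.structureModule Y))
  let E' := (DCoh.RSheafHom D').obj (DCoh.inD X (Coh.structureModule X))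
  let P := (resX Y).obj (DerivedCategory.Q.objPreimage E)
  let P' := (resX X).obj (DerivedCategory.Q.objPreimage E')
  let eP : DCoh.toD Y P ≅ E := resXIso E
  let eP' : DCoh.toD X P' ≅ E' := resXIso E'
  haveI := hasRSheafHom_of_isKFlat P (isKFlat_resX _)
  haveI := hasRSheafHom_of_isKFlat P' (isKFlat_resX _)
  have hPp : DCoh.IsPerfect (DCoh.toD Y P) := isPerfect_iso eP.symm (isPerfect_rSheafHom_unit D hD hDp)
  have hP'p : DCoh.IsPerfect (DCoh.toD X P') := isPerfect_iso eP'.symm (isPerfect_rSheafHom_unit D' hD' hD'p)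
  obtain ⟨r⟩ := nonempty_rSheafHom_dual D hD hDp P eP
  obtain ⟨r'⟩ := nonempty_rSheafHom_dual D' hD' hD'p P' eP'
  obtain ⟨p⟩ := nonempty_proj_left f D (isQCohD_of_isPerfect hDp) D' e
  let ιX := ObjectProperty.ι (DCoh.IsQCohD (X := X))
  let ιY := ObjectProperty.ι (DCoh.IsQCohD (X := Y))
  let q : homQ P' (isKFlat_resX _) hP'p ⋙ DCoh.RpushQ f hRf ≅ DCoh.RpushQ f hRf ⋙ homQ P (isKFlat_resX _) hPp :=
    Functor.fullyFaithfulCancelRight ιY
      (Functor.isoWhiskerLeft ιX (Functor.isoWhiskerRight r' (DCoh.Rpush f)) ≪≫ p.symm ≪≫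
        Functor.isoWhiskerLeft ιX (Functor.isoWhiskerLeft (DCoh.Rpush f) r.symm))
  let adjP := tensHomAdj P (isKFlat_resX _) hPp
  let adjP' := tensHomAdj P' (isKFlat_resX _) hP'p
  let adjL := lpullRpushQAdj f hRf
  let l : tensQ P (isQCohD_of_isPerfect hPp) ⋙ lpullQ f ≅ lpullQ f ⋙ tensQ P' (isQCohD_of_isPerfect hP'p) :=
    (adjP.comp adjL).leftAdjointUniq ((adjL.comp adjP').ofNatIsoRight q)
  let O : DCoh.DQCoh Y := ⟨DCoh.inD Y (Coh.structureModule Y),
    isQCohD_of_isPerfect (isPerfect_inD (BCLib.isFinLocFree_structureModule Y))⟩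
  obtain ⟨t⟩ := nonempty_lTensor_inD_structure P
  obtain ⟨t'⟩ := nonempty_lTensor_inD_structure P'
  obtain ⟨o⟩ := TwistFam.nonempty_lpull_structure f
  exact ⟨(DCoh.Lpull f).mapIso (eP.symm ≪≫ t.symm) ≪≫ ιX.mapIso (l.app O) ≪≫
    (DCoh.LTensorCx P').mapIso o ≪≫ t' ≪≫ eP'⟩

end Groth.Agent.TwistShriek
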