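import Groth.Prelude.Def_KLin
import Groth.Prelude.Def_Dual3
import Groth.Agent.DCohMore.BCGeneral
import Groth.Agent.RelPCLib.FlatBC
import Groth.Agent.KInj.Derived

/-!
# Global functions acting on derived categories, and derived direct and inverse images
-/

set_option autoImplicit false
set_option linter.style.haveILetI false
set_option linter.unusedSectionVars false
set_option backward.isDefEq.respectTransparency false

universe u

open CategoryTheory CategoryTheory.Limits AlgebraicGeometry Opposite
open Groth.Agent.DCohLib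

attribute [local instance] HasDerivedCategory.standard

noncomputable section

namespace Groth.Agent.TwistShriek

variable {X Y : Scheme.{u}}

/-- Global functions act on homomorphisms of modules. -/
@[instance_reducible]
def linΓ (X : Scheme.{u}) : Linear (Coh.Γtop X) X.Modules where
  homModule M N :=
    { smul := fun a f => Formal.smulModΓ M a ≫ f
      one_smul := fun f => by
        change Formal.smulModΓ M 1 ≫ f = f
        rw [KLin.smulModΓ_one, Category.id_comp]
      mul_smul := fun a b f => by
        change Formal.smulModΓ M (a * b) ≫ f = Formal.smulModΓ M a ≫ (Formal.smulModΓ M b ≫ f)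
        rw [KLin.smulModΓ_mul, Category.assoc]
      smul_zero := fun a => by
        change Formal.smulModΓ M a ≫ (0 : M ⟶ N) = 0
        rw [comp_zero]
      smul_add := fun a f g => by
        change Formal.smulModΓ M a ≫ (f + g) = Formal.smulModΓ M a ≫ f + Formal.smulModΓ M a ≫ g
        rw [Preadditive.comp_add]
      add_smul := fun a b f => by
        change Formal.smulModΓ M (a + b) ≫ f = Formal.smulModΓ M a ≫ f + Formal.smulModΓ M b ≫ f
        rw [KLin.smulModΓ_add, Preadditive.add_comp]
      zero_smul := fun f => by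
        change Formal.smulModΓ M 0 ≫ f = 0
        rw [KLin.smulModΓ_zero, zero_comp] }
  smul_comp M N P a f g := by
    change (Formal.smulModΓ M a ≫ f) ≫ g = Formal.smulModΓ M a ≫ (f ≫ g)
    rw [Category.assoc]
  comp_smul M N P f a g := by
    change f ≫ (Formal.smulModΓ N a ≫ g) = Formal.smulModΓ M a ≫ (f ≫ g)
    rw [← Category.assoc, KLin.comp_smulModΓ, Category.assoc]

attribute [local instance] linΓ

/-- Pullback of a global function. -/
abbrev fa (f : X ⟶ Y) (r : Coh.Γtop Y) : Coh.Γtop X := f.appTop r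

theorem smul_id_eq (M : X.Modules) (r : Coh.Γtop X) : r • 𝟙 M = Formal.smulModΓ M r := Category.comp_id _

/-- Multiplication by a global function in the derived category. -/
def sc (r : Coh.Γtop X) (K : DCoh.D X) : K ⟶ K := r • 𝟙 K

theorem sc_natural (r : Coh.Γtop X) {K L : DCoh.D X} (φ : K ⟶ L) : φ ≫ sc r L = sc r K ≫ φ := by
  rw [sc, sc, Linear.comp_smul, Linear.smul_comp, Category.comp_id, Category.id_comp]

theorem sc_comp (r : Coh.Γtop X) {K L : DCoh.D X} (φ : K ⟶ L) : sc r K ≫ φ = r • φ := by
  rw [sc, Linear.smul_comp, Category.id_comp]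

theorem sc_add (r s : Coh.Γtop X) (K : DCoh.D X) : sc (r + s) K = sc r K + sc s K := add_smul r s _

theorem sc_zero (K : DCoh.D X) : sc (0 : Coh.Γtop X) K = 0 := zero_smul _ _

theorem sc_one (K : DCoh.D X) : sc (1 : Coh.Γtop X) K = 𝟙 K := one_smul _ _

theorem sc_mul (r s : Coh.Γtop X) (K : DCoh.D X) : sc (r * s) K = sc r K ≫ sc s K := by
  rw [sc_comp, sc, sc, mul_smul]

theorem sc_Q (r : Coh.Γtop X) (C : CochainComplex X.Modules ℤ) :
    sc r (DerivedCategory.Q.obj C) = DerivedCategory.Q.map (r • 𝟙 C) := by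
  rw [Functor.map_smul, CategoryTheory.Functor.map_id]
  rfl

theorem hd_sc (r : Coh.Γtop X) (K : DCoh.D X) (n : ℤ) :
    (DerivedCategory.homologyFunctor X.Modules n).map (sc r K) = r • 𝟙 (DCoh.HD K n) := by
  obtain ⟨C, ⟨e⟩⟩ : ∃ C, Nonempty (DerivedCategory.Q.obj C ≅ K) := ⟨_, ⟨DerivedCategory.Q.objObjPreimageIso K⟩⟩
  rw [show sc r K = e.inv ≫ sc r (DerivedCategory.Q.obj C) ≫ e.hom by rw [← sc_natural, e.inv_hom_id_assoc],
    sc_Q, Functor.map_comp, Functor.map_comp]
  have h := (DerivedCategory.homologyFunctorFactors X.Modules n).hom.naturality (r • 𝟙 C)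
  have h2 : (HomologicalComplex.homologyFunctor X.Modules (ComplexShape.up ℤ) n).map (r • 𝟙 C) =
      r • 𝟙 ((HomologicalComplex.homologyFunctor X.Modules (ComplexShape.up ℤ) n).obj C) := by
    show ShortComplex.homologyMap ((HomologicalComplex.shortComplexFunctor X.Modules (ComplexShape.up ℤ) n).map
      (r • 𝟙 C)) = _
    rw [show (HomologicalComplex.shortComplexFunctor X.Modules (ComplexShape.up ℤ) n).map (r • 𝟙 C) =
      r • 𝟙 ((HomologicalComplex.shortComplexFunctor X.Modules (ComplexShape.up ℤ) n).obj C) from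
      ShortComplex.hom_ext _ _ rfl rfl rfl, ShortComplex.homologyMap_smul, ShortComplex.homologyMap_id]
    rfl
  rw [h2, Functor.comp_map, Linear.comp_smul, Category.comp_id] at h
  have h3 : (DerivedCategory.homologyFunctor X.Modules n).map (DerivedCategory.Q.map (r • 𝟙 C)) =
      r • 𝟙 ((DerivedCategory.homologyFunctor X.Modules n).obj (DerivedCategory.Q.obj C)) := by
    rw [← cancel_mono ((DerivedCategory.homologyFunctorFactors X.Modules n).hom.app C), h, Linear.smul_comp]
    erw [Category.id_comp]
  rw [h3, Linear.smul_comp, Category.id_comp, Linear.comp_smul, ← Functor.map_comp, e.inv_hom_id,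
    CategoryTheory.Functor.map_id]

/-- Direct image of a multiplication. -/
theorem pushforward_smulModΓ (f : X ⟶ Y) (r : Coh.Γtop Y) (N : X.Modules) :
    (Scheme.Modules.pushforward f).map (Formal.smulModΓ N (fa f r)) =
      Formal.smulModΓ ((Scheme.Modules.pushforward f).obj N) r := by
  refine Scheme.Modules.hom_ext _ _ fun U => ?_
  ext m
  rw [Scheme.Modules.pushforward_map_app]
  show (Formal.smulModΓ N (fa f r)).app (f ⁻¹ᵁ U) m = (Formal.smulModΓ _ r).app U m
  rw [KLin.smulModΓ_app_apply, KLin.smulModΓ_app_apply]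
  show _ = (show Γ(N, f ⁻¹ᵁ U) from f.app U (Y.presheaf.map (homOfLE (le_top : U ≤ ⊤)).op r) •
    (show Γ(N, f ⁻¹ᵁ U) from m))
  refine congrArg (fun t : Γ(X, f ⁻¹ᵁ U) => t • (show Γ(N, f ⁻¹ᵁ U) from m)) ?_
  exact (congr($(f.naturality (homOfLE (le_top : U ≤ ⊤)).op) r)).symm

/-- Inverse image of a multiplication. -/
theorem pullback_smulModΓ (f : X ⟶ Y) (r : Coh.Γtop Y) (M : Y.Modules) :
    (Scheme.Modules.pullback f).map (Formal.smulModΓ M r) =
      Formal.smulModΓ ((Scheme.Modules.pullback f).obj M) (fa f r) := by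
  let A := Scheme.Modules.pullbackPushforwardAdjunction f
  refine (A.homEquiv _ _).injective ?_
  rw [A.homEquiv_unit, A.homEquiv_unit]
  refine (A.unit.naturality (Formal.smulModΓ M r)).symm.trans ?_
  rw [pushforward_smulModΓ, Functor.id_map]
  exact (KLin.comp_smulModΓ (A.unit.app M) r).symm

theorem mapCx_smul {A : Type*} [Category A] [Abelian A] {B : Type*} [Category B] [Abelian B] (F : A ⥤ B)
    [F.Additive] {R S : Type*} [Ring R] [Ring S] [Linear R A] [Linear S B] (r : R) (s : S)
    (h : ∀ M, F.map (r • 𝟙 M) = s • 𝟙 (F.obj M)) (C : CochainComplex A ℤ) :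
    (F.mapHomologicalComplex (ComplexShape.up ℤ)).map (r • 𝟙 C) =
      s • 𝟙 ((F.mapHomologicalComplex (ComplexShape.up ℤ)).obj C) :=
  HomologicalComplex.hom_ext _ _ fun n => h (C.X n)

/-- Derived direct image of a multiplication. -/
theorem rpush_sc (f : X ⟶ Y) [DCoh.HasRpush f] (r : Coh.Γtop Y) (K : DCoh.D X) :
    (DCoh.Rpush f).map (sc (fa f r) K) = sc r ((DCoh.Rpush f).obj K) := by
  obtain ⟨I, φ, hI, hφ⟩ := hres_modules X (DerivedCategory.Q.objPreimage K)
  haveI := hI
  haveI : IsIso (DerivedCategory.Q.map φ) := (DerivedCategory.isIso_Q_map_iff_quasiIso (C := X.Modules) _).2 hφ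
  let q := (HomotopyCategory.quotient X.Modules (ComplexShape.up ℤ))
  let α := (DCoh.pushKh f).totalRightDerivedUnit DerivedCategory.Qh
    (HomotopyCategory.quasiIso X.Modules (ComplexShape.up ℤ))
  haveI : IsIso (α.app (q.obj I)) := KInj.isIso_app_of_isKInjective (hres_modules X) _ _ α I
  let e : DerivedCategory.Qh.obj (q.obj I) ≅ K :=
    (DerivedCategory.quotientCompQhIso X.Modules).app I ≪≫ (asIso (DerivedCategory.Q.map φ)).symm ≪≫
      DerivedCategory.Q.objObjPreimageIso K
  suffices h : (DCoh.Rpush f).map (sc (fa f r) (DerivedCategory.Qh.obj (q.obj I))) =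
      sc r ((DCoh.Rpush f).obj (DerivedCategory.Qh.obj (q.obj I))) by
    rw [← cancel_epi ((DCoh.Rpush f).map e.hom), ← Functor.map_comp, sc_natural, Functor.map_comp, h, ← sc_natural]
  rw [← cancel_epi (α.app (q.obj I))]
  have h1 : sc (fa f r) (DerivedCategory.Qh.obj (q.obj I)) = DerivedCategory.Qh.map (fa f r • 𝟙 (q.obj I)) := by
    rw [Functor.map_smul, CategoryTheory.Functor.map_id]
    rfl
  have h2 : (DCoh.pushKh f).map (fa f r • 𝟙 (q.obj I)) = sc r ((DCoh.pushKh f).obj (q.obj I)) := by
    rw [show fa f r • 𝟙 (q.obj I) = q.map (fa f r • 𝟙 I) by rw [Functor.map_smul, CategoryTheory.Functor.map_id]]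
    show DerivedCategory.Qh.map ((HomotopyCategory.quotient Y.Modules (ComplexShape.up ℤ)).map
      (((Scheme.Modules.pushforward f).mapHomologicalComplex (ComplexShape.up ℤ)).map (fa f r • 𝟙 I))) = _
    rw [mapCx_smul (Scheme.Modules.pushforward f) (fa f r) r
      (fun M => by rw [smul_id_eq, smul_id_eq, pushforward_smulModΓ]) I, Functor.map_smul, Functor.map_smul,
      CategoryTheory.Functor.map_id, CategoryTheory.Functor.map_id]
    rfl
  rw [h1]
  refine (α.naturality _).symm.trans ?_
  rw [h2]
  exact (sc_natural r _).symm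

variable (f : X ⟶ Y) [Flat f]

/-- Along a flat morphism the derived inverse image is the termwise one. -/
theorem nonempty_lpull_iso_mapDerived [DCoh.HasLpull f] [PreservesFiniteColimits (Scheme.Modules.pullback f)] :
    Nonempty (DCoh.Lpull f ≅ (Scheme.Modules.pullback f).mapDerivedCategory) := by
  let e : DerivedCategory.Qh ⋙ (Scheme.Modules.pullback f).mapDerivedCategory ≅ DCoh.pullKh f :=
    (Scheme.Modules.pullback f).mapDerivedCategoryFactorsh
  haveI := Functor.isLeftDerivedFunctor_of_inverts (HomotopyCategory.quasiIso Y.Modules (ComplexShape.up ℤ))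
    (Scheme.Modules.pullback f).mapDerivedCategory e
  exact ⟨Functor.leftDerivedUnique (Scheme.Modules.pullback f).mapDerivedCategory (DCoh.Lpull f)
    ((DCoh.pullKh f).totalLeftDerivedCounit DerivedCategory.Qh (HomotopyCategory.quasiIso Y.Modules (ComplexShape.up ℤ)))
    e.hom (HomotopyCategory.quasiIso Y.Modules (ComplexShape.up ℤ))⟩

instance preservesFiniteColimits_pullback' (g : X ⟶ Y) : PreservesFiniteColimits (Scheme.Modules.pullback g) := by
  haveI : PreservesColimitsOfSize.{0, 0} (Scheme.Modules.pullback g) :=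
    (Scheme.Modules.pullbackPushforwardAdjunction g).leftAdjoint_preservesColimits
  infer_instance

/-- Derived inverse image of a multiplication along a flat morphism. -/
theorem lpull_sc [DCoh.HasLpull f] (r : Coh.Γtop Y) (K : DCoh.D Y) :
    (DCoh.Lpull f).map (sc r K) = sc (fa f r) ((DCoh.Lpull f).obj K) := by
  obtain ⟨l⟩ := nonempty_lpull_iso_mapDerived f
  let P := Scheme.Modules.pullback f
  obtain ⟨C, ⟨e⟩⟩ : ∃ C, Nonempty (DerivedCategory.Q.obj C ≅ K) := ⟨_, ⟨DerivedCategory.Q.objObjPreimageIso K⟩⟩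
  suffices h : P.mapDerivedCategory.map (sc r (DerivedCategory.Q.obj C)) =
      sc (fa f r) (P.mapDerivedCategory.obj (DerivedCategory.Q.obj C)) by
    rw [← cancel_epi ((DCoh.Lpull f).map e.hom), ← Functor.map_comp, sc_natural, Functor.map_comp,
      sc_natural]
    refine congrArg (· ≫ _) ?_
    rw [← cancel_mono (l.hom.app _), l.hom.naturality, h, sc_natural]
  rw [sc_Q, ← cancel_mono ((P.mapDerivedCategoryFactors).hom.app C)]
  refine ((P.mapDerivedCategoryFactors).hom.naturality _).trans ?_
  rw [← sc_natural, Functor.comp_map,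
    mapCx_smul P r (fa f r) (fun M => by rw [smul_id_eq, smul_id_eq, pullback_smulModΓ]) C,
    Functor.map_smul, CategoryTheory.Functor.map_id]
  rfl

end Groth.Agent.TwistShriek
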