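import Groth.Agent.TwistShriek.DualizingTop

/-!
# Dualizing modules of Cohen–Macaulay local rings
-/

set_option autoImplicit false
set_option linter.style.haveILetI false
set_option backward.isDefEq.respectTransparency false
set_option maxHeartbeats 800000
set_option maxRecDepth 4000

universe u

open CategoryTheory CategoryTheory.Limits

attribute [local instance] HasDerivedCategory.standard

noncomputable section

namespace Groth.Agent.TwistShriek

open Groth.Agent.DualCxLib

variable {A : Type u} [CommRing A] [IsLocalRing A] [IsNoetherianRing A] {Ω : Dual.D A}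

/-- A dualizing complex of a Cohen–Macaulay local ring has one cohomology module. -/
theorem eq_of_cm (hΩ : Dual.IsDualizing A Ω) (h : LocCoh.IsCohenMacaulayModule A A) (i j : ℤ)
    (hi : Nontrivial (Dual.HD A Ω i)) (hj : Nontrivial (Dual.HD A Ω j)) : i = j := by
  have hcm : LocCoh.IsCohenMacaulayModule (Localization.AtPrime (IsLocalRing.maximalIdeal A))
      (LocalizedModule (IsLocalRing.maximalIdeal A).primeCompl A) := by
    unfold LocCoh.IsCohenMacaulayModule at h ⊢
    rw [supportDim_localized_maximal, CMSeqLib.depth_localizedModule_maximal]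
    exact h
  obtain ⟨ei⟩ := (model hΩ).nonempty_HD_equiv i
  obtain ⟨ej⟩ := (model hΩ).nonempty_HD_equiv j
  exact (cm_localized_iff hΩ (M := A) (IsLocalRing.closedPoint A)).1 (Or.inr hcm) i j
    (not_zeroAt_maximal_iff.2 (ei.toEquiv.nontrivial_congr.2 hi))
    (not_zeroAt_maximal_iff.2 (ej.toEquiv.nontrivial_congr.2 hj))

/-- A dualizing complex with one cohomology module is that module, placed in a degree. -/
theorem isCohenMacaulayModule_of_concentrated (hΩ : Dual.IsDualizing A Ω) (m : ℤ)
    (h : ∀ j : ℤ, j ≠ m → Subsingleton (Dual.HD A Ω j)) (N : Type u) [AddCommGroup N] [Module A N]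
    [Nontrivial N] (e : Dual.HD A Ω m ≃ₗ[A] N) : LocCoh.IsCohenMacaulayModule A N := by
  haveI : Module.Finite A (Dual.HD A Ω m) := hΩ.finite_cohomology m
  haveI : Module.Finite A N := Module.Finite.equiv e
  haveI : DerivedCategory.IsGE Ω m := (DerivedCategory.isGE_iff _ _).2 fun j hj =>
    ModuleCat.isZero_iff_subsingleton.2 (h j hj.ne)
  haveI : DerivedCategory.IsLE Ω m := (DerivedCategory.isLE_iff _ _).2 fun j hj =>
    ModuleCat.isZero_iff_subsingleton.2 (h j (ne_of_gt hj))
  obtain ⟨Y, ⟨eY⟩⟩ := DerivedCategory.exists_iso_singleFunctor_obj_of_isGE_of_isLE Ω m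
  let eN : Y ≃ₗ[A] N :=
    ((DerivedCategory.singleFunctorCompHomologyFunctorIso (ModuleCat.{u} A) m).app Y).toLinearEquiv.symm.trans
      (((DerivedCategory.homologyFunctor (ModuleCat.{u} A) m).mapIso eY.symm).toLinearEquiv.trans e)
  let eΩ : Dual.inD A N ≅ Ω⟦m⟧ := Iso.symm ((shiftFunctor (Dual.D A) m).mapIso eY ≪≫
    ((DerivedCategory.singleFunctors (ModuleCat.{u} A)).shiftIso m 0 m (add_zero m)).app Y ≪≫
    (DerivedCategory.singleFunctor (ModuleCat.{u} A) 0).mapIso eN.toModuleIso)
  have hω := isDualizing_shift hΩ m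
  have hk : ∀ i : ℤ, i ≠ 0 → Subsingleton (HK (Ω⟦m⟧) i N) := fun i hi =>
    (eΩ.homCongr (Iso.refl _)).subsingleton_congr.2 (hω.ext_self_subsingleton i hi)
  have h1 := ((cm_localized_iff hω (M := N) (IsLocalRing.closedPoint A)).2 fun i j hi hj => by
    by_contra hne
    rcases eq_or_ne i 0 with rfl | hi0
    · exact hj (zeroAt_maximal_iff.2 (hk j fun h => hne h.symm))
    · exact hi (zeroAt_maximal_iff.2 (hk i hi0))).resolve_left (fun hs => not_nontrivial_iff_subsingleton.2 hs
        (nontrivial_localized (p := IsLocalRing.closedPoint A) (IsLocalRing.closedPoint_mem_support A N)))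
  unfold LocCoh.IsCohenMacaulayModule at h1 ⊢
  rw [← supportDim_localized_maximal (M := N), ← CMSeqLib.depth_localizedModule_maximal (A := A) (M := N)]
  exact h1

end Groth.Agent.TwistShriek
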