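import Groth.Prelude.Def_Canon
import Groth.Agent.ASBunKS.HomFinite
import Groth.Agent.EulerIneqLib.Basic
import Groth.Agent.CohBase.Basic
import Groth.Agent.VBLib.Secant

/-!
# Consequences of a dualizing pair over a field
-/

set_option autoImplicit false
set_option backward.isDefEq.respectTransparency false
set_option maxHeartbeats 1000000

universe u

open CategoryTheory CategoryTheory.Limits AlgebraicGeometry

noncomputable section

namespace Groth.Agent.TwistShriek

open Groth.Agent.VBLib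

variable (k : Type u) [Field k] {X : Scheme.{u}} [X.Over (Spec (CommRingCat.of k))]

theorem HHlin_cst (F : X.Modules) (c : k) (r : ℕ) (x : Coh.HH X F r) :
    Canon.HHlin k (cst k F c : F ⟶ F) r x = c • x := rfl

theorem HHlin_comp {F G H : X.Modules} (φ : F ⟶ G) (ψ : G ⟶ H) (r : ℕ) (x : Coh.HH X F r) :
    Canon.HHlin k (φ ≫ ψ) r x = Canon.HHlin k ψ r (Canon.HHlin k φ r x) := by
  show Sheaf.H.map ((SheafOfModules.toSheaf X.ringCatSheaf).map (φ ≫ ψ)) r x = _
  rw [Functor.map_comp, Sheaf.H.map_comp_apply]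
  rfl

variable {r : ℕ} {ω : X.Modules} {tr : Coh.HH X ω r →ₗ[k] k}

theorem dualityMap_add (F : X.Modules) (φ ψ : F ⟶ ω) :
    Canon.dualityMap k X r ω tr F (φ + ψ) = Canon.dualityMap k X r ω tr F φ + Canon.dualityMap k X r ω tr F ψ := by
  refine LinearMap.ext fun x => ?_
  show tr (Sheaf.H.map ((SheafOfModules.toSheaf X.ringCatSheaf).map (φ + ψ)) r x) = _
  rw [Functor.map_add]
  exact (congrArg tr (Sheaf.H.map_add_apply _ _ x)).trans (map_add tr _ _)

theorem dualityMap_cst (F : X.Modules) (c : k) (φ : F ⟶ ω) :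
    Canon.dualityMap k X r ω tr F (φ ≫ (cst k ω c : ω ⟶ ω)) = c • Canon.dualityMap k X r ω tr F φ := by
  refine LinearMap.ext fun x => ?_
  show tr (Canon.HHlin k (φ ≫ _) r x) = c • tr (Canon.HHlin k φ r x)
  rw [HHlin_comp, HHlin_cst, map_smul]

variable (hω : Canon.IsRDualOver k X r ω tr)

include hω in
/-- Endomorphisms of the dualizing sheaf are scalars when its top cohomology is at most a line. -/
theorem exists_eq_cst [Module.Finite k (Coh.HH X ω r)] (h1 : Module.finrank k (Coh.HH X ω r) ≤ 1)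
    (φ : ω ⟶ ω) : ∃ c : k, φ = (cst k ω c : ω ⟶ ω) := by
  let D := Canon.dualityMap k X r ω tr ω
  by_cases h0 : D (𝟙 ω) = 0
  · have h2 : D (cst k ω (0 : k) : ω ⟶ ω) = D (𝟙 ω) := by
      rw [← Category.id_comp (cst k ω (0 : k) : ω ⟶ ω)]
      exact (dualityMap_cst k ω 0 (𝟙 ω)).trans ((zero_smul k _).trans h0.symm)
    refine ⟨0, ?_⟩
    rw [← Category.comp_id φ, ← (hω.2 ω hω.1).1 h2, cst_zero]
    exact comp_zero
  · have h3 : Module.finrank k (Module.Dual k (Coh.HH X ω r)) = 1 := by
      refine le_antisymm (Subspace.dual_finrank_eq.trans_le h1) ?_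
      exact Module.finrank_pos_iff_exists_ne_zero.2 ⟨_, h0⟩
    obtain ⟨c, hc⟩ := exists_smul_eq_of_finrank_eq_one h3 h0 (D φ)
    refine ⟨c, (hω.2 ω hω.1).1 ?_⟩
    rw [← Category.id_comp (cst k ω c : ω ⟶ ω)]
    exact hc.symm.trans (dualityMap_cst k ω c (𝟙 ω)).symm

include hω in
/-- No maps to the dualizing sheaf means no top cohomology. -/
theorem subsingleton_HH_of_hom_eq_zero (F : X.Modules) (hF : Coh.IsQCoh F) (h : ∀ u : F ⟶ ω, u = 0) :
    Subsingleton (Coh.HH X F r) := by
  haveI : Subsingleton (F ⟶ ω) := ⟨fun a b => (h a).trans (h b).symm⟩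
  haveI : Subsingleton (Module.Dual k (Coh.HH X F r)) :=
    (Equiv.ofBijective _ (hω.2 F hF)).symm.subsingleton
  exact (Module.subsingleton_dual_iff k).1 ‹_›

include hω in
/-- No top cohomology means no maps to the dualizing sheaf. -/
theorem hom_eq_zero_of_subsingleton_HH (F : X.Modules) (hF : Coh.IsQCoh F) [Subsingleton (Coh.HH X F r)]
    (u : F ⟶ ω) : u = 0 :=
  (hω.2 F hF).1 (LinearMap.ext fun x => by rw [Subsingleton.elim x 0, map_zero, map_zero])

include hω in
/-- A map out of the dualizing sheaf splits unless all composites back vanish. -/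
theorem exists_retraction [Module.Finite k (Coh.HH X ω r)] (h1 : Module.finrank k (Coh.HH X ω r) ≤ 1)
    {F : X.Modules} (g : ω ⟶ F) : (∃ u : F ⟶ ω, g ≫ u = 𝟙 ω) ∨ ∀ u : F ⟶ ω, g ≫ u = 0 := by
  refine or_iff_not_imp_left.2 fun h u => ?_
  obtain ⟨c, hc⟩ := exists_eq_cst k hω h1 (g ≫ u)
  by_cases h0 : c = 0
  · rw [hc, h0, cst_zero]
  · refine absurd ⟨u ≫ (cst k ω c⁻¹ : ω ⟶ ω), ?_⟩ h
    rw [← Category.assoc, hc, ← cst_mul, inv_mul_cancel₀ h0, cst_one]

include hω in
/-- `h⁰(ω) = h^r(O)`. -/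
theorem finrank_H0_dualizing :
    Module.finrank k (Coh.HH X ω 0) = Module.finrank k (Coh.HH X (Coh.structureModule X) r) := by
  let S : Coh.HH X ω 0 ≃ (Coh.structureModule X ⟶ ω) :=
    { toFun := fun x => DCohLib.secHom ω (CurveLib.secOf ω x)
      invFun := fun f => (CurveLib.secOf ω).symm (AmpleLib.sec f)
      left_inv := fun x => by
        dsimp only
        rw [AmpleLib.sec_secHom, AddEquiv.symm_apply_apply]
      right_inv := fun f => by
        dsimp only
        rw [AddEquiv.apply_symm_apply, AmpleLib.secHom_sec] }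
  let e : Coh.HH X ω 0 ≃ₗ[k] Module.Dual k (Coh.HH X (Coh.structureModule X) r) :=
    LinearEquiv.ofBijective
      { toFun := fun x => Canon.dualityMap k X r ω tr _ (S x)
        map_add' := fun x y => by
          show Canon.dualityMap k X r ω tr _ (DCohLib.secHom ω (CurveLib.secOf ω (x + y))) = _
          rw [map_add, CurveLib.secHom_add, dualityMap_add]
          rfl
        map_smul' := fun c x => by
          show Canon.dualityMap k X r ω tr _ (DCohLib.secHom ω (CurveLib.secOf ω (c • x))) = _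
          rw [Secant.secHom_smul, dualityMap_cst]
          rfl }
      ((hω.2 _ inferInstance).comp S.bijective)
  rw [e.finrank_eq, Subspace.dual_finrank_eq]

end Groth.Agent.TwistShriek
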