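import Groth.Agent.TwistShriek.BcQ

/-!
# The base change map of right adjoints, in terms of adjoint transposes
-/

set_option autoImplicit false
set_option linter.style.haveILetI false
set_option linter.unusedSectionVars false

universe v₁ v₂ v₃ v₄ u₁ u₂ u₃ u₄

open CategoryTheory

namespace Groth.Agent.TwistShriek

variable {A : Type u₁} [Category.{v₁} A] {B : Type u₂} [Category.{v₂} B] {A' : Type u₃} [Category.{v₃} A']
  {B' : Type u₄} [Category.{v₄} B'] {F : A ⥤ B} {a : B ⥤ A} {F' : A' ⥤ B'} {a' : B' ⥤ A'}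
  {G : B' ⥤ B} {G' : A' ⥤ A} {L : B ⥤ B'} {L' : A ⥤ A'}
  (adj : F ⊣ a) (adj' : F' ⊣ a') (e : G' ⋙ F ≅ F' ⋙ G)

/-- The transpose `ξ`. -/
def xiMap (M : B') : G'.obj (a'.obj M) ⟶ a.obj (G.obj M) :=
  (adj.homEquiv _ _) (e.hom.app (a'.obj M) ≫ G.map (adj'.counit.app M))

theorem xiMap_natural {M N : B'} (φ : M ⟶ N) :
    G'.map (a'.map φ) ≫ xiMap adj adj' e N = xiMap adj adj' e M ≫ a.map (G.map φ) := by
  rw [xiMap, xiMap, ← adj.homEquiv_naturality_left, ← adj.homEquiv_naturality_right]
  refine congrArg _ ?_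
  erw [reassoc_of% e.hom.naturality, Category.assoc, ← Functor.map_comp, ← Functor.map_comp]
  exact congrArg (fun k => _ ≫ G.map k) (adj'.counit.naturality φ)

variable (adjL : L ⊣ G) (adjL' : L' ⊣ G')

/-- The base change map of right adjoints. -/
noncomputable def bcAdjMap (K : B) [IsIso (xiMap adj adj' e (L.obj K))] : L'.obj (a.obj K) ⟶ a'.obj (L.obj K) :=
  L'.map (a.map (adjL.unit.app K)) ≫ L'.map (inv (xiMap adj adj' e (L.obj K))) ≫
    adjL'.counit.app (a'.obj (L.obj K))

/-- The transpose of the base change map along the pullback on the source. -/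
theorem unit_bcAdjMap (K : B) [IsIso (xiMap adj adj' e (L.obj K))] :
    adjL'.unit.app (a.obj K) ≫ G'.map (bcAdjMap adj adj' e adjL adjL' K) =
      a.map (adjL.unit.app K) ≫ inv (xiMap adj adj' e (L.obj K)) := by
  have h : bcAdjMap adj adj' e adjL adjL' K =
      (adjL'.homEquiv _ _).symm (a.map (adjL.unit.app K) ≫ inv (xiMap adj adj' e (L.obj K))) := by
    rw [adjL'.homEquiv_counit, bcAdjMap, Functor.map_comp, Category.assoc]
  rw [h]
  exact (adjL'.homEquiv_unit _ _ _).symm.trans (Equiv.apply_symm_apply _ _)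

/-- On maps pulled back from the base the base change map is the pullback of the transpose. -/
theorem bcAdjMap_transpose (K : B) [IsIso (xiMap adj adj' e (L.obj K))] {E : A} (φ : E ⟶ a.obj K) :
    (DCohMore.BC.bc adjL adjL' e).app E ≫
        (adj'.homEquiv _ _).symm (L'.map φ ≫ bcAdjMap adj adj' e adjL adjL' K) =
      L.map ((adj.homEquiv _ _).symm φ) := by
  apply (adjL.homEquiv _ _).injective
  rw [adjL.homEquiv_unit, adjL.homEquiv_unit, Functor.map_comp, ← Category.assoc, DCohMore.BC.unit_bc,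
    adjL.unit_naturality, adj'.homEquiv_counit, Functor.map_comp, Category.assoc]
  have h1 : e.hom.app (L'.obj E) ≫ G.map (F'.map (L'.map φ ≫ bcAdjMap adj adj' e adjL adjL' K)) =
      F.map (G'.map (L'.map φ ≫ bcAdjMap adj adj' e adjL adjL' K)) ≫ e.hom.app (a'.obj (L.obj K)) :=
    (e.hom.naturality _).symm
  rw [reassoc_of% h1, ← Category.assoc (F.map _), ← Functor.map_comp, Functor.map_comp G',
    ← Category.assoc (adjL'.unit.app E), ← Functor.comp_map, ← adjL'.unit.naturality φ, Functor.id_map,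
    Category.assoc φ, unit_bcAdjMap, Functor.map_comp, Functor.map_comp, Category.assoc,
    Category.assoc]
  have h2 : e.hom.app (a'.obj (L.obj K)) ≫ G.map (adj'.counit.app (L.obj K)) =
      F.map (xiMap adj adj' e (L.obj K)) ≫ adj.counit.app (G.obj (L.obj K)) := by
    exact ((adj.homEquiv_counit _ _ _).symm.trans (Equiv.symm_apply_apply _ _)).symm
  rw [h2, ← Category.assoc (F.map (inv _)), ← Functor.map_comp, IsIso.inv_hom_id, CategoryTheory.Functor.map_id]
  erw [Category.id_comp, adj.counit_naturality, ← Category.assoc, ← adj.homEquiv_counit]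
  rfl

/-- The base change map being invertible does not depend on the adjunctions for the pullbacks. -/
theorem isIso_bcAdjMap_transport {L₂ : B ⥤ B'} {L₂' : A ⥤ A'} (adjL₂ : L₂ ⊣ G) (adjL₂' : L₂' ⊣ G') (K : B)
    [IsIso (xiMap adj adj' e (L.obj K))] [IsIso (xiMap adj adj' e (L₂.obj K))]
    [IsIso (bcAdjMap adj adj' e adjL adjL' K)] : IsIso (bcAdjMap adj adj' e adjL₂ adjL₂' K) := by
  let l := (adjL.leftAdjointUniq adjL₂).app K
  let l' := (adjL'.leftAdjointUniq adjL₂').app (a.obj K)
  have h : l'.hom ≫ bcAdjMap adj adj' e adjL₂ adjL₂' K = bcAdjMap adj adj' e adjL adjL' K ≫ a'.map l.hom := by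
    apply (adjL'.homEquiv _ _).injective
    rw [adjL'.homEquiv_unit, adjL'.homEquiv_unit, Functor.map_comp, Functor.map_comp]
    rw [← Category.assoc, show adjL'.unit.app (a.obj K) ≫ G'.map l'.hom = adjL₂'.unit.app (a.obj K) from
      Adjunction.unit_leftAdjointUniq_hom_app adjL' adjL₂' (a.obj K), unit_bcAdjMap, ← Category.assoc,
      unit_bcAdjMap, Category.assoc]
    have hl : adjL.unit.app K ≫ G.map l.hom = adjL₂.unit.app K :=
      Adjunction.unit_leftAdjointUniq_hom_app adjL adjL₂ K
    rw [← hl, Functor.map_comp, Category.assoc]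
    refine congrArg _ ?_
    rw [IsIso.comp_inv_eq, Category.assoc, IsIso.eq_inv_comp]
    exact (xiMap_natural adj adj' e l.hom).symm
  haveI : IsIso (l'.hom ≫ bcAdjMap adj adj' e adjL₂ adjL₂' K) := h ▸ inferInstance
  exact IsIso.of_isIso_comp_left l'.hom _

end Groth.Agent.TwistShriek
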