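import Groth.Prelude.Def_Dual3
import Groth.Agent.TwistShriek.KernelAdj
import Groth.Agent.DCohMore.BCMain

/-!
# Base change on `D_QCoh` and the map `ξ`
-/

set_option autoImplicit false
set_option linter.style.haveILetI false
set_option backward.isDefEq.respectTransparency false
set_option maxHeartbeats 1000000

universe u

open CategoryTheory CategoryTheory.Limits AlgebraicGeometry
open Groth.Agent.DCohMore

attribute [local instance] HasDerivedCategory.standard

noncomputable section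

namespace Groth.Agent.TwistShriek

variable {X Y X' Y' : Scheme.{u}} {f : X ⟶ Y} {g : Y' ⟶ Y} {f' : X' ⟶ Y'} {g' : X' ⟶ X}
  [DCoh.HasRpush f] [DCoh.HasRpush f'] [DCoh.HasRpush g] [DCoh.HasRpush g']
  {hf : DCoh.RpushPreservesQCoh f} {hf' : DCoh.RpushPreservesQCoh f'}
  {hg : DCoh.RpushPreservesQCoh g} {hg' : DCoh.RpushPreservesQCoh g'}

/-- An identification of composites of direct images, on `D_QCoh`. -/
def rpushSquareQ (e : DCoh.Rpush g' ⋙ DCoh.Rpush f ≅ DCoh.Rpush f' ⋙ DCoh.Rpush g) :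
    DCoh.RpushQ g' hg' ⋙ DCoh.RpushQ f hf ≅ DCoh.RpushQ f' hf' ⋙ DCoh.RpushQ g hg :=
  NatIso.ofComponents (fun K => ObjectProperty.isoMk _ (e.app K.obj))
    fun φ => ObjectProperty.hom_ext _ (e.hom.naturality φ.hom)

@[simp]
theorem rpushSquareQ_hom_app_hom (e : DCoh.Rpush g' ⋙ DCoh.Rpush f ≅ DCoh.Rpush f' ⋙ DCoh.Rpush g)
    (K : DCoh.DQCoh X') :
    ((rpushSquareQ (hf := hf) (hf' := hf') (hg := hg) (hg' := hg') e).hom.app K).hom = e.hom.app K.obj :=
  rfl

theorem lpullQCoh (g : Y' ⟶ Y) [DCoh.HasLpull g] : Dual3.LpullPreservesQCoh g :=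
  fun K hK => TildeD.isQCohD_lpull g K hK

/-- Inverse and direct images on objects with quasi-coherent cohomology. -/
def adjQ (g : Y' ⟶ Y) [DCoh.HasLpull g] [DCoh.HasRpush g] (hg : DCoh.RpushPreservesQCoh g) :
    Dual3.LpullQ g (lpullQCoh g) ⊣ DCoh.RpushQ g hg :=
  lpullRpushQAdj g hg

variable [DCoh.HasLpull g] [DCoh.HasLpull g']

/-- The base change map on `D_QCoh` is the base change map. -/
theorem bcPush_hom (e : DCoh.Rpush g' ⋙ DCoh.Rpush f ≅ DCoh.Rpush f' ⋙ DCoh.Rpush g) (K : DCoh.DQCoh X) :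
    (Dual3.bcPush (rpushSquareQ (hf := hf) (hf' := hf') (hg := hg) (hg' := hg') e)
      (adjQ g hg) (adjQ g' hg') K).hom =
      DCoh.baseChangeApp (DCohLib.lpullRpushAdj g) (DCohLib.lpullRpushAdj g') e K.obj := by
  rw [Dual3.bcPush, DCoh.baseChangeApp, Adjunction.homEquiv_counit, Adjunction.homEquiv_counit]
  simp [adjQ, lpullRpushQAdj, Adjunction.restrictFullyFaithful]
  erw [Adjunction.homEquiv_id, Adjunction.homEquiv_symm_id]
  rfl

omit [DCoh.HasLpull g] [DCoh.HasLpull g'] in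
/-- `ξ` is an isomorphism when the base change maps are. -/
theorem isIso_xi {a : DCoh.DQCoh Y ⥤ DCoh.DQCoh X} {a' : DCoh.DQCoh Y' ⥤ DCoh.DQCoh X'}
    (adj : DCoh.RpushQ f hf ⊣ a) (adj' : DCoh.RpushQ f' hf' ⊣ a')
    (e : DCoh.RpushQ g' hg' ⋙ DCoh.RpushQ f hf ≅ DCoh.RpushQ f' hf' ⋙ DCoh.RpushQ g hg)
    [DCoh.HasLpull g] [DCoh.HasLpull g'] {hLg : Dual3.LpullPreservesQCoh g} {hLg' : Dual3.LpullPreservesQCoh g'}
    (adjg : Dual3.LpullQ g hLg ⊣ DCoh.RpushQ g hg) (adjg' : Dual3.LpullQ g' hLg' ⊣ DCoh.RpushQ g' hg')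
    (hbc : ∀ K, IsIso (Dual3.bcPush e adjg adjg' K)) (M : DCoh.DQCoh Y') : IsIso (Dual3.xi adj adj' e M) := by
  refine isIso_of_yoneda_map_bijective _ fun W => ?_
  haveI := hbc W
  let E : (W ⟶ (DCoh.RpushQ g' hg').obj (a'.obj M)) ≃ (W ⟶ a.obj ((DCoh.RpushQ g hg).obj M)) :=
    (adjg'.homEquiv _ _).symm.trans <| (adj'.homEquiv _ _).symm.trans <|
      (asIso (Dual3.bcPush e adjg adjg' W)).homFromEquiv.symm.trans <| (adjg.homEquiv _ _).trans (adj.homEquiv _ _)
  have key : ∀ φ, φ ≫ Dual3.xi adj adj' e M = E φ := by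
    intro φ
    obtain ⟨ψ, rfl⟩ := (adjg'.homEquiv _ _).surjective φ
    simp only [E, Equiv.trans_apply, Equiv.symm_apply_apply, Iso.homFromEquiv_symm_apply, asIso_hom]
    rw [Dual3.xi, ← Adjunction.homEquiv_naturality_left]
    congr 1
    rw [Adjunction.homEquiv_naturality_right, Dual3.bcPush, Equiv.apply_symm_apply, Category.assoc,
      Adjunction.homEquiv_unit, Functor.map_comp, Category.assoc, Adjunction.homEquiv_counit, Functor.map_comp]
    erw [← reassoc_of% e.hom.naturality]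
  convert E.bijective using 1
  exact funext key

/-- There is an identification of composites for which `ξ` is an isomorphism, in tor-independent squares. -/
theorem exists_isIso_xi [QuasiCompact f] [QuasiSeparated f] (hsq : IsPullback g' f' f g) (ht : BC.TI f g)
    [CompactSpace Y'] [QuasiSeparatedSpace Y'] [CompactSpace Y] [QuasiSeparatedSpace Y]
    [CompactSpace X'] [QuasiSeparatedSpace X'] [CompactSpace X] [QuasiSeparatedSpace X]
    {a : DCoh.DQCoh Y ⥤ DCoh.DQCoh X} {a' : DCoh.DQCoh Y' ⥤ DCoh.DQCoh X'}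
    (adj : DCoh.RpushQ f hf ⊣ a) (adj' : DCoh.RpushQ f' hf' ⊣ a') :
    ∃ e : DCoh.RpushQ g' hg' ⋙ DCoh.RpushQ f hf ≅ DCoh.RpushQ f' hf' ⋙ DCoh.RpushQ g hg,
      ∀ M, IsIso (Dual3.xi adj adj' e M) := by
  obtain ⟨e, he⟩ := BC.exists_iso_baseChange f g f' g' hsq ht (DCohLib.lpullRpushAdj g) (DCohLib.lpullRpushAdj g')
  refine ⟨rpushSquareQ e, isIso_xi adj adj' _ (adjQ g hg) (adjQ g' hg') fun K => ?_⟩
  haveI : IsIso ((ObjectProperty.ι _).map (Dual3.bcPush (rpushSquareQ (hf := hf) (hf' := hf') (hg := hg) (hg' := hg') e)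
      (adjQ g hg) (adjQ g' hg') K)) := by
    show IsIso (Dual3.bcPush _ _ _ K).hom
    rw [bcPush_hom]
    exact he K.obj K.property
  exact isIso_of_reflects_iso _ (ObjectProperty.ι _)

end Groth.Agent.TwistShriek
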