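import Groth.Agent.TwistShriek.HomBCGlobal
import Groth.Agent.TwistShriek.BcMapMate
import Groth.Agent.TwistShriek.BcQ
import Groth.Agent.DCohMore.BvdBStep
import Groth.Agent.DCohMore.RpushAffine

/-!
# Flat base change for the right adjoint of derived direct image, affine bases
-/

set_option autoImplicit false
set_option linter.style.haveILetI false
set_option linter.unusedSectionVars false
set_option backward.isDefEq.respectTransparency false
set_option maxHeartbeats 1000000

universe u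

open CategoryTheory CategoryTheory.Limits AlgebraicGeometry Pretriangulated
open Groth.Agent.DCohLib Groth.Agent.DCohMore
open scoped TensorProduct

attribute [local instance] HasDerivedCategory.standard Groth.Agent.TwistShriek.linΓ

noncomputable section

namespace Groth.Agent.TwistShriek

/-- Global functions, as a ring map. -/
abbrev idTop (Y : Scheme.{u}) : Γ(Y, ⊤) →+* Coh.Γtop Y := RingHom.id Γ(Y, ⊤)

/-- Global functions of an affine base change, as an algebra. -/
abbrev algTop {Y Y' : Scheme.{u}} (g : Y' ⟶ Y) : Algebra Γ(Y, ⊤) Γ(Y', ⊤) := g.appTop.hom.toAlgebra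

/-- Homomorphisms on the base commute with the base change. -/
def HomBCTop {Y Y' : Scheme.{u}} (g : Y' ⟶ Y) [Flat g] [DCoh.HasLpull g] (P M : DCoh.D Y) : Prop :=
  letI := algTop g
  HomBC g (idTop Y) (idTop Y') (fun _ => rfl) P M

theorem isPushout_top {Y Y' : Scheme.{u}} (g : Y' ⟶ Y) :
    letI := algTop g
    IsPushout (CommRingCat.ofHom (algebraMap Γ(Y, ⊤) Γ(Y', ⊤)))
      (CommRingCat.ofHom (show Γ(Y, ⊤) →+* Γ(Y, ⊤) from idTop Y))
      (CommRingCat.ofHom (show Γ(Y', ⊤) →+* Γ(Y', ⊤) from idTop Y')) g.appTop := by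
  letI := algTop g
  haveI : IsIso (CommRingCat.ofHom (show Γ(Y, ⊤) →+* Γ(Y, ⊤) from idTop Y)) := inferInstanceAs (IsIso (𝟙 _))
  haveI : IsIso (CommRingCat.ofHom (show Γ(Y', ⊤) →+* Γ(Y', ⊤) from idTop Y')) := inferInstanceAs (IsIso (𝟙 _))
  exact IsPushout.of_vert_isIso ⟨(Category.comp_id _).trans (Category.id_comp _).symm⟩

theorem flat_top {Y Y' : Scheme.{u}} (g : Y' ⟶ Y) [Flat g] [IsAffine Y] [IsAffine Y'] :
    letI := algTop g
    Module.Flat Γ(Y, ⊤) Γ(Y', ⊤) :=
  Scheme.Hom.flat_appTop g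

variable {X Y X' Y' : Scheme.{u}} {f : X ⟶ Y} {g : Y' ⟶ Y} {f' : X' ⟶ Y'} {g' : X' ⟶ X}
  [DCoh.HasRpush f] [DCoh.HasRpush f'] [DCoh.HasRpush g] [DCoh.HasRpush g'] [DCoh.HasLpull g] [DCoh.HasLpull g']
  {hf : DCoh.RpushPreservesQCoh f} {hf' : DCoh.RpushPreservesQCoh f'}
  {hg : DCoh.RpushPreservesQCoh g} {hg' : DCoh.RpushPreservesQCoh g'}
  {a : DCoh.DQCoh Y ⥤ DCoh.DQCoh X} {a' : DCoh.DQCoh Y' ⥤ DCoh.DQCoh X'}

/-- The base change map of right adjoints is invertible as soon as homomorphisms out of direct images of perfect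
objects commute with the base change. -/
theorem isIso_bcMap_adjQ [CompactSpace X] [QuasiSeparatedSpace X] [IsAffine Y] [IsAffine Y'] [Flat g]
    (hsq : IsPullback g' f' f g) (adj : DCoh.RpushQ f hf ⊣ a) (adj' : DCoh.RpushQ f' hf' ⊣ a')
    (e : DCoh.RpushQ g' hg' ⋙ DCoh.RpushQ f hf ≅ DCoh.RpushQ f' hf' ⋙ DCoh.RpushQ g hg)
    (hbc : ∀ E, IsIso ((BC.bc (adjQ g hg) (adjQ g' hg') e).app E))
    (K : DCoh.DQCoh Y) [IsIso (xiMap adj adj' e ((Dual3.LpullQ g (lpullQCoh g)).obj K))]
    (H : ∀ E, DCoh.IsPerfect E → HomBCTop g ((DCoh.Rpush f).obj E) K.obj) :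
    IsIso (bcAdjMap adj adj' e (adjQ g hg) (adjQ g' hg') K) := by
  letI := algTop g
  haveI : Flat g' := MorphismProperty.of_isPullback (P := @Flat) hsq.flip inferInstance
  haveI : IsAffineHom g := isAffineHom_of_isAffine _
  haveI : IsAffineHom g' := MorphismProperty.of_isPullback (P := @IsAffineHom) hsq.flip inferInstance
  haveI := hasLpull f; haveI := hasLpull f'
  haveI : (DCoh.Rpush f).IsRightAdjoint := (lpullRpushAdj f).isRightAdjoint
  haveI : (DCoh.Rpush f).Additive := CategoryTheory.Functor.additive_of_preserves_binary_products _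
  haveI : (DCoh.Rpush f').IsRightAdjoint := (lpullRpushAdj f').isRightAdjoint
  haveI : (DCoh.Rpush f').Additive := CategoryTheory.Functor.additive_of_preserves_binary_products _
  let LQ := Dual3.LpullQ g (lpullQCoh g)
  let LQ' := Dual3.LpullQ g' (lpullQCoh g')
  let b := bcAdjMap adj adj' e (adjQ g hg) (adjQ g' hg') K
  -- postcomposition with the base change map is bijective on inverse images of perfect objects
  have hpost : ∀ (E : DCoh.DQCoh X), DCoh.IsPerfect E.obj →
      Function.Bijective fun ψ : LQ'.obj E ⟶ LQ'.obj (a.obj K) => ψ ≫ b := by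
    intro E hE
    haveI := hbc E
    let T : (LQ'.obj E ⟶ LQ'.obj (a.obj K)) → (LQ.obj ((DCoh.RpushQ f hf).obj E) ⟶ LQ.obj K) := fun ψ =>
      (BC.bc (adjQ g hg) (adjQ g' hg') e).app E ≫ (adj'.homEquiv _ _).symm (ψ ≫ b)
    suffices hT : Function.Bijective T from
      (Function.Bijective.of_comp_iff' ((asIso ((BC.bc (adjQ g hg) (adjQ g' hg') e).app E)).homFromEquiv.symm.bijective.comp
        (adj'.homEquiv _ _).symm.bijective) _).1 hT
    let ρ : Γ(Y, ⊤) →+* Coh.Γtop X := f.appTop.hom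
    let ρ' : Γ(Y', ⊤) →+* Coh.Γtop X' := f'.appTop.hom
    have hρ : ∀ r, fa g' (ρ r) = ρ' (algebraMap Γ(Y, ⊤) Γ(Y', ⊤) r) := fa_square f g f' g' hsq.w
    have hX : HomBC g' ρ ρ' hρ E.obj (a.obj K).obj := homBC_global f g f' g' hsq rfl hρ hE _ (a.obj K).property
    let hY : (y : Γ(Y, ⊤)) → fa g (idTop Y y) = idTop Y' (algebraMap Γ(Y, ⊤) Γ(Y', ⊤) y) := fun _ => rfl
    have hBY : HomBC g (idTop Y) (idTop Y') hY ((DCoh.Rpush f).obj E.obj) K.obj := H E.obj hE
    letI := homMod ρ E.obj (a.obj K).obj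
    letI := homMod (idTop Y) ((DCoh.Rpush f).obj E.obj) K.obj
    let lam₀ : (E.obj ⟶ (a.obj K).obj) ≃ ((DCoh.Rpush f).obj E.obj ⟶ K.obj) :=
      (InducedCategory.homEquiv (X := E) (Y := a.obj K)).symm.trans
        ((adj.homEquiv _ _).symm.trans (InducedCategory.homEquiv (X := (DCoh.RpushQ f hf).obj E) (Y := K)))
    have hlam : ∀ φ, lam₀ φ = (DCoh.Rpush f).map φ ≫ (adj.counit.app K).hom := fun φ => by
      show ((adj.homEquiv _ _).symm (ObjectProperty.homMk φ)).hom = _
      rw [adj.homEquiv_counit]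
      rfl
    let lam : (E.obj ⟶ (a.obj K).obj) ≃ₗ[Γ(Y, ⊤)] ((DCoh.Rpush f).obj E.obj ⟶ K.obj) :=
      { lam₀ with
        map_add' := fun φ ψ => by
          show lam₀ (φ + ψ) = lam₀ φ + lam₀ ψ
          rw [hlam, hlam, hlam, Functor.map_add, Preadditive.add_comp]
        map_smul' := fun r φ => by
          show lam₀ ((ρ r : Coh.Γtop X) • φ) = (idTop Y r : Coh.Γtop Y) • lam₀ φ
          rw [hlam, hlam, ← sc_comp, Functor.map_comp, show (ρ r : Coh.Γtop X) = fa f (idTop Y r) from rfl, rpush_sc,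
            Category.assoc, sc_comp] }
    let Z : (Γ(Y', ⊤) ⊗[Γ(Y, ⊤)] (E.obj ⟶ (a.obj K).obj)) → (LQ'.obj E ⟶ LQ'.obj (a.obj K)) := fun x =>
      (InducedCategory.homEquiv (X := LQ'.obj E) (Y := LQ'.obj (a.obj K))).symm (bcHom g' ρ ρ' hρ E.obj (a.obj K).obj x)
    have hZ : Function.Bijective Z := (Equiv.bijective _).comp hX
    have hTZ : (fun ψ => (T ψ).hom) ∘ Z =
        bcHom g (idTop Y) (idTop Y') hY ((DCoh.Rpush f).obj E.obj) K.obj ∘ LinearEquiv.lTensor Γ(Y', ⊤) lam := by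
      have hTadd : ∀ ψ χ, (T (ψ + χ)).hom = (T ψ).hom + (T χ).hom := fun ψ χ => by
        simp only [T, adj'.homEquiv_counit, Preadditive.add_comp]
        show _ ≫ (DCoh.Rpush f').map (_ + _) ≫ _ = _
        rw [Functor.map_add, Preadditive.add_comp, Preadditive.comp_add]
        rfl
      funext x
      induction x using TensorProduct.induction_on with
      | zero =>
        have h0 : (T (0 : LQ'.obj E ⟶ LQ'.obj (a.obj K))).hom = 0 := by
          have := hTadd 0 0
          rw [add_zero] at this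
          exact add_eq_left.1 this.symm
        show (T (Z 0)).hom = _
        rw [show Z 0 = 0 from ObjectProperty.hom_ext _ (map_zero (bcHom g' ρ ρ' hρ E.obj (a.obj K).obj)), h0]
        exact ((congrArg _ (map_zero (LinearEquiv.lTensor Γ(Y', ⊤) lam))).trans (map_zero _)).symm
      | tmul s φ =>
        let φQ : E ⟶ a.obj K := ObjectProperty.homMk φ
        let sQ : LQ'.obj E ⟶ LQ'.obj E := ObjectProperty.homMk (sc (ρ' s) _)
        show (T (Z (s ⊗ₜ φ))).hom = sc (idTop Y' s) _ ≫ (DCoh.Lpull g).map (lam₀ φ)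
        have hz : Z (s ⊗ₜ φ) = sQ ≫ LQ'.map φQ := ObjectProperty.hom_ext _ rfl
        have hT' : T (sQ ≫ LQ'.map φQ) = (BC.bc (adjQ g hg) (adjQ g' hg') e).app E ≫
            (DCoh.RpushQ f' hf').map sQ ≫ (adj'.homEquiv _ _).symm (LQ'.map φQ ≫ b) := by
          show _ ≫ (adj'.homEquiv _ _).symm ((sQ ≫ LQ'.map φQ) ≫ b) = _
          rw [Category.assoc, adj'.homEquiv_naturality_left_symm]
        rw [hz, hT', hlam]
        have hK := congrArg InducedCategory.Hom.hom (bcAdjMap_transpose adj adj' e (adjQ g hg) (adjQ g' hg') K φQ)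
        rw [adj.homEquiv_counit] at hK
        show ((BC.bc (adjQ g hg) (adjQ g' hg') e).app E).hom ≫ (DCoh.Rpush f').map (sc (ρ' s) _) ≫ _ = _
        rw [show (ρ' s : Coh.Γtop X') = fa f' (idTop Y' s) from rfl, rpush_sc, ← Category.assoc]
        erw [sc_natural]
        rw [Category.assoc]
        exact congrArg _ hK
      | add p q hp hq =>
        simp only [Function.comp_apply] at hp hq ⊢
        rw [show Z (p + q) = Z p + Z q from ObjectProperty.hom_ext _ (map_add (bcHom g' ρ ρ' hρ E.obj (a.obj K).obj) p q),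
          hTadd, hp, hq]
        exact ((congrArg _ (map_add (LinearEquiv.lTensor Γ(Y', ⊤) lam) p q)).trans (map_add _ _ _)).symm
    have hTh : Function.Bijective fun ψ => (T ψ).hom := by
      refine (Function.Bijective.of_comp_iff _ hZ).1 ?_
      rw [hTZ]
      exact hBY.comp (LinearEquiv.bijective _)
    exact (Function.Bijective.of_comp_iff'
      (InducedCategory.homEquiv (X := LQ.obj ((DCoh.RpushQ f hf).obj E)) (Y := LQ.obj K)).bijective T).1 hTh
  -- hence the direct image of the base change map is bijective on maps out of perfect objects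
  have hpush : ∀ E : DCoh.D X, DCoh.IsPerfect E →
      Function.Bijective fun x : E ⟶ (DCoh.Rpush g').obj _ => x ≫ (DCoh.Rpush g').map b.hom := by
    intro E hE
    let A := lpullRpushAdj g'
    let EQ : DCoh.DQCoh X := ⟨E, isQCohD_of_isPerfect hE⟩
    have h1 : Function.Bijective fun y : (DCoh.Lpull g').obj E ⟶ (LQ'.obj (a.obj K)).obj => y ≫ b.hom :=
      (InducedCategory.homEquiv (X := LQ'.obj EQ) (Y := a'.obj (LQ.obj K))).bijective.comp
        ((hpost EQ hE).comp (InducedCategory.homEquiv (X := LQ'.obj EQ) (Y := LQ'.obj (a.obj K))).symm.bijective)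
    have h2 : (fun x : E ⟶ (DCoh.Rpush g').obj _ => x ≫ (DCoh.Rpush g').map b.hom) =
        A.homEquiv _ _ ∘ (fun y => y ≫ b.hom) ∘ (A.homEquiv _ _).symm := funext fun x => by
      show _ = A.homEquiv _ _ ((A.homEquiv _ _).symm x ≫ b.hom)
      rw [A.homEquiv_naturality_right, Equiv.apply_symm_apply]
    rw [h2]
    exact (A.homEquiv _ _).bijective.comp (h1.comp (A.homEquiv _ _).symm.bijective)
  obtain ⟨P, hP, -, hgen⟩ := gen_main (X := X) Set.univ isClosed_univ (by rw [Set.compl_univ]; exact isCompact_empty)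
  haveI : IsIso ((DCoh.Rpush g').map b.hom) := by
    obtain ⟨C, p, q, hT⟩ := distinguished_cocone_triangle ((DCoh.Rpush g').map b.hom)
    refine (Triangle.isZero₃_iff_isIso₁ _ hT).1 (hgen C ?_ (fun i => Set.subset_univ _) fun n φ => ?_)
    · exact isQCohD_obj₂ _ (rot_of_distTriang _ hT) (hg' _ (a'.obj _).property)
        (isQCohD_shift' (hg' _ (LQ'.obj (a.obj K)).property) 1)
    · have hT' := Triangle.shift_distinguished _ hT n
      let T' := (Triangle.shiftFunctor (DCoh.D X) n).obj (Triangle.mk ((DCoh.Rpush g').map b.hom) p q)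
      -- move the shift to the perfect object
      have hmove : ∀ (m : ℤ), Function.Bijective fun x : P ⟶ ((DCoh.Rpush g').obj (LQ'.obj (a.obj K)).obj)⟦m⟧ =>
          x ≫ ((DCoh.Rpush g').map b.hom)⟦m⟧' := fun m => by
        let Sh := (shiftEquiv (DCoh.D X) m).symm.toAdjunction
        have h2 : (fun x : P ⟶ ((DCoh.Rpush g').obj (LQ'.obj (a.obj K)).obj)⟦m⟧ =>
            x ≫ ((DCoh.Rpush g').map b.hom)⟦m⟧') =
            Sh.homEquiv _ _ ∘ (fun y => y ≫ (DCoh.Rpush g').map b.hom) ∘ (Sh.homEquiv _ _).symm := funext fun x => by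
          show _ = Sh.homEquiv _ _ ((Sh.homEquiv _ _).symm x ≫ _)
          rw [Sh.homEquiv_naturality_right, Equiv.apply_symm_apply]
          rfl
        rw [h2]
        exact (Sh.homEquiv _ _).bijective.comp ((hpush _ (isPerfect_shift hP (-m))).comp (Sh.homEquiv _ _).symm.bijective)
      have hq : φ ≫ q⟦n⟧' = 0 := by
        let c := (shiftFunctorComm (DCoh.D X) 1 n).app ((DCoh.Rpush g').obj (LQ'.obj (a.obj K)).obj)
        let d := (shiftFunctorAdd (DCoh.D X) 1 n).app ((DCoh.Rpush g').obj (LQ'.obj (a.obj K)).obj)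
        have h31 : (φ ≫ q⟦n⟧') ≫ (((DCoh.Rpush g').map b.hom)⟦(1 : ℤ)⟧')⟦n⟧' = 0 := by
          rw [Category.assoc, ← Functor.map_comp]
          exact (congrArg (fun t => φ ≫ (shiftFunctor (DCoh.D X) n).map t) (comp_distTriang_mor_zero₃₁ _ hT)).trans
            (by rw [Functor.map_zero, comp_zero])
        rw [← cancel_mono d.inv, zero_comp]
        refine (hmove (1 + n)).1 ?_
        show ((φ ≫ q⟦n⟧') ≫ d.inv) ≫ ((DCoh.Rpush g').map b.hom)⟦(1 + n : ℤ)⟧' = (0 : P ⟶ _) ≫ _
        rw [zero_comp, Category.assoc]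
        have hn := ((shiftFunctorAdd (DCoh.D X) 1 n).inv.naturality ((DCoh.Rpush g').map b.hom))
        exact (congrArg (fun t => (φ ≫ q⟦n⟧') ≫ t) hn.symm).trans
          (by rw [Functor.comp_map, ← Category.assoc, h31, zero_comp])
      obtain ⟨ψ, hψ⟩ : ∃ ψ, φ = ψ ≫ p⟦n⟧' := by
        have h0 : φ ≫ T'.mor₃ = 0 := by
          simp only [T', Triangle.shiftFunctor, Triangle.mk, Linear.comp_units_smul]
          rw [← Category.assoc, hq]
          simp
        obtain ⟨ψ, hψ⟩ := Triangle.coyoneda_exact₃ T' hT' φ h0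
        refine ⟨((n.negOnePow : ℤˣ) : ℤ) • ψ, hψ.trans ?_⟩
        simp [T', Triangle.shiftFunctor, Units.smul_def]
      obtain ⟨χ, hχ⟩ := (hmove n).2 ψ
      rw [hψ, ← show χ ≫ _ = ψ from hχ, Category.assoc, ← Functor.map_comp]
      exact (congrArg (fun t => χ ≫ (shiftFunctor (DCoh.D X) n).map t) (comp_distTriang_mor_zero₁₂ _ hT)).trans
        (by rw [Functor.map_zero, comp_zero])
  haveI : IsIso ((ObjectProperty.ι _).map b) :=
    isIso_of_isIso_rpush g' (LQ'.obj (a.obj K)).property (a'.obj _).property b.hom inferInstance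
  exact isIso_of_reflects_iso b (ObjectProperty.ι _)

/-- Flat base change for right adjoints of derived direct images over affine bases. -/
theorem exists_isIso_bcMap [CompactSpace X] [QuasiSeparatedSpace X] [CompactSpace X'] [QuasiSeparatedSpace X']
    [IsAffine Y] [IsAffine Y'] [QuasiCompact f] [QuasiSeparated f] [Flat g] (hsq : IsPullback g' f' f g)
    (adj : DCoh.RpushQ f hf ⊣ a) (adj' : DCoh.RpushQ f' hf' ⊣ a') {hLg : Dual3.LpullPreservesQCoh g}
    {hLg' : Dual3.LpullPreservesQCoh g'} (adjg : Dual3.LpullQ g hLg ⊣ DCoh.RpushQ g hg)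
    (adjg' : Dual3.LpullQ g' hLg' ⊣ DCoh.RpushQ g' hg') :
    ∃ (e : DCoh.RpushQ g' hg' ⋙ DCoh.RpushQ f hf ≅ DCoh.RpushQ f' hf' ⋙ DCoh.RpushQ g hg)
      (hξ : ∀ M : DCoh.DQCoh Y', IsIso (Dual3.xi adj adj' e M)), ∀ K : DCoh.DQCoh Y,
      (∀ E, DCoh.IsPerfect E → HomBCTop g ((DCoh.Rpush f).obj E) K.obj) →
        IsIso (Dual3.bcMap adj adj' e adjg adjg' K (hξ _)) := by
  obtain ⟨e, he⟩ := BC.exists_iso_baseChange f g f' g' hsq BC.TI.of_flat (lpullRpushAdj g) (lpullRpushAdj g')
  let eQ := rpushSquareQ (hf := hf) (hf' := hf') (hg := hg) (hg' := hg') e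
  have hbc : ∀ E, IsIso (Dual3.bcPush eQ (adjQ g hg) (adjQ g' hg') E) := fun E => by
    haveI : IsIso ((ObjectProperty.ι _).map (Dual3.bcPush eQ (adjQ g hg) (adjQ g' hg') E)) := by
      show IsIso (Dual3.bcPush _ _ _ E).hom
      rw [bcPush_hom]
      exact he E.obj E.property
    exact isIso_of_reflects_iso _ (ObjectProperty.ι _)
  have hξ := isIso_xi adj adj' eQ (adjQ g hg) (adjQ g' hg') hbc
  refine ⟨eQ, hξ, fun K H => ?_⟩
  haveI : IsIso (xiMap adj adj' eQ ((Dual3.LpullQ g (lpullQCoh g)).obj K)) := hξ _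
  haveI : IsIso (xiMap adj adj' eQ ((Dual3.LpullQ g hLg).obj K)) := hξ _
  haveI := isIso_bcMap_adjQ hsq adj adj' eQ hbc K H
  exact isIso_bcAdjMap_transport adj adj' eQ (adjQ g hg) (adjQ g' hg') adjg adjg' K

end Groth.Agent.TwistShriek
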