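import Groth.Agent.TwistShriek.Theta
import Groth.Agent.TwistShriek.Main
import Groth.Agent.TwistShriek.Supp
import Groth.Agent.DCohLib.ExtTensorD
import Groth.Agent.DCohMore.RHomQC
import Groth.Agent.DCohMore.RpushBdd
import Groth.Agent.DCohMore.RpushQC
import Groth.Agent.DerSchH7.RelBound
import Groth.Agent.TensorCohLib.Basic
import Groth.Agent.PullbackMod.SuppClosed
import Groth.Agent.S1039
import Groth.Agent.GenBCLib.Scal

/-!
# The right adjoint of a proper direct image preserves supports of bounded below objects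

For `E` perfect on `X` and `Q` bounded below one has `f_* RHom(E, aQ) ≅ RHom(f_* E, Q)`, and the right hand side
vanishes where `Q` does.  Testing against the restrictions of a perfect generator shows that `aQ` vanishes
over the opens where `Q` does.
-/

set_option autoImplicit false
set_option linter.style.haveILetI false
set_option backward.isDefEq.respectTransparency false
set_option maxHeartbeats 1000000

universe u

open CategoryTheory CategoryTheory.Limits AlgebraicGeometry Pretriangulated Opposite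
open Groth.Agent.DCohLib Groth.Agent.DCohMore Groth.Agent.KFlat Groth.Agent.FMKLib

attribute [local instance] HasDerivedCategory.standard

noncomputable section

namespace Groth.Agent.TwistShriek

variable {X Y : Scheme.{u}}

/-- A perfect object on a quasi-compact scheme is bounded below. -/
theorem exists_isGE_of_isPerfect [CompactSpace X] {K : DCoh.D X} (hK : DCoh.IsPerfect K) :
    ∃ a : ℤ, K.IsGE a := by
  classical
  choose V hxV E hE hi using fun x => (isPerfect_iff K).1 hK x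
  choose c d hcd using fun x => (hE x).1
  obtain ⟨t, ht⟩ := isCompact_univ.elim_finite_subcover (fun x => (V x : Set X)) (fun x => (V x).isOpen)
    fun x _ => Set.mem_iUnion.2 ⟨x, hxV x⟩
  obtain ⟨B, hB⟩ := (t.image c).bddBelow
  refine ⟨B, (DerivedCategory.isGE_iff _ _).2 fun j hj => isZero_of_stalks fun x => ?_⟩
  obtain ⟨y, hy, hxy⟩ := Set.mem_iUnion₂.1 (ht (Set.mem_univ x))
  have hjc : j < c y := lt_of_lt_of_le hj (hB (Finset.mem_image_of_mem c hy))
  have h0 : IsZero ((Scheme.Modules.restrictFunctor (V y).ι).obj (DCoh.HD K j)) :=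
    (((HomologicalComplex.exactAt_iff_isZero_homology _ _).1
        (ShortComplex.exact_of_isZero_X₂ _ (hcd y j (Or.inl hjc)))).of_iso
      ((DerivedCategory.homologyFunctor _ j).mapIso (hi y).some.symm ≪≫
        (DerivedCategory.homologyFunctorFactors _ j).app (E y))).of_iso (restrictHDIso (V y).ι K j).symm
  exact ((Scheme.Modules.restrictStalkNatIso (V y).ι ⟨x, hxy⟩).app
    (DCoh.HD K j)).addCommGroupIsoToAddEquiv.toEquiv.subsingleton_congr.1 (subsingleton_stalk_of_isZero h0 _)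

/-- The proper direct image of a perfect object is pseudo-coherent. -/
theorem pc_rpush_of_proper [IsNoetherian Y] (f : X ⟶ Y) [IsProper f] [DCoh.HasRpush f] (E : DCoh.D X)
    (hE : DCoh.IsPerfect E) (m : ℤ) : DCoh.IsPseudoCoherentD m ((DCoh.Rpush f).obj E) := by
  haveI : IsNoetherian X := by
    haveI : IsLocallyNoetherian X := LocallyOfFiniteType.isLocallyNoetherian f
    haveI : CompactSpace X := QuasiCompact.compactSpace_of_compactSpace f
    exact {}
  obtain ⟨a, ha⟩ := exists_isGE_of_isPerfect hE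
  have hpc : ∀ m, DCoh.IsPseudoCoherentD m E := fun m =>
    (isPseudoCoherentD_iff m _).2 fun x =>
      let ⟨V, hx, hV⟩ := (isPerfect_iff _).1 hE x
      ⟨V, hx, hV.pcOn _⟩
  have hcoh : DCoh.IsCohD E := TensorCohLib.isCohD_of_pc E hpc
  obtain ⟨b, hb⟩ := DerSchH7.exists_isZero_above_of_pc (hpc 0)
  haveI : E.IsLE b := (DerivedCategory.isLE_iff _ _).2 fun j hj => hb j hj
  obtain ⟨N, hN⟩ := DCohMore.exists_isLE_rpush_qcoh f
  haveI : ((DCoh.Rpush f).obj E).IsLE (b + N) := hN E b (isQCohD_of_isPerfect hE) inferInstance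
  have hc : DCoh.IsCohD ((DCoh.Rpush f).obj E) := isCohD_rpush f E a hcoh fun i => by
    refine ⟨PullbackMod.isClosed_support_of_isFT (hcoh i).2, ?_⟩
    infer_instance
  exact (S1039.result Y _ (fun i => (hc i).1) m).2 ⟨fun i _ => hc i, b + N, inferInstance⟩

section

variable [CompactSpace X] [QuasiSeparatedSpace X] [CompactSpace Y] [QuasiSeparatedSpace Y]
  (f : X ⟶ Y) [DCoh.HasRpush f] (hf : DCoh.RpushPreservesQCoh f)
  (a : DCoh.DQCoh Y ⥤ DCoh.DQCoh X) (adj : DCoh.RpushQ f hf ⊣ a)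

omit [CompactSpace Y] in
include adj in
/-- Sheafified duality for the right adjoint of a direct image: `f_* RHom(D, aQ) ≅ RHom(f_* D, Q)`. -/
theorem exists_rpush_rSheafHom_iso (D : CochainComplex X.Modules ℤ) (hD : DCoh.IsKFlat D)
    (hDp : DCoh.IsPerfect (DerivedCategory.Q.obj D)) [DCoh.HasRSheafHom D]
    (hpc : ∀ m, DCoh.IsPseudoCoherentD m ((DCoh.Rpush f).obj (DerivedCategory.Q.obj D)))
    (Q : DCoh.DQCoh Y) (c : ℤ) [Q.obj.IsGE c] :
    ∃ (C : CochainComplex Y.Modules ℤ) (_ : DCoh.IsKFlat C) (_ : DCoh.HasRSheafHom C),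
      Nonempty (DerivedCategory.Q.obj C ≅ (DCoh.Rpush f).obj (DerivedCategory.Q.obj D)) ∧
      Nonempty ((DCoh.Rpush f).obj ((DCoh.RSheafHom D).obj (a.obj Q).obj) ≅ (DCoh.RSheafHom C).obj Q.obj) := by
  obtain ⟨_, _⟩ := qcqs_hom f
  haveI : DCoh.HasLpull f := DCohLib.hasLpull f
  obtain ⟨I, hI, -, ⟨eI⟩⟩ := exists_injective_resolution X (DerivedCategory.Q.obj D)
  haveI := hI
  have hIq : DCoh.IsQCohD (DerivedCategory.Q.obj I) := TildeD.isQCohD_of_iso eI (isQCohD_of_isPerfect hDp)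
  haveI : ∀ N, IsIso ((Functor.whiskerLeft (ObjectProperty.ι (DCoh.IsQCohD (X := Y))) (projD f I)).app N) :=
    isIso_projD f I hIq
  haveI := NatIso.isIso_of_isIso_app (Functor.whiskerLeft (ObjectProperty.ι (DCoh.IsQCohD (X := Y))) (projD f I))
  obtain ⟨tI⟩ := nonempty_lTensor_of_iso (E := D) (E' := I) eI.symm
  let C := (resX Y).obj ((pfCx f).obj I)
  haveI := hasRSheafHom_of_isKFlat C (isKFlat_resX _)
  obtain ⟨tC⟩ := nonempty_lTensor_of_qis ((resXπ Y).app ((pfCx f).obj I)) (quasiIso_resXπ _)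
  haveI := isIso_rpushUnit_app f I
  haveI := isIso_Q_resXπ ((pfCx f).obj I)
  let ePf : DerivedCategory.Q.obj ((pfCx f).obj I) ≅ (DCoh.Rpush f).obj (DerivedCategory.Q.obj D) :=
    ((DerivedCategory.quotientCompQhIso Y.Modules).app _).symm ≪≫
      DerivedCategory.Qh.mapIso (((Scheme.Modules.pushforward f).mapHomotopyCategoryFactors
        (ComplexShape.up ℤ)).app I).symm ≪≫
      @asIso _ _ _ _ ((rpushUnit f).app ((HomotopyCategory.quotient _ _).obj I)) (isIso_rpushUnit_app f I) ≪≫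
      (DCoh.Rpush f).mapIso ((DerivedCategory.quotientCompQhIso X.Modules).app I) ≪≫
      (DCoh.Rpush f).mapIso eI.symm
  let eC : DerivedCategory.Q.obj C ≅ (DCoh.Rpush f).obj (DerivedCategory.Q.obj D) :=
    asIso (DerivedCategory.Q.map ((resXπ Y).app ((pfCx f).obj I))) ≪≫ ePf
  have hCpc : ∀ m, DCoh.IsPseudoCoherentD m (DCoh.toD Y C) := fun m => isPseudoCoherentD_iso eC.symm (hpc m)
  let hLq : ∀ M : DCoh.D Y, DCoh.IsQCohD M → DCoh.IsQCohD ((DCoh.Lpull f).obj M) :=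
    fun M hM => TildeD.isQCohD_lpull f M hM
  let Lq : DCoh.DQCoh Y ⥤ DCoh.DQCoh X :=
    ObjectProperty.lift _ (ObjectProperty.ι _ ⋙ DCoh.Lpull f) fun M => hLq M.obj M.property
  let adjf : Lq ⊣ DCoh.RpushQ f hf :=
    (lpullRpushAdj f).restrictFullyFaithful (ObjectProperty.fullyFaithfulι _)
      (ObjectProperty.fullyFaithfulι _) (Iso.refl _) (Iso.refl _)
  let ι := ObjectProperty.ι (DCoh.IsQCohD (X := Y))
  let L₁ : DCoh.DQCoh Y ⥤ DCoh.DQCoh Y := (Lq ⋙ tensQ D (isQCohD_of_isPerfect hDp)) ⋙ DCoh.RpushQ f hf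
  let adj₁ : L₁ ⊣ a ⋙ homQ D hD hDp ⋙ DCoh.RpushQ f hf :=
    (adjf.comp (tensHomAdj D hD hDp)).comp adj
  let l : L₁ ⋙ ι ≅ ι ⋙ DCoh.LTensorCx C :=
    (Functor.isoWhiskerLeft ι (Functor.isoWhiskerLeft (DCoh.Lpull f) (Functor.isoWhiskerRight tI.symm (DCoh.Rpush f))) :
      ι ⋙ DCoh.Lpull f ⋙ DCoh.LTensorCx D ⋙ DCoh.Rpush f ≅ ι ⋙ pushTens f I) ≪≫
    (asIso (Functor.whiskerLeft ι (projD f I))).symm ≪≫ Functor.isoWhiskerLeft ι tC.symm
  have hR : DCoh.IsQCohD ((DCoh.RSheafHom C).obj Q.obj) := fun i =>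
    isQCoh_HD_rSheafHom C (c - i - 1) c (hCpc _) Q.obj Q.property i (by omega)
  let ιY := ObjectProperty.fullyFaithfulι (DCoh.IsQCohD (X := Y))
  let N₁ := (a ⋙ homQ D hD hDp ⋙ DCoh.RpushQ f hf).obj Q
  let N₂ : DCoh.DQCoh Y := ⟨(DCoh.RSheafHom C).obj Q.obj, hR⟩
  let E : ∀ W : DCoh.DQCoh Y, (W ⟶ N₁) ≃ (W ⟶ N₂) := fun W =>
    (adj₁.homEquiv W Q).symm.trans <| (ιY.homEquiv (X := L₁.obj W) (Y := Q)).trans <|
      (l.app W).homFromEquiv.trans <|
      ((DCoh.RSheafHomAdj C).homEquiv W.obj Q.obj).trans (ιY.homEquiv (X := W) (Y := N₂)).symm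
  have nat : ∀ {W W' : DCoh.DQCoh Y} (k : W' ⟶ W) (g : W ⟶ N₁), E W' (k ≫ g) = k ≫ E W g := by
    intro W W' k g
    apply ιY.homEquiv.injective
    simp only [E, Equiv.trans_apply]
    refine Eq.trans ?_ ((DCoh.RSheafHomAdj C).homEquiv_naturality_left k.hom _)
    refine congrArg ((DCoh.RSheafHomAdj C).homEquiv W'.obj Q.obj) ?_
    rw [adj₁.homEquiv_naturality_left_symm]
    show (l.app W').inv ≫ (L₁ ⋙ ι).map k ≫ _ = (DCoh.LTensorCx C).map k.hom ≫ (l.app W).inv ≫ _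
    exact (reassoc_of% (l.inv.naturality k)) _ |>.symm
  let iso : N₁ ≅ N₂ := Yoneda.ext N₁ N₂ (fun {W} => E W) (fun {W} => (E W).symm)
    (fun {W} g => (E W).symm_apply_apply g) (fun {W} g => (E W).apply_symm_apply g)
    (fun {W W'} k g => nat k g)
  exact ⟨C, isKFlat_resX _, inferInstance, ⟨eC⟩, ⟨ι.mapIso iso⟩⟩

omit [CompactSpace Y] in
include adj in
/-- Sheafified duality: `f_* RHom(D, aQ)` vanishes where `Q` does. -/
theorem isZero_restrict_rpush_rSheafHom (D : CochainComplex X.Modules ℤ) (hD : DCoh.IsKFlat D)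
    (hDp : DCoh.IsPerfect (DerivedCategory.Q.obj D)) [DCoh.HasRSheafHom D]
    (hpc : ∀ m, DCoh.IsPseudoCoherentD m ((DCoh.Rpush f).obj (DerivedCategory.Q.obj D)))
    (V : Y.Opens) (Q : DCoh.DQCoh Y) (c : ℤ) [Q.obj.IsGE c] (hV : IsZero ((DCoh.restrictD V.ι).obj Q.obj)) :
    IsZero ((DCoh.restrictD V.ι).obj ((DCoh.Rpush f).obj ((DCoh.RSheafHom D).obj (a.obj Q).obj))) := by
  obtain ⟨C, hC, _, -, ⟨iso⟩⟩ := exists_rpush_rSheafHom_iso f hf a adj D hD hDp hpc Q c
  haveI := hasRSheafHom_of_isKFlat ((resCx V.ι).obj C) (isKFlat_resCx V.ι hC)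
  obtain ⟨r⟩ := nonempty_restrictD_rSheafHom (U := V) C
  haveI : (DCoh.RSheafHom ((resCx V.ι).obj C)).IsRightAdjoint :=
    (DCoh.RSheafHomAdj ((resCx V.ι).obj C)).isRightAdjoint
  exact (((DCoh.RSheafHom ((resCx V.ι).obj C)).map_isZero hV).of_iso (r.app Q.obj)).of_iso
    ((DCoh.restrictD V.ι).mapIso iso)

omit [CompactSpace X] [QuasiSeparatedSpace X] [CompactSpace Y] [QuasiSeparatedSpace Y] [DCoh.HasRpush f] in
/-- A restriction is the derived tensor product with the pullback of the unit. -/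
theorem nonempty_restrict_tens_unit (V : Y.Opens) (D : CochainComplex X.Modules ℤ) [DCoh.HasLpull (f ∣_ V)] :
    Nonempty ((DCoh.restrictD (f ⁻¹ᵁ V).ι).obj (DerivedCategory.Q.obj D) ≅
      (DCoh.LTensorCx ((resCx (f ⁻¹ᵁ V).ι).obj D)).obj
        ((DCoh.Lpull (f ∣_ V)).obj (DerivedCategory.Q.obj (unitCx (V : Scheme.{u}))))) :=
  let R := (resCx (f ⁻¹ᵁ V).ι).obj D
  let e₁ : (DCoh.LTensorCx R).obj (DerivedCategory.Q.obj (unitCx (f ⁻¹ᵁ V : Scheme.{u}))) ≅
      DerivedCategory.Q.obj R :=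
    lTensorIso R _ isKFlat_unitCx ≪≫ DerivedCategory.Q.mapIso (symS _ R ≪≫ tensorUnitCxIso.app R)
  let u : (pullCx (f ∣_ V)).obj (unitCx (V : Scheme.{u})) ≅ unitCx (f ⁻¹ᵁ V : Scheme.{u}) := pullShiftUnit (f ∣_ V) 0
  let e₂ : (DCoh.Lpull (f ∣_ V)).obj (DerivedCategory.Q.obj (unitCx (V : Scheme.{u}))) ≅
      DerivedCategory.Q.obj (unitCx (f ⁻¹ᵁ V : Scheme.{u})) :=
    lpullIsoK (f ∣_ V) _ isKFlat_unitCx ≪≫ DerivedCategory.Q.mapIso u
  ⟨restrictDQ (f ⁻¹ᵁ V).ι D ≪≫ e₁.symm ≪≫ ((DCoh.LTensorCx R).mapIso e₂).symm⟩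

include adj in
/-- The right adjoint of a direct image sending perfect objects to pseudo-coherent ones preserves the
supports of bounded below objects. -/
theorem isZero_rightAdjoint_of_bounded
    (hpc : ∀ E : DCoh.D X, DCoh.IsPerfect E → ∀ m, DCoh.IsPseudoCoherentD m ((DCoh.Rpush f).obj E))
    (V : Y.Opens) (hVc : IsCompact (V : Set Y)) (Q : DCoh.DQCoh Y) (c : ℤ) [Q.obj.IsGE c]
    (hV : IsZero ((DCoh.restrictD V.ι).obj Q.obj)) :
    IsZero ((DCoh.restrictD (f ⁻¹ᵁ V).ι).obj (a.obj Q).obj) := by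
  obtain ⟨_, _⟩ := qcqs_hom f
  let U := f ⁻¹ᵁ V
  haveI : CompactSpace (V : Scheme.{u}) := isCompact_iff_compactSpace.1 hVc
  haveI : CompactSpace (U : Scheme.{u}) := isCompact_iff_compactSpace.1 (f.isCompact_preimage hVc)
  haveI : QuasiCompact U.ι := quasiCompact_of_compactSpace U.ι
  haveI : QuasiSeparated U.ι := inferInstance
  haveI := BC.hasRpush U.ι
  haveI := BC.hasRpush (f ∣_ V)
  haveI : DCoh.HasLpull U.ι := DCohLib.hasLpull _
  haveI : DCoh.HasLpull (f ∣_ V) := DCohLib.hasLpull _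
  let M := (DCoh.restrictD U.ι).obj (a.obj Q).obj
  have hMq : DCoh.IsQCohD M := fun i =>
    isQCoh_of_iso' (restrictHDIso U.ι (a.obj Q).obj i).symm
      (haveI : Coh.IsQCoh (DCoh.HD (a.obj Q).obj i) := (a.obj Q).property i; GenBCLib.isQCoh_restrict _ U)
  let W : DCoh.DQCoh X := ⟨(DCoh.Rpush U.ι).obj M, isQCohD_rpush U.ι M hMq⟩
  obtain ⟨P, hP, hgen⟩ := DQCohBrown.exists_generator (X := X)
  let ιX := ObjectProperty.ι (DCoh.IsQCohD (X := X))
  have key : ∀ E : DCoh.DQCoh X, DCoh.IsPerfect E.obj → ∀ g : E.obj ⟶ W.obj, g = 0 := by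
    intro E hE g
    let D := (resX X).obj (DerivedCategory.Q.objPreimage E.obj)
    have hD : DCoh.IsKFlat D := isKFlat_resX _
    let eD : DerivedCategory.Q.obj D ≅ E.obj := resXIso E.obj
    haveI := hasRSheafHom_of_isKFlat D hD
    have hDp := isPerfect_iso eD.symm hE
    have hz := isZero_restrict_rpush_rSheafHom f hf a adj D hD hDp (hpc _ hDp) V Q c hV
    obtain ⟨bc⟩ := nonempty_restrictD_rpush f V
    let N := (DCoh.RSheafHom D).obj (a.obj Q).obj
    have hzU : IsZero ((DCoh.Rpush (f ∣_ V)).obj ((DCoh.restrictD U.ι).obj N)) := hz.of_iso (bc.app N).symm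
    haveI := hasRSheafHom_of_isKFlat ((resCx U.ι).obj D) (isKFlat_resCx U.ι hD)
    obtain ⟨r⟩ := nonempty_restrictD_rSheafHom (U := U) D
    let adjV := lpullRpushAdj (f ∣_ V)
    let adjD := DCoh.RSheafHomAdj ((resCx U.ι).obj D)
    obtain ⟨t⟩ := nonempty_restrict_tens_unit f V D
    obtain ⟨s⟩ := nonempty_restrictD_lpull U.ι E.obj
    apply ((lpullRpushAdj U.ι).homEquiv E.obj M).symm.injective
    apply (s.symm ≪≫ (DCoh.restrictD U.ι).mapIso eD.symm ≪≫ t).homFromEquiv.injective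
    apply (adjD.homEquiv _ _).injective
    apply (r.app (a.obj Q).obj).symm.homToEquiv.injective
    apply (adjV.homEquiv _ _).injective
    exact hzU.eq_of_tgt _ _
  have hW : IsZero W.obj := ιX.map_isZero <| hgen W fun n g => by
    obtain ⟨_, _⟩ := DQCohBrown.exists_triangulated_rpushQ f hf
    have h0 : ∀ g' : P⟦-n⟧ ⟶ W, g' = 0 := fun g' =>
      ιX.map_injective ((key _ (DQCohBrown.isPerfect_shiftQ hP _) (ιX.map g')).trans (ιX.map_zero (P⟦-n⟧) W).symm)
    let adjS := (shiftEquiv (DCoh.DQCoh X) n).symm.toAdjunction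
    exact (adjS.homEquiv P W).symm.injective ((h0 _).trans (h0 _).symm)
  have hid : (𝟙 M : M ⟶ M) = 0 := by
    obtain ⟨s⟩ := nonempty_restrictD_lpull U.ι (a.obj Q).obj
    refine (s.symm.symm.homFromEquiv (Z := M)).injective ?_
    apply ((lpullRpushAdj U.ι).homEquiv _ _).injective
    exact hW.eq_of_tgt _ _
  exact (IsZero.iff_id_eq_zero M).2 hid

end

end Groth.Agent.TwistShriek
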