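import Groth.Agent.TwistShriek.Basic
import Groth.Agent.TwistShriek.SuppBdd

/-!
# Morphisms out of objects supported in a closed subset of an open

For an open immersion `j` and an object `E` vanishing on an open `P` with `range j ∪ P = X`, restriction along `j` is
bijective on morphisms out of `E`.
-/

set_option autoImplicit false
set_option linter.style.haveILetI false
set_option backward.isDefEq.respectTransparency false
set_option maxHeartbeats 1000000

universe u

open CategoryTheory CategoryTheory.Limits AlgebraicGeometry Pretriangulated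
open Groth.Agent.DCohLib Groth.Agent.DCohMore

attribute [local instance] HasDerivedCategory.standard

noncomputable section

namespace Groth.Agent.TwistShriek

variable {X U : Scheme.{u}} (j : U ⟶ X) [IsOpenImmersion j]

/-- The derived direct image along an open immersion followed by restriction is the identity. -/
theorem nonempty_rpush_restrictD [DCoh.HasRpush j] :
    Nonempty (DCoh.Rpush j ⋙ DCoh.restrictD j ≅ 𝟭 (DCoh.D U)) := by
  let W := HomotopyCategory.quasiIso U.Modules (ComplexShape.up ℤ)
  let Φ : HomotopyCategory U.Modules (ComplexShape.up ℤ) ⥤ DCoh.D U := DCoh.pushKh j ⋙ DCoh.restrictD j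
  let α : Φ ⟶ DerivedCategory.Qh ⋙ DCoh.Rpush j ⋙ DCoh.restrictD j :=
    Functor.whiskerRight (rpushUnit j) (DCoh.restrictD j) ≫ (Functor.associator _ _ _).hom
  let C := ComplexShape.up ℤ
  let eK : (Scheme.Modules.pushforward j).mapHomotopyCategory C ⋙
      (Scheme.Modules.restrictFunctor j).mapHomotopyCategory C ≅ 𝟭 (HomotopyCategory U.Modules C) :=
    NatIso.ofComponents
      (fun K => (HomotopyCategory.quotient _ _).mapIso
        (HomologicalComplex.Hom.isoOfComponents
          (fun n => (Scheme.Modules.restrictFunctorAdjCounitIso j).app (K.as.X n))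
          fun p q _ => ((Scheme.Modules.restrictFunctorAdjCounitIso j).hom.naturality (K.as.d p q)).symm))
      fun {K L} φ => by
        obtain ⟨φ, rfl⟩ := (HomotopyCategory.quotient U.Modules C).map_surjective φ
        refine ((HomotopyCategory.quotient U.Modules C).map_comp _ _).symm.trans
          (Eq.trans ?_ ((HomotopyCategory.quotient U.Modules C).map_comp _ _))
        congr 1
        exact HomologicalComplex.hom_ext _ _ fun n =>
          (Scheme.Modules.restrictFunctorAdjCounitIso j).hom.naturality (φ.f n)
  let eΦ : Φ ≅ DerivedCategory.Qh :=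
    Functor.associator _ _ _ ≪≫
      Functor.isoWhiskerLeft _ (Scheme.Modules.restrictFunctor j).mapDerivedCategoryFactorsh ≪≫
      (Functor.associator _ _ _).symm ≪≫ Functor.isoWhiskerRight eK DerivedCategory.Qh ≪≫
      Functor.leftUnitor _
  let β : Φ ⟶ DerivedCategory.Qh ⋙ 𝟭 (DCoh.D U) := eΦ.hom ≫ (Functor.rightUnitor _).inv
  haveI : (DCoh.Rpush j ⋙ DCoh.restrictD j).IsRightDerivedFunctor α W :=
    Groth.Agent.KInj.isRightDerivedFunctor_of_isIso_h (hres_modules U) _ _ fun I hI => by
      haveI := hI
      haveI := isIso_rpushUnit_app j I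
      simp only [α, NatTrans.comp_app, Functor.associator_hom_app, Functor.whiskerRight_app]
      infer_instance
  haveI : (𝟭 (DCoh.D U)).IsRightDerivedFunctor β W :=
    Groth.Agent.KInj.isRightDerivedFunctor_of_isIso_h (hres_modules U) _ _ fun I _ => by
      simp only [β, NatTrans.comp_app, Functor.rightUnitor_inv_app]
      infer_instance
  exact ⟨Functor.rightDerivedUnique _ _ α β W⟩

instance isIso_counit_restrictAdj [DCoh.HasLpull j] [DCoh.HasRpush j] : IsIso (restrictAdj j).counit :=
  Adjunction.isIso_counit_of_iso _ (nonempty_rpush_restrictD j).some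

/-- Restriction along an open immersion detects the vanishing on its range. -/
theorem isZero_restrictD_opensRange {K : DCoh.D X} (h : IsZero ((DCoh.restrictD j).obj K)) :
    IsZero ((DCoh.restrictD j.opensRange.ι).obj K) := by
  have w : j.opensRange.ι = j.isoOpensRange.inv ≫ j := by
    rw [Iso.eq_inv_comp]
    exact j.isoOpensRange_hom_ι
  exact ((DCoh.restrictD j.isoOpensRange.inv).map_isZero h).of_iso
    ((restrictDCongr w).app K ≪≫ (restrictDComp j.isoOpensRange.inv j).app K)

/-- No morphism from an object vanishing on `P` to an object vanishing on the range of `j`. -/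
theorem subsingleton_hom_of_supports (P : X.Opens) (hP : j.opensRange ⊔ P = ⊤) (E C : DCoh.D X)
    (hE : IsZero ((DCoh.restrictD P.ι).obj E)) (hC : IsZero ((DCoh.restrictD j).obj C)) :
    Subsingleton (E ⟶ C) := by
  let V := j.opensRange
  haveI := BC.hasRpush V.ι
  haveI := BC.hasRpush P.ι
  haveI := BC.hasRpush (V ⊓ P).ι
  haveI : DCoh.HasLpull P.ι := DCohLib.hasLpull _
  obtain ⟨a, b, c, hT⟩ := exists_mv_triangle_rpush_open V P hP C
  haveI : (DCoh.Rpush V.ι).IsRightAdjoint :=
    haveI : DCoh.HasLpull V.ι := DCohLib.hasLpull _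
    (restrictAdj V.ι).isRightAdjoint
  haveI : (DCoh.Rpush (V ⊓ P).ι).IsRightAdjoint :=
    haveI : DCoh.HasLpull (V ⊓ P).ι := DCohLib.hasLpull _
    (restrictAdj (V ⊓ P).ι).isRightAdjoint
  have hV := isZero_restrictD_opensRange j hC
  haveI : IsIso a := (Triangle.isZero₃_iff_isIso₁ _ hT).1
    ((DCoh.Rpush (V ⊓ P).ι).map_isZero (isZero_restrictD_mono inf_le_left hV))
  refine subsingleton_of_forall_eq 0 fun φ => ?_
  rw [← cancel_mono a, zero_comp]
  refine biprod.hom_ext _ _ (((DCoh.Rpush V.ι).map_isZero hV).eq_of_tgt _ _) ?_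
  exact ((restrictAdj P.ι).homEquiv _ _).symm.injective (hE.eq_of_src _ _)

/-- Restriction is bijective on morphisms out of an object supported in a closed subset of the open. -/
theorem bijective_restrictD_map (P : X.Opens) (hP : j.opensRange ⊔ P = ⊤) (E L : DCoh.D X)
    (hE : IsZero ((DCoh.restrictD P.ι).obj E)) :
    Function.Bijective fun φ : E ⟶ L => (DCoh.restrictD j).map φ := by
  haveI := BC.hasRpush j
  haveI : DCoh.HasLpull j := DCohLib.hasLpull _
  let adj := restrictAdj j
  haveI : IsIso ((DCoh.restrictD j).map (adj.unit.app L)) := by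
    have h := adj.left_triangle_components L
    haveI : IsIso ((DCoh.restrictD j).map (adj.unit.app L) ≫ adj.counit.app ((DCoh.restrictD j).obj L)) := by
      rw [h]; exact IsIso.id _
    exact IsIso.of_isIso_comp_right _ (adj.counit.app _)
  obtain ⟨C, p, δ, hT⟩ := distinguished_cocone_triangle (adj.unit.app L)
  have hC : IsZero ((DCoh.restrictD j).obj C) := by
    refine (Triangle.isZero₃_iff_isIso₁ _ ((DCoh.restrictD j).map_distinguished _ hT)).2 ?_
    show IsIso ((DCoh.restrictD j).map (adj.unit.app L))
    infer_instance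
  have h0 := subsingleton_hom_of_supports j P hP E C hE hC
  have h1 : Subsingleton (E ⟶ C⟦(-1 : ℤ)⟧) := subsingleton_hom_of_supports j P hP E _ hE
    (((shiftFunctor (DCoh.D U) (-1 : ℤ)).map_isZero hC).of_iso
      (((DCoh.restrictD j).commShiftIso (-1 : ℤ)).app C))
  have hb : Function.Bijective fun φ : E ⟶ L => φ ≫ adj.unit.app L := by
    refine ⟨(injective_iff_map_eq_zero (Preadditive.rightComp E (adj.unit.app L))).2 fun φ hφ => ?_, fun ψ => ?_⟩
    · obtain ⟨g, hg⟩ := Triangle.coyoneda_exact₂ _ (inv_rot_of_distTriang _ hT) φ hφ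
      exact hg.trans ((congrArg (· ≫ _) (h1.elim g 0)).trans zero_comp)
    · obtain ⟨φ, hφ⟩ := Triangle.coyoneda_exact₂ _ hT ψ (h0.elim _ _)
      exact ⟨φ, hφ.symm⟩
  have h2 : (fun φ : E ⟶ L => (DCoh.restrictD j).map φ) =
      (adj.homEquiv E _).symm ∘ fun φ : E ⟶ L => φ ≫ adj.unit.app L := funext fun φ => by
    show (DCoh.restrictD j).map φ = (adj.homEquiv E _).symm (φ ≫ adj.unit.app L)
    rw [adj.homEquiv_counit, Functor.map_comp, Category.assoc, adj.left_triangle_components]
    exact (Category.comp_id _).symm
  rw [h2]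
  exact (Equiv.bijective _).comp hb

end Groth.Agent.TwistShriek
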