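import Groth.Agent.TwistShriek.BcQ
import Groth.Agent.TwistShriek.SuppBdd
import Groth.Agent.TwistShriek.SuppHom
import Groth.Agent.DCohMore.RpushBdd
import Groth.Agent.DCohMore.FibreChart

/-!
# Base change of the right adjoint along an open immersion
-/

set_option autoImplicit false
set_option linter.style.haveILetI false
set_option linter.unusedSectionVars false
set_option backward.isDefEq.respectTransparency false
set_option maxHeartbeats 1600000

universe u

open CategoryTheory CategoryTheory.Limits AlgebraicGeometry Pretriangulated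
open Groth.Agent.DCohLib Groth.Agent.DCohMore

attribute [local instance] HasDerivedCategory.standard

noncomputable section

namespace Groth.Agent.TwistShriek

section Open

variable {U X : Scheme.{u}} (j : U ⟶ X) [IsOpenImmersion j] [DCoh.HasLpull j] [DCoh.HasRpush j]

/-- Pulling back a direct image along an open immersion. -/
theorem nonempty_rpushQ_lpullQ (hj : DCoh.RpushPreservesQCoh j) :
    Nonempty (DCoh.RpushQ j hj ⋙ Dual3.LpullQ j (lpullQCoh j) ≅ 𝟭 (DCoh.DQCoh U)) := by
  obtain ⟨e⟩ := nonempty_rpush_restrictD j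
  obtain ⟨l⟩ := nonempty_restrictD_iso_lpull j
  let E : DCoh.Rpush j ⋙ DCoh.Lpull j ≅ 𝟭 (DCoh.D U) := Functor.isoWhiskerLeft _ l.symm ≪≫ e
  exact ⟨NatIso.ofComponents (fun K => ObjectProperty.isoMk _ (E.app K.obj))
    fun φ => ObjectProperty.hom_ext _ (E.hom.naturality φ.hom)⟩

instance isIso_counit_adjQ (hj : DCoh.RpushPreservesQCoh j) : IsIso (adjQ j hj).counit :=
  Adjunction.isIso_counit_of_iso _ (nonempty_rpushQ_lpullQ j hj).some

theorem isIso_lpull_map_unit (hj : DCoh.RpushPreservesQCoh j) (K : DCoh.DQCoh X) :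
    IsIso ((Dual3.LpullQ j (lpullQCoh j)).map ((adjQ j hj).unit.app K)) := by
  let adj := adjQ j hj
  have h := adj.left_triangle_components K
  haveI : IsIso ((Dual3.LpullQ j (lpullQCoh j)).map (adj.unit.app K) ≫
      adj.counit.app ((Dual3.LpullQ j (lpullQCoh j)).obj K)) := by
    rw [h]; exact IsIso.id _
  exact IsIso.of_isIso_comp_right _ (adj.counit.app _)

end Open

variable {X Y U W : Scheme.{u}} {f : X ⟶ Y} {g : U ⟶ Y} {f' : W ⟶ U} {g' : W ⟶ X}
  [IsNoetherian Y] [IsProper f] [IsOpenImmersion g] [IsOpenImmersion g']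
  [DCoh.HasRpush f] [DCoh.HasRpush f'] [DCoh.HasRpush g] [DCoh.HasRpush g']
  [DCoh.HasLpull g] [DCoh.HasLpull g']
  {hf : DCoh.RpushPreservesQCoh f} {hf' : DCoh.RpushPreservesQCoh f'}
  {a : DCoh.DQCoh Y ⥤ DCoh.DQCoh X} {a' : DCoh.DQCoh U ⥤ DCoh.DQCoh W}

/-- A square with open immersions: the right adjoint commutes with restriction on objects bounded below. -/
theorem nonempty_openBaseChange (hsq : IsPullback g' f' f g) (hg : DCoh.RpushPreservesQCoh g)
    (hg' : DCoh.RpushPreservesQCoh g') (adj : DCoh.RpushQ f hf ⊣ a) (adj' : DCoh.RpushQ f' hf' ⊣ a') :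
    Nonempty (Dual3.bddι Y ⋙ a ⋙ Dual3.LpullQ g' (lpullQCoh g') ≅
      Dual3.bddι Y ⋙ Dual3.LpullQ g (lpullQCoh g) ⋙ a') := by
  haveI : CompactSpace X := QuasiCompact.compactSpace_of_compactSpace f
  haveI : QuasiSeparatedSpace X := quasiSeparatedSpace_of_quasiSeparated f
  haveI : IsLocallyNoetherian X := LocallyOfFiniteType.isLocallyNoetherian f
  haveI : IsNoetherian X := {}
  haveI : IsNoetherian U :=
    haveI := isLocallyNoetherian_of_isOpenImmersion g
    haveI : CompactSpace U := QuasiCompact.compactSpace_of_compactSpace g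
    {}
  haveI : IsNoetherian W :=
    haveI := isLocallyNoetherian_of_isOpenImmersion g'
    haveI : CompactSpace W := QuasiCompact.compactSpace_of_compactSpace g'
    {}
  obtain ⟨e, hξ⟩ := exists_isIso_xi (hg := hg) (hg' := hg') hsq BC.TI.of_flat adj adj'
  -- `ξ` as a natural isomorphism
  let Ξ : a' ⋙ DCoh.RpushQ g' hg' ≅ DCoh.RpushQ g hg ⋙ a :=
    haveI := hξ
    NatIso.ofComponents (fun M => asIso (Dual3.xi adj adj' e M)) fun {N N'} φ => by
      show (DCoh.RpushQ g' hg').map (a'.map φ) ≫ Dual3.xi adj adj' e N' =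
        Dual3.xi adj adj' e N ≫ a.map ((DCoh.RpushQ g hg).map φ)
      rw [Dual3.xi, Dual3.xi, ← adj.homEquiv_naturality_left, ← adj.homEquiv_naturality_right]
      refine congrArg _ ?_
      erw [reassoc_of% e.hom.naturality, Category.assoc, ← Functor.map_comp, ← Functor.map_comp]
      exact congrArg (fun k => _ ≫ (DCoh.RpushQ g hg).map k) (adj'.counit.naturality φ)
  let L := Dual3.LpullQ g (lpullQCoh g)
  let L' := Dual3.LpullQ g' (lpullQCoh g')
  let η := Functor.whiskerRight (adjQ g hg).unit (a ⋙ L')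
  obtain ⟨_, _⟩ := DQCohBrown.exists_triangulated_rpushQ f hf
  letI := adj.rightAdjointCommShift ℤ
  haveI := adj.commShift_of_leftAdjoint ℤ
  haveI := adj.isTriangulated_rightAdjoint
  let ιY := ObjectProperty.ι (DCoh.IsQCohD (X := Y))
  let ιX := ObjectProperty.ι (DCoh.IsQCohD (X := X))
  have key : ∀ K : (Dual3.IsBddBelowQ Y).FullSubcategory, IsIso (η.app K.obj) := by
    intro K
    obtain ⟨n, hn⟩ := K.property
    let u := (adjQ g hg).unit.app K.obj
    let K' := (DCoh.RpushQ g hg).obj (L.obj K.obj)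
    haveI : K'.obj.IsGE n := by
      show ((DCoh.Rpush g).obj ((DCoh.Lpull g).obj K.obj.obj)).IsGE n
      haveI : ((DCoh.Lpull g).obj K.obj.obj).IsGE n := by
        obtain ⟨l⟩ := nonempty_restrictD_lpull g K.obj.obj
        haveI := isGE_restrict g hn
        exact DerivedCategory.TStructure.t.isGE_of_iso l n
      exact isGE_rpush g _ n
    obtain ⟨C, p, δ, hT⟩ := distinguished_cocone_triangle u
    have hTD := ιY.map_distinguished _ hT
    haveI : C.obj.IsGE (n - 1) := by
      haveI : K.obj.obj.IsGE n := hn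
      refine (DerivedCategory.isGE_iff _ _).2 fun i hi => ?_
      refine ShortComplex.Exact.isZero_of_both_zeros (DerivedCategory.HomologySequence.exact₃ _ hTD i (i + 1) rfl)
        ?_ ?_
      · exact (DerivedCategory.isZero_of_isGE K'.obj n i (by omega)).eq_of_src _ _
      · exact (DerivedCategory.isZero_of_isGE K.obj.obj n (i + 1) (by omega)).eq_of_tgt _ _
    have hC : IsZero ((DCoh.restrictD g.opensRange.ι).obj C.obj) := by
      refine isZero_restrictD_opensRange g ?_
      haveI := isIso_lpull_map_unit g hg K.obj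
      haveI : IsIso ((DCoh.Lpull g).map u.hom) :=
        inferInstanceAs (IsIso ((ObjectProperty.ι _).map (L.map u)))
      obtain ⟨l⟩ := nonempty_restrictD_iso_lpull g
      refine (Triangle.isZero₃_iff_isIso₁ _ ((DCoh.restrictD g).map_distinguished _ hTD)).2 ?_
      show IsIso ((DCoh.restrictD g).map u.hom)
      exact (NatIso.isIso_map_iff l u.hom).2 inferInstance
    have hV : IsCompact (g.opensRange : Set Y) := isCompact_range g.continuous
    have hz := isZero_rightAdjoint_of_bounded f hf a adj (fun E hE => pc_rpush_of_proper f E hE)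
      g.opensRange hV C (n - 1) hC
    have hz' : IsZero ((DCoh.restrictD g').obj (a.obj C).obj) := by
      have hle : g'.opensRange ≤ f ⁻¹ᵁ g.opensRange := by
        rintro _ ⟨w, rfl⟩
        exact ⟨f' w, by rw [← Scheme.Hom.comp_apply, ← hsq.w, Scheme.Hom.comp_apply]⟩
      have h1 := isZero_restrictD_mono hle hz
      exact ((DCoh.restrictD g'.isoOpensRange.hom).map_isZero h1).of_iso
        ((restrictDCongr g'.isoOpensRange_hom_ι.symm).app _ ≪≫ (restrictDComp _ g'.opensRange.ι).app _)
    haveI : IsIso ((DCoh.restrictD g').map (a.map u).hom) :=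
      (Triangle.isZero₃_iff_isIso₁ _ ((DCoh.restrictD g').map_distinguished _
        (ιX.map_distinguished _ (a.map_distinguished _ hT)))).1 hz'
    obtain ⟨l'⟩ := nonempty_restrictD_iso_lpull g'
    haveI : IsIso ((ObjectProperty.ι _).map (L'.map (a.map u))) :=
      (NatIso.isIso_map_iff l' (a.map u).hom).1 inferInstance
    exact isIso_of_reflects_iso (L'.map (a.map u)) (ObjectProperty.ι _)
  let η' := Functor.whiskerLeft (Dual3.bddι Y) η
  haveI : IsIso η' :=
    haveI : ∀ K, IsIso (η'.app K) := key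
    NatIso.isIso_of_isIso_app η'
  exact ⟨Functor.isoWhiskerLeft (Dual3.bddι Y) (Functor.leftUnitor _).symm ≪≫ asIso η' ≪≫
    Functor.isoWhiskerLeft (Dual3.bddι Y)
      (Functor.associator _ _ _ ≪≫ Functor.isoWhiskerLeft L ((Functor.associator _ _ _).symm ≪≫
        Functor.isoWhiskerRight Ξ.symm L' ≪≫ Functor.associator _ _ _ ≪≫
        Functor.isoWhiskerLeft a' (asIso (adjQ g' hg').counit) ≪≫ Functor.rightUnitor _))⟩

end Groth.Agent.TwistShriek
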