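import Groth.Agent.TwistShriek.Theta
import Groth.Agent.TwistShriek.SuppBdd
import Groth.Agent.DCohMore.LiftSummand
import Groth.Agent.DCohMore.GoodMain
import Groth.Agent.RelPCLib.Compat
import Groth.Agent.S1510
import Groth.Agent.S7172
import Groth.Agent.S7175
import Groth.Agent.FMKLib.ClosedTensor
import Groth.Agent.FMKLib.CompConv

/-!
# Perfect kernels testing a quasi-coherent object on an affine open

For `g : X ⟶ S` separated and `h : P ⟶ S` smooth, an affine open `W` of `X` embedded as a closed subscheme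
of an affine open `V` of `P` has perfect graph in `X ×_S V`, which is up to a direct summand the restriction of
a perfect kernel `R` on `X ×_S P`.  So the push forward of `K|_W` to `V` is a retract of the restriction of the
transform of `K` by `R`, and the twists of that transform are direct images of `K ⊗ E` with `E` perfect.
-/

set_option autoImplicit false
set_option linter.style.haveILetI false
set_option linter.unusedSectionVars false
set_option backward.isDefEq.respectTransparency false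
set_option maxHeartbeats 1000000

universe u

open CategoryTheory CategoryTheory.Limits AlgebraicGeometry Pretriangulated Opposite
open scoped ZeroObject
open Groth.Agent.DCohLib Groth.Agent.DCohMore Groth.Agent.KFlat Groth.Agent.FMKLib

attribute [local instance] HasDerivedCategory.standard

noncomputable section

namespace Groth.Agent.TwistShriek

variable {X Y : Scheme.{u}}

/-- The two factors of a derived tensor product may be exchanged. -/
theorem nonempty_lTensor_swap (E M : CochainComplex X.Modules ℤ) (hE : DCoh.IsKFlat E) (hM : DCoh.IsKFlat M) :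
    Nonempty ((DCoh.LTensorCx E).obj (DerivedCategory.Q.obj M) ≅
      (DCoh.LTensorCx M).obj (DerivedCategory.Q.obj E)) :=
  ⟨lTensorIso E M hM ≪≫ DerivedCategory.Q.mapIso (symS M E) ≪≫ (lTensorIso M E hE).symm⟩

/-- The projection formula for tensoring with a complex on the source. -/
theorem nonempty_proj_right (f : X ⟶ Y) [QuasiCompact f] [QuasiSeparated f] [DCoh.HasRpush f] [DCoh.HasLpull f]
    (E : CochainComplex X.Modules ℤ) (hE : DCoh.IsQCohD (DerivedCategory.Q.obj E))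
    (E' : CochainComplex Y.Modules ℤ)
    (e : DerivedCategory.Q.obj E' ≅ (DCoh.Rpush f).obj (DerivedCategory.Q.obj E))
    (M : DCoh.D Y) (hM : DCoh.IsQCohD M) :
    Nonempty ((DCoh.LTensorCx E').obj M ≅ (DCoh.Rpush f).obj ((DCoh.LTensorCx E).obj ((DCoh.Lpull f).obj M))) := by
  obtain ⟨I, hI, -, ⟨eI⟩⟩ := exists_injective_resolution X (DerivedCategory.Q.obj E)
  haveI := hI
  have hIq : DCoh.IsQCohD (DerivedCategory.Q.obj I) := TildeD.isQCohD_of_iso eI hE
  haveI := isIso_projD f I hIq ⟨M, hM⟩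
  obtain ⟨tI⟩ := nonempty_lTensor_of_iso (E := E) (E' := I) eI.symm
  haveI := isIso_rpushUnit_app f I
  let ePf : DerivedCategory.Q.obj ((pfCx f).obj I) ≅ (DCoh.Rpush f).obj (DerivedCategory.Q.obj E) :=
    ((DerivedCategory.quotientCompQhIso Y.Modules).app _).symm ≪≫
      DerivedCategory.Qh.mapIso (((Scheme.Modules.pushforward f).mapHomotopyCategoryFactors
        (ComplexShape.up ℤ)).app I).symm ≪≫
      @asIso _ _ _ _ ((rpushUnit f).app ((HomotopyCategory.quotient _ _).obj I)) (isIso_rpushUnit_app f I) ≪≫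
      (DCoh.Rpush f).mapIso ((DerivedCategory.quotientCompQhIso X.Modules).app I) ≪≫
      (DCoh.Rpush f).mapIso eI.symm
  obtain ⟨tE⟩ := nonempty_lTensor_of_iso (E := E') (E' := (pfCx f).obj I) (ePf ≪≫ e.symm)
  exact ⟨(tE.app M).symm ≪≫ asIso ((projD f I).app M) ≪≫ (DCoh.Rpush f).mapIso (tI.app _)⟩

/-- Retracts of pseudo-coherent objects are pseudo-coherent. -/
theorem pc_of_retract {K L : DCoh.D X} (r : Retract K L) {m : ℤ} (hL : DCoh.IsPseudoCoherentD m L) :
    DCoh.IsPseudoCoherentD m K := by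
  obtain ⟨C, g, δ, hT⟩ := distinguished_cocone_triangle r.i
  have h0 : δ = 0 := by
    haveI : Mono (r.i⟦(1 : ℤ)⟧') :=
      (SplitMono.mk (r.r⟦(1 : ℤ)⟧') (by rw [← Functor.map_comp, r.retract]; exact CategoryTheory.Functor.map_id _ _)).mono
    exact (cancel_mono (r.i⟦(1 : ℤ)⟧')).1 ((comp_distTriang_mor_zero₃₁ _ hT).trans zero_comp.symm)
  obtain ⟨e, -⟩ := exists_iso_binaryBiproduct_of_distTriang _ hT h0
  exact (isPseudoCoherentD_summands (isPseudoCoherentD_iso (e : L ≅ K ⊞ C) hL)).1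

section

variable {S P : Scheme.{u}} (g : X ⟶ S) (h : P ⟶ S)
  [IsSeparated g] [QuasiCompact g] [Smooth h] [IsSeparated h] [QuasiCompact h]
  [CompactSpace X] [CompactSpace P] [QuasiSeparatedSpace X] [QuasiSeparatedSpace P]

/-- The transform by a kernel on the product. -/
abbrev trR (R : CochainComplex (pullback g h).Modules ℤ) [DCoh.HasLpull (pullback.fst g h)]
    [DCoh.HasRpush (pullback.snd g h)] : DCoh.D X ⥤ DCoh.D P :=
  DCoh.Lpull (pullback.fst g h) ⋙ DCoh.LTensorCx R ⋙ DCoh.Rpush (pullback.snd g h)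

/-- The push forward of a restriction to an embedded affine open is a retract of a perfect transform. -/
theorem exists_kernel [DCoh.HasLpull (pullback.fst g h)] [DCoh.HasRpush (pullback.snd g h)]
    (W : X.Opens) (V : P.Opens) (hV : IsCompact (V : Set P))
    (i : (W : Scheme.{u}) ⟶ V) [IsClosedImmersion i] (w : W.ι ≫ g = i ≫ V.ι ≫ h) :
    ∃ (R : CochainComplex (pullback g h).Modules ℤ), DCoh.IsKFlat R ∧
      DCoh.IsPerfect (DerivedCategory.Q.obj R) ∧
      ∀ K : DCoh.D X, DCoh.IsQCohD K → Nonempty (Retract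
        ((RelPCLib.pushD i).obj ((DCoh.restrictD W.ι).obj K)) ((DCoh.restrictD V.ι).obj ((trR g h R).obj K))) := by
  let XP := pullback g h
  let p := pullback.fst g h
  let q := pullback.snd g h
  haveI : CompactSpace XP := QuasiCompact.compactSpace_of_compactSpace q
  haveI : QuasiSeparatedSpace XP := quasiSeparatedSpace_of_quasiSeparated q
  let U := q ⁻¹ᵁ V
  have hU : IsCompact (U : Set XP) := q.isCompact_preimage hV
  let l : (W : Scheme.{u}) ⟶ XP := pullback.lift W.ι (i ≫ V.ι) (by rw [w, Category.assoc])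
  have hl : Set.range l ⊆ Set.range U.ι := by
    rintro _ ⟨x, rfl⟩
    rw [Scheme.Opens.range_ι]
    show q (l x) ∈ V
    rw [← Scheme.Hom.comp_apply, pullback.lift_snd, Scheme.Hom.comp_apply]
    exact (i x).2
  let Γ : (W : Scheme.{u}) ⟶ U := IsOpenImmersion.lift U.ι l hl
  have hΓ : Γ ≫ U.ι = l := IsOpenImmersion.lift_fac _ _ _
  have hΓi : Γ ≫ (q ∣_ V) = i := by
    rw [← cancel_mono V.ι, Category.assoc, morphismRestrict_ι, ← Category.assoc, hΓ, pullback.lift_snd]
  have hΓW : Γ ≫ U.ι ≫ p = W.ι := by rw [← Category.assoc, hΓ, pullback.lift_fst]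
  haveI : IsClosedImmersion Γ := by
    haveI : IsClosedImmersion (Γ ≫ (q ∣_ V)) := by rw [hΓi]; infer_instance
    exact IsClosedImmersion.of_comp Γ (q ∣_ V)
  have hΓp : MoreMor.IsPerfectMor Γ := S1510.result Γ (U.ι ≫ p) (by rw [hΓW]; exact S7172.result W.ι)
  let G := DCoh.inD (U : Scheme.{u}) ((Coh.push Γ).obj (Coh.structureModule (W : Scheme.{u})))
  have hG : DCoh.IsPerfect G := S7175.result Γ hΓp
  have hz : IsZero ((0 : DCoh.D XP)) := isZero_zero _
  obtain ⟨R₀, β, i₀, p₀, hR₀, -, hip, -⟩ := DCohMore.liftUpTo_main (X := XP) Set.univ isClosed_univ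
    (by rw [Set.compl_univ]; exact isCompact_empty) U hU (0 : DCoh.D XP)
    (DCohMore.isQCohD_of_isPerfect (isPerfect_of_perfOn (perfOn_of_isZero hz))) G hG (fun _ _ _ => Set.mem_univ _) 0
  let R := (resX XP).obj (DerivedCategory.Q.objPreimage R₀)
  let eR : DerivedCategory.Q.obj R ≅ R₀ := resXIso R₀
  refine ⟨R, isKFlat_resX _, isPerfect_iso eR.symm hR₀, fun K hK => ?_⟩
  haveI : CompactSpace (U : Scheme.{u}) := isCompact_iff_compactSpace.1 hU
  haveI : QuasiSeparatedSpace (U : Scheme.{u}) := quasiSeparatedSpace_of_quasiSeparated U.ι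
  haveI := BC.hasRpush Γ
  haveI := BC.hasRpush (q ∣_ V)
  haveI := BC.hasRpush (Γ ≫ (q ∣_ V))
  haveI := BC.hasRpush i
  haveI : DCoh.HasLpull U.ι := DCohLib.hasLpull _
  haveI : DCoh.HasLpull Γ := DCohLib.hasLpull _
  haveI : DCoh.HasLpull (Γ ≫ U.ι) := DCohLib.hasLpull _
  haveI : DCoh.HasLpull ((Γ ≫ U.ι) ≫ p) := DCohLib.hasLpull _
  haveI : DCoh.HasLpull W.ι := DCohLib.hasLpull _
  let M := (DCoh.restrictD U.ι).obj ((DCoh.Lpull p).obj K)
  let Mk := (resX (U : Scheme.{u})).obj (DerivedCategory.Q.objPreimage M)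
  let eM : DerivedCategory.Q.obj Mk ≅ M := resXIso M
  have hMq : DCoh.IsQCohD M := TildeD.isQCohD_restrict U.ι _ (TildeD.isQCohD_lpull p K hK)
  let RU := (resCx U.ι).obj R
  have hRU : DCoh.IsKFlat RU := isKFlat_resCx U.ι (isKFlat_resX _)
  let Gk := (resX (U : Scheme.{u})).obj (DerivedCategory.Q.objPreimage G)
  let eG : DerivedCategory.Q.obj Gk ≅ G := resXIso G
  let r₀ : Retract (DerivedCategory.Q.obj Gk) (DerivedCategory.Q.obj RU) :=
    (Retract.ofIso eG).trans (({ i := i₀, r := p₀, retract := hip } : Retract G _).trans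
      (Retract.ofIso ((DCoh.restrictD U.ι).mapIso eR.symm ≪≫ restrictDQ U.ι R)))
  obtain ⟨s₁⟩ := nonempty_lTensor_swap Gk Mk (isKFlat_resX _) (isKFlat_resX _)
  obtain ⟨s₂⟩ := nonempty_lTensor_swap RU Mk hRU (isKFlat_resX _)
  let r₁ : Retract ((DCoh.LTensorCx Gk).obj M)
      ((DCoh.restrictD U.ι).obj ((DCoh.LTensorCx R).obj ((DCoh.Lpull p).obj K))) :=
    ((Retract.ofIso ((DCoh.LTensorCx Gk).mapIso eM.symm ≪≫ s₁)).trans
      (r₀.map (DCoh.LTensorCx Mk))).trans
      (Retract.ofIso (s₂.symm ≪≫ (DCoh.LTensorCx RU).mapIso eM ≪≫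
        (restrictLTensorIso U R (isKFlat_resX _)).app ((DCoh.Lpull p).obj K)))
  obtain ⟨cl⟩ := FMKLib.nonempty_rpush_closed (i := Γ)
  obtain ⟨P₁⟩ := nonempty_proj_right Γ (unitCx (W : Scheme.{u}))
    (DCohMore.isQCohD_of_isPerfect (DCohMore.isPerfect_shiftUnitCx 0)) Gk
    (eG ≪≫ (RelPCLib.pushInD Γ _).symm ≪≫ (cl.app _).symm ≪≫ (DCoh.Rpush Γ).mapIso unitDIso) M hMq
  obtain ⟨s⟩ := nonempty_restrictD_lpull W.ι K
  obtain ⟨sU⟩ := nonempty_restrictD_lpull U.ι ((DCoh.Lpull p).obj K)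
  obtain ⟨c₁⟩ := nonempty_lpullCompIso Γ U.ι
  obtain ⟨c₂⟩ := nonempty_lpullCompIso (Γ ≫ U.ι) p
  let eW : (DCoh.Lpull Γ).obj M ≅ (DCoh.restrictD W.ι).obj K :=
    (DCoh.Lpull Γ).mapIso sU ≪≫ c₁.app _ ≪≫ c₂.app K ≪≫
      (eqToIso (by simp only [Category.assoc, hΓW]) : (DCoh.Lpull ((Γ ≫ U.ι) ≫ p)).obj K ≅ (DCoh.Lpull W.ι).obj K) ≪≫ s.symm
  obtain ⟨bc⟩ := nonempty_restrictD_rpush q V
  obtain ⟨c₃⟩ := nonempty_rpushCompIso Γ (q ∣_ V)
  obtain ⟨cli⟩ := FMKLib.nonempty_rpush_closed (i := i)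
  let eI : (RelPCLib.pushD i).obj ((DCoh.restrictD W.ι).obj K) ≅
      (DCoh.Rpush (q ∣_ V)).obj ((DCoh.LTensorCx Gk).obj M) :=
    (cli.app _).symm ≪≫ (DCoh.Rpush i).mapIso (eW.symm ≪≫ (lTensorUnitIso.app _).symm) ≪≫
      (eqToIso (by simp only [hΓi]) : (DCoh.Rpush i).obj _ ≅ (DCoh.Rpush (Γ ≫ (q ∣_ V))).obj _) ≪≫
      (c₃.app _).symm ≪≫ (DCoh.Rpush (q ∣_ V)).mapIso P₁.symm
  exact ⟨((Retract.ofIso eI).trans (r₁.map (DCoh.Rpush (q ∣_ V)))).trans
    (Retract.ofIso ((bc.app ((DCoh.LTensorCx R).obj ((DCoh.Lpull p).obj K))).symm))⟩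

/-- The twists of a transform are direct images of tensor products with perfect objects. -/
theorem exists_twist [IsProper h] [Flat h] [DCoh.HasLpull (pullback.fst g h)]
    [DCoh.HasRpush (pullback.snd g h)] [DCoh.HasRpush h] [DCoh.HasRpush g]
    (R : CochainComplex (pullback g h).Modules ℤ)
    (hRp : DCoh.IsPerfect (DerivedCategory.Q.obj R))
    (L : CochainComplex P.Modules ℤ) (hL : DCoh.IsKFlat L) (hLp : DCoh.IsPerfect (DerivedCategory.Q.obj L)) :
    ∃ E : CochainComplex X.Modules ℤ, DCoh.IsKFlat E ∧ DCoh.IsPerfect (DerivedCategory.Q.obj E) ∧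
      ∀ K : DCoh.D X, DCoh.IsQCohD K →
        Nonempty ((DCoh.Rpush h).obj ((DCoh.LTensorCx L).obj ((trR g h R).obj K)) ≅
          (DCoh.Rpush g).obj ((DCoh.LTensorCx E).obj K)) := by
  let p := pullback.fst g h
  let q := pullback.snd g h
  haveI : CompactSpace (pullback g h : Scheme.{u}) := QuasiCompact.compactSpace_of_compactSpace q
  haveI : QuasiSeparatedSpace (pullback g h : Scheme.{u}) := quasiSeparatedSpace_of_quasiSeparated q
  haveI : DCoh.HasLpull q := DCohLib.hasLpull q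
  haveI := BC.hasRpush p
  let L' := (pullCx q).obj L
  have hL' : DCoh.IsKFlat L' := isKFlat_pullback q hL
  have hL'p : DCoh.IsPerfect (DerivedCategory.Q.obj L') :=
    isPerfect_iso (lpullIsoK q L hL) (isPerfect_lpull q _ hLp)
  let T := (DCoh.tensorCx.obj R).obj L'
  obtain ⟨cT⟩ := nonempty_lTensorCompIso R L' hL'
  have hTp : DCoh.IsPerfect (DerivedCategory.Q.obj T) :=
    isPerfect_iso ((lTensorQIso L' hL').app R) (isPerfect_lTensor L' hL' hL'p _ hRp)
  let E := (resX X).obj (DerivedCategory.Q.objPreimage ((DCoh.Rpush p).obj (DerivedCategory.Q.obj T)))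
  let eE : DerivedCategory.Q.obj E ≅ (DCoh.Rpush p).obj (DerivedCategory.Q.obj T) := resXIso _
  refine ⟨E, isKFlat_resX _, isPerfect_iso eE.symm (DCohMore.isPerfect_rpush_proper p _ hTp), fun K hK => ?_⟩
  have hpK := TildeD.isQCohD_lpull p K hK
  let N : DCoh.DQCoh (pullback g h : Scheme.{u}) := ⟨(DCoh.LTensorCx R).obj ((DCoh.Lpull p).obj K),
    TildeD.isQCohD_lTensorCx R (DCohMore.isQCohD_of_isPerfect hRp) _ hpK⟩
  obtain ⟨pr⟩ := nonempty_proj_left q L (DCohMore.isQCohD_of_isPerfect hLp) L' (lpullIsoK q L hL).symm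
  obtain ⟨sq⟩ := nonempty_rpush_square q h p g pullback.condition.symm
  obtain ⟨pe⟩ := nonempty_proj_right p T (DCohMore.isQCohD_of_isPerfect hTp) E eE K hK
  exact ⟨(DCoh.Rpush h).mapIso (pr.app N) ≪≫ sq.app _ ≪≫
    (DCoh.Rpush g).mapIso ((DCoh.Rpush p).mapIso (cT.app _) ≪≫ pe.symm)⟩

end

end Groth.Agent.TwistShriek
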