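import Groth.Agent.TwistShriek.RGamma
import Groth.Agent.DCohMore.BCAffineQC
import Groth.Agent.DCohMore.FibreChart
import Groth.Agent.DCohMore.PCFlatProper
import Groth.Agent.TwistShriek.KernelTest
import Groth.Agent.DCohMore.RpushQC
import Groth.Agent.S6508

/-!
# Sections with supports commute with exact functors
-/

set_option autoImplicit false
set_option linter.style.haveILetI false
set_option backward.isDefEq.respectTransparency false
set_option maxHeartbeats 1000000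

universe u

open CategoryTheory CategoryTheory.Limits AlgebraicGeometry CategoryTheory.Pretriangulated
open scoped ZeroObject
open Groth.Agent.DCohLib Groth.Agent.DCohMore

attribute [local instance] HasDerivedCategory.standard

noncomputable section

namespace Groth.Agent.TwistShriek

/-- The derived direct image of an object vanishing on the inverse image vanishes on the open. -/
theorem isZero_restrictD_rpush {X Y : Scheme.{u}} (f : X ⟶ Y) [DCoh.HasRpush f] (V : Y.Opens) (M : DCoh.D X)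
    (h : IsZero ((DCoh.restrictD (f ⁻¹ᵁ V).ι).obj M)) :
    IsZero ((DCoh.restrictD V.ι).obj ((DCoh.Rpush f).obj M)) := by
  haveI : DCoh.HasRpush (f ∣_ V) := BC.hasRpush _
  obtain ⟨e⟩ := Groth.Agent.S6508.result f V
  haveI : DCoh.HasLpull (f ∣_ V) := DCohLib.hasLpull _
  haveI : (DCoh.Rpush (f ∣_ V)).IsRightAdjoint := (lpullRpushAdj (f ∣_ V)).isRightAdjoint
  exact ((DCoh.Rpush (f ∣_ V)).map_isZero h).of_iso (e.app M)

variable {X Y : Scheme.{u}} (f : X ⟶ Y) (U : Y.Opens) [CxOX.HasRgammaZ U.ι] [CxOX.HasRgammaZ (f ⁻¹ᵁ U).ι]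

theorem factor_isIso_rpush [DCoh.HasRpush f] (K : DCoh.D X) :
    (∃ α : (DCoh.Rpush f).obj ((CxOX.RgammaZ (f ⁻¹ᵁ U).ι).obj K) ⟶ (CxOX.RgammaZ U.ι).obj ((DCoh.Rpush f).obj K),
        α ≫ (CxOX.RgammaZToId U.ι).app ((DCoh.Rpush f).obj K) =
          (DCoh.Rpush f).map ((CxOX.RgammaZToId (f ⁻¹ᵁ U).ι).app K)) ∧
    ∀ α : (DCoh.Rpush f).obj ((CxOX.RgammaZ (f ⁻¹ᵁ U).ι).obj K) ⟶ (CxOX.RgammaZ U.ι).obj ((DCoh.Rpush f).obj K),
        α ≫ (CxOX.RgammaZToId U.ι).app ((DCoh.Rpush f).obj K) =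
          (DCoh.Rpush f).map ((CxOX.RgammaZToId (f ⁻¹ᵁ U).ι).app K) → IsIso α := by
  haveI : DCoh.HasRpush (f ⁻¹ᵁ U).ι := BC.hasRpush _
  haveI : DCoh.HasRpush (f ∣_ U) := BC.hasRpush _
  refine factor_isIso (W := U) (f ⁻¹ᵁ U) (DCoh.Rpush f) (BC.exTri_rpush f) K
    (fun M hM => isZero_restrictD_rpush f U M hM) ⟨(DCoh.Rpush (f ∣_ U)).obj ((DCoh.restrictD (f ⁻¹ᵁ U).ι).obj K), ?_⟩
  intro _
  haveI := BC.hasRpush ((f ⁻¹ᵁ U).ι ≫ f)
  haveI := BC.hasRpush ((f ∣_ U) ≫ U.ι)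
  obtain ⟨c₁⟩ := nonempty_rpushCompIso (f ⁻¹ᵁ U).ι f
  obtain ⟨c₂⟩ := nonempty_rpushCompIso (f ∣_ U) U.ι
  exact ⟨(c₁ ≪≫ eqToIso (by simp only [morphismRestrict_ι]) ≪≫ c₂.symm).app _⟩

theorem factor_isIso_lpull [Flat f] [DCoh.HasLpull f] [IsNoetherian Y] (K : DCoh.D Y) (hK : DCoh.IsQCohD K) :
    (∃ β : (DCoh.Lpull f).obj ((CxOX.RgammaZ U.ι).obj K) ⟶ (CxOX.RgammaZ (f ⁻¹ᵁ U).ι).obj ((DCoh.Lpull f).obj K),
        β ≫ (CxOX.RgammaZToId (f ⁻¹ᵁ U).ι).app ((DCoh.Lpull f).obj K) =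
          (DCoh.Lpull f).map ((CxOX.RgammaZToId U.ι).app K)) ∧
    ∀ β : (DCoh.Lpull f).obj ((CxOX.RgammaZ U.ι).obj K) ⟶ (CxOX.RgammaZ (f ⁻¹ᵁ U).ι).obj ((DCoh.Lpull f).obj K),
        β ≫ (CxOX.RgammaZToId (f ⁻¹ᵁ U).ι).app ((DCoh.Lpull f).obj K) =
          (DCoh.Lpull f).map ((CxOX.RgammaZToId U.ι).app K) → IsIso β := by
  let W := f ⁻¹ᵁ U
  haveI : DCoh.HasRpush U.ι := BC.hasRpush _
  haveI : DCoh.HasRpush W.ι := BC.hasRpush _
  haveI : DCoh.HasRpush f := BC.hasRpush _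
  haveI : DCoh.HasRpush (f ∣_ U) := BC.hasRpush _
  haveI : DCoh.HasLpull (f ∣_ U) := DCohLib.hasLpull _
  haveI : Flat (f ∣_ U) := IsZariskiLocalAtTarget.restrict ‹Flat f› _
  refine factor_isIso W U (DCoh.Lpull f) (BC.exTri_lpull f) K (fun M hM => ?_)
    ⟨(DCoh.Lpull (f ∣_ U)).obj ((DCoh.restrictD U.ι).obj K), ?_⟩
  · obtain ⟨e⟩ := nonempty_restrictD_lpull_square W.ι f (f ∣_ U) U.ι (morphismRestrict_ι f U).symm M
    haveI : (DCoh.Lpull (f ∣_ U)).IsLeftAdjoint := (lpullRpushAdj (f ∣_ U)).isLeftAdjoint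
    exact ((DCoh.Lpull (f ∣_ U)).map_isZero hM).of_iso e
  · intro _
    obtain ⟨e, he⟩ := BC.exists_iso_baseChange U.ι f W.ι (f ∣_ U) (isPullback_morphismRestrict f U) BC.TI.of_flat
      (lpullRpushAdj f) (lpullRpushAdj (f ∣_ U))
    haveI := he _ (TildeD.isQCohD_restrict U.ι K hK)
    exact ⟨asIso (DCoh.baseChangeApp (lpullRpushAdj f) (lpullRpushAdj (f ∣_ U)) e _)⟩

omit [CxOX.HasRgammaZ (f ⁻¹ᵁ U).ι] f X in
theorem factor_isIso_tensor [IsNoetherian Y] (K : DCoh.D Y) (hK : DCoh.IsQCohD K)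
    (E : CochainComplex Y.Modules ℤ) (hE : DCoh.IsQCohD (DCoh.toD Y E)) [DCoh.HasLTensorCx E] :
    (∃ φ : (DCoh.LTensorCx E).obj ((CxOX.RgammaZ U.ι).obj K) ⟶ (CxOX.RgammaZ U.ι).obj ((DCoh.LTensorCx E).obj K),
        φ ≫ (CxOX.RgammaZToId U.ι).app ((DCoh.LTensorCx E).obj K) =
          (DCoh.LTensorCx E).map ((CxOX.RgammaZToId U.ι).app K)) ∧
    ∀ φ : (DCoh.LTensorCx E).obj ((CxOX.RgammaZ U.ι).obj K) ⟶ (CxOX.RgammaZ U.ι).obj ((DCoh.LTensorCx E).obj K),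
        φ ≫ (CxOX.RgammaZToId U.ι).app ((DCoh.LTensorCx E).obj K) =
          (DCoh.LTensorCx E).map ((CxOX.RgammaZToId U.ι).app K) → IsIso φ := by
  haveI : DCoh.HasRpush U.ι := BC.hasRpush _
  haveI : DCoh.HasLpull U.ι := DCohLib.hasLpull _
  haveI : DCoh.HasLTensorCx ((resCx U.ι).obj E) := hasLTensorCx _
  refine factor_isIso U U (DCoh.LTensorCx E) (exTri_lTensorCx E) K (fun M hM => ?_) ?_
  · obtain ⟨e⟩ := nonempty_restrict_lTensorCx U.ι M E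
    refine IsZero.of_iso ?_ e
    obtain ⟨c, hc'⟩ := exTri_lTensorCx ((resCx U.ι).obj E) _ (contractible_distinguished (0 : DCoh.D (U : Scheme.{u})))
    haveI : IsIso ((DCoh.LTensorCx ((resCx U.ι).obj E)).map (𝟙 (0 : DCoh.D (U : Scheme.{u})))) := by
      rw [CategoryTheory.Functor.map_id]; exact IsIso.id _
    exact ((Triangle.isZero₃_iff_isIso₁ _ hc').2 ‹_›).of_iso ((DCoh.LTensorCx _).mapIso (hM.iso (isZero_zero _)))
  · let N₀ := (DCoh.restrictD U.ι).obj K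
    let N := (resX (U : Scheme.{u})).obj (DerivedCategory.Q.objPreimage N₀)
    let M := (resX Y).obj (DerivedCategory.Q.objPreimage ((DCoh.Rpush U.ι).obj N₀))
    let E' := (resX Y).obj (DerivedCategory.Q.objPreimage (DerivedCategory.Q.obj E))
    haveI : DCoh.HasLTensorCx N := hasLTensorCx _
    haveI : DCoh.HasLTensorCx M := hasLTensorCx _
    haveI : DCoh.HasLTensorCx E' := hasLTensorCx _
    refine ⟨(DCoh.LTensorCx N).obj ((DCoh.Lpull U.ι).obj (DerivedCategory.Q.obj E)), ?_⟩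
    intro _
    have hN : DCoh.IsQCohD (DerivedCategory.Q.obj N) :=
      TildeD.isQCohD_of_iso (resXIso N₀).symm (TildeD.isQCohD_restrict U.ι K hK)
    obtain ⟨t⟩ := nonempty_lTensor_of_iso (E := E) (E' := E') (resXIso (DerivedCategory.Q.obj E))
    obtain ⟨sw⟩ := nonempty_lTensor_swap E' M (isKFlat_resX _) (isKFlat_resX _)
    obtain ⟨pr⟩ := nonempty_proj_right U.ι N hN M
      (resXIso ((DCoh.Rpush U.ι).obj N₀) ≪≫ (DCoh.Rpush U.ι).mapIso (resXIso N₀).symm) (DerivedCategory.Q.obj E) hE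
    exact ⟨(t.app _).symm ≪≫ (DCoh.LTensorCx E').mapIso (resXIso _).symm ≪≫ sw ≪≫
      (DCoh.LTensorCx M).mapIso (resXIso (DerivedCategory.Q.obj E)) ≪≫ pr⟩

end Groth.Agent.TwistShriek
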