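import Groth.Agent.TwistShriek.SurfTwist
import Groth.Agent.CliffCurveLib.Global
import Groth.Agent.H1ZeroLib.Steps

/-!
# Sections on numerically connected divisors
-/

set_option autoImplicit false
set_option backward.isDefEq.respectTransparency false
set_option linter.style.haveILetI false
set_option maxHeartbeats 800000

universe u

open CategoryTheory CategoryTheory.Limits AlgebraicGeometry TopologicalSpace
open Groth.Agent.PullbackMod Groth.Agent.DCohLib Groth.Agent.Nakai Groth.Agent.H1ZeroLib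
open Groth.Agent.IntLib (PicRing pairing)

noncomputable section

namespace Groth.Agent.TwistShriek

theorem qmap_trans {X : Scheme.{u}} {A B C : X.IdealSheafData} (h : A ≤ B) (h' : B ≤ C) :
    qmap h ≫ qmap h' = qmap (h.trans h') := by
  haveI : Epi (ClSub.toSubscheme A) := HilbObsLib.epi_toSubscheme A
  refine (cancel_epi (ClSub.toSubscheme A)).1 ?_
  rw [← Category.assoc, toSubscheme_qmap, toSubscheme_qmap, toSubscheme_qmap]

theorem qmapL_trans {X : Scheme.{u}} {A B C : X.IdealSheafData} (h : A ≤ B) (h' : B ≤ C) (L : X.Modules) :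
    qmapL h L ≫ qmapL h' L = qmapL (h.trans h') L := by
  show CurveLib.tmap (qmap h) L ≫ CurveLib.tmap (qmap h') L = CurveLib.tmap (qmap (h.trans h')) L
  rw [← tmap_comp', qmap_trans]

theorem qmapL_refl {X : Scheme.{u}} (A : X.IdealSheafData) (L : X.Modules) : qmapL (le_refl A) L = 𝟙 _ := by
  haveI : Epi (ClSub.toSubscheme A) := HilbObsLib.epi_toSubscheme A
  have h : qmap (le_refl A) = 𝟙 (ClSub.quotMod A) :=
    (cancel_epi (ClSub.toSubscheme A)).1 (by rw [toSubscheme_qmap, Category.comp_id])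
  show CurveLib.tmap (qmap (le_refl A)) L = _
  rw [h]
  simp [CurveLib.tmap]

theorem eq_top_of_le_mul {X : Scheme.{u}} (A : X.IdealSheafData) : ⊤ * A = A := by
  ext U : 2
  rw [Scheme.IdealSheafData.ideal_mul, Pi.mul_apply, Scheme.IdealSheafData.ideal_top, Pi.top_apply,
    Ideal.top_mul]

theorem finrank_pos_of_hom (k : Type u) [Field k] {X : Scheme.{u}} [X.Over (Spec (CommRingCat.of k))]
    [IsProper (X ↘ Spec (CommRingCat.of k))] {M : X.Modules} (hM : Coh.IsCoh M) {σ : Coh.structureModule X ⟶ M}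
    (hσ : σ ≠ 0) : 0 < Module.finrank k (Coh.HH X M 0) := by
  haveI := EulerIneqLib.isNoetherian_proper (X := X) k
  haveI := EulerIneqLib.finite_HH (k := k) hM 0
  by_contra hc
  push Not at hc
  haveI : Subsingleton (Coh.HH X M 0) := Module.finrank_zero_iff.1 (Nat.le_zero.1 hc)
  apply hσ
  obtain ⟨c, hc'⟩ := (CurveLib.secOf M).surjective (AmpleLib.sec σ)
  rw [Subsingleton.elim c 0, map_zero] at hc'
  rw [← AmpleLib.secHom_sec σ, ← hc', ← AmpleLib.secHom_sec (0 : Coh.structureModule X ⟶ M)]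
  rfl

variable (k : Type u) [Field k] [IsAlgClosed k] {X : Scheme.{u}} [X.Over (Spec (CommRingCat.of k))]
  [IsProper (X ↘ Spec (CommRingCat.of k))] [IsIntegral X] [Smooth (X ↘ Spec (CommRingCat.of k))]

omit [IsAlgClosed k] in
/-- Splitting off a curve strictly lowers the degree with respect to an ample class. -/
theorem natAbs_lt (hdim : topologicalKrullDim X = 2) {H : X.Modules} (hH : CohB1.IsAmple H) {C A' : X.IdealSheafData}
    (hC : IsIntegral C.subscheme) (hCd : topologicalKrullDim (C.support : Set X) = 1) (hA' : FGA.IsEffCartier A')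
    (hA'I : PicF.IsInvertible (ClSub.idealMod A')) (hAI : PicF.IsInvertible (ClSub.idealMod (C * A'))) :
    (form k (cl hA'I) (cl hH.1)).natAbs < (form k (cl hAI) (cl hH.1)).natAbs := by
  have hCI := invertible_curve k hdim C hC hCd
  rw [form_ideal_mul k hdim hCI hA'I hAI (cl_mem _)]
  have h1 := form_ideal_neg k hdim.le hH hCI hCd
  have h2 : form k (cl hA'I) (cl hH.1) ≤ 0 := by
    by_cases hne : A' = ⊤
    · subst hne
      have e := form_ideal_mul k hdim hA'I hA'I (A := ⊤) (B := ⊤) (by rw [eq_top_of_le_mul]; exact hA'I) (cl_mem hH.1)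
      rw [show cl (show PicF.IsInvertible (ClSub.idealMod (⊤ * ⊤ : X.IdealSheafData)) by
        rw [eq_top_of_le_mul]; exact hA'I) = cl hA'I from by congr 1 <;> rw [eq_top_of_le_mul]] at e
      omega
    · exact (form_ideal_neg k hdim.le hH hA'I (dim_divisor k hdim hA' hne)).le
  omega

/-- Non-negativity on a divisor is checked on the curves in its support. -/
theorem pairing_nonneg_of_curves (hdim : topologicalKrullDim X = 2) {z : PicRing X} (hz : z ∈ Aug X)
    {A : X.IdealSheafData} (hA : FGA.IsEffCartier A) (hAI : PicF.IsInvertible (ClSub.idealMod A))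
    (h : ∀ C : X.IdealSheafData, IsIntegral C.subscheme → topologicalKrullDim (C.support : Set X) = 1 →
      (C.support : Set X) ⊆ (A.support : Set X) → 0 ≤ pairing k (ClSub.quotMod C) z) :
    form k (cl hAI) z ≤ 0 := by
  obtain ⟨H, hH⟩ := exists_ample_of_smooth (k := k) (X := X) hdim
  induction hn : (form k (cl hAI) (cl hH.1)).natAbs using Nat.strong_induction_on generalizing A with
  | _ n ih =>
    by_cases hne : A = ⊤
    · subst hne
      have e := form_ideal_mul k hdim hAI hAI (A := ⊤) (B := ⊤) (by rw [eq_top_of_le_mul]; exact hAI) hz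
      rw [show cl (show PicF.IsInvertible (ClSub.idealMod (⊤ * ⊤ : X.IdealSheafData)) by
        rw [eq_top_of_le_mul]; exact hAI) = cl hAI from by congr 1 <;> rw [eq_top_of_le_mul]] at e
      omega
    obtain ⟨C, hC, hCd, hCs⟩ := exists_curve_in k hdim hA hne
    obtain ⟨A', hA', rfl⟩ := exists_eq_curve_mul k hdim hC hCd hA hCs
    have hA'I : PicF.IsInvertible (ClSub.idealMod A') := (S8914.result _).2 hA'
    have hCI := invertible_curve k hdim C hC hCd
    have h1 := ih _ (hn ▸ natAbs_lt k hdim hH hC hCd hA' hA'I hAI) hA' hA'I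
      (fun D hD hDd hDs => h D hD hDd (hDs.trans fun x hx => by
        rw [Scheme.IdealSheafData.support_mul]; exact Or.inr hx)) rfl
    have h2 := h C hC hCd hCs
    rw [pairing_quotMod_cl k hCI] at h2
    rw [form_ideal_mul k hdim hCI hA'I hAI hz]
    omega

/-- A nonzero section on a numerically connected divisor is nonzero on each of its curves. -/
theorem restrict_ne_zero (hdim : topologicalKrullDim X = 2) {Z : X.IdealSheafData} (hZ : FGA.IsEffCartier Z)
    (hnc : ∀ Z₁ Z₂ : X.IdealSheafData, FGA.IsEffCartier Z₁ → FGA.IsEffCartier Z₂ → Z₁ ≠ ⊤ → Z₂ ≠ ⊤ →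
      Z = Z₁ * Z₂ → 0 < FGA.intNum k X 2 ![(ClSub.idealMod Z₁), (ClSub.idealMod Z₂)] (Coh.structureModule X))
    {L : X.Modules} (hL : PicF.IsInvertible L)
    (hdeg : ∀ C : X.IdealSheafData, IsIntegral C.subscheme → topologicalKrullDim (C.support : Set X) = 1 → Z ≤ C →
      Curv2.euler k X (CohB1.tensorMod (ClSub.quotMod C) L) - Curv2.euler k X (ClSub.quotMod C) ≤ 0)
    (σ : Coh.structureModule X ⟶ LJ Z L) (hσ : σ ≠ 0) {C : X.IdealSheafData} (hC : IsIntegral C.subscheme)
    (hCd : topologicalKrullDim (C.support : Set X) = 1) (hZC : Z ≤ C) : σ ≫ qmapL hZC L ≠ 0 := by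
  classical
  haveI := EulerIneqLib.isNoetherian_proper (X := X) k
  intro h0
  obtain ⟨H, hH⟩ := exists_ample_of_smooth (k := k) (X := X) hdim
  let P : ℕ → Prop := fun n => ∃ (A B : X.IdealSheafData) (hAI : PicF.IsInvertible (ClSub.idealMod A)) (hle : Z ≤ B),
    FGA.IsEffCartier A ∧ FGA.IsEffCartier B ∧ Z = A * B ∧ B ≠ ⊤ ∧ σ ≫ qmapL hle L = 0 ∧
      (form k (cl hAI) (cl hH.1)).natAbs = n
  have hex : ∃ n, P n := by
    obtain ⟨A, hA, hAC⟩ := exists_eq_curve_mul k hdim hC hCd hZ (Scheme.IdealSheafData.support_antitone hZC)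
    refine ⟨_, A, C, (S8914.result _).2 hA, hZC, hA, (S8914.result _).1 (invertible_curve k hdim C hC hCd), ?_, ?_, h0, rfl⟩
    · rw [hAC]; ext U : 2
      rw [Scheme.IdealSheafData.ideal_mul, Scheme.IdealSheafData.ideal_mul, mul_comm]
    · rintro rfl
      haveI := hC
      obtain ⟨x⟩ : Nonempty ↥(⊤ : X.IdealSheafData).subscheme := inferInstance
      have hx : (⊤ : X.IdealSheafData).subschemeι x ∈ ((⊤ : X.IdealSheafData).support : Set X) :=
        Scheme.IdealSheafData.range_subschemeι (⊤ : X.IdealSheafData) ▸ Set.mem_range_self x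
      rw [Scheme.IdealSheafData.support_top] at hx
      exact hx
  obtain ⟨A, B, hAI, hle, hA, hB, hZAB, hBne, hσB, hn⟩ := Nat.find_spec hex
  have hAne : A ≠ ⊤ := by
    rintro rfl
    rw [eq_top_of_le_mul] at hZAB
    subst hZAB
    rw [qmapL_refl, Category.comp_id] at hσB
    exact hσ hσB
  have hBI : PicF.IsInvertible (ClSub.idealMod B) := (S8914.result _).2 hB
  have key : ∀ D : X.IdealSheafData, IsIntegral D.subscheme → topologicalKrullDim (D.support : Set X) = 1 →
      (D.support : Set X) ⊆ (A.support : Set X) → 0 ≤ pairing k (ClSub.quotMod D) (cl hBI) := by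
    intro D hD hDd hDs
    obtain ⟨A', hA', hAD⟩ := exists_eq_curve_mul k hdim hD hDd hA hDs
    have hDB : FGA.IsEffCartier (D * B) :=
      BlowCompLib.isEffCartier_mul ((S8914.result _).1 (invertible_curve k hdim D hD hDd)) hB
    have hZeq : Z = A' * (D * B) := by
      rw [hZAB, hAD]
      ext U : 2
      simp only [Scheme.IdealSheafData.ideal_mul, Pi.mul_apply]
      ring
    have hle' : Z ≤ D * B := hZeq.le.trans (mul_le_right' _ _)
    have hne0 : σ ≫ qmapL hle' L ≠ 0 := by
      intro h'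
      subst hAD
      have hlt := natAbs_lt k hdim hH hD hDd hA' ((S8914.result _).2 hA') hAI
      refine Nat.find_min hex (hn ▸ hlt) ⟨A', D * B, _, hle', hA', hDB, hZeq, ?_, h', rfl⟩
      intro htop
      refine hBne (top_le_iff.1 (htop.ge.trans (mul_le_right' _ _)))
    have hz : (σ ≫ qmapL hle' L) ≫ qmapL (mul_le_right' D B) L = 0 := by
      rw [Category.assoc, qmapL_trans]; exact hσB
    let τ := kernel.lift (qmapL (mul_le_right' D B) L) _ hz ≫ (peelIso (C := D) (B := B) hL).inv
    have hτ : τ ≠ 0 := fun h' => hne0 <| by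
      rw [← kernel.lift_ι (qmapL (mul_le_right' D B) L) _ hz,
        show kernel.lift (qmapL (mul_le_right' D B) L) _ hz = τ ≫ (peelIso (C := D) (B := B) hL).hom from by simp [τ],
        h', zero_comp, zero_comp]
    have hM := AmpleLib.isInvertible_tensor hBI hL
    by_contra hneg
    push Not at hneg
    have hL0 := hdeg D hD hDd (hZeq.le.trans ((mul_le_right' _ _).trans (mul_le_left' _ _)))
    rw [← Nakai.pairing_cl k (ClSub.quotMod D) hL] at hL0
    have hDI := invertible_curve k hdim D hD hDd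
    have hsum : pairing k (ClSub.quotMod D) (cl hM) = pairing k (ClSub.quotMod D) (cl hBI) + pairing k (ClSub.quotMod D) (cl hL) := by
      have h2 := form_congr k hdim (u := cl hM) (w := cl hBI + cl hL) (by
        rw [cl_tensor hBI hL, add_sub_cancel_left, pow_two]
        exact Ideal.mul_mem_mul (cl_mem _) (cl_mem _)) (cl_mem hDI)
      rw [form_add_left, form_comm k (cl hM), form_comm k (cl hBI), form_comm k (cl hL)] at h2
      rw [pairing_quotMod_cl k hDI, pairing_quotMod_cl k hDI, pairing_quotMod_cl k hDI, h2]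
      ring
    have hlt : pairing k (ClSub.quotMod D) (cl hM) < 0 := by linarith
    rw [Nakai.pairing_cl] at hlt
    have h00 := curve_twist_neg k hD hDd hM hlt
    exact (finrank_pos_of_hom k (CliffCurveLib.isCoh_LJ (X := X) hM D) hτ).ne' h00
  have h := pairing_nonneg_of_curves k hdim (cl_mem hBI) hA hAI key
  have := hnc A B hA hB hAne hBne hZAB
  rw [intNum_eq_form k hdim.le hAI hBI] at this
  omega


omit [IsAlgClosed k] in
include k in
/-- Every point of a divisor lies on a curve in it. -/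
theorem exists_curve_through (hdim : topologicalKrullDim X = 2) {A : X.IdealSheafData} (hA : FGA.IsEffCartier A)
    {x : X} (hx : x ∈ A.support) : ∃ C : X.IdealSheafData, IsIntegral C.subscheme ∧
      topologicalKrullDim (C.support : Set X) = 1 ∧ x ∈ C.support ∧ A ≤ C := by
  obtain ⟨H, hH⟩ := exists_ample_of_smooth (k := k) (X := X) hdim
  induction hn : (form k (cl ((S8914.result A).2 hA)) (cl hH.1)).natAbs using Nat.strong_induction_on generalizing A with
  | _ n ih =>
    have hne : A ≠ ⊤ := by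
      rintro rfl
      rw [Scheme.IdealSheafData.support_top] at hx
      exact hx
    obtain ⟨C, hC, hCd, hCs⟩ := exists_curve_in k hdim hA hne
    obtain ⟨A', hA', rfl⟩ := exists_eq_curve_mul k hdim hC hCd hA hCs
    rw [Scheme.IdealSheafData.support_mul] at hx
    rcases hx with hx | hx
    · exact ⟨C, hC, hCd, hx, mul_le_left' _ _⟩
    · obtain ⟨D, hD, hDd, hxD, hle⟩ := ih _ (hn ▸ natAbs_lt k hdim hH hC hCd hA' ((S8914.result A').2 hA') _) hA' hx rfl
      exact ⟨D, hD, hDd, hxD, (mul_le_right' _ _).trans hle⟩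

/-- Sections of a twist of degree at most zero on a numerically connected divisor. -/
theorem numConn_twist (hdim : topologicalKrullDim X = 2) {Z : X.IdealSheafData} (hZ : FGA.IsEffCartier Z) (hZ0 : Z ≠ ⊤)
    (hnc : ∀ Z₁ Z₂ : X.IdealSheafData, FGA.IsEffCartier Z₁ → FGA.IsEffCartier Z₂ → Z₁ ≠ ⊤ → Z₂ ≠ ⊤ →
      Z = Z₁ * Z₂ → 0 < FGA.intNum k X 2 ![(ClSub.idealMod Z₁), (ClSub.idealMod Z₂)] (Coh.structureModule X))
    {L : X.Modules} (hL : PicF.IsInvertible L)
    (hdeg : ∀ C : X.IdealSheafData, IsIntegral C.subscheme → topologicalKrullDim (C.support : Set X) = 1 → Z ≤ C →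
      Curv2.euler k X (CohB1.tensorMod (ClSub.quotMod C) L) - Curv2.euler k X (ClSub.quotMod C) ≤ 0) :
    Module.finrank k (Coh.HH X (CohB1.tensorMod (ClSub.quotMod Z) L) 0) ≤ 1 ∧
      (Module.finrank k (Coh.HH X (CohB1.tensorMod (ClSub.quotMod Z) L) 0) = 1 →
        Nonempty (CohB1.tensorMod (ClSub.quotMod Z) L ≅ ClSub.quotMod Z)) := by
  haveI := EulerIneqLib.isNoetherian_proper (X := X) k
  have hne := fun σ hσ C hC hCd hZC => restrict_ne_zero k hdim hZ hnc hL hdeg σ hσ (C := C) hC hCd hZC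
  obtain ⟨C, hC, hCd, hCs⟩ := exists_curve_in k hdim hZ hZ0
  obtain ⟨B, hB, hZB⟩ := exists_eq_curve_mul k hdim hC hCd hZ hCs
  have hZC : Z ≤ C := hZB.le.trans (mul_le_left' _ _)
  haveI := EulerIneqLib.finite_HH (k := k) (CliffCurveLib.isCoh_LJ (X := X) hL C) 0
  refine ⟨le_trans (LinearMap.finrank_le_finrank_of_injective (f := CurveLib.hMap (k := k) (qmapL hZC L) 0) ?_)
    (curve_twist k hC hCd hL (hdeg C hC hCd hZC)).1, fun h1 => ?_⟩
  · refine (injective_iff_map_eq_zero _).2 fun c hc => ?_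
    by_contra hc0
    refine hne _ (CurveLib.secHom_secOf_ne_zero _ hc0) C hC hCd hZC ?_
    have h : CurveLib.secOf (LJ C L) 0 = (qmapL hZC L).app ⊤ (CurveLib.secOf (LJ Z L) c) :=
      (congrArg (CurveLib.secOf (LJ C L)) hc).symm.trans (CurveLib.secOf_hMap (k := k) (qmapL hZC L) c)
    rw [map_zero] at h
    rw [← AmpleLib.secHom_sec (DCohLib.secHom (LJ Z L) (CurveLib.secOf (LJ Z L) c) ≫ qmapL hZC L),
      ← AmpleLib.secHom_sec (0 : Coh.structureModule X ⟶ LJ C L)]
    refine congrArg _ ?_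
    show (qmapL hZC L).app ⊤ ((DCohLib.secHom (LJ Z L) (CurveLib.secOf (LJ Z L) c)).app ⊤ (1 : Γ(X, ⊤))) = _
    rw [show (DCohLib.secHom (LJ Z L) (CurveLib.secOf (LJ Z L) c)).app ⊤ (1 : Γ(X, ⊤)) = CurveLib.secOf (LJ Z L) c from
      AmpleLib.sec_secHom _, ← h]
    rfl
  haveI : Nontrivial (Coh.HH X (LJ Z L) 0) := Module.nontrivial_of_finrank_pos (R := k) (show 0 < _ from h1.symm ▸ zero_lt_one)
  obtain ⟨σ, hσ⟩ := CurveLib.exists_hom_ne_zero (LJ Z L)
  have hsurj : ∀ x, Function.Surjective (stalkLin σ x) := fun x => by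
    by_cases hx : x ∈ Z.support
    swap
    · exact surjective_of_notMem_supportL hL hx σ
    obtain ⟨D, hD, hDd, hxD, hle⟩ := exists_curve_through k hdim hZ hx
    refine surjective_of_qmapL hL hle hxD σ ?_
    haveI := hD
    obtain ⟨⟨θ⟩, -⟩ := (curve_twist k hD hDd hL (hdeg D hD hDd hle)).2
      (finrank_pos_of_hom k (CliffCurveLib.isCoh_LJ (X := X) hL D) (hne σ hσ D hD hDd hle))
    have hconn : _root_.IsConnected (D.support : Set X) := by
      rw [← Scheme.IdealSheafData.range_subschemeι]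
      exact isConnected_range D.subschemeι.continuous
    have hf : FieldLike (Scheme.IdealSheafData.vanishingIdeal D.support) := fieldLike_vanishingIdeal (k := k) D.support hconn
    rw [Scheme.IdealSheafData.vanishingIdeal_support, radical_eq_self] at hf
    have h := hf ((σ ≫ qmapL hle L) ≫ θ.hom) (fun h' => hne σ hσ D hD hDd hle (by
      rwa [← cancel_mono θ.hom, zero_comp])) x
    intro z
    obtain ⟨w, hw⟩ := h (stalkLin θ.hom x z)
    refine ⟨w, (mono_iff_stalk θ.hom).1 inferInstance x ?_⟩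
    exact ((LinearMap.congr_fun (stalkLin_comp (σ ≫ qmapL hle L) θ.hom x) w).symm.trans hw)
  -- `σ` identifies `O/Z` with the twist
  have hker : kernel.ι (ClSub.toSubscheme Z) ≫ σ = 0 := by
    refine hom_ext_stalk fun x => LinearMap.ext fun m => ?_
    obtain ⟨r, hr⟩ := (ParaFLib.bijective_oneG x).2 (stalkLin (kernel.ι (ClSub.toSubscheme Z)) x m)
    rw [stalkLin_comp, LinearMap.comp_apply, DevLib.stalkLin_zero, LinearMap.zero_apply, ← hr]
    refine (map_smul (stalkLin σ x) r _).trans ?_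
    exact CliffCurveLib.killed_LJ hL Z x r ((HilbObsLib.mem_range_idealModι Z x r).1 ⟨m, hr.symm⟩) _
  haveI : Epi (ClSub.toSubscheme Z) := HilbObsLib.epi_toSubscheme Z
  let φ := Abelian.epiDesc (ClSub.toSubscheme Z) σ hker
  have hφ : ∀ x r, stalkLin φ x (qv Z x r) = r • stalkLin σ x (ParaFLib.oneG x) := fun x r => by
    rw [qv, ← LinearMap.comp_apply, ← stalkLin_comp, Abelian.comp_epiDesc, map_smul]
  haveI : IsIso φ := by
    refine (isIso_iff_stalk φ).2 fun x => ⟨?_, fun z => ?_⟩
    · rw [injective_iff_map_eq_zero]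
      intro w hw
      obtain ⟨r, rfl⟩ := qv_surjective Z x w
      rw [hφ] at hw
      obtain ⟨e, he⟩ := ParaFLib.exists_stalk_gen hL x
      obtain ⟨u, hu⟩ := tq_surjective he Z (stalkLin σ x (ParaFLib.oneG x))
      rw [← hu, tq_smul, tq_eq_zero_iff he] at hw
      refine (qv_eq_zero_iff Z x r).2 ?_
      by_cases hx : x ∈ Z.support
      · exact (Ideal.mul_unit_mem_iff_mem _ ((surjective_iff_isUnitL he hx σ hu.symm).1 (hsurj x))).1 hw
      · rw [IdealMulLib.stalkIdeal_eq_top _ hx]; trivial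
    · obtain ⟨w, rfl⟩ := hsurj x z
      obtain ⟨r, rfl⟩ := (ParaFLib.bijective_oneG x).2 w
      exact ⟨qv Z x r, (hφ x r).trans (map_smul _ _ _).symm⟩
  exact ⟨(asIso φ).symm⟩

end Groth.Agent.TwistShriek
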