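import Groth.Agent.TwistShriek.DualizingProper
import Groth.Agent.S2720
import Groth.Agent.DualCxLib.GorSchMain

/-!
# Dualizing complexes and proper morphisms
-/

set_option autoImplicit false
set_option linter.style.haveILetI false
set_option linter.unusedSectionVars false
set_option backward.isDefEq.respectTransparency false
set_option maxHeartbeats 1000000
set_option maxRecDepth 4000

universe u

open CategoryTheory CategoryTheory.Limits AlgebraicGeometry
open Groth.Agent.DCohLib

attribute [local instance] HasDerivedCategory.standard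

noncomputable section

namespace Groth.Agent.TwistShriek

open Groth.Agent.DualCxLib

theorem isCoh_opensRange {U Z : Scheme.{u}} (j : U ⟶ Z) [IsOpenImmersion j] (M : Z.Modules)
    (h : Coh.IsCoh ((Scheme.Modules.restrictFunctor j).obj M)) :
    Coh.IsCoh ((Scheme.Modules.restrictFunctor j.opensRange.ι).obj M) := by
  have w : j.opensRange.ι = j.isoOpensRange.inv ≫ j := by
    rw [Iso.eq_inv_comp]
    exact j.isoOpensRange_hom_ι
  let N := (Scheme.Modules.restrictFunctor j).obj M
  have hN : Coh.IsCoh ((Scheme.Modules.restrictFunctor j.isoOpensRange.inv).obj N) := by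
    haveI : N.IsQuasicoherent := h.1
    exact ⟨Scheme.Modules.isQuasicoherent_restrictFunctor _ _, DCohMore.isFT_restrictFunctor _ h.2⟩
  exact TildeOpenLib.isCoh_of_iso' (((Scheme.Modules.restrictFunctorComp j.isoOpensRange.inv j).app M).symm ≪≫
    (Scheme.Modules.restrictFunctorCongr w).symm.app M) hN

variable {Y : Scheme.{u}} [∀ (U : Scheme.{u}) (j : U ⟶ Y) [IsOpenImmersion j], PreservesFiniteLimits (Scheme.Modules.restrictFunctor j)]
  [∀ (R : CommRingCat.{u}), PreservesFiniteLimits (tilde.functor R)]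

/-- A dualizing complex on a quasi-compact locally Noetherian scheme is bounded below and coherent. -/
theorem bddCoh_of_isDualizingSch [IsLocallyNoetherian Y] [CompactSpace Y] {K : DCoh.D Y} (hK : Dual2.IsDualizingSch Y K) :
    BddCoh K := by
  classical
  choose A hA j hj p hp using fun y : Y => exists_affine_point Y y
  choose ω hω e using fun y => @hK (A y) (hA y) (j y) (hj y)
  have hnoe : ∀ y, @IsNoetherianRing (A y) _ := fun y => (hω y).isNoetherianRing
  constructor
  · intro i
    refine isCoh_of_local fun y => ?_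
    haveI := hj y
    haveI := hnoe y
    let T := CommRingCat.of (A y)
    haveI : IsNoetherianRing T := hnoe y
    haveI : (tilde.functor T).Additive := TildeKFlat.additive_til T
    haveI : PreservesFiniteColimits (tilde.functor T) := by
      haveI : PreservesColimitsOfSize.{0, 0} (tilde.functor T) :=
        (tilde.adjunction (R := T)).leftAdjoint_preservesColimits
      exact PreservesColimitsOfSize.preservesFiniteColimits _
    let eH : (tilde.functor T).obj ((DerivedCategory.homologyFunctor (ModuleCat.{u} T) i).obj (ω y)) ≅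
        (Scheme.Modules.restrictFunctor (j y)).obj (DCoh.HD K i) :=
      ((TildeD.nu (tilde.functor T) i).app (ω y)).symm ≪≫
        (DerivedCategory.homologyFunctor _ i).mapIso (e y).some.symm ≪≫ restrictHDIso (j y) _ i
    haveI : Module.Finite T ((DerivedCategory.homologyFunctor (ModuleCat.{u} T) i).obj (ω y)) :=
      (hω y).finite_cohomology i
    have h1 : Coh.IsCoh ((Scheme.Modules.restrictFunctor (j y)).obj (DCoh.HD K i)) :=
      isCoh_iso eH (S2720.isCoh_tilde' _)
    exact ⟨(j y).opensRange, ⟨p y, hp y⟩, isCoh_opensRange (j y) _ h1⟩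
  · obtain ⟨t, ht⟩ := isCompact_univ.elim_finite_subcover (fun y => ((j y).opensRange : Set Y))
      (fun y => (j y).opensRange.isOpen) fun y _ => Set.mem_iUnion.2 ⟨y, ⟨p y, hp y⟩⟩
    obtain ⟨c, hc⟩ := (t.image fun y => (model (hω y)).a).bddBelow
    refine ⟨c, (DerivedCategory.isGE_iff _ _).2 fun i hi => isZero_of_stalks fun z => ?_⟩
    obtain ⟨y, hy, q, rfl⟩ := Set.mem_iUnion₂.1 (ht (Set.mem_univ z))
    haveI := hj y
    refine not_nontrivial_iff_subsingleton.1 fun h => ?_
    have h2 := (nontrivial_stalk_HD_iff (j y) (e y).some q i).1 h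
    haveI := (model (hω y)).isGE
    haveI : Subsingleton ((DerivedCategory.homologyFunctor (ModuleCat.{u} (A y)) i).obj (ω y)) :=
      ModuleCat.subsingleton_of_isZero (DerivedCategory.isZero_of_isGE _ (model (hω y)).a i
        (lt_of_lt_of_le hi (hc (Finset.mem_image_of_mem _ hy))))
    exact (Module.mem_support_iff.1 h2 |> not_subsingleton_iff_nontrivial.2) inferInstance

variable {X : Scheme.{u}} [IsNoetherian Y] (f : X ⟶ Y) [IsProper f] [CompactSpace X] [QuasiSeparatedSpace X]
  [IsLocallyNoetherian X] [DCoh.HasRpush f] (hf : DCoh.RpushPreservesQCoh f)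
  (a : DCoh.DQCoh Y ⥤ DCoh.DQCoh X) (adj : DCoh.RpushQ f hf ⊣ a)
  [∀ (U : Scheme.{u}) (j : U ⟶ X) [IsOpenImmersion j], PreservesFiniteLimits (Scheme.Modules.restrictFunctor j)]

include f in
/-- Affine opens of a scheme proper over a scheme with a dualizing complex have finite dimension. -/
theorem ringKrullDim_lt_top_of_proper {K : DCoh.D Y} (hK : Dual2.IsDualizingSch Y K)
    (A : Type u) [CommRing A] (j : Spec (CommRingCat.of A) ⟶ X) [IsOpenImmersion j] : ringKrullDim A < ⊤ := by
  classical
  have hloc : ∀ x : X, ∃ (U : X.Opens) (d : ℕ), x ∈ U ∧ IsAffineOpen U ∧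
      ∀ l : LTSeries (PrimeSpectrum Γ(X, U)), l.length ≤ d := fun x => by
    obtain ⟨V, hV, hyV, -⟩ := exists_isAffineOpen_mem_and_subset (X := Y) (x := f x) (U := ⊤) trivial
    obtain ⟨U, hU, hxU, hUV⟩ := exists_isAffineOpen_mem_and_subset (X := X) (x := x) (U := f ⁻¹ᵁ V) hyV
    haveI : IsOpenImmersion hV.fromSpec := inferInstance
    obtain ⟨ωA, hωA, -⟩ := hK Γ(Y, V) hV.fromSpec
    haveI := hωA.isNoetherianRing
    letI : Algebra Γ(Y, V) Γ(X, U) := (f.appLE V U hUV).hom.toAlgebra
    haveI : Algebra.FiniteType Γ(Y, V) Γ(X, U) := f.finiteType_appLE hV hU hUV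
    obtain ⟨n, g, hg⟩ := Algebra.FiniteType.iff_quotient_mvPolynomial''.1 this
    obtain ⟨k, hk⟩ : ∃ k : ℕ, ringKrullDim Γ(Y, V) ≤ (k : ℕ) := by
      have h := ringKrullDim_lt_top' hωA
      generalize ringKrullDim Γ(Y, V) = x at h
      induction x using WithBot.recBotCoe with
      | bot => exact ⟨0, bot_le⟩
      | coe x =>
        obtain ⟨k, hk⟩ := ENat.ne_top_iff_exists.1 (WithBot.coe_lt_coe.1 h).ne
        exact ⟨k, by rw [← hk]; rfl⟩
    refine ⟨U, k + n, hxU, hU, fun l => ?_⟩
    have h1 : ringKrullDim Γ(X, U) ≤ (k : WithBot ℕ∞) + n := by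
      refine (ringKrullDim_le_of_surjective g.toRingHom hg).trans ?_
      rw [MvPolynomial.ringKrullDim_of_isNoetherianRing, Nat.card_fin]
      exact add_le_add hk le_rfl
    have h2 := (Order.LTSeries.length_le_krullDim l).trans h1
    exact_mod_cast h2
  choose U d hxU hU hd using hloc
  obtain ⟨t, ht⟩ := isCompact_univ.elim_finite_subcover (fun x => (U x : Set X)) (fun x => (U x).isOpen)
    fun x _ => Set.mem_iUnion.2 ⟨x, hxU x⟩
  refine lt_of_le_of_lt (b := ((t.sup d : ℕ) : WithBot ℕ∞)) ?_ (WithBot.coe_lt_coe.2 (ENat.natCast_lt_top _))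
  rw [ringKrullDim, Order.krullDim]
  refine iSup_le fun l => ?_
  obtain ⟨x, hx, hxl⟩ := Set.mem_iUnion₂.1 (ht (Set.mem_univ (j l.last)))
  let u := (hU x).fromSpec
  have hrange : ∀ i : Fin (l.length + 1), ∃ q : PrimeSpectrum Γ(X, U x), u q = j (l i) := fun i => by
    have h1 : (l i : PrimeSpectrum A) ⤳ l.last :=
      (PrimeSpectrum.le_iff_specializes _ _).1 (l.monotone (Fin.le_last i))
    have h2 : j (l i) ∈ U x := (h1.map j.continuous).mem_open (U x).isOpen hxl
    exact (show j (l i) ∈ Set.range u by rw [(hU x).range_fromSpec]; exact h2)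
  choose q hq using hrange
  have hmono : StrictMono q := fun i i' hii => by
    have h1 : (l i : PrimeSpectrum A) ⤳ l i' := (PrimeSpectrum.le_iff_specializes _ _).1 (l.strictMono hii).le
    refine lt_of_le_of_ne ((PrimeSpectrum.le_iff_specializes _ _).2 ?_) fun h => (l.strictMono hii).ne ?_
    · rw [← u.isOpenEmbedding.isInducing.specializes_iff, hq, hq]
      exact h1.map j.continuous
    · exact j.isOpenEmbedding.injective ((hq i).symm.trans ((congrArg u h).trans (hq i')))
  let l' : LTSeries (PrimeSpectrum Γ(X, U x)) := LTSeries.mk l.length q hmono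
  exact_mod_cast (hd x l').trans (Finset.le_sup (f := d) hx)

include adj in
/-- The right adjoint of a proper direct image preserves dualizing complexes. -/
theorem isDualizingSch_rightAdjoint (K : DCoh.DQCoh Y) (hK : Dual2.IsDualizingSch Y K.obj) :
    Dual2.IsDualizingSch X (a.obj K).obj := by
  have hKb := bddCoh_of_isDualizingSch hK
  obtain ⟨N, hN⟩ := DQCohBrown.exists_bound_rightAdjoint f hf a adj
  obtain ⟨-, c₀, hc₀⟩ := hKb
  haveI : (a.obj K).obj.IsGE (c₀ - 1 - N + 1) := (DerivedCategory.isGE_iff _ _).2 fun i hi =>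
    hN K (c₀ - 1) (fun k hk => DerivedCategory.isZero_of_isGE K.obj c₀ k (by omega)) i (by omega)
  refine isDualizingSch_of_goodAt _ (isCohD_rightAdjoint f hf a adj K (bddCoh_of_isDualizingSch hK))
    (c₀ - 1 - N + 1) (fun x => ?_) (fun A _ j _ => ringKrullDim_lt_top_of_proper f hK A j)
  obtain ⟨x₀, hx₀, hcl⟩ := isClosed_closure.exists_closed_singleton (S := closure ({x} : Set X))
    ⟨x, subset_closure rfl⟩
  exact (goodAt_closed f hf a adj K hK (bddCoh_of_isDualizingSch hK) (c₀ - 1 - N + 1) x₀ hcl).of_specializes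
    (specializes_iff_mem_closure.2 hx₀)

end Groth.Agent.TwistShriek
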