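import Groth.Agent.TwistShriek.DualizingStalkMod
import Groth.Agent.TwistShriek.DualizingMain
import Groth.Agent.DualCxLib.TopDeg
import Groth.Agent.DualCxLib.Ann

/-!
# The lowest cohomology sheaf of a dualizing complex
-/

set_option autoImplicit false
set_option linter.style.haveILetI false
set_option linter.unusedSectionVars false
set_option backward.isDefEq.respectTransparency false
set_option maxHeartbeats 1000000

universe u

open CategoryTheory CategoryTheory.Limits AlgebraicGeometry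
open Groth.Agent.DCohLib Groth.Agent.DRingLib

attribute [local instance] HasDerivedCategory.standard

noncomputable section

namespace Groth.Agent.TwistShriek

open Groth.Agent.DualCxLib

variable {X : Scheme.{u}}
  [∀ (U : Scheme.{u}) (j : U ⟶ X) [IsOpenImmersion j], PreservesFiniteLimits (Scheme.Modules.restrictFunctor j)]
  [∀ (R : CommRingCat.{u}), PreservesFiniteLimits (tilde.functor R)] [IsLocallyNoetherian X]

/-- The local dualizing complex at a point. -/
theorem exists_local_dualizing {K : DCoh.D X} (hK : Dual2.IsDualizingSch X K) (x : X) :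
    ∃ Ω : Dual.D (X.presheaf.stalk x), Dual.IsDualizing (X.presheaf.stalk x) Ω ∧
      ∀ i : ℤ, Nonempty (Dual.HD (X.presheaf.stalk x) Ω i ≃ₗ[X.presheaf.stalk x] (DCoh.HD K i).presheaf.stalk x) := by
  obtain ⟨_, ⟨V : X.Opens, hV, rfl⟩, hx, -⟩ :=
    X.isBasis_affineOpens.exists_subset_of_mem_open (a := x) (Set.mem_univ _) isOpen_univ
  let A := Γ(X, V)
  let j : Spec (CommRingCat.of A) ⟶ X := hV.fromSpec
  haveI : IsOpenImmersion j := inferInstanceAs (IsOpenImmersion hV.fromSpec)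
  haveI : IsNoetherianRing A := isNoetherianRing_of_isOpenImmersion j
  obtain ⟨ω, hω, ⟨e⟩⟩ := hK A j
  obtain ⟨p, rfl⟩ : ∃ p : PrimeSpectrum A, j p = x :=
    ⟨hV.primeIdealOf ⟨x, hx⟩, hV.fromSpec_primeIdealOf ⟨x, hx⟩⟩
  letI : Algebra A (X.presheaf.stalk (j p)) := (chartToStalk j p).toAlgebra
  haveI : IsLocalization.AtPrime (X.presheaf.stalk (j p)) p.asIdeal := isLocalization_chartToStalk j p
  haveI : DRing.HasLBaseChange (algebraMap A (X.presheaf.stalk (j p))) := DRingLib.hasLBaseChange _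
  haveI : DRing.HasLBaseChange (chartToStalk j p) :=
    inferInstanceAs (DRing.HasLBaseChange (algebraMap A (X.presheaf.stalk (j p))))
  exact ⟨(DRing.LBaseChange (chartToStalk j p)).obj ω,
    isDualizing_lbc p.asIdeal.primeCompl (X.presheaf.stalk (j p)) hω,
    fun i => exists_stalk_HD_equiv j e p i⟩

/-- Below the lowest cohomological degree of `K` there is no point. -/
theorem le_dfn_of_isZero {K : DCoh.D X} (x : X) {Ω : Dual.D (X.presheaf.stalk x)}
    (hΩ : Dual.IsDualizing (X.presheaf.stalk x) Ω)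
    (he : ∀ i : ℤ, Nonempty (Dual.HD (X.presheaf.stalk x) Ω i ≃ₗ[X.presheaf.stalk x] (DCoh.HD K i).presheaf.stalk x))
    {n : ℤ} (hlt : ∀ i : ℤ, i < n → IsZero (DCoh.HD K i)) (Q : PrimeSpectrum (X.presheaf.stalk x)) :
    n ≤ dfn hΩ Q := by
  haveI := hΩ.isNoetherianRing
  obtain ⟨P, hP, hPQ⟩ := Ideal.exists_minimalPrimes_le (I := ⊥) (J := Q.asIdeal) bot_le
  haveI : P.IsPrime := Ideal.minimalPrimes_isPrime hP
  refine le_trans ?_ (dfn_le hΩ (show (⟨P, ‹_›⟩ : PrimeSpectrum _) ≤ Q from hPQ))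
  by_contra hc
  have h := (not_zeroAt_HD_iff hΩ P _).2 ((not_zeroAt_unit_iff hΩ ⟨P, ‹_›⟩ hP _).2 rfl)
  obtain ⟨e⟩ := he (dfn hΩ ⟨P, ‹_›⟩)
  refine h (fun m => ⟨1, fun h1 => ‹P.IsPrime›.ne_top ((Ideal.eq_top_iff_one P).2 h1), ?_⟩)
  rw [one_smul]
  refine e.injective ?_
  rw [map_zero]
  haveI : Subsingleton ((DCoh.HD K (dfn hΩ ⟨P, ‹_›⟩)).presheaf.stalk x) :=
    AddCommGrpCat.subsingleton_of_isZero ((Scheme.Modules.toPresheaf X ⋙
      TopCat.Presheaf.stalkFunctor AddCommGrpCat.{u} x).map_isZero (hlt _ (by omega)))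
  exact Subsingleton.elim _ _

/-- The lowest cohomology sheaf satisfies `(S₂)`. -/
theorem hasSk_two_lowest {K : DCoh.D X} (hK : Dual2.IsDualizingSch X K) {n : ℤ}
    (hlt : ∀ i : ℤ, i < n → IsZero (DCoh.HD K i)) (x : X) :
    LocCoh.HasSk 2 (X.presheaf.stalk x) ((DCoh.HD K n).presheaf.stalk x) := by
  obtain ⟨Ω, hΩ, he⟩ := exists_local_dualizing hK x
  haveI := hΩ.isNoetherianRing
  obtain ⟨e⟩ := he n
  obtain ⟨e'⟩ := (model hΩ).nonempty_HD_equiv n
  exact hasSk_two hΩ (le_dfn_of_isZero x hΩ he hlt) _ (e'.trans e)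

/-- The lowest cohomology sheaf has no torsion at a point with a domain as local ring. -/
theorem isSMulRegular_lowest {K : DCoh.D X} (hK : Dual2.IsDualizingSch X K) {n : ℤ}
    (hlt : ∀ i : ℤ, i < n → IsZero (DCoh.HD K i)) (x : X) [IsDomain (X.presheaf.stalk x)]
    (r : X.presheaf.stalk x) (hr : r ≠ 0) : IsSMulRegular ((DCoh.HD K n).presheaf.stalk x) r := by
  obtain ⟨Ω, hΩ, he⟩ := exists_local_dualizing hK x
  haveI := hΩ.isNoetherianRing
  obtain ⟨e⟩ := he n
  obtain ⟨e'⟩ := (model hΩ).nonempty_HD_equiv n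
  have hlo := le_dfn_of_isZero x hΩ he hlt
  refine ((e'.trans e).isSMulRegular_congr r).1
    (exists_top_regular hΩ (X.presheaf.stalk x) (fun Q _ => hlo Q) fun Q _ hQ => ?_).1
  have hlt' : (⊥ : PrimeSpectrum (X.presheaf.stalk x)) < Q := by
    refine lt_of_le_of_ne bot_le fun he' => hr ?_
    rw [← he'] at hQ
    exact hQ
  exact (hlo ⊥).trans_lt (dfn_lt hΩ hlt')

end Groth.Agent.TwistShriek
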