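import Groth.Agent.DCohLib.CompactB
import Groth.Agent.DCohLib.RpushTri
import Groth.Agent.DCohMore.RpushSum
import Groth.Agent.ZClosLib.Basic
import Groth.Agent.KoszShLib.Resolution

/-!
# Derived direct images and direct sums of uniformly bounded below families
-/

set_option autoImplicit false
set_option linter.style.haveILetI false
set_option backward.isDefEq.respectTransparency false
set_option maxHeartbeats 1000000

universe u

open CategoryTheory CategoryTheory.Limits AlgebraicGeometry
open Groth.Agent.DCohLib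

attribute [local instance] HasDerivedCategory.standard

noncomputable section

namespace Groth.Agent.TwistShriek

variable {X S : Scheme.{u}}

/-- Direct images along quasi-compact morphisms commute with direct sums of modules. -/
theorem isIso_sigmaComparison_pushforward (f : X ⟶ S) [QuasiCompact f] {I : Type u} (F : I → X.Modules) :
    IsIso (sigmaComparison (Scheme.Modules.pushforward f) F) := by
  classical
  let P := Scheme.Modules.pushforward f
  let hX := coproductIsCoproduct F
  let hS := coproductIsCoproduct fun i => P.obj (F i)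
  let a := sigmaComparison P F
  have ha : ∀ i, Sigma.ι (fun i => P.obj (F i)) i ≫ a = P.map (Sigma.ι F i) := fun i =>
    ι_comp_sigmaComparison P F i
  let b : Finset I → (P.obj (∐ F) ⟶ ∐ fun i => P.obj (F i)) := fun T =>
    ∑ i ∈ T, P.map (sigmaProj hX i) ≫ Sigma.ι (fun i => P.obj (F i)) i
  have h1 : ∀ T, b T ≫ a = P.map (sigmaTrunc hX T) := fun T => by
    simp only [b, Preadditive.sum_comp, Category.assoc, ha, sigmaTrunc, Functor.map_sum, Functor.map_comp]
    rfl
  have h2 : ∀ T, a ≫ b T = sigmaTrunc hS T := fun T => by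
    simp only [b, Preadditive.comp_sum, sigmaTrunc]
    refine Finset.sum_congr rfl fun i _ => ?_
    rw [← Category.assoc]
    refine congrArg (· ≫ _) (Sigma.hom_ext _ _ fun j => ?_)
    rw [← Category.assoc, ha, ← Functor.map_comp]
    by_cases hji : j = i
    · subst hji
      have g1 := inj_sigmaProj_self hX j
      have g2 := inj_sigmaProj_self hS j
      simp only [cofan_mk_inj] at g1 g2
      rw [g1, g2]
      exact CategoryTheory.Functor.map_id _ _
    · have g1 := inj_sigmaProj_ne hX hji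
      have g2 := inj_sigmaProj_ne hS hji
      simp only [cofan_mk_inj] at g1 g2
      rw [g1, g2, Functor.map_zero]
  refine ZClosLib.isIso_of_bijective_affine _ fun U hU => ⟨?_, fun s => ?_⟩
  · rw [injective_iff_map_eq_zero]
    intro s hs
    obtain ⟨T, hT⟩ := exists_trunc_app hS U hU.isCompact s
    rw [← hT, ← h2, Scheme.Modules.Hom.comp_app]
    show (b T).app U (a.app U s) = 0
    rw [show a.app U s = 0 from hs, map_zero]
  · obtain ⟨T, hT⟩ := exists_trunc_app hX (f ⁻¹ᵁ U)
      (f.isCompact_preimage hU.isCompact) s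
    refine ⟨(b T).app U s, ?_⟩
    show ((b T ≫ a).app U) s = s
    rw [h1]
    exact hT

/-- The direct image of a bounded below acyclic complex of qc-flasque modules is acyclic. -/
theorem acyclic_pushforward [QuasiSeparatedSpace X] (f : X ⟶ S) [QuasiCompact f] {C : CochainComplex X.Modules ℤ}
    (hC : C.Acyclic) (hq : ∀ n, QcFlasque (C.X n)) (a : ℤ) (ha : ∀ n, n < a → IsZero (C.X n)) :
    (((Scheme.Modules.pushforward f).mapHomologicalComplex (ComplexShape.up ℤ)).obj C).Acyclic := by
  intro m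
  obtain ⟨n, rfl⟩ : ∃ n, m = n + 1 := ⟨m - 1, by omega⟩
  rw [HomologicalComplex.exactAt_iff' _ n (n + 1) (n + 1 + 1) (by simp) (by simp)]
  refine KoszShLib.exact_of_affine_local _ fun W t ht x hx => ?_
  obtain ⟨_, ⟨V : S.Opens, hV, rfl⟩, hxV, hVW⟩ :=
    S.isBasis_affineOpens.exists_subset_of_mem_open hx W.2
  refine ⟨V, hVW, hxV, exists_boundary hC hq a ha (f ⁻¹ᵁ V)
    (f.isCompact_preimage hV.isCompact) n _ ?_⟩
  exact (DCohLib.app_natural ((((Scheme.Modules.pushforward f).mapHomologicalComplex (ComplexShape.up ℤ)).obj C).d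
    (n + 1) (n + 1 + 1)) hVW t).trans ((congrArg _ ht).trans (map_zero _))

variable (f : X ⟶ S) [QuasiCompact f] [QuasiSeparated f] [DCoh.HasRpush f] {I : Type u}

/-- Derived direct images commute with uniformly bounded below sums when the source is quasi-separated. -/
theorem isIso_sigmaComparison_rpush_of_qs [QuasiSeparatedSpace X] (K : I → DCoh.D X) (a : ℤ) (hK : ∀ i, (K i).IsGE a)
    [HasCoproduct K] [HasCoproduct fun i => (DCoh.Rpush f).obj (K i)] :
    IsIso (sigmaComparison (DCoh.Rpush f) K) := by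
  have h : ∀ i, ∃ F : CochainComplex X.Modules ℤ, (∀ n, Injective (F.X n)) ∧
      (∀ n, n < a → IsZero (F.X n)) ∧ Nonempty (K i ≅ DerivedCategory.Q.obj F) := fun i => by
    obtain ⟨P, hP, ⟨e⟩⟩ := @DerivedCategory.exists_iso_Q_obj_of_isGE _ _ _ _ (K i) a (hK i)
    haveI := hP
    obtain ⟨J, s, hs, hJ, hJa⟩ := CochainComplex.Plus.modelCategoryQuillen.exists_quasiIso_injective P a
    haveI := hJa
    haveI : IsIso (DerivedCategory.Q.map s) := (DerivedCategory.isIso_Q_map_iff_quasiIso (C := X.Modules) s).2 hs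
    exact ⟨J, hJ, fun n hn => J.isZero_of_isStrictlyGE a n hn, ⟨e ≪≫ asIso (DerivedCategory.Q.map s)⟩⟩
  choose F hinj hge he using h
  haveI : ∀ i, (F i).IsStrictlyGE a := fun i => (CochainComplex.isStrictlyGE_iff _ a).2 (hge i)
  haveI : ∀ i, (F i).IsKInjective := fun i => CochainComplex.isKInjective_of_injective (F i) a
  let eM := fun i => (he i).some
  let G := (Scheme.Modules.pushforward f).mapHomologicalComplex (ComplexShape.up ℤ)
  let c₀ : Cofan F := Cofan.mk (∐ F) (Sigma.ι F)
  let hc₀ : IsColimit c₀ := coproductIsCoproduct F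
  let hcn := fun k => isColimitCofanMkObjOfIsColimit (HomologicalComplex.eval X.Modules (ComplexShape.up ℤ) k) _ _ hc₀
  have hq : ∀ k, QcFlasque (c₀.pt.X k) := fun k =>
    qcFlasque_coproduct (hcn k) fun i => @qcFlasque_of_injective _ ((F i).X k) (hinj i k)
  have ha : ∀ k, k < a → IsZero (c₀.pt.X k) := fun k hk => (IsZero.iff_id_eq_zero _).2
    (Cofan.IsColimit.hom_ext (hcn k) _ _ fun i => (hge i k hk).eq_of_src _ _)
  haveI : c₀.pt.IsStrictlyGE a := (CochainComplex.isStrictlyGE_iff _ a).2 ha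
  obtain ⟨J, s, hs, hJ, hJa⟩ := CochainComplex.Plus.modelCategoryQuillen.exists_quasiIso_injective c₀.pt a
  haveI := hs; haveI := hJ; haveI := hJa
  haveI : J.IsKInjective := CochainComplex.isKInjective_of_injective J a
  haveI : IsIso (DerivedCategory.Q.map s) := (DerivedCategory.isIso_Q_map_iff_quasiIso (C := X.Modules) s).2 hs
  haveI : PreservesColimitsOfShape (Discrete I) (Scheme.Modules.pushforward f) := by
    haveI : ∀ M : I → X.Modules, PreservesColimit (Discrete.functor M) (Scheme.Modules.pushforward f) := fun M =>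
      haveI := isIso_sigmaComparison_pushforward f M
      PreservesCoproduct.of_iso_comparison _ M
    exact preservesColimitsOfShape_of_discrete _
  haveI : PreservesColimitsOfShape (Discrete I) G := by
    refine ⟨fun {D} => ⟨fun {c} hc => ⟨HomologicalComplex.isColimitOfEval _ _ fun k => ?_⟩⟩⟩
    exact isColimitOfPreserves (Scheme.Modules.pushforward f)
      (isColimitOfPreserves (HomologicalComplex.eval X.Modules (ComplexShape.up ℤ) k) hc)
  haveI : IsIso (DerivedCategory.Q.map (G.map s)) := by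
    rw [DerivedCategory.isIso_Q_map_iff_quasiIso]
    refine KFlat.quasiIso_of_acyclic_cone _ ?_
    have h := acyclic_pushforward f (KFlat.acyclic_cone_of_quasiIso s)
      (qcFlasque_cone s hq fun n => qcFlasque_of_injective _) (a - 1)
      (isZero_cone_X s a ha fun n hn => J.isZero_of_isStrictlyGE a n hn)
    exact fun n => (h n).of_iso (CochainComplex.mappingCone.mapHomologicalComplexIso s _)
  obtain ⟨hQ⟩ := nonempty_isColimit_Q K hc₀ eM
  let eR : ∀ i, (DCoh.Rpush f).obj (K i) ≅ DerivedCategory.Q.obj (G.obj (F i)) := fun i =>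
    (DCoh.Rpush f).mapIso (eM i) ≪≫ (rpushInjIso f (F i)).symm
  let c₁ : Cofan fun i => G.obj (F i) := Cofan.mk (G.obj (∐ F)) fun i => G.map (Sigma.ι F i)
  have hc₁ : IsColimit c₁ := isColimitCofanMkObjOfIsColimit G _ _ hc₀
  obtain ⟨hR⟩ := nonempty_isColimit_Q (fun i => (DCoh.Rpush f).obj (K i)) hc₁ eR
  haveI : PreservesColimit (Discrete.functor K) (DCoh.Rpush f) := by
    refine preservesColimit_of_preserves_colimit_cocone hQ
      ((isColimitMapCoconeCofanMkEquiv (DCoh.Rpush f) _ _).symm (IsColimit.ofIsoColimit hR ?_))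
    refine Cofan.ext (asIso (DerivedCategory.Q.map (G.map s)) ≪≫ rpushInjIso f J ≪≫
      ((DCoh.Rpush f).mapIso (asIso (DerivedCategory.Q.map s))).symm) fun i => ?_
    show ((eR i).hom ≫ DerivedCategory.Q.map (G.map (Sigma.ι F i))) ≫ DerivedCategory.Q.map (G.map s) ≫
        (rpushInjIso f J).hom ≫ (DCoh.Rpush f).map (inv (DerivedCategory.Q.map s)) =
      (DCoh.Rpush f).map ((eM i).hom ≫ DerivedCategory.Q.map (Sigma.ι F i))
    rw [Category.assoc, ← reassoc_of% DerivedCategory.Q.map_comp, ← G.map_comp,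
      reassoc_of% (rpushInjIso_natural f (Sigma.ι F i ≫ s))]
    simp only [eR, Functor.map_comp, Category.assoc]
    simp
  infer_instance

/-- Derived direct images commute with uniformly bounded below sums. -/
theorem isIso_sigmaComparison_rpush_isGE (K : I → DCoh.D X) (a : ℤ) (hK : ∀ i, (K i).IsGE a)
    [HasCoproduct K] [HasCoproduct fun i => (DCoh.Rpush f).obj (K i)] :
    IsIso (sigmaComparison (DCoh.Rpush f) K) := by
  refine DCohMore.isIso_of_restrictD _ fun y => ?_
  obtain ⟨_, ⟨V : S.Opens, hV, rfl⟩, hy, -⟩ :=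
    S.isBasis_affineOpens.exists_subset_of_mem_open (a := y) (Set.mem_univ y) isOpen_univ
  refine ⟨V, hy, ?_⟩
  haveI : IsAffine (V : Scheme.{u}) := hV
  haveI : QuasiSeparatedSpace ((f ⁻¹ᵁ V : X.Opens) : Scheme.{u}) :=
    AlgebraicGeometry.quasiSeparatedSpace_of_quasiSeparated (f ∣_ V)
  haveI : DCoh.HasRpush (f ∣_ V) := Groth.Agent.KInj.hasRightDerivedFunctor (hres_modules _) _
  obtain ⟨eV⟩ := Groth.Agent.S6508.result f V
  haveI := DCohMore.preservesCoproduct_restrictD (f ⁻¹ᵁ V) K
  haveI := DCohMore.preservesCoproduct_restrictD V fun i => (DCoh.Rpush f).obj (K i)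
  haveI := DCohMore.hasCoproduct_D' fun i => (DCoh.restrictD (f ⁻¹ᵁ V).ι).obj (K i)
  haveI := DCohMore.hasCoproduct_D' fun i => (DCoh.Rpush (f ∣_ V)).obj ((DCoh.restrictD (f ⁻¹ᵁ V).ι).obj (K i))
  haveI := isIso_sigmaComparison_rpush_of_qs (f ∣_ V) (fun i => (DCoh.restrictD (f ⁻¹ᵁ V).ι).obj (K i)) a
    fun i => (DerivedCategory.isGE_iff _ a).2 fun k hk =>
      ((Scheme.Modules.restrictFunctor (f ⁻¹ᵁ V).ι).map_isZero ((DerivedCategory.isGE_iff (K i) a).1 (hK i) k hk)).of_iso
        (restrictHDIso (f ⁻¹ᵁ V).ι (K i) k)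
  haveI : PreservesColimit (Discrete.functor fun i => (DCoh.restrictD (f ⁻¹ᵁ V).ι).obj (K i))
      (DCoh.Rpush (f ∣_ V)) := PreservesCoproduct.of_iso_comparison _ _
  haveI : PreservesColimit (Discrete.functor ((DCoh.restrictD (f ⁻¹ᵁ V).ι).obj ∘ K)) (DCoh.Rpush (f ∣_ V)) :=
    inferInstanceAs (PreservesColimit (Discrete.functor fun i => (DCoh.restrictD (f ⁻¹ᵁ V).ι).obj (K i))
      (DCoh.Rpush (f ∣_ V)))
  haveI : PreservesColimit (Discrete.functor K ⋙ DCoh.restrictD (f ⁻¹ᵁ V).ι) (DCoh.Rpush (f ∣_ V)) :=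
    preservesColimit_of_iso_diagram _ (Discrete.compNatIsoDiscrete K (DCoh.restrictD (f ⁻¹ᵁ V).ι)).symm
  haveI : PreservesColimit (Discrete.functor K) (DCoh.Rpush f ⋙ DCoh.restrictD V.ι) :=
    preservesColimit_of_natIso _ eV.symm
  haveI := DCohMore.hasCoproduct_D' fun i => (DCoh.restrictD V.ι).obj ((DCoh.Rpush f).obj (K i))
  haveI : HasCoproduct fun i => (DCoh.Rpush f ⋙ DCoh.restrictD V.ι).obj (K i) :=
    inferInstanceAs (HasCoproduct fun i => (DCoh.restrictD V.ι).obj ((DCoh.Rpush f).obj (K i)))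
  have e : sigmaComparison (DCoh.restrictD V.ι) (fun i => (DCoh.Rpush f).obj (K i)) ≫
      (DCoh.restrictD V.ι).map (sigmaComparison (DCoh.Rpush f) K) =
      sigmaComparison (DCoh.Rpush f ⋙ DCoh.restrictD V.ι) K := by
    refine Sigma.hom_ext _ _ fun i => ?_
    rw [ι_comp_sigmaComparison_assoc, ← Functor.map_comp, ι_comp_sigmaComparison]
    exact (ι_comp_sigmaComparison (DCoh.Rpush f ⋙ DCoh.restrictD V.ι) K i).symm
  haveI : IsIso (sigmaComparison (DCoh.restrictD V.ι) fun i => (DCoh.Rpush f).obj (K i)) := inferInstance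
  haveI : IsIso (sigmaComparison (DCoh.restrictD V.ι) (fun i => (DCoh.Rpush f).obj (K i)) ≫
      (DCoh.restrictD V.ι).map (sigmaComparison (DCoh.Rpush f) K)) := by
    rw [e]
    infer_instance
  exact IsIso.of_isIso_comp_left (sigmaComparison (DCoh.restrictD V.ι) fun i => (DCoh.Rpush f).obj (K i)) _

end Groth.Agent.TwistShriek
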