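import Mathlib

/-!
# Homology commutes with exact colimits
-/

set_option autoImplicit false
set_option backward.isDefEq.respectTransparency false

universe w v u

open CategoryTheory CategoryTheory.Limits

noncomputable section

namespace Groth.Agent.TwistShriek

variable {A : Type u} [Category.{v} A] [Abelian A] {ι : Type} (c : ComplexShape ι)
  (J : Type w) [SmallCategory J] [HasColimitsOfShape J A] [HasExactColimitsOfShape J A]

/-- Homology commutes with exact colimits. -/
theorem preservesColimitsOfShape_homology (i : ι) :
    PreservesColimitsOfShape J (HomologicalComplex.homologyFunctor A c i) := by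
  refine ⟨fun {K} => preservesColimit_of_preserves_colimit_cocone (colimit.isColimit K) ?_⟩
  haveI : PreservesFiniteLimits (colim : (J ⥤ A) ⥤ A) := HasExactColimitsOfShape.preservesFiniteLimits
  haveI : (colim : (J ⥤ A) ⥤ A).IsLeftAdjoint := colimConstAdj.isLeftAdjoint
  haveI : (colim : (J ⥤ A) ⥤ A).Additive := Functor.additive_of_preserves_binary_products _
  haveI : PreservesFiniteColimits (colim : (J ⥤ A) ⥤ A) := inferInstance
  haveI : (colim : (J ⥤ A) ⥤ A).PreservesHomology := inferInstance
  let d : ∀ p q : ι, K ⋙ HomologicalComplex.eval A c p ⟶ K ⋙ HomologicalComplex.eval A c q := fun p q =>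
    { app := fun j => (K.obj j).d p q
      naturality := fun j k f => (K.map f).comm p q }
  let S : ShortComplex (J ⥤ A) := ShortComplex.mk (d (c.prev i) i) (d i (c.next i))
    (by ext j; exact (K.obj j).d_comp_d _ _ _)
  let H := S.homology
  let c₀ := colimit.cocone K
  let hev := fun p => isColimitOfPreserves (HomologicalComplex.eval A c p) (colimit.isColimit K)
  let ev : ∀ j : J, (evaluation J A).obj j ⟶ (colim : (J ⥤ A) ⥤ A) := fun j =>
    { app := fun F => colimit.ι F j
      naturality := fun F G f => (ι_colimMap f j).symm }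
  let φ : S.map (colim : (J ⥤ A) ⥤ A) ⟶ c₀.pt.sc i :=
    ShortComplex.homMk (colimit.desc _ ((HomologicalComplex.eval A c (c.prev i)).mapCocone c₀))
      (colimit.desc _ ((HomologicalComplex.eval A c i).mapCocone c₀))
      (colimit.desc _ ((HomologicalComplex.eval A c (c.next i)).mapCocone c₀))
      (colimit.hom_ext fun j => by
        simp [S, d, c₀, ι_colimMap_assoc, colimit.ι_desc_assoc])
      (colimit.hom_ext fun j => by
        simp [S, d, c₀, ι_colimMap_assoc, colimit.ι_desc_assoc])
  have hiso : ∀ p, IsIso (colimit.desc _ ((HomologicalComplex.eval A c p).mapCocone c₀)) := fun p =>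
    ((colimit.isColimit _).coconePointUniqueUpToIso (hev p)).isIso_hom
  haveI : IsIso φ.τ₁ := hiso _
  haveI : IsIso φ.τ₂ := hiso _
  haveI : IsIso φ.τ₃ := hiso _
  haveI : IsIso φ := ShortComplex.isIso_of_isIso φ
  let e : ∀ j, (K.obj j).homology i ≅ H.obj j := fun j => S.mapHomologyIso ((evaluation J A).obj j)
  let eN : K ⋙ HomologicalComplex.homologyFunctor A c i ≅ H := NatIso.ofComponents e fun {j k} f => by
    have h := S.homologyMap_mapNatTrans ((evaluation J A).map f)
    have h' : HomologicalComplex.homologyMap (K.map f) i =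
        ShortComplex.homologyMap (S.mapNatTrans ((evaluation J A).map f)) := rfl
    show HomologicalComplex.homologyMap (K.map f) i ≫ (e k).hom = (e j).hom ≫ H.map f
    rw [h', h, Category.assoc, Category.assoc]
    simp [e, H]
  refine IsColimit.ofIsoColimit ((IsColimit.precomposeHomEquiv eN _).symm (colimit.isColimit H))
    (Cocone.ext ((S.mapHomologyIso (colim : (J ⥤ A) ⥤ A)).symm ≪≫
      asIso (ShortComplex.homologyMap φ)) fun j => ?_)
  have h := S.homologyMap_mapNatTrans (ev j)
  have hj : S.mapNatTrans (ev j) ≫ φ = (HomologicalComplex.shortComplexFunctor A c i).map (colimit.ι K j) := by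
    ext <;> exact colimit.ι_desc _ j
  have h' : HomologicalComplex.homologyMap (colimit.ι K j) i =
      ShortComplex.homologyMap (S.mapNatTrans (ev j) ≫ φ) := by
    rw [hj]
    rfl
  show ((e j).hom ≫ colimit.ι H j) ≫ (S.mapHomologyIso (colim : (J ⥤ A) ⥤ A)).inv ≫
      ShortComplex.homologyMap φ = HomologicalComplex.homologyMap (colimit.ι K j) i
  rw [h', ShortComplex.homologyMap_comp, h]
  simp [e, ev, H]

end Groth.Agent.TwistShriek
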