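import Groth.Agent.KInj.Functorial
import Mathlib.Algebra.Homology.DerivedCategory.DerivabilityStructureInjectives
import Mathlib.Algebra.Homology.DerivedCategory.KInjective
import Mathlib

/-!
# Truncations of K-injective complexes of injective objects
-/

set_option autoImplicit false
set_option backward.isDefEq.respectTransparency false
set_option linter.style.haveILetI false

universe w v u

open CategoryTheory CategoryTheory.Limits HomologicalComplex

noncomputable section

namespace Groth.Agent.TwistShriek

variable {A : Type u} [Category.{v} A] [Abelian A] [EnoughInjectives A] [HasDerivedCategory.{w} A]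

/-- The cokernel in the lowest degree of a K-injective complex of injectives is injective. -/
theorem injective_opcycles (N : CochainComplex A ℤ) [N.IsKInjective] (hN : ∀ k, Injective (N.X k)) (n : ℤ)
    [N.IsGE n] : Injective (N.opcycles n) := by
  obtain ⟨J, s, hs, hJ, hJn⟩ :=
    CochainComplex.Plus.modelCategoryQuillen.exists_quasiIso_injective (N.truncGE n) n
  haveI := hs
  haveI := hJn
  haveI := hJ
  haveI : J.IsKInjective := CochainComplex.isKInjective_of_injective J n
  let t : N ⟶ J := N.πTruncGE n ≫ s
  haveI : QuasiIso t := inferInstance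
  haveI : IsIso (DerivedCategory.Q.map t) := (DerivedCategory.isIso_Q_map_iff_quasiIso (C := A) t).2 inferInstance
  have hb := CochainComplex.IsKInjective.Qh_map_bijective
    ((HomotopyCategory.quotient A (ComplexShape.up ℤ)).obj J) N
  obtain ⟨u', hu'⟩ := hb.surjective ((DerivedCategory.quotientCompQhIso A).hom.app J ≫
    inv (DerivedCategory.Q.map t) ≫ (DerivedCategory.quotientCompQhIso A).inv.app N)
  obtain ⟨v, rfl⟩ := (HomotopyCategory.quotient A (ComplexShape.up ℤ)).map_surjective u'
  have hv : DerivedCategory.Q.map v = inv (DerivedCategory.Q.map t) := by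
    have := (DerivedCategory.quotientCompQhIso A).hom.naturality v
    dsimp only [Functor.comp_map] at this
    rw [hu'] at this
    rw [← cancel_epi ((DerivedCategory.quotientCompQhIso A).hom.app J)]
    simp at this ⊢
    rw [← this]
  have hq : (HomotopyCategory.quotient A (ComplexShape.up ℤ)).map (t ≫ v) =
      (HomotopyCategory.quotient A (ComplexShape.up ℤ)).map (𝟙 N) := by
    apply (CochainComplex.IsKInjective.Qh_map_bijective
      ((HomotopyCategory.quotient A (ComplexShape.up ℤ)).obj N) N).injective
    refine (cancel_mono ((DerivedCategory.quotientCompQhIso A).hom.app N)).1 ?_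
    erw [(DerivedCategory.quotientCompQhIso A).hom.naturality (t ≫ v),
      (DerivedCategory.quotientCompQhIso A).hom.naturality (𝟙 N)]
    simp [hv]
  let h := HomotopyCategory.homotopyOfEq _ _ hq
  haveI : Injective (J.opcycles n) := by
    haveI : IsIso (J.pOpcycles n) := J.isIso_pOpcycles (n - 1) n (by simp)
      ((J.isZero_of_isStrictlyGE n (n - 1)).eq_of_src _ _)
    exact Injective.of_iso (asIso (J.pOpcycles n)) (hJ n)
  haveI := hN (n + 1)
  let g := fun {B : A} (a : B ⟶ J.opcycles n) (b : B ⟶ N.X (n + 1)) =>
    a ≫ opcyclesMap v n - b ≫ h.hom (n + 1) n ≫ N.pOpcycles n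
  have hid : 𝟙 (N.opcycles n) = g (opcyclesMap t n) (N.fromOpcycles n (n + 1)) := by
    rw [← cancel_epi (N.pOpcycles n)]
    have hc := congrArg (· ≫ N.pOpcycles n) (h.comm n)
    rw [dNext_eq _ (show (ComplexShape.up ℤ).Rel n (n + 1) from rfl),
      prevD_eq _ (show (ComplexShape.up ℤ).Rel (n - 1) n from sub_add_cancel n 1)] at hc
    simp at hc
    simp [g]
    rw [hc]
    simp
  refine ⟨fun {B C} φ m _ => ⟨g (Injective.factorThru (φ ≫ opcyclesMap t n) m)
    (Injective.factorThru (φ ≫ N.fromOpcycles n (n + 1)) m), ?_⟩⟩
  simp only [g, Preadditive.comp_sub, Injective.comp_factorThru_assoc, Category.assoc]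
  rw [← Category.comp_id φ]
  conv_rhs => rw [hid]
  simp [g]

/-- Truncations of K-injective complexes of injectives have injective terms. -/
theorem injective_truncGE_X (N : CochainComplex A ℤ) [N.IsKInjective] (hN : ∀ k, Injective (N.X k)) (n : ℤ)
    [N.IsGE n] (k : ℤ) : Injective ((N.truncGE n).X k) := by
  rcases lt_trichotomy k n with hk | rfl | hk
  · exact ((N.truncGE n).isZero_of_isStrictlyGE n k hk).injective
  · exact Injective.of_iso (N.truncGEXIsoOpcycles k).symm (injective_opcycles N hN k)
  · exact Injective.of_iso (N.truncGEXIso n k hk).symm (hN _)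

end Groth.Agent.TwistShriek
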