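import Groth.Agent.CohColim.QSOpens
import Groth.Agent.QCohLib.Exact
import Groth.Agent.SiteBase.Basic

/-!
# Sections of filtered colimits of modules over quasi-compact opens
-/

set_option autoImplicit false
set_option backward.isDefEq.respectTransparency false
set_option linter.style.haveILetI false
set_option maxHeartbeats 1000000

universe u

open CategoryTheory CategoryTheory.Limits AlgebraicGeometry TopologicalSpace Opposite Abelian

noncomputable section

namespace Groth.Agent.TwistShriek

variable {X : Scheme.{u}} (Λ : Type u) [SmallCategory Λ] [IsFiltered Λ]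

/-- The underlying abelian sheaf commutes with colimits. -/
theorem preservesColimitsOfShape_toAbF : PreservesColimitsOfShape Λ (QCohLib.toAbF X) := by
  let R := X.ringCatSheaf
  let α : R.obj ⟶ R.obj := 𝟙 _
  let L := PresheafOfModules.sheafification.{u} α
  let adj := PresheafOfModules.sheafificationAdjunction.{u} α
  refine ⟨fun {D} => ?_⟩
  let P := D ⋙ SheafOfModules.forget R ⋙ PresheafOfModules.restrictScalars α
  haveI : L.IsLeftAdjoint := adj.isLeftAdjoint
  haveI : (presheafToSheaf (Opens.grothendieckTopology X) AddCommGrpCat.{u}).IsLeftAdjoint :=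
    (sheafificationAdjunction _ _).isLeftAdjoint
  haveI : PreservesColimit P L := inferInstance
  haveI : PreservesColimit P (L ⋙ QCohLib.toAbF X) :=
    preservesColimit_of_natIso P (PresheafOfModules.sheafificationCompToSheaf α).symm
  haveI : PreservesColimit (P ⋙ L) (QCohLib.toAbF X) :=
    preservesColimit_of_preserves_colimit_cocone
      (isColimitOfPreserves L (colimit.isColimit P))
      (isColimitOfPreserves (L ⋙ QCohLib.toAbF X) (colimit.isColimit P))
  haveI : IsIso adj.counit := inferInstance
  exact preservesColimit_of_iso_diagram _ (K₁ := P ⋙ L)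
    (Functor.associator D _ L ≪≫ Functor.isoWhiskerLeft D (asIso adj.counit) ≪≫ D.rightUnitor)

/-- Zero corresponds to zero. -/
theorem secEquiv_zero {F : Sheaf (Opens.grothendieckTopology X) AddCommGrpCat.{u}} (W : X.Opens) :
    SiteBase.secEquiv (J := Opens.grothendieckTopology X) W F 0 = 0 := by
  have h := SiteBase.secEquiv_comp (J := Opens.grothendieckTopology X) W (G := F)
    (0 : SiteBase.freeAb (Opens.grothendieckTopology X) W ⟶ F) 0
  rwa [comp_zero] at h

variable {Λ}

/-- Sections over a quasi-compact open of a filtered colimit come from some stage, faithfully. -/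
theorem sections_colimit (D : Λ ⥤ X.Modules) {c : Cocone D} (hc : IsColimit c) (W : X.Opens)
    (hW : IsCompact (W : Set X)) (hW' : IsQuasiSeparated (W : Set X)) :
    (∀ s : Γ(c.pt, W), ∃ (i : Λ) (y : Γ(D.obj i, W)), (c.ι.app i).app W y = s) ∧
      ∀ (i : Λ) (y : Γ(D.obj i, W)), (c.ι.app i).app W y = 0 →
        ∃ (j : Λ) (f : i ⟶ j), (D.map f).app W y = 0 := by
  haveI := preservesColimitsOfShape_toAbF (X := X) Λ
  haveI : CohColim.LocallyQS (TopCat.of X) := ⟨fun x V hx => by
    obtain ⟨U, hU, hxU, hUV⟩ := TopologicalSpace.Opens.isBasis_iff_nbhd.1 X.isBasis_affineOpens hx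
    exact ⟨⟨U, hU.isCompact, hU.isQuasiSeparated⟩, hxU, hUV⟩⟩
  haveI := CohColim.preserves_cohomology_qsOpen (TopCat.of X) W ⟨hW, hW'⟩ 0 Λ
  let Φ := (Sheaf.cohomologyPresheafFunctor (Opens.grothendieckTopology X) 0).flip.obj (op W)
  haveI : PreservesColimitsOfShape Λ Φ := this
  let G : X.Modules ⥤ AddCommGrpCat.{u} := QCohLib.toAbF X ⋙ Φ
  haveI : PreservesColimitsOfShape Λ G := inferInstance
  let J := Opens.grothendieckTopology X
  obtain ⟨h1, h2⟩ := CohColim.exists_of_preservesColimit G D
  let e := hc.coconePointUniqueUpToIso (colimit.isColimit D)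
  have he : ∀ i, c.ι.app i = colimit.ι D i ≫ e.inv := fun i =>
    (hc.comp_coconePointUniqueUpToIso_inv (colimit.isColimit D) i).symm
  constructor
  · intro s
    let s' : Γ(colimit D, W) := e.hom.app W s
    obtain ⟨i, x, hx⟩ := h1 (Ext.mk₀ ((SiteBase.secEquiv (J := J) W
      ((QCohLib.toAbF X).obj (colimit D))).symm s'))
    obtain ⟨ψ, rfl⟩ := (Ext.mk₀_bijective (SiteBase.freeAb J W) _).2 x
    have hψ : ψ ≫ (QCohLib.toAbF X).map (colimit.ι D i) =
        (SiteBase.secEquiv (J := J) W _).symm s' :=
      (Ext.mk₀_bijective _ _).1 ((Ext.mk₀_comp_mk₀ ψ _).symm.trans hx)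
    refine ⟨i, SiteBase.secEquiv (J := J) W _ ψ, ?_⟩
    have h3 := congrArg (SiteBase.secEquiv (J := J) W _) hψ
    rw [SiteBase.secEquiv_comp, Equiv.apply_symm_apply] at h3
    rw [he]
    exact (congrArg (e.inv.app W) h3).trans (congr(($(e.hom_inv_id)).app W s))
  · intro i y hy
    have hy' : (colimit.ι D i).app W y = 0 := by
      rw [he] at hy
      have h4 := congrArg (e.hom.app W) hy
      rw [map_zero] at h4
      exact (congr(($(e.inv_hom_id)).app W ((colimit.ι D i).app W y))).symm.trans h4
    obtain ⟨j, f, hf⟩ := h2 i (Ext.mk₀ ((SiteBase.secEquiv (J := J) W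
      ((QCohLib.toAbF X).obj (D.obj i))).symm y)) (by
      refine (Ext.mk₀_comp_mk₀ _ _).trans ((Ext.mk₀_eq_zero_iff _).2 ?_)
      apply (SiteBase.secEquiv (J := J) W _).injective
      rw [SiteBase.secEquiv_comp, Equiv.apply_symm_apply]
      exact hy'.trans (secEquiv_zero (F := (QCohLib.toAbF X).obj (colimit D)) W).symm)
    refine ⟨j, f, ?_⟩
    have hf' := (Ext.mk₀_eq_zero_iff _).1 ((Ext.mk₀_comp_mk₀ _ _).symm.trans hf)
    have h5 := congrArg (SiteBase.secEquiv (J := J) W _) hf'
    rw [SiteBase.secEquiv_comp, Equiv.apply_symm_apply] at h5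
    exact h5.trans (secEquiv_zero (F := (QCohLib.toAbF X).obj (D.obj j)) W)

end Groth.Agent.TwistShriek
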