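import Groth.Agent.TwistShriek.PushSum
import Groth.Agent.TwistShriek.SectionsColim
import Groth.Agent.TwistShriek.FiltHomology
import Groth.Agent.TwistShriek.InjTrunc
import Groth.Agent.DCohLib.OpenD

/-!
# Derived direct images and filtered colimits of uniformly bounded below complexes
-/

set_option autoImplicit false
set_option linter.style.haveILetI false
set_option backward.isDefEq.respectTransparency false
set_option maxHeartbeats 1000000

universe u

open CategoryTheory CategoryTheory.Limits AlgebraicGeometry TopologicalSpace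
open Groth.Agent.DCohLib

attribute [local instance] HasDerivedCategory.standard

noncomputable section

namespace Groth.Agent.TwistShriek

variable {X S : Scheme.{u}} {Λ : Type u} [SmallCategory Λ] [IsFiltered Λ]

/-- Filtered colimits of qc-flasque modules are qc-flasque on a quasi-separated scheme. -/
theorem qcFlasque_colimit [QuasiSeparatedSpace X] (D : Λ ⥤ X.Modules) {c : Cocone D} (hc : IsColimit c)
    (h : ∀ i, QcFlasque (D.obj i)) : QcFlasque c.pt := by
  intro W' W hle hW' hW s
  obtain ⟨i, y, hy⟩ := (sections_colimit D hc W' hW'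
    (isQuasiSeparated_univ.of_subset (Set.subset_univ _))).1 s
  obtain ⟨t, ht⟩ := h i hle hW' hW y
  exact ⟨(c.ι.app i).app W t, (app_natural (c.ι.app i) hle t).symm.trans ((congrArg _ ht).trans hy)⟩

/-- Direct images along quasi-compact quasi-separated morphisms commute with filtered colimits. -/
theorem preservesColimitsOfShape_pushforward (f : X ⟶ S) [QuasiCompact f] [QuasiSeparated f] :
    PreservesColimitsOfShape Λ (Scheme.Modules.pushforward f) := by
  refine ⟨fun {D} => preservesColimit_of_preserves_colimit_cocone (colimit.isColimit D) ?_⟩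
  let P := Scheme.Modules.pushforward f
  let φ := colimit.desc (D ⋙ P) (P.mapCocone (colimit.cocone D))
  haveI : IsIso φ := by
    refine ZClosLib.isIso_of_bijective_affine φ fun V hV => ?_
    have hc : IsCompact ((f ⁻¹ᵁ V : X.Opens) : Set X) := f.isCompact_preimage hV.isCompact
    have hq : IsQuasiSeparated ((f ⁻¹ᵁ V : X.Opens) : Set X) := f.isQuasiSeparated_preimage hV.isQuasiSeparated
    obtain ⟨hS, hI⟩ := sections_colimit D (colimit.isColimit D) (f ⁻¹ᵁ V) hc hq
    obtain ⟨hS', -⟩ := sections_colimit (D ⋙ P) (colimit.isColimit _) V hV.isCompact hV.isQuasiSeparated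
    have key : ∀ (i : Λ) (y : Γ(P.obj (D.obj i), V)), φ.app V ((colimit.ι (D ⋙ P) i).app V y) =
        (colimit.ι D i).app (f ⁻¹ᵁ V) y := fun i y =>
      congr(($(colimit.ι_desc (P.mapCocone (colimit.cocone D)) i)).app V y)
    refine ⟨(injective_iff_map_eq_zero _).2 fun t ht => ?_, fun s => ?_⟩
    · obtain ⟨i, y, rfl⟩ := hS' t
      obtain ⟨j, g, hg⟩ := hI i y ((key i y).symm.trans ht)
      have h1 : (colimit.ι (D ⋙ P) i).app V y =
          (colimit.ι (D ⋙ P) j).app V (((D ⋙ P).map g).app V y) :=
        (congr(($(colimit.w (D ⋙ P) g)).app V y)).symm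
      exact h1.trans ((congrArg _ (show ((D ⋙ P).map g).app V y = 0 from hg)).trans (map_zero _))
    · obtain ⟨i, y, rfl⟩ := hS s
      exact ⟨(colimit.ι (D ⋙ P) i).app V y, key i y⟩
  exact IsColimit.ofIsoColimit (colimit.isColimit _) (Cocone.ext (asIso φ) fun i => colimit.ι_desc _ i)

/-- The direct image of an acyclic bounded below complex which is qc-flasque over affines is acyclic. -/
theorem acyclic_pushforward' (f : X ⟶ S) [QuasiCompact f] [QuasiSeparated f] {C : CochainComplex X.Modules ℤ}
    (hC : C.Acyclic) (a : ℤ) (ha : ∀ n, n < a → IsZero (C.X n))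
    (hq : ∀ (W : X.Opens), IsQuasiSeparated (W : Set X) → ∀ n, QcFlasque (((resCx W.ι).obj C).X n)) :
    (((Scheme.Modules.pushforward f).mapHomologicalComplex (ComplexShape.up ℤ)).obj C).Acyclic := by
  intro m
  obtain ⟨n, rfl⟩ : ∃ n, m = n + 1 := ⟨m - 1, by omega⟩
  rw [HomologicalComplex.exactAt_iff' _ n (n + 1) (n + 1 + 1) (by simp) (by simp)]
  refine KoszShLib.exact_of_affine_local _ fun W t ht x hx => ?_
  obtain ⟨_, ⟨V : S.Opens, hV, rfl⟩, hxV, hVW⟩ :=
    S.isBasis_affineOpens.exists_subset_of_mem_open hx W.2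
  let P : X.Opens := f ⁻¹ᵁ V
  have hP : IsQuasiSeparated (P : Set X) := f.isQuasiSeparated_preimage hV.isQuasiSeparated
  haveI : CompactSpace (P : Scheme.{u}) := isCompact_iff_compactSpace.1 (f.isCompact_preimage hV.isCompact)
  haveI : QuasiSeparatedSpace (P : Scheme.{u}) := (isQuasiSeparated_iff_quasiSeparatedSpace _ P.2).1 hP
  have hle : P.ι ''ᵁ ⊤ ≤ f ⁻¹ᵁ W := by
    rw [Scheme.Opens.ι_image_top]
    exact fun y hy => hVW hy
  let tW : Γ(C.X (n + 1), P.ι ''ᵁ ⊤) := (C.X (n + 1)).presheaf.map (homOfLE hle).op t
  have htW : (C.d (n + 1) (n + 1 + 1)).app (P.ι ''ᵁ ⊤) tW = 0 :=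
    (app_natural (C.d (n + 1) (n + 1 + 1)) hle t).trans ((congrArg _ ht).trans (map_zero _))
  obtain ⟨s, hs⟩ := exists_boundary (C := (resCx P.ι).obj C)
    (fun k => (HomologicalComplex.exactAt_iff_isZero_homology _ _).2
      (((Scheme.Modules.restrictFunctor P.ι).map_isZero
        ((HomologicalComplex.exactAt_iff_isZero_homology _ _).1 (hC k))).of_iso
        ((C.sc k).mapHomologyIso (Scheme.Modules.restrictFunctor P.ι))))
    (hq P hP) a (fun k hk => (Scheme.Modules.restrictFunctor P.ι).map_isZero (ha k hk)) ⊤ isCompact_univ n tW htW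
  have hPV : P ≤ P.ι ''ᵁ ⊤ := by rw [Scheme.Opens.ι_image_top]
  refine ⟨V, hVW, hxV, (C.X n).presheaf.map (homOfLE hPV).op s, ?_⟩
  refine (app_natural (C.d n (n + 1)) hPV s).trans ?_
  refine (congrArg _ hs).trans ?_
  show (C.X (n + 1)).presheaf.map (homOfLE hPV).op ((C.X (n + 1)).presheaf.map (homOfLE hle).op t) = _
  rw [← ConcreteCategory.comp_apply, ← Functor.map_comp]
  rfl

variable (f : X ⟶ S) [QuasiCompact f] [QuasiSeparated f] [DCoh.HasRpush f]

/-- The comparison between the direct image of a complex and its derived direct image. -/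
def pushToRpush : (Scheme.Modules.pushforward f).mapHomologicalComplex (ComplexShape.up ℤ) ⋙ DerivedCategory.Q ⟶
    DerivedCategory.Q ⋙ DCoh.Rpush f where
  app K := (DerivedCategory.quotientCompQhIso S.Modules).inv.app _ ≫
    DerivedCategory.Qh.map (((Scheme.Modules.pushforward f).mapHomotopyCategoryFactors (ComplexShape.up ℤ)).inv.app K) ≫
    (rpushUnit f).app ((quotM X).obj K) ≫
    (DCoh.Rpush f).map ((DerivedCategory.quotientCompQhIso X.Modules).hom.app K)
  naturality {I J} ψ := by
    have h1 := (DerivedCategory.quotientCompQhIso S.Modules).inv.naturality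
      (((Scheme.Modules.pushforward f).mapHomologicalComplex (ComplexShape.up ℤ)).map ψ)
    have h2 := congrArg DerivedCategory.Qh.map
      (((Scheme.Modules.pushforward f).mapHomotopyCategoryFactors (ComplexShape.up ℤ)).inv.naturality ψ)
    have h3 := (rpushUnit f).naturality ((quotM X).map ψ)
    have h4 := congrArg (DCoh.Rpush f).map ((DerivedCategory.quotientCompQhIso X.Modules).hom.naturality ψ)
    simp only [CategoryTheory.Functor.map_comp] at h2 h4
    dsimp only [Functor.comp_map] at h1 h2 h3 h4
    dsimp only [Functor.comp_map]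
    simp only [Category.assoc]
    exact (reassoc_of% h1) _ |>.trans (congrArg (_ ≫ ·) (((reassoc_of% h2) _).trans
      (congrArg (_ ≫ ·) (((reassoc_of% h3) _).trans (congrArg (_ ≫ ·) h4)))))

theorem isIso_pushToRpush_of_isKInjective (I : CochainComplex X.Modules ℤ) [I.IsKInjective] :
    IsIso ((pushToRpush f).app I) := by
  haveI := isIso_rpushUnit_app f I
  dsimp only [pushToRpush]
  infer_instance

/-- Bounded below complexes which are qc-flasque over affines compute the derived direct image. -/
theorem isIso_pushToRpush_of_qcFlasque (K : CochainComplex X.Modules ℤ) (a : ℤ)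
    (ha : ∀ n, n < a → IsZero (K.X n))
    (hq : ∀ (W : X.Opens), IsQuasiSeparated (W : Set X) → ∀ n, QcFlasque (((resCx W.ι).obj K).X n)) :
    IsIso ((pushToRpush f).app K) := by
  haveI : K.IsStrictlyGE a := (CochainComplex.isStrictlyGE_iff _ a).2 ha
  obtain ⟨J, s, hs, hJ, hJa⟩ := CochainComplex.Plus.modelCategoryQuillen.exists_quasiIso_injective K a
  haveI := hs; haveI := hJ; haveI := hJa
  haveI : J.IsKInjective := CochainComplex.isKInjective_of_injective J a
  haveI : IsIso (DerivedCategory.Q.map s) := (DerivedCategory.isIso_Q_map_iff_quasiIso (C := X.Modules) s).2 hs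
  let G := (Scheme.Modules.pushforward f).mapHomologicalComplex (ComplexShape.up ℤ)
  haveI : IsIso (DerivedCategory.Q.map (G.map s)) := by
    rw [DerivedCategory.isIso_Q_map_iff_quasiIso]
    refine KFlat.quasiIso_of_acyclic_cone _ ?_
    have h := acyclic_pushforward' f (KFlat.acyclic_cone_of_quasiIso s) (a - 1)
      (isZero_cone_X s a ha fun n hn => J.isZero_of_isStrictlyGE a n hn) fun W hW n =>
        qcFlasque_of_iso (HomologicalComplex.Hom.isoApp
          (CochainComplex.mappingCone.mapHomologicalComplexIso s (Scheme.Modules.restrictFunctor W.ι)) n).symm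
          (qcFlasque_cone _ (hq W hW) (fun k => by
            haveI := isKInjective_restrict W J
            haveI : Injective (((resCx W.ι).obj J).X k) := injective_restrict W (J.X k)
            exact qcFlasque_of_injective _) n)
    exact fun n => (h n).of_iso (CochainComplex.mappingCone.mapHomologicalComplexIso s _)
  haveI := isIso_pushToRpush_of_isKInjective f J
  have h := (pushToRpush f).naturality s
  haveI : IsIso ((pushToRpush f).app K ≫ (DerivedCategory.Q ⋙ DCoh.Rpush f).map s) := by
    rw [← h]
    dsimp only [Functor.comp_map]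
    infer_instance
  haveI : IsIso ((DerivedCategory.Q ⋙ DCoh.Rpush f).map s) := by
    dsimp only [Functor.comp_map]
    infer_instance
  exact IsIso.of_isIso_comp_right _ ((DerivedCategory.Q ⋙ DCoh.Rpush f).map s)

/-- Derived direct images commute with filtered colimits of uniformly bounded below complexes. -/
theorem nonempty_isColimit_HD_rpush (C : Λ ⥤ CochainComplex X.Modules ℤ) (n : ℤ)
    (hC : ∀ j, (DCoh.toD X (C.obj j)).IsGE n) (i : ℤ) :
    Nonempty (IsColimit ((DerivedCategory.Q ⋙ DCoh.Rpush f ⋙ DerivedCategory.homologyFunctor S.Modules i).mapCocone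
      (colimit.cocone C))) := by
  obtain ⟨N, j, hN⟩ := KInj.exists_functorial_resolution X.Modules
  let T : CochainComplex X.Modules ℤ ⥤ CochainComplex X.Modules ℤ :=
    (ComplexShape.embeddingUpIntGE n).truncGEFunctor X.Modules
  let K := C ⋙ N ⋙ T
  let α : C ⟶ K := C.rightUnitor.inv ≫ Functor.whiskerLeft C
    (j ≫ N.rightUnitor.inv ≫ Functor.whiskerLeft N ((ComplexShape.embeddingUpIntGE n).πTruncGENatTrans X.Modules))
  haveI : ∀ l, CochainComplex.IsGE (N.obj (C.obj l)) n := fun l => by
    haveI := (hN (C.obj l)).2.2.1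
    haveI : CochainComplex.IsGE (C.obj l) n := (DerivedCategory.isGE_Q_obj_iff _ n).1 (hC l)
    exact (CochainComplex.isGE_iff _ n).2 fun k hk =>
      (quasiIsoAt_iff_exactAt (j.app (C.obj l)) k ((C.obj l).exactAt_of_isGE n k hk)).1 inferInstance
  have hα : ∀ l, QuasiIso (α.app l) := fun l => by
    haveI := (hN (C.obj l)).2.2.1
    have e : α.app l = j.app (C.obj l) ≫ CochainComplex.πTruncGE (N.obj (C.obj l)) n := by simp [α]; rfl
    rw [e]
    infer_instance
  have hinj : ∀ l k, Injective ((K.obj l).X k) := fun l k => by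
    haveI := (hN (C.obj l)).1
    exact injective_truncGE_X _ (hN (C.obj l)).2.1 n k
  have hz : ∀ l k, k < n → IsZero ((K.obj l).X k) := fun l k hk =>
    CochainComplex.isZero_of_isStrictlyGE (CochainComplex.truncGE (N.obj (C.obj l)) n) n k hk
  -- the colimit of the resolutions
  haveI := preservesColimitsOfShape_homology (A := X.Modules) (ComplexShape.up ℤ) Λ
  haveI := preservesColimitsOfShape_homology (A := S.Modules) (ComplexShape.up ℤ) Λ
  haveI := preservesColimitsOfShape_pushforward (Λ := Λ) f
  let G := (Scheme.Modules.pushforward f).mapHomologicalComplex (ComplexShape.up ℤ)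
  haveI : PreservesColimitsOfShape Λ G := ⟨fun {D} => ⟨fun {c} hc => ⟨HomologicalComplex.isColimitOfEval _ _ fun k =>
    isColimitOfPreserves (Scheme.Modules.pushforward f)
      (isColimitOfPreserves (HomologicalComplex.eval X.Modules (ComplexShape.up ℤ) k) hc)⟩⟩⟩
  let a := colimMap α
  haveI : QuasiIso a := ⟨fun k => by
    rw [quasiIsoAt_iff_isIso_homologyMap]
    let H := HomologicalComplex.homologyFunctor X.Modules (ComplexShape.up ℤ) k
    haveI : ∀ l, IsIso ((Functor.whiskerRight α H).app l) := fun l => by
      have := hα l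
      exact (quasiIsoAt_iff_isIso_homologyMap _ _).1 inferInstance
    haveI : IsIso (Functor.whiskerRight α H) := NatIso.isIso_of_isIso_app _
    let c₁ := isColimitOfPreserves H (colimit.isColimit C)
    let c₂ := isColimitOfPreserves H (colimit.isColimit K)
    have e : HomologicalComplex.homologyMap a k =
        (IsColimit.coconePointsIsoOfNatIso c₁ c₂ (asIso (Functor.whiskerRight α H))).hom := by
      refine c₁.hom_ext fun l => ?_
      rw [IsColimit.comp_coconePointsIsoOfNatIso_hom]
      show H.map (colimit.ι C l) ≫ H.map a = H.map (α.app l) ≫ H.map (colimit.ι K l)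
      rw [← H.map_comp, ← H.map_comp, ι_colimMap]
    rw [e]
    infer_instance⟩
  have hKz : ∀ k, k < n → IsZero ((colimit K).X k) := fun k hk => (IsZero.iff_id_eq_zero _).2
    ((isColimitOfPreserves (HomologicalComplex.eval X.Modules (ComplexShape.up ℤ) k) (colimit.isColimit K)).hom_ext
      fun l => (hz l k hk).eq_of_src _ _)
  haveI : IsIso ((pushToRpush f).app (colimit K)) :=
    isIso_pushToRpush_of_qcFlasque f _ n hKz fun W hW k => by
      haveI : QuasiSeparatedSpace (W : Scheme.{u}) := (isQuasiSeparated_iff_quasiSeparatedSpace _ W.2).1 hW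
      haveI : (Scheme.Modules.restrictFunctor W.ι).IsLeftAdjoint :=
        (Scheme.Modules.restrictAdjunction W.ι).isLeftAdjoint
      exact qcFlasque_colimit _ (isColimitOfPreserves (HomologicalComplex.eval X.Modules (ComplexShape.up ℤ) k ⋙
        Scheme.Modules.restrictFunctor W.ι) (colimit.isColimit K)) fun l =>
        @qcFlasque_of_injective _ _ (@injective_restrict _ W ((K.obj l).X k) (hinj l k))
  let Φ := DerivedCategory.Q ⋙ DCoh.Rpush f ⋙ DerivedCategory.homologyFunctor S.Modules i
  let Ψ := G ⋙ HomologicalComplex.homologyFunctor S.Modules (ComplexShape.up ℤ) i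
  let θ : Ψ ⟶ Φ := Functor.whiskerLeft G (DerivedCategory.homologyFunctorFactors S.Modules i).inv ≫
    Functor.whiskerRight (pushToRpush f) (DerivedCategory.homologyFunctor S.Modules i)
  haveI : ∀ l, IsIso (θ.app (K.obj l)) := fun l => by
    haveI := hinj l
    haveI : (K.obj l).IsStrictlyGE n := (CochainComplex.isStrictlyGE_iff _ n).2 (hz l)
    haveI : (K.obj l).IsKInjective := CochainComplex.isKInjective_of_injective (K.obj l) n
    haveI := isIso_pushToRpush_of_isKInjective f (K.obj l)
    dsimp only [θ, NatTrans.comp_app, Functor.whiskerLeft_app, Functor.whiskerRight_app]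
    infer_instance
  haveI : IsIso (θ.app (colimit K)) := by
    dsimp only [θ, NatTrans.comp_app, Functor.whiskerLeft_app, Functor.whiskerRight_app]
    infer_instance
  haveI : ∀ l, IsIso ((Functor.whiskerRight α Φ).app l) := fun l => by
    have := hα l
    haveI : IsIso (DerivedCategory.Q.map (α.app l)) :=
      (DerivedCategory.isIso_Q_map_iff_quasiIso (C := X.Modules) _).2 this
    dsimp only [Φ, Functor.whiskerRight_app, Functor.comp_map]
    infer_instance
  haveI : IsIso (Φ.map a) := by
    haveI : IsIso (DerivedCategory.Q.map a) :=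
      (DerivedCategory.isIso_Q_map_iff_quasiIso (C := X.Modules) _).2 inferInstance
    dsimp only [Φ, Functor.comp_map]
    infer_instance
  let e : C ⋙ Φ ≅ K ⋙ Ψ := @asIso _ _ _ _ (Functor.whiskerRight α Φ) (NatIso.isIso_of_isIso_app _) ≪≫
    (NatIso.ofComponents (fun l => asIso (θ.app (K.obj l))) fun {l l'} g => θ.naturality (K.map g)).symm
  refine ⟨IsColimit.ofIsoColimit ((IsColimit.precomposeHomEquiv e _).symm
    (isColimitOfPreserves Ψ (colimit.isColimit K)))
    (Cocone.ext (asIso (θ.app (colimit K)) ≪≫ (asIso (Φ.map a)).symm) fun l => ?_)⟩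
  show ((Φ.map (α.app l) ≫ inv (θ.app (K.obj l))) ≫ Ψ.map (colimit.ι K l)) ≫ θ.app (colimit K) ≫ inv (Φ.map a) =
    Φ.map (colimit.ι C l)
  rw [Category.assoc, Category.assoc, reassoc_of% (θ.naturality (colimit.ι K l)), IsIso.inv_hom_id_assoc,
    ← Category.assoc, ← Φ.map_comp, IsIso.comp_inv_eq, ← Φ.map_comp, ι_colimMap]

/-- The unit at a complex, in the two forms. -/
theorem isIso_pushToRpush_iff (K : CochainComplex X.Modules ℤ) :
    IsIso ((pushToRpush f).app K) ↔ IsIso ((rpushUnit f).app ((quotM X).obj K)) := by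
  simp only [pushToRpush, isIso_comp_left_iff, isIso_comp_right_iff]

/-- Acyclicity for the direct image passes to filtered colimits of uniformly bounded below complexes. -/
theorem isIso_pushToRpush_colimit (C : Λ ⥤ CochainComplex X.Modules ℤ) (n : ℤ)
    (hC : ∀ j, (DCoh.toD X (C.obj j)).IsGE n) (hac : ∀ j, IsIso ((pushToRpush f).app (C.obj j))) :
    IsIso ((pushToRpush f).app (colimit C)) := by
  rw [DerivedCategory.isIso_iff]
  intro i
  haveI := preservesColimitsOfShape_homology (A := S.Modules) (ComplexShape.up ℤ) Λ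
  haveI := preservesColimitsOfShape_pushforward (Λ := Λ) f
  let G := (Scheme.Modules.pushforward f).mapHomologicalComplex (ComplexShape.up ℤ)
  haveI : PreservesColimitsOfShape Λ G := ⟨fun {D} => ⟨fun {c} hc => ⟨HomologicalComplex.isColimitOfEval _ _ fun k =>
    isColimitOfPreserves (Scheme.Modules.pushforward f)
      (isColimitOfPreserves (HomologicalComplex.eval X.Modules (ComplexShape.up ℤ) k) hc)⟩⟩⟩
  let Φ := DerivedCategory.Q ⋙ DCoh.Rpush f ⋙ DerivedCategory.homologyFunctor S.Modules i
  let Ψ := G ⋙ HomologicalComplex.homologyFunctor S.Modules (ComplexShape.up ℤ) i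
  let θ : Ψ ⟶ Φ := Functor.whiskerLeft G (DerivedCategory.homologyFunctorFactors S.Modules i).inv ≫
    Functor.whiskerRight (pushToRpush f) (DerivedCategory.homologyFunctor S.Modules i)
  obtain ⟨c₂⟩ := nonempty_isColimit_HD_rpush f C n hC i
  let c₁ := isColimitOfPreserves Ψ (colimit.isColimit C)
  haveI : ∀ l, IsIso ((Functor.whiskerLeft C θ).app l) := fun l => by
    haveI := hac l
    dsimp only [θ, NatTrans.comp_app, Functor.whiskerLeft_app, Functor.whiskerRight_app]
    infer_instance
  let w := @asIso _ _ _ _ (Functor.whiskerLeft C θ) (NatIso.isIso_of_isIso_app _)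
  have e : θ.app (colimit C) = (IsColimit.coconePointsIsoOfNatIso c₁ c₂ w).hom := by
    refine c₁.hom_ext fun l => ?_
    rw [IsColimit.comp_coconePointsIsoOfNatIso_hom]
    exact θ.naturality (colimit.ι C l)
  have h : IsIso (θ.app (colimit C)) := by rw [e]; infer_instance
  dsimp only [θ, NatTrans.comp_app, Functor.whiskerLeft_app, Functor.whiskerRight_app] at h
  haveI := h
  exact IsIso.of_isIso_comp_left ((DerivedCategory.homologyFunctorFactors S.Modules i).inv.app (G.obj (colimit C))) _

end Groth.Agent.TwistShriek
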