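import Groth.Agent.TwistShriek.SuppHom
import Groth.Agent.DQCohBrown.RightAdjoint
import Groth.Agent.DCohMore.ThickGen
import Groth.Agent.DCohMore.BCMain
import Groth.Agent.DCohMore.AffinePushHD
import Groth.Agent.DCohMore.RpushQC
import Groth.Agent.DCohLib.PullPerf
import Groth.Agent.S6508

/-!
# Perfect direct images in tor-independent squares
-/

set_option autoImplicit false
set_option linter.style.haveILetI false
set_option backward.isDefEq.respectTransparency false

universe u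

open CategoryTheory CategoryTheory.Limits AlgebraicGeometry CategoryTheory.Pretriangulated

attribute [local instance] HasDerivedCategory.standard

noncomputable section

namespace Groth.Agent.TwistShriek

open Groth.Agent.DCohLib Groth.Agent.DCohMore Groth.Agent.SiteCmpLib

section Affine

variable {X S : Scheme.{u}}

/-- A quasi-coherent module whose direct image along an affine morphism vanishes is zero. -/
theorem isZero_of_isZero_pushforward_affine (h : X ⟶ S) [IsAffineHom h] (F : X.Modules) [Coh.IsQCoh F]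
    (hz : IsZero ((Scheme.Modules.pushforward h).obj F)) : IsZero F := by
  refine DCohLib.isZero_of_local fun x => ?_
  obtain ⟨_, ⟨V : S.Opens, hV, rfl⟩, hxV, -⟩ :=
    S.isBasis_affineOpens.exists_subset_of_mem_open (a := h x) (Set.mem_univ _) isOpen_univ
  let W : X.Opens := h ⁻¹ᵁ V
  haveI : IsAffine (W : Scheme.{u}) := hV.preimage h
  refine ⟨W, W.ι, inferInstance, ⟨x, hxV⟩, rfl, ?_⟩
  haveI : Coh.IsQCoh ((Scheme.Modules.restrictFunctor W.ι).obj F) :=
    haveI : F.IsQuasicoherent := ‹Coh.IsQCoh F›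
    Scheme.Modules.isQuasicoherent_restrictFunctor W.ι F
  refine isZero_of_sections_zero _ fun s => ?_
  haveI : Subsingleton Γ((Scheme.Modules.pushforward h).obj F, V) :=
    AddCommGrpCat.subsingleton_of_isZero (((Scheme.Modules.toPresheaf S).map_isZero hz).obj (.op V))
  have hW : Subsingleton Γ(F, W.ι ''ᵁ ⊤) := by
    rw [W.ι_image_top]
    exact ‹Subsingleton Γ((Scheme.Modules.pushforward h).obj F, V)›
  exact @Subsingleton.elim _ hW s 0

/-- The derived direct image along an affine morphism detects vanishing. -/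
theorem isZero_of_isZero_rpush_affine (h : X ⟶ S) [IsAffineHom h] [DCoh.HasRpush h] (M : DCoh.D X)
    (hM : DCoh.IsQCohD M) (hz : IsZero ((DCoh.Rpush h).obj M)) : IsZero M :=
  DCohLib.isZero_of_isZero_HD fun i => by
    haveI : Coh.IsQCoh (DCoh.HD M i) := hM i
    obtain ⟨e⟩ := nonempty_HD_rpush_affine h M hM i
    exact isZero_of_isZero_pushforward_affine h _
      (((DerivedCategory.homologyFunctor S.Modules i).map_isZero hz).of_iso e.symm)

/-- The derived direct image along an open immersion detects vanishing. -/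
theorem isZero_of_isZero_rpush_open (j : X ⟶ S) [IsOpenImmersion j] [DCoh.HasRpush j] (M : DCoh.D X)
    (hz : IsZero ((DCoh.Rpush j).obj M)) : IsZero M :=
  ((DCoh.restrictD j).map_isZero hz).of_iso ((nonempty_rpush_restrictD j).some.app M).symm

end Affine

variable {X Y X' Y' : Scheme.{u}}

/-- If the right adjoint of the direct image preserves sums, the direct image preserves perfect objects. -/
theorem isPerfect_rpush_of_preservesCoproducts [CompactSpace X] [QuasiSeparatedSpace X] [QuasiSeparatedSpace Y]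
    (f : X ⟶ Y) [DCoh.HasRpush f] (hf : DCoh.RpushPreservesQCoh f) (a : DCoh.DQCoh Y ⥤ DCoh.DQCoh X)
    (adj : DCoh.RpushQ f hf ⊣ a)
    (ha : ∀ κ : Type u, PreservesColimitsOfShape (Discrete κ) a)
    (E : DCoh.D X) (hE : DCoh.IsPerfect E) : DCoh.IsPerfect ((DCoh.Rpush f).obj E) := by
  obtain ⟨_, _⟩ := DQCohBrown.exists_triangulated_rpushQ f hf
  refine isPerfect_of_sumSurj (hf E (isQCohD_of_isPerfect hE)) fun I L hcop hL φ => ?_
  let L' : I → DCoh.DQCoh Y := fun i => ⟨L i, hL i⟩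
  let ι := ObjectProperty.ι (DCoh.IsQCohD (X := Y))
  haveI : HasCoproduct fun i => ι.obj (L' i) := hcop
  let c := PreservesCoproduct.iso ι L'
  let F := DCoh.RpushQ f hf
  let E' : DCoh.DQCoh X := ⟨E, isQCohD_of_isPerfect hE⟩
  let φ' : F.obj E' ⟶ ∐ L' := ObjectProperty.homMk (φ ≫ c.inv)
  haveI := ha I
  let s := sigmaComparison a L'
  haveI : IsIso s := inferInstance
  let A := (adj.homEquiv E' (∐ L')).symm
  have hA : ∀ β, A β = F.map β ≫ adj.counit.app (∐ L') := fun β => adj.homEquiv_counit _ _ _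
  have key : ∀ α : E' ⟶ ∐ fun i => a.obj (L' i), α ∈ BrownRep.finHom (fun i => a.obj (L' i)) E' →
      ∃ z, PerfAux.homSumToHomCoprod ((DCoh.Rpush f).obj E) L z = (A (α ≫ s)).hom ≫ c.hom := by
    intro α hα
    refine BrownRep.finHom_induction
      (p := fun α => ∃ z, PerfAux.homSumToHomCoprod ((DCoh.Rpush f).obj E) L z = (A (α ≫ s)).hom ≫ c.hom)
      hα ⟨0, ?_⟩ (fun k x => ?_) ?_
    · rw [map_zero, zero_comp, hA, F.map_zero, zero_comp]
      exact zero_comp.symm
    · classical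
      let y : (DCoh.Rpush f).obj E ⟶ L k := ((adj.homEquiv E' (L' k)).symm x).hom
      refine ⟨DirectSum.of (fun i => (DCoh.Rpush f).obj E ⟶ L i) k y, ?_⟩
      rw [homSum_of, Category.assoc, ι_comp_sigmaComparison]
      show y ≫ _ = ((adj.homEquiv E' (∐ L')).symm (x ≫ a.map (Sigma.ι L' k))).hom ≫ c.hom
      rw [adj.homEquiv_naturality_right_symm]
      show y ≫ _ = (y ≫ ι.map (Sigma.ι L' k)) ≫ c.hom
      rw [Category.assoc]
      refine congrArg (y ≫ ·) ?_
      refine (cancel_mono c.inv).1 ?_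
      rw [Category.assoc, Iso.hom_inv_id, Category.comp_id]
      simp only [c, PreservesCoproduct.inv_hom]
      exact ι_comp_sigmaComparison ι L' k
    · rintro x y ⟨z, hz⟩ ⟨w, hw⟩
      refine ⟨z + w, ?_⟩
      rw [map_add, hz, hw, hA, hA, hA, Preadditive.add_comp, F.map_add, Preadditive.add_comp,
        ← Preadditive.add_comp]
      rfl
  obtain ⟨z, hz⟩ := key (adj.homEquiv E' (∐ L') φ' ≫ inv s) (DQCohBrown.mem_finHom_of_isPerfect hE _ _)
  refine ⟨z, hz.trans ?_⟩
  rw [Category.assoc, IsIso.inv_hom_id, Category.comp_id]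
  simp only [A, Equiv.symm_apply_apply]
  show (φ ≫ c.inv) ≫ c.hom = φ
  rw [Category.assoc, Iso.inv_hom_id, Category.comp_id]

/-- In a tor-independent square perfectness of direct images passes to the base change. -/
theorem isPerfect_rpush_of_torIndependent [CompactSpace X] [QuasiSeparatedSpace X] [QuasiSeparatedSpace Y]
    [CompactSpace X'] [QuasiSeparatedSpace X'] [QuasiSeparatedSpace Y']
    {f : X ⟶ Y} {g : Y' ⟶ Y} {f' : X' ⟶ Y'} {g' : X' ⟶ X} (hsq : IsPullback g' f' f g) (ht : BC.TI f g)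
    [DCoh.HasRpush f] [DCoh.HasRpush f']
    (hperf : ∀ E : DCoh.D X, DCoh.IsPerfect E → DCoh.IsPerfect ((DCoh.Rpush f).obj E))
    (P : DCoh.D X') (hP : DCoh.IsPerfect P) : DCoh.IsPerfect ((DCoh.Rpush f').obj P) := by
  obtain ⟨G, hG, -, hgen⟩ := gen_main (X := X) Set.univ isClosed_univ
    (by rw [Set.compl_univ]; exact isCompact_empty)
  haveI : QuasiCompact f := quasiCompact_of_compactSpace f
  haveI : QuasiSeparated f := inferInstance
  haveI : QuasiCompact f' := quasiCompact_of_compactSpace f'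
  haveI : DCoh.HasLpull g := hasLpull g
  haveI : DCoh.HasLpull g' := hasLpull g'
  haveI : DCoh.HasRpush g := BC.hasRpush g
  haveI : DCoh.HasRpush g' := BC.hasRpush g'
  obtain ⟨e, he⟩ := BC.exists_iso_baseChange f g f' g' hsq ht (lpullRpushAdj g) (lpullRpushAdj g')
  haveI := he G (isQCohD_of_isPerfect hG)
  have hG1 : DCoh.IsPerfect ((DCoh.Rpush f').obj ((DCoh.Lpull g').obj G)) :=
    isPerfect_iso (asIso (DCoh.baseChangeApp (lpullRpushAdj g) (lpullRpushAdj g') e G))
      (isPerfect_lpull g _ (hperf G hG))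
  refine DCohLib.isPerfect_of_local fun y => ?_
  obtain ⟨_, ⟨V : Y.Opens, hV, rfl⟩, hyV, -⟩ :=
    Y.isBasis_affineOpens.exists_subset_of_mem_open (a := g y) (Set.mem_univ _) isOpen_univ
  obtain ⟨_, ⟨V' : Y'.Opens, hV', rfl⟩, hyV', hle⟩ :=
    Y'.isBasis_affineOpens.exists_subset_of_mem_open (a := y) (u := (g ⁻¹ᵁ V : Set Y')) hyV (g ⁻¹ᵁ V).isOpen
  haveI : IsAffine (V : Scheme.{u}) := hV
  haveI : IsAffine (V' : Scheme.{u}) := hV'
  let W : X.Opens := f ⁻¹ᵁ V
  let W' : X'.Opens := f' ⁻¹ᵁ V'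
  have hW : W' ≤ g' ⁻¹ᵁ W := by
    intro x hx
    show f (g' x) ∈ V
    rw [← Scheme.Hom.comp_apply, hsq.w, Scheme.Hom.comp_apply]
    exact hle hx
  let k : (W' : Scheme.{u}) ⟶ W := g'.resLE W W' hW
  have hsW : IsPullback k (f' ∣_ V') (f ∣_ V) (g.resLE V V' hle) := by
    refine IsPullback.of_right ?_ ?_ (isPullback_morphismRestrict f V).flip
    · rw [Scheme.Hom.resLE_comp_ι g' hW, Scheme.Hom.resLE_comp_ι g hle]
      exact (isPullback_morphismRestrict f' V').flip.paste_horiz hsq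
    · rw [← cancel_mono V.ι, Category.assoc, Category.assoc, morphismRestrict_ι, Scheme.Hom.resLE_comp_ι,
        Scheme.Hom.resLE_comp_ι_assoc, morphismRestrict_ι_assoc, hsq.w]
  haveI : IsAffineHom (g.resLE V V' hle) := isAffineHom_of_isAffine _
  haveI : IsAffineHom k := MorphismProperty.of_isPullback (P := @IsAffineHom) hsW.flip inferInstance
  haveI : CompactSpace (W' : Scheme.{u}) := isCompact_iff_compactSpace.1 (f'.isCompact_preimage hV'.isCompact)
  haveI : CompactSpace (W : Scheme.{u}) := isCompact_iff_compactSpace.1 (f.isCompact_preimage hV.isCompact)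
  haveI : QuasiSeparatedSpace (W' : Scheme.{u}) := quasiSeparatedSpace_of_quasiSeparated W'.ι
  haveI : DCoh.HasRpush (f' ∣_ V') := BC.hasRpush _
  obtain ⟨eV⟩ := Groth.Agent.S6508.result f' V'
  refine ⟨V', V'.ι, inferInstance, ⟨y, hyV'⟩, rfl, isPerfect_iso (eV.app P).symm ?_⟩
  refine isPerfect_rpush_of_generator (G := (DCoh.restrictD W'.ι).obj ((DCoh.Lpull g').obj G)) (f' ∣_ V')
    (DCohLib.isPerfect_restrict _ (isPerfect_lpull g' _ hG)) ?_
    (isPerfect_iso (eV.app _) (DCohLib.isPerfect_restrict V'.ι hG1)) (DCohLib.isPerfect_restrict _ hP)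
  intro E hE hE0
  haveI : DCoh.HasLpull W'.ι := hasLpull _
  haveI : DCoh.HasRpush W'.ι := BC.hasRpush _
  let adjT := (lpullRpushAdj g').comp (restrictAdj W'.ι)
  let R := DCoh.Rpush W'.ι ⋙ DCoh.Rpush g'
  haveI : DCoh.HasRpush (W'.ι ≫ g') := BC.hasRpush _
  haveI : DCoh.HasRpush k := BC.hasRpush _
  haveI : DCoh.HasRpush W.ι := BC.hasRpush _
  obtain ⟨c₁⟩ := nonempty_rpushCompIso W'.ι g'
  haveI : DCoh.HasRpush (k ≫ W.ι) := BC.hasRpush _
  obtain ⟨c₂⟩ := nonempty_rpushCompIso k W.ι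
  have hk : k ≫ W.ι = W'.ι ≫ g' := Scheme.Hom.resLE_comp_ι g' hW
  let eR : R ≅ DCoh.Rpush k ⋙ DCoh.Rpush W.ι := c₁ ≪≫ eqToIso (by simp only [hk]) ≪≫ c₂.symm
  haveI : QuasiCompact W.ι := quasiCompact_of_compactSpace W.ι
  have hRq : ∀ M : DCoh.D (W' : Scheme.{u}), DCoh.IsQCohD M → DCoh.IsQCohD (R.obj M) := fun M hM =>
    TildeD.isQCohD_of_iso (eR.app M).symm (isQCohD_rpush W.ι _ (isQCohD_rpush k _ hM))
  have hz : IsZero (R.obj E) := by
    refine hgen (R.obj E) (hRq E hE) (fun _ => Set.subset_univ _) fun n φ => ?_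
    haveI : SiteCmp.HasRpushD (ModSite.RMor.ofScheme (W'.ι ≫ g')) := ‹DCoh.HasRpush (W'.ι ≫ g')›
    obtain ⟨cs, _⟩ := exists_triangulated_rpushD (ModSite.RMor.ofScheme (W'.ι ≫ g'))
    letI : (DCoh.Rpush (W'.ι ≫ g')).CommShift ℤ := cs
    let d : (R.obj E)⟦n⟧ ≅ R.obj (E⟦n⟧) := (shiftFunctor _ n).mapIso (c₁.app E) ≪≫
      (((DCoh.Rpush (W'.ι ≫ g')).commShiftIso n).app E).symm ≪≫ (c₁.app (E⟦n⟧)).symm
    let ψ : (DCoh.restrictD W'.ι).obj ((DCoh.Lpull g').obj G) ⟶ E⟦n⟧ := (adjT.homEquiv _ _).symm (φ ≫ d.hom)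
    have hψ : ψ = 0 := by
      refine (shiftFunctor (DCoh.D (W' : Scheme.{u})) (-n)).map_injective ?_
      rw [Functor.map_zero, ← cancel_mono ((shiftEquiv (DCoh.D (W' : Scheme.{u})) n).unitIso.inv.app E), zero_comp]
      exact hE0 (-n) _
    rw [← cancel_mono d.hom, zero_comp, ← (adjT.homEquiv _ _).apply_symm_apply (φ ≫ d.hom)]
    show adjT.homEquiv _ _ ψ = 0
    rw [hψ, Adjunction.homEquiv_unit]
    haveI : R.IsRightAdjoint := adjT.isRightAdjoint
    exact (congrArg _ (R.map_zero _ _)).trans comp_zero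
  exact isZero_of_isZero_rpush_affine k E hE (isZero_of_isZero_rpush_open W.ι _ (hz.of_iso (eR.app E).symm))

end Groth.Agent.TwistShriek
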