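import Groth.Agent.TwistShriek.PointCurve
import Groth.Agent.TwistShriek.PointDim
import Groth.Agent.TwistShriek.PicPrime
import Groth.Agent.TwistShriek.SurfCan
import Groth.Agent.S15540
import Groth.Agent.DetLib.Ses
import Groth.Agent.S19541

/-!
# The canonical module of the blow-up of a point
-/

set_option autoImplicit false
set_option backward.isDefEq.respectTransparency false
set_option linter.style.haveILetI false
set_option maxHeartbeats 1000000

universe u

open CategoryTheory CategoryTheory.Limits AlgebraicGeometry TopologicalSpace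
open Groth.Agent.Nakai
open Groth.Agent.IntLib (PicRing pairing dif inv')

noncomputable section

namespace Groth.Agent.TwistShriek.PointBlow

variable {X X' : Scheme.{u}} {x : X} {hx : IsClosed ({x} : Set X)} {π : X' ⟶ X}
variable (hb : BlowUp.IsBlowUp π (pointIdeal hx))
variable (k : Type u) [Field k] [IsAlgClosed k] [X.Over (Spec (CommRingCat.of k))] [X'.Over (Spec (CommRingCat.of k))]
  [IsProper (X ↘ Spec (CommRingCat.of k))] [IsProper (X' ↘ Spec (CommRingCat.of k))]

include hb in
/-- `E² = -1` over an algebraically closed field. -/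
theorem form_exceptional_closed (P : PointParams hx)
    (hπk : π ≫ (X ↘ Spec (CommRingCat.of k)) = X' ↘ Spec (CommRingCat.of k))
    (hI : PicF.IsInvertible (ClSub.idealMod (BlowUp.exceptional π (pointIdeal hx)))) :
    form k (cl hI) (cl hI) = -1 := by
  rw [form_exceptional hb k P hπk hI, euler_quotMod_point k hx]
  letI : Algebra k (X.residueField x) := Curv2.resAlgebra k X x
  rw [(AlgEquiv.ofBijective (Algebra.ofId k (X.residueField x)) (S19541.resMap_bijective hx)).toLinearEquiv.finrank_eq.symm,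
    Module.finrank_self]
  norm_num

variable [IsIntegral X'] [Smooth (X' ↘ Spec (CommRingCat.of k))]

include hb in
/-- `K' · E = -1`, in ideal sheaves `(I · W') = 1`. -/
theorem form_exceptional_canonical (hdim' : topologicalKrullDim X' = 2) (P : PointParams hx)
    (hπk : π ≫ (X ↘ Spec (CommRingCat.of k)) = X' ↘ Spec (CommRingCat.of k))
    (hI : PicF.IsInvertible (ClSub.idealMod (BlowUp.exceptional π (pointIdeal hx))))
    {W' : X'.Modules} (hW' : ExtPow.IsExtPow 2 (Omega.sheaf (X' ↘ Spec (CommRingCat.of k))) W')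
    (hWi : PicF.IsInvertible W') : form k (cl hI) (cl hWi) = 1 := by
  have h := form_adjunction k hdim' hW' hWi hI
  rw [form_exceptional_closed hb k P hπk hI, euler_exceptional hb k P] at h
  linarith

theorem num_exp {a b x y p : ℤ} (h : x + a * y = p + b * y) (hy : y = -1) (hx : x = 1) (hp : p = 0) : a = b + 1 := by
  subst hy hx hp; linarith

theorem num_sq {K Kp e m : ℤ} (h : Kp = K + 2 * m + e) (he : e = -1) (hm : m = 1) : K = Kp - 1 := by
  subst he hm; linarith

include hb in
/-- The canonical module of the blow-up. -/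
theorem nonempty_canonical_iso (hdim : topologicalKrullDim X ≤ ((2 : ℕ) : WithBot ℕ∞))
    (hdim' : topologicalKrullDim X' = 2) (P : PointParams hx)
    (hπk : π ≫ (X ↘ Spec (CommRingCat.of k)) = X' ↘ Spec (CommRingCat.of k))
    {W : X.Modules} (hW : ExtPow.IsExtPow 2 (Omega.sheaf (X ↘ Spec (CommRingCat.of k))) W) (hWi : PicF.IsInvertible W)
    {W' : X'.Modules} (hW' : ExtPow.IsExtPow 2 (Omega.sheaf (X' ↘ Spec (CommRingCat.of k))) W') :
    Nonempty (CohB1.tensorMod W' (ClSub.idealMod (BlowUp.exceptional π (pointIdeal hx))) ≅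
        (Scheme.Modules.pullback π).obj W) ∧
      FGA.intNum k X' 2 ![W', W'] (Coh.structureModule X') =
        FGA.intNum k X 2 ![W, W] (Coh.structureModule X) - 1 := by
  haveI := EulerIneqLib.isNoetherian_proper (X := X) k
  haveI := EulerIneqLib.isNoetherian_proper (X := X') k
  haveI := isProper hb
  have hd' : topologicalKrullDim X' ≤ ((2 : ℕ) : WithBot ℕ∞) := by exact_mod_cast hdim'.le
  let I := BlowUp.exceptional π (pointIdeal hx)
  have hI : PicF.IsInvertible (ClSub.idealMod I) := (S8914.result _).2 hb.1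
  obtain ⟨hW'i, -, -⟩ := canonical_data_proper k hdim' hW'
  have hπW := AmpleLib.isInvertible_pullback π hWi
  obtain ⟨V, hV, eV⟩ := AmpleEmb.exists_isInverseOf hπW
  let U0 : X'.Opens := (I.support.compl : X'.Opens)
  -- off the exceptional divisor the canonical modules agree
  have e0 : Nonempty (W'.restrict U0.ι ≅ ((Scheme.Modules.pullback π).obj W).restrict U0.ι) := by
    haveI : IsOpenImmersion (U0.ι ≫ π) := BlowCompLib.isOpenImmersion_off_exceptional _ π hb
    have h1 := S15540.result X (Spec (CommRingCat.of k)) U0.toScheme (Spec (CommRingCat.of k)) (X ↘ _)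
      (U0.ι ≫ (X' ↘ Spec (CommRingCat.of k))) (U0.ι ≫ π) (𝟙 _)
      (by rw [Category.assoc, hπk, Category.comp_id]) 2 W hW
    have h2 := S15540.result X' (Spec (CommRingCat.of k)) U0.toScheme (Spec (CommRingCat.of k)) (X' ↘ _)
      (U0.ι ≫ (X' ↘ Spec (CommRingCat.of k))) U0.ι (𝟙 _) (by rw [Category.comp_id]) 2 W' hW'
    obtain ⟨e⟩ := DetLib.nonempty_iso_of_isExtPow h2 h1
    exact ⟨(Scheme.Modules.restrictFunctorIsoPullback U0.ι).app W' ≪≫ e ≪≫
      ((Scheme.Modules.pullbackComp U0.ι π).app W).symm ≪≫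
      ((Scheme.Modules.restrictFunctorIsoPullback U0.ι).app _).symm⟩
  obtain ⟨e0⟩ := e0
  obtain ⟨eV'⟩ := eV
  have eM : Nonempty ((CohB1.tensorMod W' V).restrict U0.ι ≅ Coh.structureModule U0.toScheme) := by
    have h1 : IntLib.mk ((Scheme.Modules.pullback U0.ι).obj (CohB1.tensorMod W' V)) =
        IntLib.mk (Coh.structureModule U0.toScheme) := by
      have e0' : (Scheme.Modules.pullback U0.ι).obj W' ≅ (Scheme.Modules.pullback U0.ι).obj ((Scheme.Modules.pullback π).obj W) :=
        ((Scheme.Modules.restrictFunctorIsoPullback U0.ι).app W').symm ≪≫ e0 ≪≫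
          (Scheme.Modules.restrictFunctorIsoPullback U0.ι).app _
      rw [← IntLib.pullCls_mk, IntLib.mk_tensor, map_mul, IntLib.pullCls_mk, IntLib.mk_congr e0',
        ← IntLib.pullCls_mk, ← map_mul, ← IntLib.mk_tensor, IntLib.mk_congr eV', IntLib.mk_structureModule,
        IntLib.mk_structureModule, map_one]
    obtain ⟨e⟩ := IntLib.mk_eq_mk.1 h1
    exact ⟨(Scheme.Modules.restrictFunctorIsoPullback U0.ι).app _ ≪≫ e⟩
  obtain ⟨eM⟩ := eM
  obtain ⟨a, b, hab⟩ := exists_mk_eq_pow hb.1 (isIntegral_E hb P) (AmpleLib.isInvertible_tensor hW'i hV) eM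
  have hmk : IntLib.mk (CohB1.tensorMod W' (CohB1.tensorPow (ClSub.idealMod I) a)) =
      IntLib.mk (CohB1.tensorMod ((Scheme.Modules.pullback π).obj W) (CohB1.tensorPow (ClSub.idealMod I) b)) := by
    rw [IntLib.mk_tensor, IntLib.mk_tensor, IntLib.mk_tensorPow, IntLib.mk_tensorPow, ← hab, IntLib.mk_tensor]
    have hv : IntLib.mk ((Scheme.Modules.pullback π).obj W) * IntLib.mk V = 1 := by
      rw [← IntLib.mk_tensor, IntLib.mk_congr eV']; rfl
    rw [← mul_assoc, ← mul_assoc, mul_comm (IntLib.mk ((Scheme.Modules.pullback π).obj W)) (IntLib.mk W'),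
      mul_assoc (IntLib.mk W'), hv, mul_one]
  obtain ⟨eP⟩ := IntLib.mk_eq_mk.1 hmk
  have hA := AmpleLib.isInvertible_tensor hW'i (AmpleLib.isInvertible_tensorPow hI a)
  have hB := AmpleLib.isInvertible_tensor hπW (AmpleLib.isInvertible_tensorPow hI b)
  have hf : ∀ {L : X'.Modules} (hL : PicF.IsInvertible L) (n : ℕ),
      form k (cl (AmpleLib.isInvertible_tensor hL (AmpleLib.isInvertible_tensorPow hI n))) (cl hI) =
        form k (cl hL) (cl hI) + n * form k (cl hI) (cl hI) := fun {L} hL n => by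
    have h1 : cl (AmpleLib.isInvertible_tensor hL (AmpleLib.isInvertible_tensorPow hI n)) -
        (cl hL + cl (AmpleLib.isInvertible_tensorPow hI n)) ∈ Aug X' ^ 2 := by
      rw [cl_tensor hL (AmpleLib.isInvertible_tensorPow hI n), add_sub_cancel_left, pow_two]
      exact Ideal.mul_mem_mul (cl_mem _) (cl_mem _)
    rw [form_congr k hdim' h1 (cl_mem hI), form_add_left,
      form_congr k hdim' (cl_tensorPow_sub_mem hI n) (cl_mem hI), ← Int.cast_natCast (R := PicRing X'),
      ← zsmul_eq_mul, form_smul_left]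
  have hWE := form_exceptional_canonical hb k hdim' P hπk hI hW' hW'i
  have hEE := form_exceptional_closed hb k P hπk hI
  have hπE := intNum_pullback_exceptional hb k P hπk hdim hd' hI hWi
  have h0 := congrArg (fun z => form k z (cl hI)) (cl_congr hA hB eP)
  change form k (cl hA) (cl hI) = form k (cl hB) (cl hI) at h0
  rw [hf hW'i a, hf hπW b] at h0
  rw [form_comm k (cl hW'i) (cl hI)] at h0
  have hab' : (a : ℤ) = b + 1 := num_exp h0 hEE hWE hπE
  have hab'' : a = b + 1 := by exact_mod_cast hab'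
  subst hab''
  obtain ⟨N, hN, eN⟩ := AmpleEmb.exists_isInverseOf hI
  have hmk2 : IntLib.mk (CohB1.tensorMod W' (ClSub.idealMod I)) = IntLib.mk ((Scheme.Modules.pullback π).obj W) := by
    have hu : IntLib.mk (ClSub.idealMod I) * IntLib.mk N = 1 := by
      rw [← IntLib.mk_tensor, ← IntLib.mk_structureModule]; exact IntLib.mk_eq_mk.2 eN
    have h1 := congrArg (· * IntLib.mk N ^ b) hmk
    simp only [IntLib.mk_tensor, IntLib.mk_tensorPow] at h1
    rw [pow_succ', ← mul_assoc, mul_assoc _ _ (IntLib.mk N ^ b), mul_assoc _ _ (IntLib.mk N ^ b), ← mul_pow, hu,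
      one_pow, mul_one, mul_one] at h1
    rw [IntLib.mk_tensor]
    exact h1
  obtain ⟨eR⟩ := IntLib.mk_eq_mk.1 hmk2
  refine ⟨⟨eR⟩, ?_⟩
  have h2 : cl hπW - (cl hW'i + cl hI) ∈ Aug X' ^ 2 := by
    rw [cl_congr hπW (AmpleLib.isInvertible_tensor hW'i hI) eR.symm, cl_tensor hW'i hI, add_sub_cancel_left, pow_two]
    exact Ideal.mul_mem_mul (cl_mem _) (cl_mem _)
  have h3 := intNum_pullback_pullback hb k hπk hdim hd' hWi hWi
  rw [intNum_eq_form k hd' hπW hπW, form_congr k hdim' h2 (cl_mem hπW), form_add_left, form_comm k (cl hW'i),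
    form_comm k (cl hI) (cl hπW), hπE, add_zero, form_congr k hdim' h2 (cl_mem hW'i), form_add_left, hWE] at h3
  rw [intNum_eq_form k hd' hW'i hW'i, ← h3]
  ring

end Groth.Agent.TwistShriek.PointBlow
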