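import Groth.Agent.TwistShriek.PointInter
import Groth.Agent.BlowCompLib.Basic
import Groth.Agent.DevLib.Piece

/-!
# Intersection numbers of pullbacks along the blow-up of a point
-/

set_option autoImplicit false
set_option backward.isDefEq.respectTransparency false
set_option linter.style.haveILetI false
set_option maxHeartbeats 1000000

universe u

open CategoryTheory CategoryTheory.Limits AlgebraicGeometry TopologicalSpace
open Groth.Agent.PullbackMod Groth.Agent.DCohLib Groth.Agent.QCohLib Groth.Agent.Nakai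
open Groth.Agent.IntLib (PicRing pairing dif inv')

noncomputable section

namespace Groth.Agent.TwistShriek.PointBlow

/-- A map of modules bijective on opens inside a neighbourhood is bijective on stalks there. -/
theorem bijective_stalkLin_of_app {X : Scheme.{u}} {M N : X.Modules} (φ : M ⟶ N) (U : X.Opens)
    (h : ∀ V : X.Opens, V ≤ U → Function.Bijective (φ.app V)) {y : X} (hy : y ∈ U) :
    Function.Bijective (stalkLin φ y) := by
  refine ⟨(injective_iff_map_eq_zero _).2 fun z hz => ?_, fun w => ?_⟩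
  · obtain ⟨V, hyV, s, rfl⟩ := TopCat.Presheaf.exists_germ_eq M.presheaf z
    rw [← TopCat.Presheaf.germ_res_apply M.presheaf (homOfLE (inf_le_left : V ⊓ U ≤ V)) y ⟨hyV, hy⟩ s] at hz ⊢
    rw [stalkLin_germ] at hz
    have hyVU : y ∈ V ⊓ U := ⟨hyV, hy⟩
    obtain ⟨W, hyW, i, _, hW⟩ := TopCat.Presheaf.germ_eq N.presheaf y hyVU hyVU _ _ (hz.trans (map_zero _).symm)
    rw [map_zero, ← ConcreteCategory.comp_apply] at hW
    have h0 : φ.app W (M.presheaf.map i.op (M.presheaf.map (homOfLE (inf_le_left : V ⊓ U ≤ V)).op s)) = 0 := by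
      refine Eq.trans ?_ hW
      exact ConcreteCategory.congr_hom (φ.mapPresheaf.naturality i.op) _
    rw [← TopCat.Presheaf.germ_res_apply M.presheaf i y hyW,
      (h W (i.le.trans inf_le_right)).1 (h0.trans (map_zero _).symm), map_zero]
  · obtain ⟨V, hyV, s, rfl⟩ := TopCat.Presheaf.exists_germ_eq N.presheaf w
    obtain ⟨t, ht⟩ := (h (V ⊓ U) inf_le_right).2 (N.presheaf.map (homOfLE inf_le_left).op s)
    refine ⟨M.presheaf.germ (V ⊓ U) y ⟨hyV, hy⟩ t, ?_⟩
    rw [stalkLin_germ, ht]
    exact TopCat.Presheaf.germ_res_apply N.presheaf _ _ _ _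

/-- Modules isomorphic off a finite closed set pair alike with products of enough classes. -/
theorem pairing_eq_of_bijective_off (k : Type u) [Field k] {X : Scheme.{u}} [X.Over (Spec (CommRingCat.of k))]
    [IsProper (X ↘ Spec (CommRingCat.of k))] {M N : X.Modules} (hM : Coh.IsCoh M) (hN : Coh.IsCoh N) (φ : M ⟶ N)
    {Z : Set X} {r : ℕ} (hZd : topologicalKrullDim Z < (r : WithBot ℕ∞))
    (h : ∀ y ∉ Z, Function.Bijective (stalkLin φ y)) (L : Fin r → X.Modules) (hL : ∀ i, PicF.IsInvertible (L i)) :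
    pairing k M (∏ i, dif (hL i)) = pairing k N (∏ i, dif (hL i)) := by
  haveI := EulerIneqLib.isNoetherian_proper (X := X) k
  obtain ⟨hK, -⟩ := QCohLib.isCoh_kernel_cokernel φ hM hN
  have hz : ∀ {P : X.Modules}, Coh.IsCoh P → CohB1.support P ⊆ Z → pairing k P (∏ i, dif (hL i)) = 0 :=
    fun {P} hP hs => IntLib.pairing_prod_eq_zero k hP
      (lt_of_le_of_lt (Topology.IsEmbedding.inclusion hs).toIsInducing.topologicalKrullDim_le hZd) L hL
  have hk : CohB1.support (kernel φ) ⊆ Z := fun y hy => by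
    by_contra hyp
    refine hy (subsingleton_of_forall_eq 0 fun z => ?_)
    have h1 : stalkLin (kernel.ι φ) y z = 0 := (h y hyp).1 (by
      rw [map_zero, ← LinearMap.comp_apply, ← stalkLin_comp, kernel.condition]
      exact LinearMap.congr_fun ((eq_zero_iff_stalk _).1 rfl y) z)
    exact (mono_iff_stalk (kernel.ι φ)).1 inferInstance y (h1.trans (map_zero _).symm)
  let A : X.Modules := cokernel (kernel.ι φ)
  have hA : Coh.IsCoh A := (QCohLib.isCoh_kernel_cokernel (kernel.ι φ) hK hM).2
  let ψ : A ⟶ N := cokernel.desc (kernel.ι φ) φ (kernel.condition φ)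
  haveI : Mono ψ := inferInstanceAs (Mono (Abelian.factorThruCoimage φ))
  have hC : Coh.IsCoh (cokernel ψ) := (QCohLib.isCoh_kernel_cokernel ψ hA hN).2
  have hc : CohB1.support (cokernel ψ) ⊆ Z := fun y hy => by
    by_contra hyp
    refine hy (DevLib.subsingleton_coker ψ fun w => ?_)
    obtain ⟨m, hm⟩ := (h y hyp).2 w
    refine ⟨stalkLin (cokernel.π (kernel.ι φ)) y m, ?_⟩
    rw [← LinearMap.comp_apply, ← stalkLin_comp, cokernel.π_desc]
    exact hm
  have h1 := IntLib.pairing_coker k (kernel.ι φ) hK hM (∏ i, dif (hL i))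
  have h2 := IntLib.pairing_coker k ψ hA hN (∏ i, dif (hL i))
  rw [hz hC hc, add_zero] at h2
  rw [hz hK hk, zero_add] at h1
  exact h1.trans h2.symm

variable {X X' : Scheme.{u}} {x : X} {hx : IsClosed ({x} : Set X)} {π : X' ⟶ X}
variable (hb : BlowUp.IsBlowUp π (pointIdeal hx))
variable (k : Type u) [Field k] [X.Over (Spec (CommRingCat.of k))] [X'.Over (Spec (CommRingCat.of k))]
  [IsProper (X ↘ Spec (CommRingCat.of k))] [IsProper (X' ↘ Spec (CommRingCat.of k))]

include hb in
/-- Intersection numbers of pullbacks are those of the base. -/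
theorem intNum_pullback_pullback (hπk : π ≫ (X ↘ Spec (CommRingCat.of k)) = X' ↘ Spec (CommRingCat.of k))
    (hd : topologicalKrullDim X ≤ ((2 : ℕ) : WithBot ℕ∞)) (hd' : topologicalKrullDim X' ≤ ((2 : ℕ) : WithBot ℕ∞))
    {L M : X.Modules} (hL : PicF.IsInvertible L) (hM : PicF.IsInvertible M) :
    FGA.intNum k X' 2 ![(Scheme.Modules.pullback π).obj L, (Scheme.Modules.pullback π).obj M] (Coh.structureModule X') =
      FGA.intNum k X 2 ![L, M] (Coh.structureModule X) := by
  haveI := EulerIneqLib.isNoetherian_proper (X := X) k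
  haveI := EulerIneqLib.isNoetherian_proper (X := X') k
  haveI := isProper hb
  haveI : Coh.IsQCoh (Coh.structureModule X') := (DevLib.isCoh_structureModule X').1
  have hLM : ∀ i, PicF.IsInvertible (![L, M] i) := Fin.forall_fin_two.2 ⟨hL, hM⟩
  have e : (fun i => (Scheme.Modules.pullback π).obj (![L, M] i)) =
      ![(Scheme.Modules.pullback π).obj L, (Scheme.Modules.pullback π).obj M] := by
    funext i; fin_cases i <;> rfl
  rw [← e, S11746.result k X X' π hπk 2 2 hd hd' ![L, M] hLM (Coh.structureModule X') (DevLib.isCoh_structureModule X')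
      ((topologicalKrullDim_subspace_le X' _).trans hd'),
    IntLib.intNum_eq k hd _ _ hLM, IntLib.intNum_eq k hd _ _ hLM]
  symm
  refine pairing_eq_of_bijective_off k (DevLib.isCoh_structureModule X)
    (RpushLib.isCoh_push π (DevLib.isCoh_structureModule X')) (ClSub.unitToPush π) (Z := {x})
    (lt_of_le_of_lt (topologicalKrullDim_zero_of_discreteTopology ({x} : Set X)) (by norm_num)) (fun y hy => ?_) _ hLM
  haveI := BlowCompLib.isIso_restrict _ π hb
  let U0 : X.Opens := (pointIdeal hx).support.compl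
  have hyU : y ∈ U0 := by
    show y ∉ ((pointIdeal hx).support : Set X)
    rwa [Scheme.IdealSheafData.coe_support_vanishingIdeal]
  refine bijective_stalkLin_of_app _ U0 (fun V hV => ?_) hyU
  show Function.Bijective (π.app V)
  haveI : IsIso (π.app V) := by
    have hV' : U0.ι ''ᵁ (U0.ι ⁻¹ᵁ V) = V := by
      rw [Scheme.Hom.image_preimage_eq_opensRange_inf, Scheme.Opens.opensRange_ι]
      exact inf_eq_right.2 hV
    have h1 : IsIso ((π ∣_ U0).app (U0.ι ⁻¹ᵁ V)) := inferInstance
    rw [morphismRestrict_app] at h1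
    haveI := h1
    haveI : IsIso (π.app (U0.ι ''ᵁ (U0.ι ⁻¹ᵁ V))) := IsIso.of_isIso_comp_right _ (X'.presheaf.map (eqToHom
      (image_morphismRestrict_preimage π U0 (U0.ι ⁻¹ᵁ V))).op)
    rwa [hV'] at *
  exact ConcreteCategory.bijective_of_isIso (π.app V)

end Groth.Agent.TwistShriek.PointBlow
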