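import Groth.Agent.TwistShriek.ProjBound
import Groth.Agent.FibreVanishQC.Main
import Groth.Agent.ASp.FibreDimSp
import Groth.Agent.SeesawVB.TrivFibres
import Groth.Agent.DCohLib.TensorMod

/-!
# Direct images along proper flat morphisms with bounded fibre dimension
-/

set_option autoImplicit false
set_option linter.style.haveILetI false
set_option linter.unusedSectionVars false
set_option backward.isDefEq.respectTransparency false
set_option maxHeartbeats 1000000

universe u

open CategoryTheory CategoryTheory.Limits AlgebraicGeometry TopologicalSpace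
open Groth.Agent.DCohLib Groth.Agent.DCohMore Groth.Agent.DerSchH7

attribute [local instance] HasDerivedCategory.standard

noncomputable section

namespace Groth.Agent.TwistShriek

/-- Derived direct images of objects `≤ c` are `≤ c + N` if higher direct images vanish above `N`. -/
theorem isLE_rpush_of_bound' {X Y : Scheme.{u}} (f : X ⟶ Y) [QuasiCompact f] [QuasiSeparated f]
    [DCoh.HasRpush f] [HasInjectiveResolutions X.Modules] (N : ℕ)
    (hN : ∀ F : X.Modules, Coh.IsQCoh F → ∀ p : ℕ, N < p → IsZero ((Coh.Rpush f p).obj F))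
    (Z : DCoh.D X) (c : ℤ) (hZ : DCoh.IsQCohD Z) (hc : Z.IsLE c) :
    ((DCoh.Rpush f).obj Z).IsLE (c + N) := by
  haveI : HasInjectiveResolutions (ModSite.Mod X.sheaf) := ‹HasInjectiveResolutions X.Modules›
  haveI : SiteCmp.HasRpushD (ModSite.RMor.ofScheme f) := ‹DCoh.HasRpush f›
  let g := ModSite.RMor.ofScheme f
  obtain ⟨_, _⟩ := SiteCmpLib.exists_triangulated_rpushD g
  refine (DerivedCategory.isLE_iff _ _).2 fun j hj => ?_
  let k : ℤ := c + 1
  let Z' := Z⟦k⟧
  have hZ' : DCoh.IsQCohD Z' := fun i =>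
    isQCoh_of_iso' (((DerivedCategory.homologyFunctor X.Modules 0).shiftIso k i (k + i) rfl).app Z).symm (hZ (k + i))
  have hc' : ∀ i, -1 < i → IsZero ((DerivedCategory.homologyFunctor X.Modules i).obj Z') := fun i hi =>
    ((DerivedCategory.isLE_iff Z c).1 hc (k + i) (by omega)).of_iso
      (((DerivedCategory.homologyFunctor X.Modules 0).shiftIso k i (k + i) rfl).app Z)
  obtain ⟨-, hst⟩ := SiteCmpLib.cohIn_and_isIso_truncGEπ g (DCohMore.qcP X) X.affineOpens Y.affineOpens
    (DCohMore.affine_hB X) (DCohMore.affine_hA X) (DCohMore.affine_hB Y) (N : ℤ)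
    (fun F hF p hp => hN F hF p (by omega)) Z' hZ' (DCohMore.qcP Y)
    (fun F hF p => by
      haveI : Coh.IsQCoh (X := X) F := hF
      exact RpushLib.isQCoh_rpush f p) (DCohMore.affine_hA Y)
  have hiso := hst 0 (j - k) (by omega)
  let t : CategoryTheory.Triangulated.TStructure (DCoh.D X) := DerivedCategory.TStructure.t
  have hL : IsZero ((t.truncGE (-((0 : ℕ) : ℤ))).obj Z') := isZero_of_isZero_HD fun i => by
    rcases lt_or_ge i 0 with h | h
    · haveI : ((t.truncGE (-((0 : ℕ) : ℤ))).obj Z').IsGE 0 :=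
        inferInstanceAs (t.IsGE ((t.truncGE (-((0 : ℕ) : ℤ))).obj Z') (-((0 : ℕ) : ℤ)))
      exact DerivedCategory.isZero_of_isGE _ 0 i h
    · haveI := DCohLib.isIso_homology_truncGEπ Z' (-((0 : ℕ) : ℤ)) i (by omega)
      exact (hc' i (by omega)).of_iso
        (asIso ((DerivedCategory.homologyFunctor X.Modules i).map ((t.truncGEπ (-((0 : ℕ) : ℤ))).app Z'))).symm
  have hz : IsZero ((DerivedCategory.homologyFunctor Y.Modules (j - k)).obj ((SiteCmp.RpushD g).obj Z')) :=
    ((DerivedCategory.homologyFunctor Y.Modules (j - k)).map_isZero ((SiteCmp.RpushD g).map_isZero hL)).of_iso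
      (@asIso _ _ _ _ _ hiso)
  exact hz.of_iso ((((DerivedCategory.homologyFunctor Y.Modules 0).shiftIso k (j - k) j (by omega)).app _).symm ≪≫
    (DerivedCategory.homologyFunctor Y.Modules (j - k)).mapIso (((SiteCmp.RpushD g).commShiftIso k).app Z).symm)

variable {X Y : Scheme.{u}}

/-- Higher direct images vanish above the dimension of the fibres. -/
theorem isZero_rpush_of_fibreDim (f : X ⟶ Y) [IsProper f] (d : ℕ)
    (hd : ∀ y : Y, topologicalKrullDim ↥(f.fiber y) ≤ d) (M : X.Modules) (hM : Coh.IsQCoh M) (p : ℕ) (hp : d < p)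
    [HasInjectiveResolutions X.Modules] : IsZero ((Coh.Rpush f p).obj M) := by
  obtain ⟨p, rfl⟩ : ∃ n, p = n + 1 := ⟨p - 1, by omega⟩
  haveI := hM
  refine DCohLib.isZero_of_stalks fun y => ?_
  refine subsingleton_of_forall_eq 0 fun t => ?_
  obtain ⟨U, hyU, s, rfl⟩ := TopCat.Presheaf.exists_germ_eq ((Coh.Rpush f (p + 1)).obj M).presheaf t
  obtain ⟨_, ⟨W, hW, rfl⟩, hyW, hle⟩ := Y.isBasis_affineOpens.exists_subset_of_mem_open hyU U.2
  haveI := FibreVanishQC.subsingleton_rpush_sections f d hW (fun z _ => hd z) M p (by omega)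
  rw [← TopCat.Presheaf.germ_res_apply _ (homOfLE hle : W ⟶ U) y hyW,
    Subsingleton.elim (((Coh.Rpush f (p + 1)).obj M).presheaf.map _ s) 0, map_zero]

/-- Tor amplitude of direct images along flat proper morphisms with fibres of dimension `≤ d`. -/
theorem hasTorAmplitudeIn_rpush_flat (f : X ⟶ Y) [IsProper f] [Flat f] [DCoh.HasRpush f] (d : ℕ)
    (hd : ∀ y : Y, topologicalKrullDim ↥(f.fiber y) ≤ d) (E : DCoh.D X) (hq : DCoh.IsQCohD E) (a b : ℤ)
    (hab : DCoh.HasFlatAmplitudeIn a b E) :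
    DCoh.HasTorAmplitudeIn a (b + d) ((DCoh.Rpush f).obj E) := by
  haveI : EnoughInjectives X.Modules := inferInstance
  haveI : HasInjectiveResolutions X.Modules := inferInstance
  let F := DerivedCategory.Q.objPreimage E
  let eF : DCoh.toD X F ≅ E := DerivedCategory.Q.objObjPreimageIso E
  obtain ⟨G, hG, hGf, ⟨e⟩⟩ := hab
  have hid : DerSch.HasTorAmplitude (𝟙 X) a b F :=
    hasTorAmplitude_id_of_flatAmplitude ⟨G, hG, hGf, ⟨e ≪≫ eF.symm⟩⟩
  have hrel : DerSch.HasTorAmplitude f a b F := fun x => by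
    have := hasTorAmplitudeAt_comp (𝟙 X) f x (hasTorAmplitudeAt_unit_of_flat f ((𝟙 X : X ⟶ X).base x)) F (hid x)
    simpa using this
  have hq' : DCoh.IsQCohD (DerivedCategory.Q.obj F) := TildeD.isQCohD_of_iso eF.symm hq
  haveI : ((DCoh.Rpush f).obj (DerivedCategory.Q.obj F)).IsLE (b + d) :=
    isLE_rpush_of_bound' f d (fun M hM p hp => isZero_rpush_of_fibreDim f d hd M hM p hp) _ b hq'
      (isGE_isLE_of_hasTorAmplitude f F hrel).2
  have hD := hasTorAmplitudeD_rpush f (𝟙 Y) f (Category.comp_id _) F hq' hrel (c := b + d)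
  let H := DerivedCategory.Q.objPreimage ((DCoh.Rpush f).obj (DerivedCategory.Q.obj F))
  let eH : DCoh.toD Y H ≅ _ := DerivedCategory.Q.objObjPreimageIso ((DCoh.Rpush f).obj (DerivedCategory.Q.obj F))
  obtain ⟨H', hH, hHf, ⟨e'⟩⟩ := flatAmplitude_of_hasTorAmplitude_id (hD H ⟨eH⟩)
  exact hasTorAmplitudeIn_of_hasFlatAmplitudeIn ⟨H', hH, hHf, ⟨e' ≪≫ eH ≪≫ (DCoh.Rpush f).mapIso eF⟩⟩

end Groth.Agent.TwistShriek
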