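import Groth.Agent.TwistShriek.TopDual
import Groth.Agent.TwistShriek.FibreBound
import Groth.Agent.DCohMore.PerfVanish
import Groth.Agent.DCohMore.RpushQC
import Groth.Agent.DQCohBrown.Cat

/-!
# Existence of a pair corepresenting the dual of top cohomology
-/

set_option autoImplicit false
set_option linter.style.haveILetI false
set_option linter.unusedSectionVars false
set_option backward.isDefEq.respectTransparency false
set_option maxHeartbeats 1000000

universe u

open CategoryTheory CategoryTheory.Limits AlgebraicGeometry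
open Groth.Agent.DCohLib Groth.Agent.CohBase

attribute [local instance] HasDerivedCategory.standard

noncomputable section

namespace Groth.Agent.TwistShriek

/-- The right adjoint of the direct image along a proper morphism with fibres of dimension `≤ n` lowers
degrees at most by `n`. -/
theorem isGE_rightAdjoint_of_fibreDim {X Y : Scheme.{u}} (f : X ⟶ Y) [IsProper f] [DCoh.HasRpush f] (n : ℕ)
    (hd : ∀ y : Y, topologicalKrullDim ↥(f.fiber y) ≤ n) (hf : DCoh.RpushPreservesQCoh f)
    (a : DCoh.DQCoh Y ⥤ DCoh.DQCoh X) (adj : DCoh.RpushQ f hf ⊣ a) (W : DCoh.DQCoh Y) (e : ℤ)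
    (hW : W.obj.IsGE e) : (a.obj W).obj.IsGE (e - n) := by
  haveI : EnoughInjectives X.Modules := inferInstance
  haveI : HasInjectiveResolutions X.Modules := inferInstance
  let t : CategoryTheory.Triangulated.TStructure (DCoh.D X) := DerivedCategory.TStructure.t
  let b : ℤ := e - n
  let K : DCoh.DQCoh X := ⟨(t.truncLT b).obj (a.obj W).obj, DCohMore.isQCohD_truncLT (a.obj W).property b⟩
  haveI hK : K.obj.IsLE (b - 1) := inferInstanceAs (t.IsLE ((t.truncLT b).obj (a.obj W).obj) (b - 1))
  haveI := isLE_rpush_of_bound' f n (fun M hM p hp => isZero_rpush_of_fibreDim f n hd M hM p hp) K.obj (b - 1)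
    K.property hK
  haveI := hW
  have h0 : (t.truncLTι b).app (a.obj W).obj = 0 := by
    let g : K ⟶ a.obj W := ⟨(t.truncLTι b).app (a.obj W).obj⟩
    haveI : DerivedCategory.TStructure.t.IsLE ((DCoh.RpushQ f hf).obj K).obj (b - 1 + n) :=
      inferInstanceAs (((DCoh.Rpush f).obj K.obj).IsLE (b - 1 + n))
    have hg : (adj.homEquiv K W).symm g = (adj.homEquiv K W).symm 0 := by
      refine ObjectProperty.hom_ext _ ?_
      exact (DerivedCategory.TStructure.t.zero (((adj.homEquiv K W).symm g).hom :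
          (DCoh.Rpush f).obj K.obj ⟶ W.obj) (b - 1 + n) e (by omega)).trans
        (DerivedCategory.TStructure.t.zero (((adj.homEquiv K W).symm 0).hom :
          (DCoh.Rpush f).obj K.obj ⟶ W.obj) (b - 1 + n) e (by omega)).symm
    exact congrArg (fun z => z.hom) ((adj.homEquiv K W).symm.injective hg)
  refine (DerivedCategory.isGE_iff _ _).2 fun i hi => ?_
  haveI := DCohLib.isIso_homology_truncLTι (a.obj W).obj b i hi
  refine (IsZero.iff_id_eq_zero _).2 ?_
  rw [← cancel_epi ((DerivedCategory.homologyFunctor X.Modules i).map ((t.truncLTι b).app (a.obj W).obj)),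
    comp_zero, h0, Functor.map_zero, zero_comp]

/-- A proper morphism to an affine scheme with fibres of dimension `≤ n` has a pair corepresenting the
dual of `H^n`. -/
theorem exists_dualizing_pair (A : Type u) [CommRing A] (X : Scheme.{u}) [X.Over (Spec (CommRingCat.of A))]
    [IsProper (X ↘ Spec (CommRingCat.of A))] (n : ℕ)
    (hd : ∀ y, topologicalKrullDim ↥((X ↘ Spec (CommRingCat.of A)).fiber y) ≤ n) :
    ∃ (ω : X.Modules), Coh.IsQCoh ω ∧ ∃ γ : Coh.HH X ω n →ₗ[A] A, ∀ F : X.Modules, Coh.IsQCoh F →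
      ∀ ψ : Coh.HH X F n →ₗ[A] A, ∃! φ : F ⟶ ω,
        ∀ x : Coh.HH X F n, ψ x = γ (Sheaf.H.map ((SheafOfModules.toSheaf X.ringCatSheaf).map φ) n x) := by
  let f := X ↘ Spec (CommRingCat.of A)
  let Y := Spec (CommRingCat.of A)
  haveI : PreservesFiniteLimits (tilde.functor (CommRingCat.of A)) := TildeD.preservesFiniteLimits_tilde
  haveI : CompactSpace X := QuasiCompact.compactSpace_of_compactSpace f
  haveI : QuasiSeparatedSpace X := quasiSeparatedSpace_of_quasiSeparated f
  haveI : DCoh.HasRpush f := Groth.Agent.KInj.hasRightDerivedFunctor (hres_modules X) _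
  have h : ∀ K : DCoh.D X, DCoh.IsQCohD K → DCoh.IsQCohD ((DCoh.Rpush f).obj K) :=
    fun K hK => DCohMore.isQCohD_rpush f K hK
  haveI := DQCohBrown.isLeftAdjoint_rpushQ f h
  let a := (DCoh.RpushQ f h).rightAdjoint
  let adj : DCoh.RpushQ f h ⊣ a := Adjunction.ofIsLeftAdjoint (DCoh.RpushQ f h)
  have hOq : DCoh.IsQCohD (DCoh.inD Y (Coh.structureModule Y)) :=
    TildeD.isQCohD_of_iso ((DerivedCategory.singleFunctorIsoCompQ Y.Modules 0).app _).symm
      (DCohMore.isQCohD_sgl₀ _ (inferInstanceAs (Coh.IsQCoh (Coh.structureModule Y))))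
  let O : DCoh.DQCoh Y := ⟨_, hOq⟩
  have hO : O.obj.IsGE 0 := inferInstanceAs ((DCoh.inD Y (Coh.structureModule Y)).IsGE 0)
  have hM := isGE_rightAdjoint_of_fibreDim f n hd h a adj O 0 hO
  let c : (ΓA A).obj (DCoh.HD O.obj 0) ≃ₗ[A] A :=
    ((ΓA A).mapIso ((DerivedCategory.singleFunctorCompHomologyFunctorIso Y.Modules 0).app _ ≪≫
        (tildeSelf (R := CommRingCat.of A)).symm) ≪≫
      ((tilde.toTildeΓNatIso (R := CommRingCat.of A)).app _).symm).toLinearEquiv
  obtain ⟨γ, hγ⟩ := exists_trace_shift A X h a adj O 0 hO n (0 - (n : ℤ)) rfl hM A c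
  refine ⟨_, (a.obj O).property _, γ, fun F hF ψ => hγ F hF (fun j hj => ?_) ψ⟩
  haveI := hF
  obtain ⟨p, rfl⟩ : ∃ p, j = p + 1 := ⟨j - 1, by omega⟩
  exact subsingleton_HH _ _ (FibreVanishQC.subsingleton_HU_affine f n hd F p (by omega))

/-- Maps in cohomology are linear over the base ring. -/
def hMapLin (A : Type u) [CommRing A] {X : Scheme.{u}} [X.Over (Spec (CommRingCat.of A))] {F G : X.Modules}
    (φ : F ⟶ G) (n : ℕ) : Coh.HH X F n →ₗ[A] Coh.HH X G n where
  toFun x := Sheaf.H.map ((SheafOfModules.toSheaf X.ringCatSheaf).map φ) n x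
  map_add' x y := map_add _ x y
  map_smul' r x := by
    show Sheaf.H.map _ n (Sheaf.H.map (Coh.smulAb F (Coh.toGlobal (X ↘ Spec (CommRingCat.of A)) r)) n x) =
      Sheaf.H.map (Coh.smulAb G (Coh.toGlobal (X ↘ Spec (CommRingCat.of A)) r)) n (Sheaf.H.map _ n x)
    rw [← Sheaf.H.map_comp_apply, ← Sheaf.H.map_comp_apply, ← toSheaf_map_smulModΓ, ← toSheaf_map_smulModΓ,
      ← Functor.map_comp, ← Functor.map_comp, KLin.comp_smulModΓ]

end Groth.Agent.TwistShriek
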