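import Groth.Agent.TwistShriek.PushColim
import Groth.Agent.DCohMore.PerfHom
import Groth.Agent.DCohMore.RpushSum
import Groth.Agent.DCohMore.SpecThomason
import Groth.Agent.DCohLib.QCohAbelian
import Groth.Agent.QCohGen.Main

/-!
# Derived direct images and filtered colimits of complexes with quasi-coherent cohomology
-/

set_option autoImplicit false
set_option linter.style.haveILetI false
set_option backward.isDefEq.respectTransparency false
set_option maxHeartbeats 1000000

universe u

open CategoryTheory CategoryTheory.Limits AlgebraicGeometry TopologicalSpace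
open CategoryTheory.Pretriangulated
open Groth.Agent.DCohLib

attribute [local instance] HasDerivedCategory.standard

noncomputable section

namespace Groth.Agent.TwistShriek

variable {X S : Scheme.{u}} {Λ : Type u} [SmallCategory Λ] [IsFiltered Λ]
variable (f : X ⟶ S) [QuasiCompact f] [QuasiSeparated f] [DCoh.HasRpush f]

/-- Over a quasi-compact base, `H^i Rf_*` of objects with quasi-coherent cohomology only sees degrees above a bound. -/
theorem exists_bound_isIso_HD_rpush [CompactSpace S] : ∃ N : ℤ, ∀ (A B : DCoh.D X) (q : A ⟶ B) (m i : ℤ),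
    DCoh.IsQCohD A → DCoh.IsQCohD B → B.IsGE m →
    (∀ k, m ≤ k → IsIso ((DerivedCategory.homologyFunctor X.Modules k).map q)) → m + N ≤ i →
      IsIso ((DerivedCategory.homologyFunctor S.Modules i).map ((DCoh.Rpush f).map q)) := by
  obtain ⟨N, hN⟩ := DCohMore.exists_isLE_rpush_qcoh f
  refine ⟨N, fun A B q m i hA hB hBm hq hmi => ?_⟩
  obtain ⟨Z, g, h, hT⟩ := Pretriangulated.distinguished_cocone_triangle q
  have hZq : DCoh.IsQCohD Z := DCohMore.isQCohD_obj₃' _ hT hA hB
  have hZ : Z.IsLE (m - 2) := (DerivedCategory.isLE_iff _ _).2 fun k hk => by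
    haveI := hBm
    haveI : Mono ((DerivedCategory.homologyFunctor X.Modules (k + 1)).map q) := by
      haveI := hq (k + 1) (by omega)
      infer_instance
    have h1 : DerivedCategory.HomologySequence.δ (Triangle.mk q g h) k (k + 1) rfl = 0 := by
      rw [← cancel_mono ((DerivedCategory.homologyFunctor X.Modules (k + 1)).map q), zero_comp]
      exact DerivedCategory.HomologySequence.δ_comp _ hT k (k + 1) rfl
    haveI : Epi ((DerivedCategory.homologyFunctor X.Modules k).map g) :=
      (DerivedCategory.HomologySequence.exact₃ _ hT k (k + 1) rfl).epi_f h1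
    rcases lt_or_ge k m with hkm | hkm
    · exact IsZero.of_epi ((DerivedCategory.homologyFunctor X.Modules k).map g)
        ((DerivedCategory.isGE_iff B m).1 hBm k hkm)
    · haveI := hq k hkm
      refine IsZero.of_epi_eq_zero ((DerivedCategory.homologyFunctor X.Modules k).map g) ?_
      rw [← cancel_epi ((DerivedCategory.homologyFunctor X.Modules k).map q), comp_zero, ← Functor.map_comp]
      exact (congrArg _ (comp_distTriang_mor_zero₁₂ _ hT)).trans (Functor.map_zero _ _ _)
  obtain ⟨c, hT'⟩ := exists_rpush_triangle f _ _ _ hT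
  have hRZ := (DerivedCategory.isLE_iff _ _).1 (hN Z (m - 2) hZq hZ)
  haveI : Mono ((DerivedCategory.homologyFunctor S.Modules i).map ((DCoh.Rpush f).map q)) :=
    (DerivedCategory.HomologySequence.exact₁ _ hT' (i - 1) i (by omega)).mono_g
      ((hRZ (i - 1) (by omega)).eq_of_src _ _)
  haveI : Epi ((DerivedCategory.homologyFunctor S.Modules i).map ((DCoh.Rpush f).map q)) :=
    (DerivedCategory.HomologySequence.exact₂ _ hT' i).epi_f ((hRZ i (by omega)).eq_of_tgt _ _)
  exact isIso_of_mono_of_epi _

/-- The statement over a quasi-compact base. -/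
theorem nonempty_isColimit_HD_rpush_qcoh_compact [CompactSpace S] (C : Λ ⥤ CochainComplex X.Modules ℤ)
    (hC : ∀ j, DCoh.IsQCohD (DCoh.toD X (C.obj j))) (i : ℤ) :
    Nonempty (IsColimit ((DerivedCategory.Q ⋙ DCoh.Rpush f ⋙ DerivedCategory.homologyFunctor S.Modules i).mapCocone
      (colimit.cocone C))) := by
  obtain ⟨N, hN⟩ := exists_bound_isIso_HD_rpush f
  obtain ⟨m, hmi⟩ : ∃ m : ℤ, m + N ≤ i := ⟨i - N, by omega⟩
  let T : CochainComplex X.Modules ℤ ⥤ CochainComplex X.Modules ℤ :=
    (ComplexShape.embeddingUpIntGE m).truncGEFunctor X.Modules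
  let K := C ⋙ T
  let α : C ⟶ K := C.rightUnitor.inv ≫
    Functor.whiskerLeft C ((ComplexShape.embeddingUpIntGE m).πTruncGENatTrans X.Modules)
  have hα : ∀ l, α.app l = CochainComplex.πTruncGE (C.obj l) m := fun l => by simp [α]; rfl
  let Φ := DerivedCategory.Q ⋙ DCoh.Rpush f ⋙ DerivedCategory.homologyFunctor S.Modules i
  have hq : ∀ (A : CochainComplex X.Modules ℤ), DCoh.IsQCohD (DerivedCategory.Q.obj A) ↔
      ∀ k, Coh.IsQCoh (A.homology k) := fun A => ⟨fun h k => isQCoh_of_iso'
        ((DerivedCategory.homologyFunctorFactors X.Modules k).app A) (h k), fun h k => isQCoh_of_iso'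
        ((DerivedCategory.homologyFunctorFactors X.Modules k).app A).symm (h k)⟩
  have hmap : ∀ {A B : CochainComplex X.Modules ℤ} (g : A ⟶ B) (k : ℤ),
      IsIso (HomologicalComplex.homologyMap g k) →
      IsIso ((DerivedCategory.homologyFunctor X.Modules k).map (DerivedCategory.Q.map g)) := fun {A B} g k hg =>
    (NatIso.isIso_map_iff (DerivedCategory.homologyFunctorFactors X.Modules k) g).2 hg
  haveI hKGE : ∀ l, (K.obj l).IsStrictlyGE m := fun l =>
    inferInstanceAs ((CochainComplex.truncGE (C.obj l) m).IsStrictlyGE m)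
  have hKqc : ∀ l k, Coh.IsQCoh ((K.obj l).homology k) := fun l k => by
    rcases lt_or_ge k m with h | h
    · exact Groth.Agent.DCohLib.isQCoh_of_isZero'
        ((HomologicalComplex.exactAt_iff_isZero_homology _ _).1 ((K.obj l).exactAt_of_isGE m k h))
    · haveI := CochainComplex.quasiIsoAt_πTruncGE (C.obj l) m k h
      haveI : IsIso (HomologicalComplex.homologyMap (α.app l) k) := by
        rw [hα, ← quasiIsoAt_iff_isIso_homologyMap]
        infer_instance
      exact isQCoh_of_iso' (asIso (HomologicalComplex.homologyMap (α.app l) k)) ((hq _).1 (hC l) k)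
  have hK : ∀ j, (DCoh.toD X (K.obj j)).IsGE m := fun j => by
    show (DerivedCategory.Q.obj (K.obj j)).IsGE m
    infer_instance
  obtain ⟨cK⟩ := nonempty_isColimit_HD_rpush f K m hK i
  haveI : ∀ l, IsIso ((Functor.whiskerRight α Φ).app l) := fun l => by
    refine hN _ _ (DerivedCategory.Q.map (α.app l)) m i (hC l) ((hq _).2 (hKqc l)) (hK l) (fun k hk => hmap _ k ?_) hmi
    rw [hα, ← quasiIsoAt_iff_isIso_homologyMap]
    exact CochainComplex.quasiIsoAt_πTruncGE _ m k hk
  haveI := preservesColimitsOfShape_homology (A := X.Modules) (ComplexShape.up ℤ) Λ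
  let a := colimMap α
  have hcolq : ∀ (D : Λ ⥤ CochainComplex X.Modules ℤ), (∀ l k, Coh.IsQCoh ((D.obj l).homology k)) →
      ∀ k, Coh.IsQCoh ((colimit D).homology k) := fun D hD k =>
    isQCoh_of_iso' (preservesColimitIso (HomologicalComplex.homologyFunctor X.Modules (ComplexShape.up ℤ) k) D).symm
      (QCohGen.isQCoh_colimit _ _ fun l => hD l k)
  haveI : (colimit K).IsStrictlyGE m := (CochainComplex.isStrictlyGE_iff _ m).2 fun k hk => (IsZero.iff_id_eq_zero _).2
    ((isColimitOfPreserves (HomologicalComplex.eval X.Modules (ComplexShape.up ℤ) k) (colimit.isColimit K)).hom_ext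
      fun l => ((K.obj l).isZero_of_isStrictlyGE m k hk).eq_of_src _ _)
  haveI : IsIso (Φ.map a) := by
    refine hN _ _ (DerivedCategory.Q.map a) m i ((hq _).2 (hcolq C fun l => (hq _).1 (hC l)))
      ((hq _).2 (hcolq K hKqc)) inferInstance (fun k hk => hmap _ k ?_) hmi
    let H := HomologicalComplex.homologyFunctor X.Modules (ComplexShape.up ℤ) k
    haveI : ∀ l, IsIso ((Functor.whiskerRight α H).app l) := fun l => by
      show IsIso (HomologicalComplex.homologyMap (α.app l) k)
      rw [hα, ← quasiIsoAt_iff_isIso_homologyMap]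
      exact CochainComplex.quasiIsoAt_πTruncGE _ m k hk
    haveI : IsIso (Functor.whiskerRight α H) := NatIso.isIso_of_isIso_app _
    let c₁ := isColimitOfPreserves H (colimit.isColimit C)
    let c₂ := isColimitOfPreserves H (colimit.isColimit K)
    have e : HomologicalComplex.homologyMap a k =
        (IsColimit.coconePointsIsoOfNatIso c₁ c₂ (asIso (Functor.whiskerRight α H))).hom := by
      refine c₁.hom_ext fun l => ?_
      rw [IsColimit.comp_coconePointsIsoOfNatIso_hom]
      show H.map (colimit.ι C l) ≫ H.map a = H.map (α.app l) ≫ H.map (colimit.ι K l)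
      rw [← H.map_comp, ← H.map_comp, ι_colimMap]
    rw [e]
    infer_instance
  let e : C ⋙ Φ ≅ K ⋙ Φ := @asIso _ _ _ _ (Functor.whiskerRight α Φ) (NatIso.isIso_of_isIso_app _)
  refine ⟨IsColimit.ofIsoColimit ((IsColimit.precomposeHomEquiv e _).symm cK)
    (Cocone.ext (asIso (Φ.map a)).symm fun l => ?_)⟩
  show (Φ.map (α.app l) ≫ Φ.map (colimit.ι K l)) ≫ inv (Φ.map a) = Φ.map (colimit.ι C l)
  rw [IsIso.comp_inv_eq, ← Φ.map_comp, ← Φ.map_comp, ι_colimMap]

/-- Derived direct images commute with filtered colimits of complexes with quasi-coherent cohomology. -/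
theorem nonempty_isColimit_HD_rpush_qcoh (C : Λ ⥤ CochainComplex X.Modules ℤ)
    (hC : ∀ j, DCoh.IsQCohD (DCoh.toD X (C.obj j))) (i : ℤ) :
    Nonempty (IsColimit ((DerivedCategory.Q ⋙ DCoh.Rpush f ⋙ DerivedCategory.homologyFunctor S.Modules i).mapCocone
      (colimit.cocone C))) := by
  let Φ := DerivedCategory.Q ⋙ DCoh.Rpush f ⋙ DerivedCategory.homologyFunctor S.Modules i
  let φ := colimit.desc (C ⋙ Φ) (Φ.mapCocone (colimit.cocone C))
  suffices h : IsIso φ from
    ⟨IsColimit.ofIsoColimit (colimit.isColimit _) (Cocone.ext (@asIso _ _ _ _ φ h) fun l => colimit.ι_desc _ l)⟩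
  refine DCohLib.isIso_of_local φ fun y => ?_
  obtain ⟨_, ⟨V : S.Opens, hV, rfl⟩, hy, -⟩ :=
    S.isBasis_affineOpens.exists_subset_of_mem_open (a := y) (Set.mem_univ y) isOpen_univ
  refine ⟨V, V.ι, inferInstance, ⟨y, hy⟩, rfl, ?_⟩
  haveI : IsAffine (V : Scheme.{u}) := hV
  haveI : DCoh.HasRpush (f ∣_ V) := Groth.Agent.KInj.hasRightDerivedFunctor (hres_modules _) _
  obtain ⟨eV⟩ := Groth.Agent.S6508.result f V
  let P : X.Opens := f ⁻¹ᵁ V
  let R := Scheme.Modules.restrictFunctor V.ι
  let ΦV := DerivedCategory.Q ⋙ DCoh.Rpush (f ∣_ V) ⋙ DerivedCategory.homologyFunctor (V : Scheme.{u}).Modules i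
  let e : resCx P.ι ⋙ ΦV ≅ Φ ⋙ R :=
    (Functor.associator _ _ _).symm ≪≫
      Functor.isoWhiskerRight (Scheme.Modules.restrictFunctor P.ι).mapDerivedCategoryFactors.symm _ ≪≫
      Functor.associator _ _ _ ≪≫
      Functor.isoWhiskerLeft DerivedCategory.Q ((Functor.associator _ _ _).symm ≪≫
        Functor.isoWhiskerRight eV.symm (DerivedCategory.homologyFunctor (V : Scheme.{u}).Modules i) ≪≫
        Functor.associator _ _ _ ≪≫ Functor.isoWhiskerLeft (DCoh.Rpush f) (TildeD.nu R i) ≪≫
        (Functor.associator _ _ _).symm) ≪≫ (Functor.associator _ _ _).symm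
  haveI : (Scheme.Modules.restrictFunctor P.ι).IsLeftAdjoint := (Scheme.Modules.restrictAdjunction P.ι).isLeftAdjoint
  haveI : R.IsLeftAdjoint := (Scheme.Modules.restrictAdjunction V.ι).isLeftAdjoint
  haveI : PreservesColimit C (resCx P.ι) := ⟨fun {c} hc => ⟨HomologicalComplex.isColimitOfEval _ _ fun k =>
    isColimitOfPreserves (Scheme.Modules.restrictFunctor P.ι)
      (isColimitOfPreserves (HomologicalComplex.eval X.Modules (ComplexShape.up ℤ) k) hc)⟩⟩
  haveI : PreservesColimit (C ⋙ resCx P.ι) ΦV := preservesColimit_of_preserves_colimit_cocone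
    (colimit.isColimit _) (nonempty_isColimit_HD_rpush_qcoh_compact (f ∣_ V) (C ⋙ resCx P.ι) (fun l =>
      TildeD.isQCohD_of_iso (restrictDQ P.ι (C.obj l)) (TildeD.isQCohD_restrict _ _ (hC l))) i).some
  haveI : PreservesColimit C (Φ ⋙ R) := preservesColimit_of_natIso C e
  let c₁ := isColimitOfPreserves R (colimit.isColimit (C ⋙ Φ))
  let c₂ : IsColimit (R.mapCocone (Φ.mapCocone (colimit.cocone C))) :=
    isColimitOfPreserves (Φ ⋙ R) (colimit.isColimit C)
  have he : R.map φ = (c₁.coconePointUniqueUpToIso c₂).hom := by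
    refine c₁.hom_ext fun l => ?_
    rw [IsColimit.comp_coconePointUniqueUpToIso_hom]
    show R.map (colimit.ι (C ⋙ Φ) l) ≫ R.map φ = R.map (Φ.map (colimit.ι C l))
    rw [← R.map_comp, colimit.ι_desc]
    rfl
  rw [he]
  infer_instance

end Groth.Agent.TwistShriek
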