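import Groth.Agent.AmpleEmb.TwistOne
import Groth.Agent.AmpleLib.ExtendMod
import Groth.Agent.AmpleLib.Pullback
import Groth.Agent.PicLib.Group
import Groth.Agent.DCohMore.TwistOver
import Groth.Agent.VBLib.Twist
import Groth.Agent.H1ZeroLib.Global

/-!
# The twists generate the quasi-coherent modules on a projective scheme
-/

set_option autoImplicit false
set_option linter.style.haveILetI false
set_option backward.isDefEq.respectTransparency false
set_option maxHeartbeats 1000000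

universe u

open CategoryTheory CategoryTheory.Limits AlgebraicGeometry TopologicalSpace
open scoped TensorProduct
open Groth.Agent.PullbackMod Groth.Agent.CurveLib

noncomputable section

namespace Groth.Agent.TwistShriek

variable (n : ℕ) (A : Type u) [CommRing A] {X : Scheme.{u}} (ι : X ⟶ CohB1.ProjSpace n A)

/-- The twist `O(m)` on `X`. -/
abbrev twX (m : ℤ) : X.Modules := (Scheme.Modules.pullback ι).obj (Twist.twistProjSpace n A m)

open PicLib in
theorem cls_twist_zero' : cls (DCohMore.TwistOver.isInvertible_twist (n := n) (R := A) 0) = 1 :=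
  (cls_eq_cls _ _).2 (ProjTwistLib.nonempty_zero_iso (𝒜 := CohB1.polyGrading n A))

open PicLib in
theorem cls_twist_pow (N : ℕ) :
    cls (DCohMore.TwistOver.isInvertible_twist (n := n) (R := A) 1) ^ N =
      cls (DCohMore.TwistOver.isInvertible_twist (n := n) (R := A) (N : ℤ)) := by
  induction N with
  | zero => rw [pow_zero]; exact (cls_twist_zero' n A).symm
  | succ N ih => rw [pow_succ, ih, DCohMore.TwistOver.cls_twist_mul, Nat.cast_succ]

open PicLib in
theorem nonempty_twist_inverse (N : ℕ) :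
    Nonempty (CohB1.tensorMod (CohB1.tensorPow (twX n A ι 1) N) (twX n A ι (-(N : ℤ))) ≅ Coh.structureModule X) := by
  have hi : ∀ m : ℤ, PicF.IsInvertible (twX n A ι m) := fun m =>
    AmpleLib.isInvertible_pullback ι (DCohMore.TwistOver.isInvertible_twist m)
  refine (cls_eq_one (AmpleLib.isInvertible_tensor (AmpleLib.isInvertible_tensorPow (hi 1) N) (hi _))).1 ?_
  rw [cls_tensor (AmpleLib.isInvertible_tensorPow (hi 1) N) (hi (-(N : ℤ))), cls_tensorPow (hi 1), ← pull_cls ι (DCohMore.TwistOver.isInvertible_twist 1),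
    ← pull_cls ι (DCohMore.TwistOver.isInvertible_twist (-(N : ℤ))), ← map_pow, ← map_mul, cls_twist_pow n A N, DCohMore.TwistOver.cls_twist_mul,
    ← map_one (pull ι), ← cls_twist_zero' n A]
  congr 1
  exact (cls_eq_cls _ _).2 ⟨eqToIso (by rw [add_neg_cancel])⟩

theorem exists_germ_eq_tmul {L G : X.Modules} {N : ℕ} {x : X} (s : Coh.structureModule X ⟶ L)
    (hx : x ∈ CohB1.genLocus L s) (c : Γ(G, CohB1.genLocus L s)) (σ : Γ(DCohLib.tmod G (CohB1.tensorPow L N), ⊤))
    (hσ : AmpleLib.resT σ (CohB1.genLocus L s) =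
      DCohLib.pairS G _ c (AmpleLib.powLoc (AmpleLib.resT (AmpleLib.sec s) (CohB1.genLocus L s)) N)) :
    ∃ g : (CohB1.tensorPow L N).presheaf.stalk x,
      (DCohLib.tmod G (CohB1.tensorPow L N)).presheaf.germ ⊤ x trivial σ =
        DCohLib.stalkTensor x G _ (G.presheaf.germ _ x hx c ⊗ₜ g) ∧
      Function.Bijective fun r : X.presheaf.stalk x => r • g := by
  refine ⟨(CohB1.tensorPow L N).presheaf.germ _ x hx
    (AmpleLib.powLoc (AmpleLib.resT (AmpleLib.sec s) (CohB1.genLocus L s)) N), ?_, ?_⟩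
  · have h4 := congrArg ((DCohLib.tmod G (CohB1.tensorPow L N)).presheaf.germ _ x hx) hσ
    rw [AmpleLib.resT, TopCat.Presheaf.germ_res_apply] at h4
    rw [h4, ← AmpleLib.germ_pairS]
  · obtain ⟨U, hxU, hU⟩ := AmpleLib.mem_genLocus_iff'.1 hx
    have h5 := (AmpleLib.gen_powLoc hU N).bijective_germ x hxU
    have h6 : (CohB1.tensorPow L N).presheaf.germ U x hxU (AmpleLib.powLoc (AmpleLib.resT (AmpleLib.sec s) U) N) =
        (CohB1.tensorPow L N).presheaf.germ _ x hx
          (AmpleLib.powLoc (AmpleLib.resT (AmpleLib.sec s) (CohB1.genLocus L s)) N) := by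
      rw [← TopCat.Presheaf.germ_res_apply (CohB1.tensorPow L N).presheaf (homOfLE (inf_le_left : U ⊓ CohB1.genLocus L s ≤ U)) x ⟨hxU, hx⟩,
        ← TopCat.Presheaf.germ_res_apply (CohB1.tensorPow L N).presheaf (homOfLE (inf_le_right : U ⊓ CohB1.genLocus L s ≤ CohB1.genLocus L s)) x ⟨hxU, hx⟩,
        AmpleLib.powLoc_res, AmpleLib.powLoc_res]
      simp only [AmpleLib.resT, ← ConcreteCategory.comp_apply, ← Functor.map_comp]
      rfl
    rw [← h6]
    exact h5

theorem mem_of_tmul (G : X.Modules) (x : X) (S : Submodule (X.presheaf.stalk x) (G.presheaf.stalk x)) {M Tw : X.Modules}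
    (hS : ∀ φ : Tw ⟶ G, LinearMap.range (stalkLin φ x) ≤ S) (e : CohB1.tensorMod M Tw ≅ Coh.structureModule X)
    (σ : Γ(DCohLib.tmod G M, ⊤)) (z : G.presheaf.stalk x) (g : M.presheaf.stalk x)
    (hg : (DCohLib.tmod G M).presheaf.germ ⊤ x trivial σ = DCohLib.stalkTensor x G M (z ⊗ₜ g))
    (hgb : Function.Bijective fun r : X.presheaf.stalk x => r • g) : z ∈ S := by
  let K := PullbackMod.sky x (G.presheaf.stalk x ⧸ S)
  let ψ : G ⟶ K := PullbackMod.toSky S.mkQ
  let Ψ := VBLib.untwist e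
  let σ' : Coh.structureModule X ⟶ (tensR M).obj G := (DCohLib.secHom (DCohLib.tmod G M) σ :)
  let u₀ : Tw ⟶ (tensR Tw).obj (Coh.structureModule X) := (AmpleLib.unitL Tw).inv
  let φ : Tw ⟶ G := u₀ ≫ ((tensR Tw).map σ' :) ≫ Ψ.hom.app G
  have h1 : φ ≫ ψ = 0 := by
    refine Scheme.Modules.hom_ext _ _ fun U => AddCommGrpCat.hom_ext (AddMonoidHom.ext fun m => funext fun hxU => ?_)
    show S.mkQ (G.presheaf.germ U x hxU.down (φ.app U m)) = 0
    rw [Submodule.mkQ_apply, Submodule.Quotient.mk_eq_zero]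
    exact hS φ ⟨_, stalkLin_germ φ x hxU.down m⟩
  have h0 : (tensR Tw).map (σ' ≫ (tensR M).map ψ) = 0 := by
    have h2 : (tensR Tw).map σ' ≫ Ψ.hom.app G ≫ ψ = 0 := by
      haveI : IsIso u₀ := inferInstanceAs (IsIso (AmpleLib.unitL Tw).inv)
      rw [← cancel_epi u₀, comp_zero, ← h1]
      simp only [φ, Category.assoc]
    rw [← cancel_mono (Ψ.hom.app K), zero_comp, Functor.map_comp, Category.assoc]
    exact (congrArg ((tensR Tw).map σ' ≫ ·) (Ψ.hom.naturality ψ)).trans h2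
  haveI := VBLib.isEquivalence_tensR (AmpleLib.comm Tw M ≪≫ e)
  have h3 : σ' ≫ (tensR M).map ψ = 0 := (tensR Tw).map_injective (h0.trans ((tensR Tw).map_zero _ _).symm)
  have h4 : DCohLib.stalkTensor x K M ((stalkLin ψ x z) ⊗ₜ g) = 0 := by
    have h5 := (eq_zero_iff_stalk _).1 h3 x
    have h6 := LinearMap.congr_fun h5 (ParaFLib.oneG x)
    rw [stalkLin_comp, LinearMap.comp_apply, LinearMap.zero_apply] at h6
    have h8 : stalkLin σ' x (ParaFLib.oneG x) = DCohLib.stalkTensor x G M (z ⊗ₜ g) :=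
      (CurveLib.stalkLin_secHom (N := DCohLib.tmod G M) σ x).trans hg
    rw [h8] at h6
    exact ((DCohLib.stalkTensor_natural_left x ψ (z ⊗ₜ g)).trans (congrArg _ (LinearMap.rTensor_tmul _ _ g z))).symm.trans h6
  have h7 : stalkLin ψ x z = 0 := by
    rw [LinearEquiv.map_eq_zero_iff] at h4
    let eg := LinearEquiv.ofBijective (LinearMap.toSpanSingleton (X.presheaf.stalk x) _ g) hgb
    let E := (TensorProduct.rid (X.presheaf.stalk x) _).symm.trans
      (LinearEquiv.lTensor (K.presheaf.stalk x) eg)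
    refine E.injective (Eq.trans ?_ (map_zero E).symm)
    simpa [E, eg] using h4
  obtain ⟨W, hxW, m, rfl⟩ := TopCat.Presheaf.exists_germ_eq G.presheaf z
  rw [stalkLin_germ] at h7
  obtain ⟨W', hxW', i, i', hW⟩ := TopCat.Presheaf.germ_eq _ x hxW hxW _ 0 (h7.trans (map_zero _).symm)
  rw [map_zero] at hW
  exact (Submodule.Quotient.mk_eq_zero S).1 (congrFun hW ⟨hxW'⟩)

/-- Maps out of inverses of the powers of an ample module fill the stalks. -/
theorem iSup_range_inverse {L : X.Modules} (hL : CohB1.IsAmple L) (T : ℕ → X.Modules)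
    (hT : ∀ N, Nonempty (CohB1.tensorMod (CohB1.tensorPow L N) (T N) ≅ Coh.structureModule X))
    (G : X.Modules) [Coh.IsQCoh G] (x : X) :
    (⨆ p : Σ m : ℕ, (T m ⟶ G), LinearMap.range (stalkLin p.2 x)) = ⊤ := by
  haveI : CompactSpace X := hL.2.1
  haveI := AmpleLib.quasiSeparatedSpace_of_isAmple hL
  obtain ⟨d, s, hx, ha⟩ := hL.2.2 x
  obtain ⟨S, hS⟩ : ∃ S, S = ⨆ p : Σ m : ℕ, (T m ⟶ G), LinearMap.range (stalkLin p.2 x) := ⟨_, rfl⟩
  rw [← hS]
  refine eq_top_iff.2 fun z _ => ?_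
  have hz : z ∈ Submodule.span (X.presheaf.stalk x) (G.presheaf.germ _ x hx '' (Set.univ : Set Γ(G, CohB1.genLocus _ s))) := by
    rw [AmpleLib.span_germ_eq_top G ha hx Set.univ Submodule.span_univ]; trivial
  refine Submodule.span_le.2 ?_ hz
  rintro _ ⟨c, -, rfl⟩
  obtain ⟨k₀, hk⟩ := AmpleLib.exists_twist_extend (AmpleLib.isInvertible_tensorPow hL.1 (d + 1)) G s c
  obtain ⟨σ, hσ⟩ := hk 0
  obtain ⟨g, hg, hgb⟩ := exists_germ_eq_tmul s hx c σ hσ
  obtain ⟨e₀⟩ := hT ((d + 1) * (k₀ + 0))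
  exact mem_of_tmul G x S (fun φ => hS ▸ le_iSup (fun p : Σ m : ℕ, (T m ⟶ G) => LinearMap.range (stalkLin p.2 x)) ⟨_, φ⟩)
    (AmpleLib.tIso (AmpleLib.powMul L (d + 1) (k₀ + 0)) (Iso.refl _) ≪≫ e₀) σ _ g hg hgb

variable [IsClosedImmersion ι]

/-- Maps out of the twists fill the stalks. -/
theorem iSup_range_twist (G : X.Modules) [Coh.IsQCoh G] (x : X) :
    (⨆ p : Σ m : ℤ, (twX n A ι m ⟶ G), LinearMap.range (stalkLin p.2 x)) = ⊤ := by
  refine eq_top_iff.2 ((iSup_range_inverse (L := twX n A ι 1) (AmpleLib.isAmple_pullback ι (AmpleEmb.isAmple_twistOne n A))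
    (fun N => twX n A ι (-(N : ℤ))) (fun N => nonempty_twist_inverse n A ι N) G x).ge.trans (iSup_le fun p => ?_))
  exact le_iSup (fun q : Σ m : ℤ, (twX n A ι m ⟶ G) => LinearMap.range (stalkLin q.2 x)) ⟨_, p.2⟩

end Groth.Agent.TwistShriek
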