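import Groth.Agent.TwistShriek.FinitePush
import Groth.Agent.TwistShriek.TwistGen
import Groth.Agent.DCohLib.Symm
import Groth.Agent.AmpleLib.ExtendMod
import Groth.Agent.ProjBundleLib.TwistIso
import Groth.Agent.ProjBundleLib.EpiClosed
import Groth.Agent.AmpleEmb.Resolution
import Groth.Agent.FinLocFreeLib.Basic
import Groth.Agent.EtAlgEasy.PrinPartPush
import Groth.Agent.VBLib.HomPair
import Groth.Agent.DCohMore.TensorCoh
import Groth.Agent.ASBunKS.RankOne
import Groth.Agent.VBLib.TwoSections
import Groth.Agent.HilbObsLib.Stalk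
import Groth.Agent.ResPropLib.Affine
import Groth.Prelude.Def_Mor2

/-!
# The upper shriek of a finite morphism on modules
-/

set_option autoImplicit false
set_option backward.isDefEq.respectTransparency false
set_option linter.style.haveILetI false
set_option linter.unusedSectionVars false
set_option maxHeartbeats 1000000

universe u

open CategoryTheory CategoryTheory.Limits AlgebraicGeometry TopologicalSpace Opposite
open Groth.Agent.PullbackMod Groth.Agent.DCohLib Groth.Agent.ParaFLib
open scoped TensorProduct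

noncomputable section

namespace Groth.Agent.TwistShriek.FinPush

theorem bijective_dualTensorHom_of_free {R : Type u} [CommRing R] {M N : Type u} [AddCommGroup M] [Module R M]
    [AddCommGroup N] [Module R N] [Module.Free R N] [Module.Finite R N] :
    Function.Bijective (dualTensorHom R M N) := by
  classical
  let b := Module.Free.chooseBasis R N
  let inv : (M →ₗ[R] N) → Module.Dual R M ⊗[R] N := fun f => ∑ i, ((b.coord i).comp f) ⊗ₜ[R] b i
  have h1 : ∀ z, inv (dualTensorHom R M N z) = z := fun z => by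
    induction z using TensorProduct.induction_on with
    | zero => simp [inv]
    | add p q hp hq => simp only [inv, map_add, LinearMap.comp_add, TensorProduct.add_tmul, Finset.sum_add_distrib] at hp hq ⊢; rw [hp, hq]
    | tmul φ g =>
      have : ∀ i, (b.coord i).comp (dualTensorHom R M N (φ ⊗ₜ g)) = b.repr g i • φ := fun i =>
        LinearMap.ext fun m => by simp [mul_comm]
      simp only [inv, this, TensorProduct.smul_tmul]
      rw [← TensorProduct.tmul_sum, b.sum_repr]
  have h2 : ∀ f, dualTensorHom R M N (inv f) = f := fun f => LinearMap.ext fun m => by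
    simp only [inv, map_sum, LinearMap.sum_apply, dualTensorHom_apply, LinearMap.comp_apply, Module.Basis.coord_apply]
    exact b.sum_repr (f m)
  exact Function.bijective_iff_has_inverse.2 ⟨inv, h1, h2⟩

variable {X Z : Scheme.{u}} (π : X ⟶ Z)

local instance hasHF4 (M : Z.Modules) : ModSite.HasSheafHom (O := Z.sheaf) M :=
  ModTensor.hasSheafHom (O := Z.sheaf) M

theorem isIso_of_twist_bijective (n : ℕ) (A : Type u) [CommRing A] (ι : Z ⟶ CohB1.ProjSpace n A)
    [IsClosedImmersion ι] {M N : Z.Modules} (hM : Coh.IsQCoh M) (hN : Coh.IsQCoh N) (u : M ⟶ N)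
    (h : ∀ m : ℤ, Function.Bijective fun φ : twX n A ι m ⟶ M => φ ≫ u) : IsIso u := by
  haveI := hN
  haveI : Mono u := Preadditive.mono_of_kernel_zero (by
    haveI : Coh.IsQCoh (kernel u) := (QCohLib.isQCoh_image u hM hN).1
    refine (eq_zero_iff_stalk _).2 fun x => LinearMap.ext fun z => ?_
    have hz : z ∈ (⊤ : Submodule (Z.presheaf.stalk x) ((kernel u).presheaf.stalk x)) := trivial
    rw [← iSup_range_twist n A ι (kernel u) x] at hz
    refine (LinearMap.mem_ker.1 ((iSup_le ?_ : (⨆ p : Σ m : ℤ, (twX n A ι m ⟶ kernel u),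
      LinearMap.range (stalkLin p.2 x)) ≤ LinearMap.ker (stalkLin (kernel.ι u) x)) hz))
    rintro ⟨m, p⟩ _ ⟨w, rfl⟩
    have h0 : p ≫ kernel.ι u = 0 := (h m).1 (by simp only [Category.assoc, kernel.condition, comp_zero, zero_comp])
    rw [LinearMap.mem_ker, ← LinearMap.comp_apply, ← stalkLin_comp, h0, (eq_zero_iff_stalk _).1 rfl x]
    rfl)
  haveI : Epi u := (epi_iff_stalk u).2 fun x z => by
    have hz : z ∈ (⊤ : Submodule (Z.presheaf.stalk x) (N.presheaf.stalk x)) := trivial
    rw [← iSup_range_twist n A ι N x] at hz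
    refine ((iSup_le ?_ : (⨆ p : Σ m : ℤ, (twX n A ι m ⟶ N),
      LinearMap.range (stalkLin p.2 x)) ≤ LinearMap.range (stalkLin u x)) hz)
    rintro ⟨m, p⟩ _ ⟨w, rfl⟩
    obtain ⟨q, hq⟩ := (h m).2 p
    refine ⟨stalkLin q x w, ?_⟩
    rw [← LinearMap.comp_apply, ← stalkLin_comp]
    exact congrArg (fun g => stalkLin g x w) hq
  exact isIso_of_mono_of_epi u

/-- A representing object of `F ↦ Hom(π_* F, G)` has direct image the internal hom out of `π_* O`. -/
theorem isIso_aMap (n : ℕ) (A : Type u) [CommRing A] (ι : Z ⟶ CohB1.ProjSpace n A) [IsClosedImmersion ι]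
    [IsFinite π] [IsLocallyNoetherian Z] {W : X.Modules} {G : Z.Modules} (hW : Coh.IsQCoh W) [Coh.IsQCoh G]
    (t : (Scheme.Modules.pushforward π).obj W ⟶ G)
    (huniv : ∀ F : X.Modules, Coh.IsQCoh F →
      Function.Bijective (fun φ : F ⟶ W => (Scheme.Modules.pushforward π).map φ ≫ t)) :
    IsIso (aMap π t) := by
  haveI : IsLocallyNoetherian X := LocallyOfFiniteType.isLocallyNoetherian π
  haveI := hW
  have hP : Coh.IsCoh (pO π) := EtAlgEasy.PrinPartPush.isCoh_pushforward_finite π (DevLib.isCoh_structureModule X)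
  refine isIso_of_twist_bijective n A ι (QCohLib.isQCoh_pushforward W π)
    (StalkHomLib.isQCoh_hF' (F := pO π) (N := G) hP) _ fun m => ?_
  let L := twX n A ι m
  have hL : PicF.IsInvertible L := AmpleLib.isInvertible_pullback ι (DCohMore.TwistOver.isInvertible_twist m)
  haveI := isIso_kap π hL
  let adjP := Scheme.Modules.pullbackPushforwardAdjunction π
  let adjH := ModSite.sheafHomAdj (O := Z.sheaf) (pO π)
  have h1 : Function.Bijective fun φ : (Scheme.Modules.pullback π).obj L ⟶ W =>
      adjH.homEquiv L G ((kapPairing π L).lift ≫ (Scheme.Modules.pushforward π).map φ ≫ t) :=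
    (adjH.homEquiv L G).bijective.comp ((Iso.homFromEquiv (asIso (kapPairing π L).lift).symm).bijective.comp
      (huniv _ (CurveLib.isCoh_of_isInvertible (AmpleLib.isInvertible_pullback π hL)).1))
  have h2 : (fun u : L ⟶ (Scheme.Modules.pushforward π).obj W => u ≫ aMap π t) =
      (fun φ : (Scheme.Modules.pullback π).obj L ⟶ W =>
        adjH.homEquiv L G ((kapPairing π L).lift ≫ (Scheme.Modules.pushforward π).map φ ≫ t)) ∘
        (adjP.homEquiv L W).symm := funext fun u =>
    ((congrArg (· ≫ aMap π t) ((adjP.homEquiv L W).apply_symm_apply u).symm).trans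
      (comp_aMap π t L ((adjP.homEquiv L W).symm u)))
  show Function.Bijective fun u : L ⟶ (Scheme.Modules.pushforward π).obj W => u ≫ aMap π t
  rw [h2]
  exact h1.comp (adjP.homEquiv L W).symm.bijective

/-! ### The projection map -/

/-- `π_* W ⊗ -`. -/
abbrev lF (W : X.Modules) : Z.Modules ⥤ Z.Modules := (DCoh.tensorBi (X := Z)).obj ((Scheme.Modules.pushforward π).obj W)

/-- `W ⊗ π^* -`. -/
abbrev mF (W : X.Modules) : Z.Modules ⥤ X.Modules := Scheme.Modules.pullback π ⋙ (DCoh.tensorBi (X := X)).obj W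

/-- The projection map. -/
abbrev kM (W : X.Modules) (G : Z.Modules) : (lF π W).obj G ⟶ (Scheme.Modules.pushforward π).obj ((mF π W).obj G) :=
  (projPairing π W G).lift

theorem kM_natural (W : X.Modules) {G G' : Z.Modules} (g : G ⟶ G') :
    (lF π W).map g ≫ kM π W G' = kM π W G ≫ (Scheme.Modules.pushforward π).map ((mF π W).map g) := by
  refine hom_ext_stalk fun x => LinearMap.ext fun z => ?_
  obtain ⟨w, rfl⟩ := (stalkTensor x ((Scheme.Modules.pushforward π).obj W) G).surjective z
  induction w using TensorProduct.induction_on with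
  | zero => simp only [map_zero]
  | add p q hp hq => rw [map_add, map_add, map_add, hp, hq]
  | tmul m b =>
    obtain ⟨V, hxV, m, b, rfl, rfl⟩ := exists_common_germ (x := x) m b
    show stalkLin ((lF π W).map g ≫ _) x (stalkTensorHom x _) = stalkLin _ x (stalkTensorHom x _)
    rw [stalkTensorHom_tmul, stalkLin_germ, stalkLin_germ]
    refine congrArg (((Scheme.Modules.pushforward π).obj ((mF π W).obj G')).presheaf.germ V x hxV) ?_
    show (projPairing π W G').lift.app V (((lF π W).map g).app V (pairS _ G m b)) =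
      ((Scheme.Modules.pushforward π).map ((mF π W).map g)).app V ((projPairing π W G).lift.app V (pairS _ G m b))
    rw [ProjTwistLib.Pairing.lift_pairS, tensorBi_app_pairS_right, ProjTwistLib.Pairing.lift_pairS, projPairing_f,
      projPairing_f]
    refine Eq.trans ?_ (tensorBi_app_pairS_right ((Scheme.Modules.pullback π).map g) (U := π ⁻¹ᵁ V)
      (show Γ(W, π ⁻¹ᵁ V) from m) (pullMap π G le_rfl b)).symm
    exact congrArg (pairS W _ (show Γ(W, π ⁻¹ᵁ V) from m)) (pullMap_natural π g le_rfl b).symm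

/-- The swapped pairing. -/
def projSwap (W : X.Modules) (G : Z.Modules) :
    ProjTwistLib.Pairing G ((Scheme.Modules.pushforward π).obj W)
      ((Scheme.Modules.pushforward π).obj (tmod W ((Scheme.Modules.pullback π).obj G))) where
  f V := ((projPairing π W G).f V).flip
  smul_left V r g m := (projPairing π W G).smul_right V r m g
  smul_right V r g m := (projPairing π W G).smul_left V r m g
  fres h g m := (projPairing π W G).fres h m g

theorem isIso_kM_invertible (W : X.Modules) {G : Z.Modules} (hG : PicF.IsInvertible G) : IsIso (kM π W G) := by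
  haveI : IsIso (projSwap π W G).lift := by
    refine (isIso_iff_stalk _).2 fun z => ?_
    obtain ⟨U, e, hzU, he⟩ := exists_gen_nhd hG z
    refine (projSwap π W G).bijective_stalk_lift hzU he fun O hO => ?_
    have h := AmpleEmb.gen_pullMap π hG (he.res hO)
    exact ⟨fun a b hab => AmpleLib.pairS_gen_injective h hab, fun s => ProjBundleLib.pairS_gen_surjective h s⟩
  have h : kM π W G = (CurveLib.tmodComm ((Scheme.Modules.pushforward π).obj W) G).hom ≫ (projSwap π W G).lift := by
    refine hom_ext_stalk fun x => LinearMap.ext fun z => ?_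
    obtain ⟨w, rfl⟩ := (stalkTensor x ((Scheme.Modules.pushforward π).obj W) G).surjective z
    induction w using TensorProduct.induction_on with
    | zero => simp only [map_zero]
    | add p q hp hq => rw [map_add, map_add, map_add, hp, hq]
    | tmul m b =>
      obtain ⟨V, hxV, m, b, rfl, rfl⟩ := exists_common_germ (x := x) m b
      show stalkLin _ x (stalkTensorHom x _) = stalkLin _ x (stalkTensorHom x _)
      rw [stalkTensorHom_tmul, stalkLin_germ, stalkLin_germ]
      refine congrArg (((Scheme.Modules.pushforward π).obj ((mF π W).obj G)).presheaf.germ V x hxV) ?_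
      show (projPairing π W G).lift.app V (pairS _ G m b) = (projSwap π W G).lift.app V
        ((CurveLib.tmodComm ((Scheme.Modules.pushforward π).obj W) G).hom.app V (pairS _ G m b))
      rw [ProjTwistLib.Pairing.lift_pairS, VBLib.HomPair.tmodComm_pairS, ProjTwistLib.Pairing.lift_pairS]
      rfl
  rw [h]
  infer_instance

theorem isIso_kM_sigma (W : X.Modules) {m : ℕ} (N : Fin m → Z.Modules) (hN : ∀ i, PicF.IsInvertible (N i)) :
    IsIso (kM π W (∐ N)) := by
  let p : ∀ i, ∐ N ⟶ N i := fun i => Sigma.desc fun l => if h : l = i then eqToHom (congrArg N h) else 0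
  have hδ : ∀ i, Sigma.ι N i ≫ p i = 𝟙 _ := fun i => by rw [Sigma.ι_desc, dif_pos rfl, eqToHom_refl]
  have hz : ∀ i j, i ≠ j → Sigma.ι N i ≫ p j = 0 := fun i j hij => by rw [Sigma.ι_desc, dif_neg hij]
  have hsum : ∑ i, p i ≫ Sigma.ι N i = 𝟙 (∐ N) := by
    refine Sigma.hom_ext _ _ fun l => ?_
    rw [Category.comp_id, Preadditive.comp_sum, Finset.sum_eq_single l]
    · rw [← Category.assoc, hδ, Category.id_comp]
    · intro b _ hb
      rw [← Category.assoc, hz l b (Ne.symm hb), zero_comp]
    · simp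
  haveI := fun i => isIso_kM_invertible π W (hN i)
  haveI : (lF π W).Additive := VBLib.additive_tensL _
  haveI : ((DCoh.tensorBi (X := X)).obj W).Additive := VBLib.additive_tensL _
  haveI : (Scheme.Modules.pullback π).Additive :=
    (Scheme.Modules.pullbackPushforwardAdjunction π).left_adjoint_additive
  let R := mF π W ⋙ Scheme.Modules.pushforward π
  haveI : R.Additive := inferInstance
  refine ⟨⟨∑ i, R.map (p i) ≫ inv (kM π W (N i)) ≫ (lF π W).map (Sigma.ι N i), ?_, ?_⟩⟩
  · rw [Preadditive.comp_sum, ← CategoryTheory.Functor.map_id, ← hsum, Functor.map_sum]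
    refine Finset.sum_congr rfl fun i _ => ?_
    rw [Functor.map_comp, ← Category.assoc, show kM π W (∐ N) ≫ R.map (p i) = (lF π W).map (p i) ≫ kM π W (N i) from
      (kM_natural π W (p i)).symm]
    simp
  · rw [Preadditive.sum_comp]
    refine Eq.trans ?_ (R.map_id _)
    rw [← hsum, Functor.map_sum]
    refine Finset.sum_congr rfl fun i _ => ?_
    rw [Functor.map_comp, Category.assoc, Category.assoc, kM_natural π W (Sigma.ι N i)]
    exact congrArg (R.map (p i) ≫ ·) (IsIso.inv_hom_id_assoc _ _)

theorem epi_push [IsAffineHom π] {M N : X.Modules} (hM : Coh.IsQCoh M) (hN : Coh.IsQCoh N) (g : M ⟶ N) [Epi g] :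
    Epi ((Scheme.Modules.pushforward π).map g) := by
  refine (epi_iff_stalk _).2 fun z s => ?_
  obtain ⟨U, hzU, s, rfl⟩ := TopCat.Presheaf.exists_germ_eq ((Scheme.Modules.pushforward π).obj N).presheaf s
  obtain ⟨_, ⟨V : Z.Opens, (hV : IsAffineOpen V), rfl⟩, hzV, hVU⟩ :=
    Z.isBasis_affineOpens.exists_subset_of_mem_open (show z ∈ U from hzU) U.2
  obtain ⟨r, hr⟩ := ProjBundleLib.surjective_app_of_epi hM hN g (hV.preimage π)
    (show Γ(N, π ⁻¹ᵁ V) from ((Scheme.Modules.pushforward π).obj N).presheaf.map (homOfLE (hVU : V ≤ U)).op s)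
  refine ⟨((Scheme.Modules.pushforward π).obj M).presheaf.germ V z hzV r, ?_⟩
  rw [stalkLin_germ]
  exact (congrArg (((Scheme.Modules.pushforward π).obj N).presheaf.germ V z hzV) hr).trans
    (TopCat.Presheaf.germ_res_apply ((Scheme.Modules.pushforward π).obj N).presheaf (homOfLE hVU) z hzV s)

theorem exists_presentation (n : ℕ) (A : Type u) [CommRing A] (ι : Z ⟶ CohB1.ProjSpace n A) [IsClosedImmersion ι]
    [IsLocallyNoetherian Z] {G : Z.Modules} (hG : Coh.IsCoh G) :
    ∃ (m : ℕ) (N : Fin m → Z.Modules) (p : ∐ N ⟶ G), Epi p ∧ ∀ i, PicF.IsInvertible (N i) := by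
  have hamp : CohB1.IsAmple (twX n A ι 1) :=
    AmpleLib.isAmple_pullback ι (AmpleEmb.isAmple_twistOne n A)
  haveI : CompactSpace Z := hamp.2.1
  haveI := AmpleLib.quasiSeparatedSpace_of_isAmple hamp
  haveI := hG.1
  obtain ⟨m, N, p, hp, hN⟩ := AmpleEmb.exists_epi_sigma_negPow (fun d : ℕ => CohB1.tensorPow (twX n A ι 1) (d + 1))
    (fun d => AmpleLib.isInvertible_tensorPow hamp.1 _) hamp.2.2 G hG.2
  exact ⟨m, N, p, hp, fun i => (hN i).1⟩

theorem isIso_kM (n : ℕ) (A : Type u) [CommRing A] (ι : Z ⟶ CohB1.ProjSpace n A) [IsClosedImmersion ι]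
    [IsLocallyNoetherian Z] [IsAffineHom π] {W : X.Modules} (hW : Coh.IsQCoh W) {G : Z.Modules} (hG : Coh.IsCoh G) :
    IsIso (kM π W G) := by
  obtain ⟨m, N, p, hp, hN⟩ := exists_presentation n A ι hG
  haveI := hp
  have hflf : ∀ {a : ℕ} (L : Fin a → Z.Modules), (∀ i, PicF.IsInvertible (L i)) → Coh.IsCoh (∐ L) := fun L hL =>
    CurveLib.isCoh_of_isFinLocFree (ResPropLib.isFinLocFree_sigma _ L fun i => CurveLib.isFinLocFree_of_isInvertible (hL i))
  have h0 := hflf N hN
  obtain ⟨m', N', q, hq, hN'⟩ := exists_presentation n A ι (QCohLib.isCoh_kernel_cokernel p h0 hG).1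
  haveI := hq
  let d : ∐ N' ⟶ ∐ N := q ≫ kernel.ι p
  let S : ShortComplex Z.Modules := ShortComplex.mk d p (by rw [Category.assoc, kernel.condition, comp_zero])
  have hS : S.Exact := by
    refine (ShortComplex.exact_iff_of_epi_of_isIso_of_mono (S₁ := S) (S₂ := ShortComplex.mk (kernel.ι p) p (kernel.condition p))
      { τ₁ := q, τ₂ := 𝟙 _, τ₃ := 𝟙 _ }).2 (ShortComplex.exact_kernel p)
  haveI := isIso_kM_sigma π W N hN
  haveI := isIso_kM_sigma π W N' hN'
  haveI : (lF π W).Additive := VBLib.additive_tensL _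
  haveI : ((DCoh.tensorBi (X := X)).obj W).Additive := VBLib.additive_tensL _
  haveI : PreservesColimitsOfSize.{0, 0} (Scheme.Modules.pullback π) :=
    haveI := (Scheme.Modules.pullbackPushforwardAdjunction π).leftAdjoint_preservesColimits
    preservesColimitsOfSize_shrink.{0, u, 0, u} _
  haveI : PreservesFiniteColimits ((DCoh.tensorBi (X := X)).obj W) := by
    haveI : PreservesColimitsOfSize.{0, 0} ((DCoh.tensorBi (X := X)).flip.obj W) := by
      haveI := ModTensor.hasSheafHom (O := X.sheaf) W
      exact (ModSite.sheafHomAdj (O := X.sheaf) W).leftAdjoint_preservesColimits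
    haveI : PreservesFiniteColimits ((DCoh.tensorBi (X := X)).flip.obj W) :=
      PreservesColimitsOfSize0.preservesFiniteColimits _
    haveI : PreservesFiniteColimits ((ModSite.tensorBi X.sheaf).flip.obj W) := ‹_›
    exact preservesFiniteColimits_of_natIso ((Groth.Agent.DCohLib.symmIso X.sheaf).app W).symm
  haveI : PreservesFiniteColimits (Scheme.Modules.pullback π) := PreservesColimitsOfSize0.preservesFiniteColimits _
  haveI : (Scheme.Modules.pullback π).Additive :=
    (Scheme.Modules.pullbackPushforwardAdjunction π).left_adjoint_additive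
  haveI : PreservesFiniteColimits (mF π W) := comp_preservesFiniteColimits _ _
  haveI : PreservesFiniteColimits (lF π W) := by
    haveI : PreservesColimitsOfSize.{0, 0} ((DCoh.tensorBi (X := Z)).flip.obj ((Scheme.Modules.pushforward π).obj W)) :=
      (ModSite.sheafHomAdj (O := Z.sheaf) ((Scheme.Modules.pushforward π).obj W)).leftAdjoint_preservesColimits
    haveI : PreservesFiniteColimits ((DCoh.tensorBi (X := Z)).flip.obj ((Scheme.Modules.pushforward π).obj W)) :=
      PreservesColimitsOfSize0.preservesFiniteColimits _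
    haveI : PreservesFiniteColimits ((ModSite.tensorBi Z.sheaf).flip.obj ((Scheme.Modules.pushforward π).obj W)) := ‹_›
    exact preservesFiniteColimits_of_natIso
      ((Groth.Agent.DCohLib.symmIso Z.sheaf).app ((Scheme.Modules.pushforward π).obj W)).symm
  let Pf := Scheme.Modules.pushforward π
  let T := mF π W
  have hTq : ∀ {H : Z.Modules}, Coh.IsCoh H → Coh.IsQCoh (T.obj H) := fun {H} hH => by
    haveI := hH.1
    haveI := hW
    exact BCLib.isQCoh_tmod W ((Scheme.Modules.pullback π).obj H)
  have hT : (S.map T).Exact := by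
    haveI : Epi S.g := hp
    exact ShortComplex.exact_of_g_is_cokernel _ (CokernelCofork.mapIsColimit _ hS.gIsCokernel T)
  have hker : Coh.IsQCoh (kernel (T.map p)) := (QCohLib.isQCoh_image (T.map p) (hTq h0) (hTq hG)).1
  have hR : (S.map (T ⋙ Pf)).Exact := by
    have h := hT.epi_kernelLift
    haveI : Epi (kernel.lift (T.map p) (T.map d) (S.map T).zero) := h
    haveI := epi_push π (hTq (hflf N' hN')) hker (kernel.lift (T.map p) (T.map d) (S.map T).zero)
    let K : ShortComplex Z.Modules := ShortComplex.mk (Pf.map (kernel.ι (T.map p))) (Pf.map (T.map p))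
      (by rw [← Functor.map_comp, kernel.condition, Functor.map_zero])
    have hK : K.Exact := ShortComplex.exact_of_f_is_kernel K
      (KernelFork.mapIsLimit _ (kernelIsKernel (T.map p)) Pf)
    refine (ShortComplex.exact_iff_of_epi_of_isIso_of_mono (S₁ := S.map (T ⋙ Pf)) (S₂ := K)
      { τ₁ := Pf.map (kernel.lift (T.map p) (T.map d) (S.map T).zero), τ₂ := 𝟙 _, τ₃ := 𝟙 _,
        comm₁₂ := by
          show Pf.map _ ≫ Pf.map (kernel.ι (T.map p)) = Pf.map (T.map d) ≫ 𝟙 _
          rw [Category.comp_id, ← Functor.map_comp, kernel.lift_ι]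
        comm₂₃ := by
          show 𝟙 _ ≫ Pf.map (T.map p) = Pf.map (T.map p) ≫ 𝟙 _
          rw [Category.comp_id, Category.id_comp] }).2 hK
  haveI : Epi (T.map p) := inferInstance
  haveI : Epi (Pf.map (T.map p)) := epi_push π (hTq h0) (hTq hG) (T.map p)
  haveI : Epi ((S.map (T ⋙ Pf)).g) := inferInstanceAs (Epi (Pf.map (T.map p)))
  haveI : Epi ((lF π W).map p) := inferInstance
  have hvan : Pf.map (T.map d) ≫ (inv (kM π W (∐ N)) ≫ (lF π W).map p) = 0 := by
    rw [← cancel_epi (kM π W (∐ N')), comp_zero, ← Category.assoc, ← kM_natural π W d]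
    simp only [Category.assoc, IsIso.hom_inv_id_assoc]
    rw [← Functor.map_comp, S.zero, Functor.map_zero]
  let ψ := hR.gIsCokernel.desc (CokernelCofork.ofπ (inv (kM π W (∐ N)) ≫ (lF π W).map p) hvan)
  have hψ : Pf.map (T.map p) ≫ ψ = inv (kM π W (∐ N)) ≫ (lF π W).map p :=
    hR.gIsCokernel.fac _ WalkingParallelPair.one
  refine ⟨⟨ψ, ?_, ?_⟩⟩
  · rw [← cancel_epi ((lF π W).map p), ← Category.assoc, kM_natural π W p, Category.assoc, hψ,
      IsIso.hom_inv_id_assoc, Category.comp_id]
  · rw [← cancel_epi (Pf.map (T.map p)), ← Category.assoc, hψ, Category.assoc, kM_natural π W p,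
      IsIso.inv_hom_id_assoc, Category.comp_id]

/-! ### The candidate and the comparison -/

/-- The pairing `(m, g) ↦ t(m) g`. -/
def evalPairing {W : X.Modules} (t₀ : (Scheme.Modules.pushforward π).obj W ⟶ Coh.structureModule Z) (G : Z.Modules) :
    ProjTwistLib.Pairing ((Scheme.Modules.pushforward π).obj W) G G where
  f V :=
    { toFun := fun m =>
        { toFun := fun g => (show Γ(Z, V) from t₀.app V m) • g
          map_zero' := smul_zero _
          map_add' := fun g g' => smul_add _ g g' }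
      map_zero' := AddMonoidHom.ext fun g => (congrArg (fun c : Γ(Z, V) => c • g) (map_zero (t₀.app V).hom)).trans (zero_smul Γ(Z, V) g)
      map_add' := fun m m' => AddMonoidHom.ext fun g => (congrArg (fun c : Γ(Z, V) => c • g)
        (map_add (t₀.app V).hom m m')).trans (add_smul _ _ g) }
  smul_left V r m g := (congrArg (fun c : Γ(Z, V) => c • g) (Scheme.Modules.Hom.app_smul t₀ r m)).trans (mul_smul r _ g)
  smul_right V r m g := smul_comm (show Γ(Z, V) from t₀.app V m) r g
  fres {U V} h m g := by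
    refine Eq.trans ?_ (G.val.map_smul (homOfLE h).op (show Γ(Z, U) from t₀.app U m) g).symm
    exact congrArg (fun c : Γ(Z, V) => c • G.presheaf.map (homOfLE h).op g) (app_natural t₀ h m)

theorem theta_aMap_germ {W : X.Modules} {G : Z.Modules} (t : (Scheme.Modules.pushforward π).obj W ⟶ G) {V : Z.Opens}
    {z : Z} (hz : z ∈ V) (m : Γ((Scheme.Modules.pushforward π).obj W, V)) (b : Γ(pO π, V)) :
    StalkHomLib.theta (pO π) G z (stalkLin (aMap π t) z (((Scheme.Modules.pushforward π).obj W).presheaf.germ V z hz m))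
        ((pO π).presheaf.germ V z hz b) =
      G.presheaf.germ V z hz (t.app V (act π W (show Γ(X, π ⁻¹ᵁ V) from b) (show Γ(W, π ⁻¹ᵁ V) from m))) := by
  rw [StalkHomLib.theta_transpose]
  show stalkLin ((((ModSite.sheafHomAdj (O := Z.sheaf) (pO π)).homEquiv _ G).symm (aMap π t))) z (stalkTensorHom z _) = _
  rw [stalkTensorHom_tmul, aMap, Equiv.symm_apply_apply]
  exact (muPairing π t).lift_germ hz m b

theorem aMap_natural {W W' : X.Modules} {G : Z.Modules} (θ : W ⟶ W') (t : (Scheme.Modules.pushforward π).obj W' ⟶ G) :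
    aMap π ((Scheme.Modules.pushforward π).map θ ≫ t) = (Scheme.Modules.pushforward π).map θ ≫ aMap π t := by
  refine Eq.trans ?_ ((ModSite.sheafHomAdj (O := Z.sheaf) (pO π)).homEquiv_naturality_left _ (muPairing π t).lift)
  refine congrArg ((ModSite.sheafHomAdj (O := Z.sheaf) (pO π)).homEquiv _ G) ?_
  refine hom_ext_stalk fun x => LinearMap.ext fun z => ?_
  obtain ⟨w, rfl⟩ := (stalkTensor x ((Scheme.Modules.pushforward π).obj W) (pO π)).surjective z
  induction w using TensorProduct.induction_on with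
  | zero => simp only [map_zero]
  | add p q hp hq => rw [map_add, map_add, map_add, hp, hq]
  | tmul m b =>
    obtain ⟨V, hxV, m, b, rfl, rfl⟩ := exists_common_germ (x := x) m b
    show stalkLin _ x (stalkTensorHom x _) = stalkLin (CurveLib.tmap _ (pO π) ≫ _) x (stalkTensorHom x _)
    rw [stalkTensorHom_tmul, stalkLin_germ, stalkLin_germ]
    refine congrArg (G.presheaf.germ V x hxV) ?_
    show (muPairing π _).lift.app V (pairS _ (pO π) m b) = (muPairing π t).lift.app V
      ((CurveLib.tmap ((Scheme.Modules.pushforward π).map θ) (pO π)).app V (pairS _ (pO π) m b))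
    rw [tensorBi_app_pairS_left, ProjTwistLib.Pairing.lift_pairS, ProjTwistLib.Pairing.lift_pairS, muPairing_f,
      muPairing_f]
    exact congrArg (t.app V) (Scheme.Modules.Hom.app_smul θ (show Γ(X, π ⁻¹ᵁ V) from b) (show Γ(W, π ⁻¹ᵁ V) from m))

theorem isIso_of_push [IsAffineHom π] {M N : X.Modules} (hM : Coh.IsQCoh M) (hN : Coh.IsQCoh N) (θ : M ⟶ N)
    [IsIso ((Scheme.Modules.pushforward π).map θ)] : IsIso θ := by
  have hsec : ∀ V : Z.Opens, Function.Bijective (θ.app (π ⁻¹ᵁ V)) := fun V => by
    have h := (inferInstance : IsIso ((Scheme.Modules.pushforward π).map θ))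
    exact ConcreteCategory.bijective_of_isIso (((Scheme.Modules.pushforward π).map θ).app V)
  refine (isIso_iff_stalk θ).2 fun x => ?_
  obtain ⟨_, ⟨V : Z.Opens, (hV : IsAffineOpen V), rfl⟩, hxV, -⟩ :=
    Z.isBasis_affineOpens.exists_subset_of_mem_open (Set.mem_univ (π x)) isOpen_univ
  haveI := hM
  haveI := hN
  have hW := hV.preimage π
  have hxW : x ∈ π ⁻¹ᵁ V := hxV
  refine ⟨fun a b hab => ?_, fun z => ?_⟩
  · haveI : Coh.IsQCoh (kernel θ) := (QCohLib.isQCoh_image θ hM hN).1
    rw [← sub_eq_zero] at hab ⊢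
    rw [← map_sub] at hab
    obtain ⟨d, hd⟩ := HilbObsLib.stalk_kernel_ι_exists θ x hab
    have hd' : d ∈ (⊤ : Submodule (X.presheaf.stalk x) ((kernel θ).presheaf.stalk x)) := trivial
    rw [← AmpleLib.span_germ_eq_top (kernel θ) hW hxW Set.univ Submodule.span_univ] at hd'
    have h0 : Submodule.span (X.presheaf.stalk x) ((kernel θ).presheaf.germ (π ⁻¹ᵁ V) x hxW '' Set.univ) ≤
        LinearMap.ker (stalkLin (kernel.ι θ) x) := by
      refine Submodule.span_le.2 ?_
      rintro _ ⟨c, -, rfl⟩
      rw [SetLike.mem_coe, LinearMap.mem_ker, stalkLin_germ]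
      have hc : (kernel.ι θ).app (π ⁻¹ᵁ V) c = 0 := (hsec V).1 (by
        rw [map_zero]
        exact congrArg (fun φ => Scheme.Modules.Hom.app φ (π ⁻¹ᵁ V) c) (kernel.condition θ))
      rw [hc, map_zero]
    rw [← hd]
    exact LinearMap.mem_ker.1 (h0 hd')
  · have hz : z ∈ (⊤ : Submodule (X.presheaf.stalk x) (N.presheaf.stalk x)) := trivial
    rw [← AmpleLib.span_germ_eq_top N hW hxW Set.univ Submodule.span_univ] at hz
    refine (Submodule.span_le.2 ?_ : _ ≤ LinearMap.range (stalkLin θ x)) hz
    rintro _ ⟨c, -, rfl⟩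
    obtain ⟨r, rfl⟩ := (hsec V).2 c
    exact ⟨M.presheaf.germ (π ⁻¹ᵁ V) x hxW r, stalkLin_germ θ x hxW r⟩

/-- The upper shriek of a finite morphism is the twist of the dualizing sheaf. -/
theorem nonempty_iso_of_rep (n : ℕ) (A : Type u) [CommRing A] (ι : Z ⟶ CohB1.ProjSpace n A) [IsClosedImmersion ι]
    [IsFinite π] [IsLocallyNoetherian Z] {G : Z.Modules} (hG : Coh.IsCoh G)
    (hcase : Flat π ∨ FlatMod.IsFinLocFree G)
    {ωX : X.Modules} (hωX : Coh.IsQCoh ωX) (τ : (Scheme.Modules.pushforward π).obj ωX ⟶ G)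
    (huniv : ∀ F : X.Modules, Coh.IsQCoh F →
      Function.Bijective (fun φ : F ⟶ ωX => (Scheme.Modules.pushforward π).map φ ≫ τ))
    {ωπ : X.Modules} (hωπ : Coh.IsQCoh ωπ) (τ₀ : (Scheme.Modules.pushforward π).obj ωπ ⟶ Coh.structureModule Z)
    (huniv₀ : ∀ F : X.Modules, Coh.IsQCoh F →
      Function.Bijective (fun φ : F ⟶ ωπ => (Scheme.Modules.pushforward π).map φ ≫ τ₀)) :
    Nonempty (ωX ≅ CohB1.tensorMod ωπ ((Scheme.Modules.pullback π).obj G)) := by
  haveI : IsLocallyNoetherian X := LocallyOfFiniteType.isLocallyNoetherian π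
  haveI := hG.1
  have hP : Coh.IsCoh (pO π) := EtAlgEasy.PrinPartPush.isCoh_pushforward_finite π (DevLib.isCoh_structureModule X)
  haveI : Coh.IsQCoh (Coh.structureModule Z) := (DevLib.isCoh_structureModule Z).1
  haveI := isIso_aMap π n A ι hωX τ huniv
  haveI := isIso_aMap π n A ι hωπ τ₀ huniv₀
  haveI := isIso_kM π n A ι hωπ hG
  let M := (mF π ωπ).obj G
  have hM : Coh.IsQCoh M := by
    haveI := hωπ
    exact BCLib.isQCoh_tmod ωπ ((Scheme.Modules.pullback π).obj G)
  let σ : (Scheme.Modules.pushforward π).obj M ⟶ G := inv (kM π ωπ G) ≫ (evalPairing π τ₀ G).lift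
  obtain ⟨θ, hθ⟩ := (huniv M hM).2 σ
  simp only at hθ
  have hb : ∀ z, Function.Bijective (stalkLin (kM π ωπ G ≫ aMap π σ) z) := fun z => by
    let R := Z.presheaf.stalk z
    let P' := (pO π).presheaf.stalk z
    let G' := G.presheaf.stalk z
    let eO : R ≃ₗ[R] (Coh.structureModule Z).presheaf.stalk z := RefOne.oEquiv z
    let E : ((Scheme.Modules.pushforward π).obj ωπ).presheaf.stalk z ≃ₗ[R] Module.Dual R P' :=
      (LinearEquiv.ofBijective (stalkLin (aMap π τ₀) z) ((isIso_iff_stalk _).1 inferInstance z)).trans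
        ((LinearEquiv.ofBijective (StalkHomLib.theta (pO π) (Coh.structureModule Z) z)
          (StalkHomLib.theta_bijective (F := pO π) (x := z) hP _)).trans
          (LinearEquiv.congrRight eO.symm))
    have hD : Function.Bijective (dualTensorHom R P' G') := by
      rcases hcase with h | h
      · haveI := h
        haveI : LocallyOfFinitePresentation π := inferInstance
        obtain ⟨U, r, hzU, ⟨e⟩⟩ := FinLocFreeLib.isFinLocFree_push π ⟨inferInstance, h, inferInstance⟩ z
        haveI := hP.1
        obtain ⟨l⟩ := PullbackMod.freeAt_of_restrict_iso (pO π) e hzU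
        haveI : Module.Free R P' := Module.Free.of_equiv l.symm
        haveI : Module.Finite R P' := Module.Finite.equiv l.symm
        exact dualTensorHom_bijective
      · obtain ⟨U, r, hzU, ⟨e⟩⟩ := h z
        obtain ⟨l⟩ := PullbackMod.freeAt_of_restrict_iso G e hzU
        haveI : Module.Free R G' := Module.Free.of_equiv l.symm
        haveI : Module.Finite R G' := Module.Finite.equiv l.symm
        exact bijective_dualTensorHom_of_free
    have hth := StalkHomLib.theta_bijective (F := pO π) (x := z) hP G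
    have key : ∀ w, StalkHomLib.theta (pO π) G z
        (stalkLin (kM π ωπ G ≫ aMap π σ) z (stalkTensor z ((Scheme.Modules.pushforward π).obj ωπ) G w)) =
        dualTensorHom R P' G' (TensorProduct.congr E (LinearEquiv.refl R G') w) := fun w => by
      induction w using TensorProduct.induction_on with
      | zero => simp
      | add p q hp hq => simp only [map_add, hp, hq]
      | tmul m g =>
        rw [TensorProduct.congr_tmul]
        refine LinearMap.ext fun f => ?_
        obtain ⟨V₁, h1, m, g, rfl, rfl⟩ := exists_common_germ (x := z) m g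
        obtain ⟨V₂, h2, f, rfl⟩ := TopCat.Presheaf.exists_germ_eq (pO π).presheaf f
        have hV : z ∈ V₁ ⊓ V₂ := ⟨h1, h2⟩
        rw [← TopCat.Presheaf.germ_res_apply ((Scheme.Modules.pushforward π).obj ωπ).presheaf
            (homOfLE (inf_le_left : V₁ ⊓ V₂ ≤ V₁)) z hV m,
          ← TopCat.Presheaf.germ_res_apply G.presheaf (homOfLE (inf_le_left : V₁ ⊓ V₂ ≤ V₁)) z hV g,
          ← TopCat.Presheaf.germ_res_apply (pO π).presheaf (homOfLE (inf_le_right : V₁ ⊓ V₂ ≤ V₂)) z hV f]
        generalize ((Scheme.Modules.pushforward π).obj ωπ).presheaf.map (homOfLE (inf_le_left : V₁ ⊓ V₂ ≤ V₁)).op m = m'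
        generalize G.presheaf.map (homOfLE (inf_le_left : V₁ ⊓ V₂ ≤ V₁)).op g = g'
        generalize (pO π).presheaf.map (homOfLE (inf_le_right : V₁ ⊓ V₂ ≤ V₂)).op f = f'
        have hrhs : E (((Scheme.Modules.pushforward π).obj ωπ).presheaf.germ _ z hV m')
            ((pO π).presheaf.germ _ z hV f') =
            Z.presheaf.germ _ z hV (show Γ(Z, V₁ ⊓ V₂) from τ₀.app _ (act π ωπ (show Γ(X, π ⁻¹ᵁ (V₁ ⊓ V₂)) from f')
              (show Γ(ωπ, π ⁻¹ᵁ (V₁ ⊓ V₂)) from m'))) := by
          show eO.symm (StalkHomLib.theta (pO π) (Coh.structureModule Z) z _ _) = _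
          rw [LinearEquiv.symm_apply_eq]
          refine (theta_aMap_germ π τ₀ hV m' f').trans ?_
          exact (ASBunKS.oEquiv_germ z hV _).symm
        rw [dualTensorHom_apply, hrhs]
        show _ = Z.presheaf.germ _ z hV _ • G.presheaf.germ _ z hV g'
        rw [← germ_smul']
        rw [stalkLin_comp, LinearMap.comp_apply]
        have hk : stalkLin (kM π ωπ G) z (stalkTensor z ((Scheme.Modules.pushforward π).obj ωπ) G
            (((Scheme.Modules.pushforward π).obj ωπ).presheaf.germ _ z hV m' ⊗ₜ G.presheaf.germ _ z hV g')) =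
            ((Scheme.Modules.pushforward π).obj M).presheaf.germ _ z hV ((projPairing π ωπ G).f _ m' g') := by
          show stalkLin _ z (stalkTensorHom z _) = _
          rw [stalkTensorHom_tmul]
          exact (projPairing π ωπ G).lift_germ hV m' g'
        rw [hk, theta_aMap_germ π σ hV]
        refine congrArg (G.presheaf.germ _ z hV) ?_
        have hact : act π M (show Γ(X, π ⁻¹ᵁ (V₁ ⊓ V₂)) from f')
            (show Γ(M, π ⁻¹ᵁ (V₁ ⊓ V₂)) from (projPairing π ωπ G).f _ m' g') =
            (kM π ωπ G).app _ (pairS _ G (act π ωπ (show Γ(X, π ⁻¹ᵁ (V₁ ⊓ V₂)) from f')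
              (show Γ(ωπ, π ⁻¹ᵁ (V₁ ⊓ V₂)) from m')) g') := by
          rw [ProjTwistLib.Pairing.lift_pairS, projPairing_f]
          exact (pairS_smul_left (show Γ(X, π ⁻¹ᵁ (V₁ ⊓ V₂)) from f') (show Γ(ωπ, π ⁻¹ᵁ (V₁ ⊓ V₂)) from m') _).symm
        rw [hact]
        show (inv (kM π ωπ G) ≫ (evalPairing π τ₀ G).lift).app _ _ = _
        rw [show ∀ s, (inv (kM π ωπ G) ≫ (evalPairing π τ₀ G).lift).app (V₁ ⊓ V₂) ((kM π ωπ G).app (V₁ ⊓ V₂) s) =
          (evalPairing π τ₀ G).lift.app (V₁ ⊓ V₂) s from fun s =>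
            congrArg (fun φ => Scheme.Modules.Hom.app φ (V₁ ⊓ V₂) s) (IsIso.hom_inv_id_assoc (kM π ωπ G) (evalPairing π τ₀ G).lift)]
        rw [ProjTwistLib.Pairing.lift_pairS]
        rfl
    have hfun : (fun y => StalkHomLib.theta (pO π) G z (stalkLin (kM π ωπ G ≫ aMap π σ) z y)) ∘
        (stalkTensor z ((Scheme.Modules.pushforward π).obj ωπ) G) =
        (dualTensorHom R P' G') ∘ (TensorProduct.congr E (LinearEquiv.refl R G')) := funext key
    have h3 := hD.comp (TensorProduct.congr E (LinearEquiv.refl R G')).bijective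
    rw [← hfun] at h3
    exact (Function.Bijective.of_comp_iff' hth _).1 ((Function.Bijective.of_comp_iff _ (LinearEquiv.bijective _)).1 h3)
  haveI : IsIso (kM π ωπ G ≫ aMap π σ) := (isIso_iff_stalk _).2 hb
  haveI : IsIso (aMap π σ) := IsIso.of_isIso_comp_left (kM π ωπ G) _
  haveI : IsIso ((Scheme.Modules.pushforward π).map θ) := by
    have h : (Scheme.Modules.pushforward π).map θ ≫ aMap π τ = aMap π σ := by rw [← aMap_natural, hθ]
    exact IsIso.of_isIso_fac_right h
  haveI := isIso_of_push π hM hωX θ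
  exact ⟨(asIso θ).symm⟩

end Groth.Agent.TwistShriek.FinPush
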