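import Groth.Agent.CycLib.NefPull
import Groth.Agent.JacLib.IdealPull
import Groth.Agent.VBLib.Point
import Groth.Agent.VBLib.Regular
import Groth.Agent.PointTwistLib.Basic
import Groth.Agent.NakaiLib.Cut

/-! # Fibres of a surface over a curve are nef -/

set_option autoImplicit false
set_option backward.isDefEq.respectTransparency false
set_option linter.style.haveILetI false
set_option maxHeartbeats 1000000

universe u

open CategoryTheory CategoryTheory.Limits AlgebraicGeometry TopologicalSpace
open Groth.Agent.PullbackMod Groth.Agent.Nakai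

noncomputable section

namespace Groth.Agent.TwistShriek

/-- The fibre over a closed point of a curve has an invertible ideal meeting every curve nonnegatively. -/
theorem fibre_nef (k : Type u) [Field k] [IsAlgClosed k]
    {S : Scheme.{u}} [S.Over (Spec (CommRingCat.of k))] [IsProper (S ↘ (Spec (CommRingCat.of k)))]
    {C : Scheme.{u}} [C.Over (Spec (CommRingCat.of k))] [IsProper (C ↘ (Spec (CommRingCat.of k)))]
    [Smooth (C ↘ (Spec (CommRingCat.of k)))] [IsIntegral C] (hdimC : topologicalKrullDim C = 1)
    (f : S ⟶ C) [f.IsOver (Spec (CommRingCat.of k))]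
    {p : C} (hp : IsClosed ({p} : Set C))
    {LF : S.Modules} (hLF : ClSub.IsInverseOf LF (ClSub.idealMod (f.fiberι p).ker)) :
    ∀ Γ : S.IdealSheafData, IsIntegral Γ.subscheme → topologicalKrullDim (Γ.support : Set S) = 1 →
      0 ≤ Curv2.euler k S (CohB1.tensorMod (ClSub.quotMod Γ) LF) - Curv2.euler k S (ClSub.quotMod Γ) := by
  intro Γ hΓ hΓd
  haveI := hΓ
  haveI := EulerIneqLib.isNoetherian_proper (X := S) k
  haveI := EulerIneqLib.isNoetherian_proper (X := C) k
  haveI := VBLib.isRegCurve_of_smooth k (X := C) hdimC.le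
  haveI : IsClosedImmersion (C.fromSpecResidueField p) := isClosed_singleton_iff_isClosedImmersion.1 hp
  obtain ⟨θ⟩ := hLF
  set IF := (f.fiberι p).ker with hIFdef
  have hIF : PicF.IsInvertible (ClSub.idealMod IF) :=
    AmpleLib.isInvertible_of_tensor_iso ((CurveLib.tmodComm _ LF) ≪≫ θ)
  have hL : PicF.IsInvertible LF := AmpleLib.isInvertible_of_tensor_iso θ
  set P := Scheme.IdealSheafData.vanishingIdeal (⟨{p}, hp⟩ : Closeds C) with hPdef
  have hP : PicF.IsInvertible (ClSub.idealMod P) := (VBLib.point_ideal k hdimC hp).1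
  have hPF : IF = P.comap f := by
    rw [hPdef, ← PointTwistLib.ker_fromSpecResidueField (k := k) hp]
    exact Scheme.IdealSheafData.ker_fst_of_isClosedImmersion (C.fromSpecResidueField p) f
  obtain ⟨e⟩ := JacLib.nonempty_iso_pullback_idealMod f P ((S8914.result P).1 hP) ((S8914.result _).1 (hPF ▸ hIF))
  have hpull := AmpleLib.isInvertible_pullback f hP
  have hcl : IntLib.dif hIF = IntLib.dif hpull := neg_injective ((cl_eq_neg_dif hIF).symm.trans
    ((cl_congr hIF hpull ((eqToIso (congrArg ClSub.idealMod hPF)) ≪≫ e.symm)).trans (cl_eq_neg_dif hpull)))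
  obtain ⟨δS, hδS⟩ := CycLib.exists_delta k S
  obtain ⟨δC, hδC⟩ := CycLib.exists_delta k C
  have h1 := (CycLib.pairing_quot_integral k hδS Γ (d := 1) hΓd.le (fun _ : Fin 1 => ClSub.idealMod IF) fun _ => hIF).2
  rw [Fin.prod_univ_one, hcl] at h1
  set ξ := Γ.subschemeι (genericPoint Γ.subscheme)
  have hI : 0 ≤ IntLib.pairing k (ClSub.quotMod Γ) (IntLib.dif hIF) := by
    rw [hcl, h1]
    split_ifs with h2
    · rw [one_mul]
      have h3 := CycLib.pairing_pullback k (g := f) (comp_over f (Spec (CommRingCat.of k))) hδS hδC 1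
        (fun _ : Fin 1 => ClSub.idealMod P) (fun _ => hP) ξ h2
      rw [Fin.prod_univ_one, Fin.prod_univ_one] at h3
      rw [h3]
      by_cases hc : AlgebraicCycle.mapCoeff f δS δC ξ = 0
      · rw [hc, Nat.cast_zero, zero_mul]
      refine mul_nonneg (Int.natCast_nonneg _) ?_
      have hδ : δC (f ξ) = 1 := by
        rw [AlgebraicCycle.mapCoeff] at hc
        split_ifs at hc with he
        · rw [← he, h2]; rfl
        · exact absurd rfl hc
      have hdimc : topologicalKrullDim (closure {f ξ} : Set C) = ((1 : ℕ) : WithBot ℕ∞) :=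
        CycLib.dim_closure_eq k hδC (f ξ) (t := 1) hδ
      have hgen : f ξ = genericPoint C := by
        by_contra hne
        have hnm : genericPoint C ∉ closure {f ξ} := fun hm =>
          hne (Specializes.antisymm (specializes_iff_mem_closure.2 hm) (genericPoint_specializes _)).eq
        have hlt := HilbLib.dim_lt_of_notMem (ξ := genericPoint C) (n := 1) isClosed_closure
          (fun y _ => specializes_iff_mem_closure.1 (genericPoint_specializes y)) hnm ?_
        · exact absurd hdimc hlt.ne
        · refine lt_of_le_of_lt ((Topology.IsEmbedding.subtypeVal.isInducing.topologicalKrullDim_le).trans hdimC.le) ?_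
          exact_mod_cast Nat.lt_succ_self 1
      have hz : IntLib.dif hP ∈ Aug C ^ 1 := by
        rw [pow_one, ← neg_neg (IntLib.dif hP), ← cl_eq_neg_dif]
        exact Ideal.neg_mem_iff _ |>.2 (cl_mem hP)
      have hd2 : topologicalKrullDim (closure {f ξ} : Set C) < ((1 + 1 : ℕ) : WithBot ℕ∞) := by
        rw [hdimc]; exact_mod_cast Nat.lt_succ_self 1
      rw [pairing_piece k (IntLib.isPiece_compMod (f ξ)) (hgen ▸ isPiece_structureModule C) hd2 hz]
      have h4 := IntLib.pairing_quotMod k hP 1
      rw [mul_one] at h4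
      have hsupp : topologicalKrullDim ({p} : Set C) ≤ 0 :=
        topologicalKrullDim_zero_of_discreteTopology _
      rw [← h4, IntLib.pairing_one, CurveLib.euler_of_dim_le_zero (k := k) hp ?_ hsupp]
      · exact Int.natCast_nonneg _
      · refine (IntLib.support_pushforward_subset P.subschemeι _).trans (le_of_eq ?_)
        rw [Scheme.IdealSheafData.range_subschemeι, hPdef, Scheme.IdealSheafData.coe_support_vanishingIdeal]
        rfl
    · rw [zero_mul]
  have hsupp : topologicalKrullDim (CohB1.support (ClSub.quotMod Γ)) < ((0 + 2 : ℕ) : WithBot ℕ∞) := by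
    refine lt_of_le_of_lt ((Topology.IsEmbedding.inclusion (?_ : CohB1.support (ClSub.quotMod Γ) ⊆ (Γ.support : Set S))).isInducing.topologicalKrullDim_le.trans hΓd.le) ?_
    · exact (IntLib.support_pushforward_subset Γ.subschemeι _).trans (Scheme.IdealSheafData.range_subschemeι _).le
    · exact_mod_cast Nat.lt_succ_self 1
  have hinv := IntLib.pairing_dif_inv k hL hIF θ (IntLib.isCoh_quotMod Γ) hsupp (fun i : Fin 0 => i.elim0) (fun i => i.elim0)
  rw [Fin.prod_univ_zero, mul_one, mul_one] at hinv
  rw [hinv, IntLib.pairing_dif] at hI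
  linarith

end Groth.Agent.TwistShriek
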