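import Groth.Agent.TwistShriek.PointCan
import Groth.Agent.TwistShriek.SurfEff

/-!
# Strict transforms of curves on the blow-up of a point
-/

set_option autoImplicit false
set_option backward.isDefEq.respectTransparency false
set_option linter.style.haveILetI false
set_option maxHeartbeats 1000000

universe u

open CategoryTheory CategoryTheory.Limits AlgebraicGeometry TopologicalSpace
open Groth.Agent.Nakai
open Groth.Agent.IntLib (PicRing pairing dif inv')

noncomputable section

namespace Groth.Agent.TwistShriek.PointBlow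

variable {X X' : Scheme.{u}} {x : X} {hx : IsClosed ({x} : Set X)} {π : X' ⟶ X}
variable (hb : BlowUp.IsBlowUp π (pointIdeal hx))
variable (k : Type u) [Field k] [IsAlgClosed k] [X.Over (Spec (CommRingCat.of k))] [X'.Over (Spec (CommRingCat.of k))]
  [IsProper (X ↘ Spec (CommRingCat.of k))] [IsProper (X' ↘ Spec (CommRingCat.of k))]
  [IsIntegral X'] [Smooth (X' ↘ Spec (CommRingCat.of k))]

theorem num_strict {X1 X2 X3 X4 Y1 Y2 P' Q' Q'' r rr e c3 d3 c4 d4 PP PW : ℤ} {m : ℕ}
    (a1 : X1 = rr + (m : ℤ) * e) (a2 : X2 = P' + (m : ℤ) * r) (a3 : X3 = c3 + (m : ℤ) * d3)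
    (a4 : X4 = c4 + (m : ℤ) * d4) (b2 : Y2 = Q' + r)
    (x1 : X1 = 0) (y1 : Y1 = 0) (h3 : X3 = PP) (h4 : X4 = PW) (hc3 : c3 = X2) (hd3 : d3 = X1)
    (hc4 : c4 = Y2) (hd4 : d4 = Y1) (hr : r = rr) (he : e = -1) (hq : Q'' = Q') :
    P' - Q'' = PP - PW - (m : ℤ) * ((m : ℤ) - 1) := by
  subst hc3 hd3 hc4 hd4 hr he hq h3 h4 x1 y1 a2 b2 a3 a4
  linear_combination ((m : ℤ) - 1) * a1

include hb in
/-- The change of the adjunction number of a curve under the blow-up of a point. -/
theorem strict_adjunction (hdim : topologicalKrullDim X ≤ ((2 : ℕ) : WithBot ℕ∞))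
    (hdim' : topologicalKrullDim X' = 2) (P : PointParams hx)
    (hπk : π ≫ (X ↘ Spec (CommRingCat.of k)) = X' ↘ Spec (CommRingCat.of k))
    {W : X.Modules} (hW : ExtPow.IsExtPow 2 (Omega.sheaf (X ↘ Spec (CommRingCat.of k))) W) (hWi : PicF.IsInvertible W)
    {W' : X'.Modules} (hW' : ExtPow.IsExtPow 2 (Omega.sheaf (X' ↘ Spec (CommRingCat.of k))) W')
    {C : X.IdealSheafData} (hC : PicF.IsInvertible (ClSub.idealMod C))
    {C' : X'.IdealSheafData} (hC' : PicF.IsInvertible (ClSub.idealMod C'))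
    (m : ℕ) (hm : C.comap π = C' * BlowUp.exceptional π (pointIdeal hx) ^ m) :
    FGA.intNum k X' 2 ![ClSub.idealMod C', ClSub.idealMod C'] (Coh.structureModule X') -
        FGA.intNum k X' 2 ![ClSub.idealMod C', W'] (Coh.structureModule X') =
      FGA.intNum k X 2 ![ClSub.idealMod C, ClSub.idealMod C] (Coh.structureModule X) -
        FGA.intNum k X 2 ![ClSub.idealMod C, W] (Coh.structureModule X) - (m : ℤ) * ((m : ℤ) - 1) := by
  haveI := EulerIneqLib.isNoetherian_proper (X := X') k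
  let I := BlowUp.exceptional π (pointIdeal hx)
  have hI : PicF.IsInvertible (ClSub.idealMod I) := (S8914.result _).2 hb.1
  have hd' : topologicalKrullDim X' ≤ ((2 : ℕ) : WithBot ℕ∞) := by exact_mod_cast hdim'.le
  obtain ⟨hW'i, -, -⟩ := canonical_data_proper k hdim' hW'
  obtain ⟨⟨eK⟩, -⟩ := nonempty_canonical_iso hb k hdim hdim' P hπk hW hWi hW'
  obtain ⟨hIm, hImk⟩ := mk_idealMod_pow hb.1 m
  have hImi : PicF.IsInvertible (ClSub.idealMod (I ^ m)) := (S8914.result _).2 hIm
  have hprod : BlowUp.IsEffCartierIdeal (C.comap π) :=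
    hm ▸ BlowCompLib.isEffCartier_mul ((S8914.result _).1 hC') hIm
  obtain ⟨eC⟩ := JacLib.nonempty_iso_pullback_idealMod π C ((S8914.result _).1 hC) hprod
  have hCI : PicF.IsInvertible (ClSub.idealMod (C' * I ^ m)) := (S8914.result _).2 (hm ▸ hprod)
  obtain ⟨eM⟩ := nonempty_idealMod_mul_iso hC' hImi hCI
  have hπC := AmpleLib.isInvertible_pullback π hC
  have hπW := AmpleLib.isInvertible_pullback π hWi
  obtain ⟨eT⟩ := IntLib.mk_eq_mk.1 (show IntLib.mk ((Scheme.Modules.pullback π).obj (ClSub.idealMod C)) =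
      IntLib.mk (CohB1.tensorMod (ClSub.idealMod C') (CohB1.tensorPow (ClSub.idealMod I) m)) by
    rw [IntLib.mk_congr eC, IntLib.mk_congr (eqToIso (congrArg ClSub.idealMod hm)), IntLib.mk_congr eM,
      IntLib.mk_tensor, IntLib.mk_tensor, IntLib.mk_tensorPow, hImk])
  have hT := AmpleLib.isInvertible_tensor hC' (AmpleLib.isInvertible_tensorPow hI m)
  have hCe : ∀ z ∈ Aug X', form k (cl hπC) z = form k (cl hC') z + m * form k (cl hI) z := fun z hz => by
    have h1 : cl hT - (cl hC' + cl (AmpleLib.isInvertible_tensorPow hI m)) ∈ Aug X' ^ 2 := by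
      rw [cl_tensor hC' (AmpleLib.isInvertible_tensorPow hI m), add_sub_cancel_left, pow_two]
      exact Ideal.mul_mem_mul (cl_mem _) (cl_mem _)
    rw [cl_congr hπC hT eT, form_congr k hdim' h1 hz, form_add_left,
      form_congr k hdim' (cl_tensorPow_sub_mem hI m) hz, ← Int.cast_natCast (R := PicRing X'),
      ← zsmul_eq_mul, form_smul_left]
  have hWe : ∀ z ∈ Aug X', form k (cl hπW) z = form k (cl hW'i) z + form k (cl hI) z := fun z hz => by
    have h1 : cl (AmpleLib.isInvertible_tensor hW'i hI) - (cl hW'i + cl hI) ∈ Aug X' ^ 2 := by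
      rw [cl_tensor hW'i hI, add_sub_cancel_left, pow_two]
      exact Ideal.mul_mem_mul (cl_mem _) (cl_mem _)
    rw [cl_congr hπW (AmpleLib.isInvertible_tensor hW'i hI) eK.symm, form_congr k hdim' h1 hz, form_add_left]
  have hee := form_exceptional_closed hb k P hπk hI
  have hCE := intNum_pullback_exceptional hb k P hπk hdim hd' hI hC
  have hWE := intNum_pullback_exceptional hb k P hπk hdim hd' hI hWi
  have hCC := intNum_pullback_pullback hb k hπk hdim hd' hC hC
  have hCW := intNum_pullback_pullback hb k hπk hdim hd' hC hWi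
  rw [intNum_eq_form k hd' hπC hπC, intNum_eq_form k hdim hC hC] at hCC
  rw [intNum_eq_form k hd' hπC hπW, intNum_eq_form k hdim hC hWi] at hCW
  rw [intNum_eq_form k hd' hC' hC', intNum_eq_form k hd' hC' hW'i, intNum_eq_form k hdim hC hC,
    intNum_eq_form k hdim hC hWi]
  have a1 := hCe _ (cl_mem hI)
  have a2 := hCe _ (cl_mem hC')
  have a3 := hCe _ (cl_mem hπC)
  have a4 := hCe _ (cl_mem hπW)
  have b2 := hWe _ (cl_mem hC')
  exact num_strict a1 a2 a3 a4 b2 hCE hWE hCC hCW (form_comm k _ _) (form_comm k _ _) (form_comm k _ _)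
    (form_comm k _ _) (form_comm k _ _) hee (form_comm k _ _)

end Groth.Agent.TwistShriek.PointBlow
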