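import Groth.Agent.TwistShriek.SurfH1
import Groth.Agent.TwistShriek.SurfConn

/-!
# Unions of curves
-/

set_option autoImplicit false
set_option backward.isDefEq.respectTransparency false
set_option linter.style.haveILetI false
set_option maxHeartbeats 800000

universe u

open CategoryTheory CategoryTheory.Limits AlgebraicGeometry TopologicalSpace
open Groth.Agent.PullbackMod Groth.Agent.DCohLib Groth.Agent.Nakai Groth.Agent.H1ZeroLib
open Groth.Agent.IntLib (PicRing pairing)

noncomputable section

namespace Groth.Agent.TwistShriek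

/-- A divisor not containing a curve meets it in the product. -/
theorem inf_eq_mul {X : Scheme.{u}} {C B : X.IdealSheafData} (hC : IsIntegral C.subscheme) (hB : FGA.IsEffCartier B)
    (hne : ¬ (C.support : Set X) ⊆ (B.support : Set X)) : C ⊓ B = C * B := by
  haveI := hC
  choose U hyU b hb hU using hB
  refine Scheme.IdealSheafData.ext_of_iSup_eq_top U (top_le_iff.1 fun x _ => Opens.mem_iSup.2 ⟨x, hyU x⟩) fun y => ?_
  rw [Scheme.IdealSheafData.ideal_inf, Pi.inf_apply, Scheme.IdealSheafData.ideal_mul, Pi.mul_apply]
  refine le_antisymm ?_ Ideal.mul_le_inf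
  rintro x ⟨hxC, hxB⟩
  rw [hU y] at hxB ⊢
  obtain ⟨r, rfl⟩ := Ideal.mem_span_singleton'.1 hxB
  by_cases hempty : IsEmpty ↥(C.subschemeι ⁻¹ᵁ (U y).1)
  · have htop : C.ideal (U y) = ⊤ := by
      refine Ideal.Quotient.subsingleton_iff.1 ?_
      haveI : Subsingleton Γ(C.subscheme, C.subschemeι ⁻¹ᵁ (U y).1) := by
        haveI := hempty
        have hbot : C.subschemeι ⁻¹ᵁ (U y).1 = ⊥ := by
          ext z
          exact ⟨fun hz => (IsEmpty.false (⟨z, hz⟩ : ↥(C.subschemeι ⁻¹ᵁ (U y).1))).elim, fun hz => hz.elim⟩
        rw [hbot]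
        infer_instance
      exact (C.subschemeObjIso (U y)).commRingCatIsoToRingEquiv.symm.injective.subsingleton
    rw [htop, Ideal.top_mul]
    exact Ideal.mul_mem_left _ r (Ideal.mem_span_singleton_self _)
  obtain ⟨z₀, hz₀⟩ := not_isEmpty_iff.1 hempty
  haveI : IsDomain Γ(C.subscheme, C.subschemeι ⁻¹ᵁ (U y).1) :=
    @IsIntegral.component_integral _ _ _ ⟨⟨z₀, hz₀⟩⟩
  haveI : IsDomain (Γ(X, (U y).1) ⧸ C.ideal (U y)) :=
    (C.subschemeObjIso (U y)).commRingCatIsoToRingEquiv.symm.toMulEquiv.isDomain
  have hP : (C.ideal (U y)).IsPrime := (Ideal.Quotient.isDomain_iff_prime _).1 inferInstance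
  have hbC : b y ∉ C.ideal (U y) := fun hbC => hne <| by
    have hgU : C.subschemeι (genericPoint C.subscheme) ∈ (U y).1 :=
      ((genericPoint_specializes z₀).map C.subschemeι.continuous).mem_open (U y).1.2 hz₀
    have hgC : C.subschemeι (genericPoint C.subscheme) ∈ C.support := by
      show _ ∈ (C.support : Set X)
      rw [← Scheme.IdealSheafData.range_subschemeι]
      exact Set.mem_range_self _
    have hgB : C.subschemeι (genericPoint C.subscheme) ∈ B.support := by
      rw [Scheme.IdealSheafData.mem_support_iff_of_mem hgU] at hgC ⊢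
      exact Scheme.zeroLocus_mono _ (by rw [hU y]; exact (Ideal.span_singleton_le_iff_mem _).2 hbC) hgC
    rw [← Scheme.IdealSheafData.range_subschemeι, ← Set.image_univ, ← genericPoint_closure,
      ← C.subschemeι.isClosedEmbedding.closure_image_eq, Set.image_singleton]
    exact closure_minimal (Set.singleton_subset_iff.2 hgB) B.support.isClosed
  exact Ideal.mul_mem_mul ((hP.mem_or_mem hxC).resolve_right hbC) (Ideal.mem_span_singleton_self _)

variable (k : Type u) [Field k] {X : Scheme.{u}} [X.Over (Spec (CommRingCat.of k))]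
  [IsProper (X ↘ Spec (CommRingCat.of k))]

/-- `H¹` of a divisor surjects on `H¹` of a smaller one. -/
theorem surjective_hMap_one {Y Z : X.IdealSheafData} (h : Y ≤ Z) (hd : topologicalKrullDim (Y.support : Set X) ≤ 1) :
    Function.Surjective (CurveLib.hMap (k := k) (qmap h) 1) := by
  haveI := EulerIneqLib.isNoetherian_proper (X := X) k
  have hS := kerSeq_shortExact (qmap h) (surjective_qmap h)
  haveI : Subsingleton (Coh.HH X (kernel (qmap h)) 2) :=
    CurveLib.subsingleton_HH_of_support _ Y.support.isClosed (fun x hx => by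
      by_contra hn
      refine hx ?_
      haveI : Subsingleton ((ClSub.quotMod Y).presheaf.stalk x) :=
        not_not.1 fun h => hn (IntLib.support_quotMod_subset Y h)
      exact ((mono_iff_stalk (kernel.ι (qmap h))).1 inferInstance x).subsingleton) (d := 1)
      (by exact_mod_cast hd) one_lt_two
  intro z
  have hz : z ∈ LinearMap.ker (CurveLib.hδ (k := k) hS 1) :=
    LinearMap.mem_ker.2 (Subsingleton.elim (α := Coh.HH X (kernel (qmap h)) 2) _ _)
  rw [← CurveLib.range_hMap_g hS 1] at hz
  exact hz

variable [IsIntegral X] [Smooth (X ↘ Spec (CommRingCat.of k))]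

/-- The Euler characteristic of a union of distinct curves. -/
theorem euler_union (hdim : topologicalKrullDim X = 2) {n : ℕ} (C : Fin n → X.IdealSheafData)
    (hCi : ∀ i, IsIntegral (C i).subscheme) (hCd : ∀ i, topologicalKrullDim ((C i).support : Set X) = 1)
    (hinj : Function.Injective fun i => ((C i).support : Set X)) (s : Finset (Fin n)) :
    FGA.IsEffCartier (s.inf C) ∧ (∀ j ∉ s, ¬ ((C j).support : Set X) ⊆ ((s.inf C).support : Set X)) ∧
      (∀ hI : PicF.IsInvertible (ClSub.idealMod (s.inf C)), ∀ z ∈ Aug X, form k (cl hI) z =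
        ∑ i ∈ s, form k (cl (invertible_curve k hdim (C i) (hCi i) (hCd i))) z) ∧
      Curv2.euler k X (ClSub.quotMod (s.inf C)) = ∑ i ∈ s, Curv2.euler k X (ClSub.quotMod (C i)) -
        ∑ i ∈ s, ∑ j ∈ s, if i < j then form k (cl (invertible_curve k hdim (C i) (hCi i) (hCd i)))
          (cl (invertible_curve k hdim (C j) (hCi j) (hCd j))) else 0 := by
  haveI := EulerIneqLib.isNoetherian_proper (X := X) k
  induction s using Finset.induction_on_max with
  | empty =>
    refine ⟨?_, fun j _ h => ?_, fun hI z hz => ?_, ?_⟩
    · rw [Finset.inf_empty]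
      intro y
      obtain ⟨_, ⟨U : X.Opens, hU, rfl⟩, hyU, -⟩ :=
        X.isBasis_affineOpens.exists_subset_of_mem_open (Set.mem_univ y) isOpen_univ
      exact ⟨⟨U, hU⟩, hyU, 1, one_mem _, by
        rw [Scheme.IdealSheafData.ideal_top, Pi.top_apply, Ideal.span_singleton_one]⟩
    · rw [Finset.inf_empty] at h
      have h' := (Topology.IsEmbedding.inclusion h).isInducing.topologicalKrullDim_le
      rw [hCd j, dim_top_support] at h'
      exact absurd h' (by simp)
    · rw [Finset.sum_empty]
      have e := form_ideal_mul k hdim hI hI (A := (∅ : Finset (Fin n)).inf C) (B := (∅ : Finset (Fin n)).inf C)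
        (by rw [Finset.inf_empty, eq_top_of_le_mul]; rw [Finset.inf_empty] at hI; exact hI) hz
      rw [show cl (show PicF.IsInvertible (ClSub.idealMod ((∅ : Finset (Fin n)).inf C * (∅ : Finset (Fin n)).inf C)) by
        rw [Finset.inf_empty, eq_top_of_le_mul]; rw [Finset.inf_empty] at hI; exact hI) = cl hI from by
          congr 1 <;> rw [Finset.inf_empty, eq_top_of_le_mul]] at e
      linarith
    · rw [Finset.inf_empty, Finset.sum_empty, Finset.sum_empty, sub_zero]
      haveI : Subsingleton (Coh.HH X (ClSub.quotMod (⊤ : X.IdealSheafData)) 0) := by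
        refine subsingleton_of_forall_eq 0 fun c => ?_
        by_contra hc
        refine CurveLib.secHom_secOf_ne_zero _ hc (hom_ext_stalk fun x => LinearMap.ext fun w => ?_)
        haveI : Subsingleton ((ClSub.quotMod (⊤ : X.IdealSheafData)).presheaf.stalk x) :=
          not_not.1 fun h => by
            have := IntLib.support_quotMod_subset (⊤ : X.IdealSheafData) h
            rw [Scheme.IdealSheafData.support_top] at this
            exact this
        exact Subsingleton.elim _ _
      rw [CurveLib.euler_eq_sum (K := k) (ClSub.quotMod (⊤ : X.IdealSheafData)) 1 fun p hp =>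
        CurveLib.subsingleton_HH_of_support _ (⊤ : X.IdealSheafData).support.isClosed
          (IntLib.support_quotMod_subset _) (d := 0) (by rw [dim_top_support]; exact bot_le) hp]
      simp [Module.finrank_zero_of_subsingleton]
  | insert a s hlt ih =>
    obtain ⟨hB, hnot, hform, hchi⟩ := ih
    have has : a ∉ s := fun h => lt_irrefl a (hlt a h)
    have hmul := inf_eq_mul (hCi a) hB (hnot a has)
    have hCI := invertible_curve k hdim (C a) (hCi a) (hCd a)
    have hBI : PicF.IsInvertible (ClSub.idealMod (s.inf C)) := (S8914.result _).2 hB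
    rw [Finset.inf_insert, hmul]
    refine ⟨BlowCompLib.isEffCartier_mul ((S8914.result _).1 hCI) hB, fun j hj h => ?_, fun hI z hz => ?_, ?_⟩
    · rw [Finset.mem_insert, not_or] at hj
      rw [Scheme.IdealSheafData.support_mul] at h
      haveI := hCi j
      have hgen : (C j).subschemeι (genericPoint (C j).subscheme) ∈ ((C j).support : Set X) := by
        rw [← Scheme.IdealSheafData.range_subschemeι]; exact Set.mem_range_self _
      have hcl : ∀ {T : Set X}, IsClosed T → (C j).subschemeι (genericPoint (C j).subscheme) ∈ T →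
          ((C j).support : Set X) ⊆ T := fun hT hm => by
        rw [← Scheme.IdealSheafData.range_subschemeι, ← Set.image_univ, ← genericPoint_closure,
          ← (C j).subschemeι.isClosedEmbedding.closure_image_eq, Set.image_singleton]
        exact closure_minimal (Set.singleton_subset_iff.2 hm) hT
      rcases h hgen with hm | hm
      · have hsub := hcl (C a).support.isClosed hm
        refine hj.1 (hinj (Set.Subset.antisymm hsub ?_))
        by_contra hn'
        have h' := dim_inter_curve (hCi a) (hCd a) (C j).support.isClosed hn'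
        rw [Set.inter_eq_left.2 hsub, hCd j] at h'
        exact absurd h' (by norm_num)
      · exact hnot j hj.2 (hcl (s.inf C).support.isClosed hm)
    · rw [form_ideal_mul k hdim hCI hBI hI hz, hform hBI z hz, Finset.sum_insert has]
    · have h2 := Nakai.pairing_cl k (ClSub.quotMod (C a)) hBI
      rw [pairing_quotMod_cl k hCI, form_comm k (cl hCI), hform hBI _ (cl_mem _)] at h2
      have e1 : ∀ j ∈ s, ¬ a < j := fun j hj => (hlt j hj).asymm
      rw [(peel_quot k (C := C a) (B := s.inf C) hBI).1, hchi, Finset.sum_insert has, Finset.sum_insert has,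
        Finset.sum_insert has, if_neg (lt_irrefl a), Finset.sum_eq_zero (fun j hj => if_neg (e1 j hj)),
        Finset.sum_congr rfl (fun i hi => Finset.sum_insert (f := fun j => if i < j then form k
          (cl (invertible_curve k hdim (C i) (hCi i) (hCd i))) (cl (invertible_curve k hdim (C j) (hCi j) (hCd j))) else 0) has),
        Finset.sum_add_distrib, Finset.sum_congr rfl (fun i hi => if_pos (hlt i hi))]
      linarith

end Groth.Agent.TwistShriek
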