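import Groth.Agent.S7856
import Groth.Agent.CurveLib.Finite
import Groth.Agent.CurveLib.SmulPow
import Groth.Agent.CurveLib.Components
import Groth.Agent.EulerIneqLib.Basic

/-!
# Curves with only constant global functions
-/

set_option autoImplicit false
set_option linter.style.haveILetI false
set_option backward.isDefEq.respectTransparency false

universe u

open CategoryTheory CategoryTheory.Limits AlgebraicGeometry

noncomputable section

namespace Groth.Agent.TwistShriek

variable (k : Type u) [Field k] {X : Scheme.{u}} [X.Over (Spec (CommRingCat.of k))]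
  [IsProper (X ↘ Spec (CommRingCat.of k))]

omit [IsProper (X ↘ Spec (CommRingCat.of k))] in
include k in
/-- A scheme with only constant functions is connected. -/
theorem connectedSpace_of_h0 [Nonempty X] (h0 : Module.finrank k (Coh.HH X (Coh.structureModule X) 0) = 1) :
    ConnectedSpace X := by
  haveI : Nonempty (⊤ : X.Opens).toScheme := ⟨⟨Classical.arbitrary X, trivial⟩⟩
  let φ : k →+* Γ(X, ⊤) := Coh.toGlobal (X ↘ Spec (CommRingCat.of k))
  let e := CurveLib.secOf (Coh.structureModule X)
  have h1 : e.symm (1 : Γ(X, ⊤)) ≠ 0 := fun hh => one_ne_zero (α := Γ(X, ⊤))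
    ((e.apply_symm_apply _).symm.trans ((congrArg e hh).trans (map_zero e)))
  refine (Groth.Agent.S7856.idem_trivial_iff X).2 ⟨inferInstance, fun a ha => ?_⟩
  obtain ⟨c, hc⟩ := exists_smul_eq_of_finrank_eq_one h0 h1 (e.symm a)
  have hc' : φ c = a := by
    have h2 := congrArg e hc
    rw [CurveLib.secOf_smul, e.apply_symm_apply, e.apply_symm_apply] at h2
    exact (mul_one (φ c)).symm.trans h2
  have hinj : Function.Injective φ := φ.injective
  have hcc : c * c = c := hinj (by rw [map_mul, hc']; exact ha)
  rcases IsIdempotentElem.iff_eq_zero_or_one.1 hcc with h | h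
  · exact Or.inl (by rw [← hc', h, map_zero])
  · exact Or.inr (by rw [← hc', h, map_one])

include k in
/-- A connected curve has only one-dimensional components. -/
theorem dim_irreducibleComponent [ConnectedSpace X] (hdim : topologicalKrullDim X = 1) {Z : Set X}
    (hZ : Z ∈ irreducibleComponents (X : Type u)) : topologicalKrullDim Z = 1 := by
  haveI := EulerIneqLib.isNoetherian_proper (X := X) k
  have hcl := isClosed_of_mem_irreducibleComponents Z hZ
  refine le_antisymm ((topologicalKrullDim_subspace_le X Z).trans hdim.le) (not_lt.1 fun hlt => ?_)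
  have hd : topologicalKrullDim Z ≤ 0 := CurveLib.le_zero_of_lt_one hlt
  obtain ⟨ξ, hξ⟩ := QuasiSober.sober hZ.1 hcl
  have hZξ : Z = {ξ} := hξ.def.symm.trans (CurveLib.closure_singleton_eq hcl hd hξ.mem)
  let W : Set X := ⋃ T ∈ irreducibleComponents (X : Type u) \ {Z}, T
  have hW : IsClosed W := (TopologicalSpace.NoetherianSpace.finite_irreducibleComponents.subset Set.sdiff_subset).isClosed_biUnion
    fun T hT => isClosed_of_mem_irreducibleComponents T hT.1
  have hZW : Z = Wᶜ := by
    ext x
    constructor
    · intro hx hxW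
      obtain ⟨T, ⟨hT, hTZ⟩, hxT⟩ := Set.mem_iUnion₂.1 hxW
      have hsub : Z ⊆ T := by
        rw [hZξ] at hx ⊢
        rw [Set.mem_singleton_iff] at hx
        exact Set.singleton_subset_iff.2 (hx ▸ hxT)
      exact hTZ (le_antisymm (hZ.2 hT.1 hsub) hsub)
    · intro hx
      by_contra hxZ
      obtain ⟨T, hT, hxT⟩ := exists_mem_irreducibleComponents_subset_of_isIrreducible {x} isIrreducible_singleton
      exact hx (Set.mem_iUnion₂.2 ⟨T, ⟨hT, fun h => hxZ (h ▸ hxT rfl)⟩, hxT rfl⟩)
  have hclo : IsClopen Z := ⟨hcl, hZW ▸ hW.isOpen_compl⟩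
  rcases isClopen_iff.1 hclo with h | h
  · exact hZ.1.nonempty.ne_empty h
  · have hle : topologicalKrullDim X ≤ topologicalKrullDim Z :=
      (Homeomorph.Set.univ X).symm.isInducing.topologicalKrullDim_le.trans (by rw [h])
    rw [hdim] at hle
    exact absurd (hle.trans hd) (by decide)

end Groth.Agent.TwistShriek
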