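import Groth.Agent.DCohLib.GammaPush
import Groth.Agent.DCohLib.ProjPerf
import Groth.Agent.DCohLib.TriRes
import Groth.Agent.DCohLib.TensorDer
import Groth.Agent.DCohLib.LTensorCongr
import Groth.Agent.DCohLib.Assoc
import Groth.Agent.DCohLib.SymNat
import Groth.Agent.DCohLib.LpullTensor
import Groth.Agent.DCohLib.TwoThree

/-!
# Global sections of kernel transforms
-/

set_option autoImplicit false
set_option linter.style.haveILetI false
set_option backward.isDefEq.respectTransparency false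
set_option maxHeartbeats 1000000

universe u

open CategoryTheory CategoryTheory.Limits AlgebraicGeometry
open Groth.Agent.DCohLib

attribute [local instance] HasDerivedCategory.standard

noncomputable section

namespace Groth.Agent.TwistShriek

variable {X Y W : Scheme.{u}}

/-- `RΓ(X, Rp_*(Lq^*F ⊗ P) ⊗ E)` is `RΓ` of the triple tensor product upstairs. -/
theorem nonempty_rgamma_kernel (p : W ⟶ X) (q : W ⟶ Y) [DCoh.HasRpush p] [DCoh.HasLpull q] [DCoh.HasRΓ X]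
    [DCoh.HasRΓ W] (P : CochainComplex W.Modules ℤ) [DCoh.HasLTensorCx P]
    (P' : CochainComplex W.Modules ℤ) (hP' : DCoh.IsKFlat P') (eP : DerivedCategory.Q.obj P' ≅ DerivedCategory.Q.obj P)
    (E : CochainComplex X.Modules ℤ) [DCoh.HasLTensorCx E] (E' : CochainComplex X.Modules ℤ) (hE' : DCoh.IsKFlat E')
    (eE : DerivedCategory.Q.obj E' ≅ DerivedCategory.Q.obj E) (hE : DCoh.IsPerfect (DerivedCategory.Q.obj E'))
    (F : CochainComplex Y.Modules ℤ) (F' : CochainComplex Y.Modules ℤ) (hF' : DCoh.IsKFlat F')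
    (eF : DerivedCategory.Q.obj F' ≅ DerivedCategory.Q.obj F) :
    Nonempty ((DCoh.RΓ X).obj ((DCoh.LTensorCx E).obj
        ((DCoh.Lpull q ⋙ DCoh.LTensorCx P ⋙ DCoh.Rpush p).obj (DerivedCategory.Q.obj F))) ≅
      (DCoh.RΓ W).obj (DerivedCategory.Q.obj
        ((DCoh.tensorCx.obj ((DCoh.tensorCx.obj ((pullCx q).obj F')).obj P')).obj ((pullCx p).obj E')))) := by
  obtain ⟨tE⟩ := nonempty_lTensor_of_iso (E := E) (E' := E') eE
  obtain ⟨tP⟩ := nonempty_lTensor_of_iso (E := P) (E' := P') eP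
  obtain ⟨g⟩ := nonempty_rgamma_rpush p
  obtain ⟨pr⟩ := nonempty_projection_perfect p E' hE' hE ((DCoh.LTensorCx P').obj ((DCoh.Lpull q).obj (DerivedCategory.Q.obj F)))
  let qF := (pullCx q).obj F'
  have hqF : DCoh.IsKFlat qF := isKFlat_pullback q hF'
  let a : (DCoh.LTensorCx P').obj ((DCoh.Lpull q).obj (DerivedCategory.Q.obj F)) ≅
      DerivedCategory.Q.obj ((DCoh.tensorCx.obj qF).obj P') :=
    (DCoh.LTensorCx P').mapIso ((DCoh.Lpull q).mapIso eF.symm ≪≫ lpullIsoK q F' hF') ≪≫ lTensorIso P' qF hqF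
  exact ⟨(DCoh.RΓ X).mapIso ((DCoh.LTensorCx E).mapIso ((DCoh.Rpush p).mapIso (tP.app _).symm) ≪≫
      (tE.app _).symm ≪≫ pr) ≪≫
    g.app _ ≪≫ (DCoh.RΓ W).mapIso ((DCoh.LTensorCx ((pullCx p).obj E')).mapIso a ≪≫
      lTensorIso ((pullCx p).obj E') _ (isKFlat_tensorCx hqF hP'))⟩

/-- The symmetry of the two kernel transforms under global sections. -/
theorem nonempty_rgamma_kernel_sym (p : W ⟶ X) (q : W ⟶ Y) [DCoh.HasRpush p] [DCoh.HasRpush q]
    [DCoh.HasLpull p] [DCoh.HasLpull q] [DCoh.HasRΓ X] [DCoh.HasRΓ Y]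
    (P : CochainComplex W.Modules ℤ) [DCoh.HasLTensorCx P]
    (E : CochainComplex X.Modules ℤ) [DCoh.HasLTensorCx E] (hE : DCoh.IsPerfect (DerivedCategory.Q.obj E))
    (F : CochainComplex Y.Modules ℤ) [DCoh.HasLTensorCx F] (hF : DCoh.IsPerfect (DerivedCategory.Q.obj F)) :
    Nonempty ((DCoh.RΓ X).obj ((DCoh.LTensorCx E).obj
        ((DCoh.Lpull q ⋙ DCoh.LTensorCx P ⋙ DCoh.Rpush p).obj (DerivedCategory.Q.obj F))) ≅
      (DCoh.RΓ Y).obj ((DCoh.LTensorCx F).obj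
        ((DCoh.Lpull p ⋙ DCoh.LTensorCx P ⋙ DCoh.Rpush q).obj (DerivedCategory.Q.obj E)))) := by
  haveI : DCoh.HasRΓ W := Groth.Agent.KInj.hasRightDerivedFunctor (hres_modules _) _
  let P' := (resX W).obj P
  let E' := (resX X).obj E
  let F' := (resX Y).obj F
  let eP : DerivedCategory.Q.obj P' ≅ DerivedCategory.Q.obj P := @asIso _ _ _ _ _ (isIso_Q_resXπ P)
  let eE : DerivedCategory.Q.obj E' ≅ DerivedCategory.Q.obj E := @asIso _ _ _ _ _ (isIso_Q_resXπ E)
  let eF : DerivedCategory.Q.obj F' ≅ DerivedCategory.Q.obj F := @asIso _ _ _ _ _ (isIso_Q_resXπ F)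
  obtain ⟨A⟩ := nonempty_rgamma_kernel p q P P' (isKFlat_resX P) eP E E' (isKFlat_resX E) eE
    (isPerfect_iso eE.symm hE) F F' (isKFlat_resX F) eF
  obtain ⟨B⟩ := nonempty_rgamma_kernel q p P P' (isKFlat_resX P) eP F F' (isKFlat_resX F) eF
    (isPerfect_iso eF.symm hF) E E' (isKFlat_resX E) eE
  exact ⟨A ≪≫ (DCoh.RΓ W).mapIso (DerivedCategory.Q.mapIso
    (assocCx W.sheaf _ P' _ ≪≫ symS _ _ ≪≫ (DCoh.tensorCx.mapIso (symS P' _)).app _)) ≪≫ B.symm⟩

end Groth.Agent.TwistShriek
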