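import Groth.Agent.TwistShriek.CurveDual
import Groth.Agent.TwistShriek.DualPair

/-!
# The dualizing module of a curve
-/

set_option autoImplicit false
set_option linter.style.haveILetI false
set_option backward.isDefEq.respectTransparency false
set_option maxHeartbeats 1000000

universe u

open CategoryTheory CategoryTheory.Limits AlgebraicGeometry

attribute [local instance] HasDerivedCategory.standard

noncomputable section

namespace Groth.Agent.TwistShriek

variable (k : Type u) [Field k] (X : Scheme.{u}) [X.Over (Spec (CommRingCat.of k))]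
  [IsProper (X ↘ Spec (CommRingCat.of k))]
  [DCoh.HasRpush (X ↘ Spec (CommRingCat.of k))] (h : DCoh.RpushPreservesQCoh (X ↘ Spec (CommRingCat.of k)))
  [DCoh.HasShriek (X ↘ Spec (CommRingCat.of k)) h] (OY : DCoh.DQCoh (Spec (CommRingCat.of k)))
  (hOY : Nonempty (OY.obj ≅ DCoh.inD (Spec (CommRingCat.of k)) (Coh.structureModule (Spec (CommRingCat.of k)))))

include hOY in
/-- The dualizing module of a curve is a dualizing sheaf, with `h¹(ω) ≤ h⁰(O)`. -/
theorem exists_pair_dualizingMod (hdim : topologicalKrullDim X ≤ (1 : ℕ)) :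
    ∃ tr : Coh.HH X (DCoh.dualizingMod (X ↘ Spec (CommRingCat.of k)) h OY 1) 1 →ₗ[k] k,
      Canon.IsRDualOver k X 1 (DCoh.dualizingMod (X ↘ Spec (CommRingCat.of k)) h OY 1) tr ∧
      Module.Finite k (Coh.HH X (DCoh.dualizingMod (X ↘ Spec (CommRingCat.of k)) h OY 1) 1) ∧
      Module.finrank k (Coh.HH X (DCoh.dualizingMod (X ↘ Spec (CommRingCat.of k)) h OY 1) 1) ≤
        Module.finrank k (Coh.HH X (Coh.structureModule X) 0) := by
  obtain ⟨eO⟩ := hOY
  let f := X ↘ Spec (CommRingCat.of k)
  obtain ⟨tr, htr⟩ := exists_isRDualOver_curve k X h (DCoh.shriek f h) (DCoh.shriekAdj f h) OY eO 1 hdim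
  obtain ⟨hfin, hle, -⟩ := finrank_H1_dualizing k X h (DCoh.shriek f h) (DCoh.shriekAdj f h) OY eO hdim
  exact ⟨tr, htr, hfin, hle⟩

end Groth.Agent.TwistShriek
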