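import Groth.Agent.TwistShriek.Canonical
import Groth.Agent.HomLib.Basic
import Groth.Agent.RefOne.Stalk
import Groth.Agent.NormalRefLib.Basic
import Groth.Agent.CurveFF.Point
import Groth.Agent.QCohLib.Push
import Groth.Agent.QCohLib.Coherent
import Groth.Prelude.Def_RefHull
import Groth.Prelude.Def_TorSh
import Groth.Prelude.Def_DDual2

/-!
# Biduality with values in the dualizing module of a curve
-/

set_option autoImplicit false
set_option linter.style.haveILetI false
set_option linter.unusedSectionVars false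
set_option backward.isDefEq.respectTransparency false
set_option maxHeartbeats 1000000

universe u

open CategoryTheory CategoryTheory.Limits AlgebraicGeometry TopologicalSpace Opposite
open Groth.Agent.DCohLib Groth.Agent.PullbackMod Groth.Agent.ParaFLib

attribute [local instance] HasDerivedCategory.standard

noncomputable section

namespace Groth.Agent.TwistShriek

variable {X : Scheme.{u}}

/-- Evaluation at a germ. -/
def omegaAt (F G : X.Modules) (x : X) :
    F.presheaf.stalk x →ₗ[X.presheaf.stalk x] RefHull.StalkHom (RefHull.homSh F G) G x where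
  toFun v := (LinearMap.applyₗ v).comp (RefHull.evalStalk F G x)
  map_add' v w := LinearMap.ext fun θ => map_add (RefHull.evalStalk F G x θ) v w
  map_smul' a v := LinearMap.ext fun θ => map_smul (RefHull.evalStalk F G x θ) a v

theorem omegaAt_apply (F G : X.Modules) (x : X) (v : F.presheaf.stalk x)
    (θ : (RefHull.homSh F G).presheaf.stalk x) : omegaAt F G x v θ = RefHull.evalStalk F G x θ v := rfl

/-- The biduality map on sections. -/
def omegaFun (F G : X.Modules) (U : X.Opens) : Γ(F, U) →+ Γ(RefHull.homSh (RefHull.homSh F G) G, U) where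
  toFun s := ⟨fun x => omegaAt F G x.1 (F.presheaf.germ U x.1 x.2 s), fun V i g x => by
    obtain ⟨W, hW, j, n, w⟩ := RefHull.isLocSect_of_mem g V (𝟙 V) (F.presheaf.map i.op s) x
    refine ⟨W, hW, j, n, fun y => ?_⟩
    have e := w y
    rw [TopCat.Presheaf.germ_res_apply] at e
    rw [omegaAt_apply, RefHull.evalStalk_germ]
    exact e⟩
  map_zero' := Subtype.ext <| funext fun x => by
    simp only [map_zero]
    rfl
  map_add' s t := Subtype.ext <| funext fun x => by
    simp only [map_add]
    rfl

/-- The canonical map to the double dual with values in `G`. -/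
def omegaMap (F G : X.Modules) : F ⟶ RefHull.homSh (RefHull.homSh F G) G :=
  ⟨PresheafOfModules.homMk
    { app := fun U => AddCommGrpCat.ofHom (omegaFun F G U.unop)
      naturality := fun {U V} i => by
        ext s
        refine Subtype.ext (funext fun x => ?_)
        change omegaAt F G x.1 _ = omegaAt F G x.1 _
        exact congrArg _ (TopCat.Presheaf.germ_res_apply' F.presheaf i x.1 x.2 s) }
    (fun U r s => Subtype.ext <| funext fun x =>
      (congrArg (omegaAt F G x.1) (Mero.germ_smul F U.unop x.1 x.2 r s)).trans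
        (map_smul (omegaAt F G x.1) _ _))⟩

theorem omegaMap_stalk (F G : X.Modules) (x : X) (v : F.presheaf.stalk x) :
    RefHull.evalStalk (RefHull.homSh F G) G x (RefHull.stalkMapₗ (omegaMap F G) x v) = omegaAt F G x v := by
  obtain ⟨U, hx, s, rfl⟩ := TopCat.Presheaf.exists_germ_eq F.presheaf v
  rw [RefHull.stalkMapₗ_germ, RefHull.evalStalk_germ]
  rfl

theorem bijective_stalk_omegaMap [IsIntegral X] [IsLocallyNoetherian X] {F G : X.Modules} (hF : Coh.IsCoh F)
    (hT : TorSh.IsTorsionFree F) (hG : Coh.IsCoh G) (x : X)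
    [Module.IsTorsionFree (X.presheaf.stalk x) (G.presheaf.stalk x)]
    (hEnd : Function.Bijective fun r : X.presheaf.stalk x =>
      r • (LinearMap.id : G.presheaf.stalk x →ₗ[X.presheaf.stalk x] G.presheaf.stalk x))
    (hExt : ∀ (N : Type u) [AddCommGroup N] [Module (X.presheaf.stalk x) N] [Module.Finite (X.presheaf.stalk x) N]
      [Module.IsTorsionFree (X.presheaf.stalk x) N],
      Subsingleton (Abelian.Ext (ModuleCat.of (X.presheaf.stalk x) N)
        (ModuleCat.of (X.presheaf.stalk x) (G.presheaf.stalk x)) 1)) :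
    Function.Bijective (stalkLin (omegaMap F G) x) := by
  haveI := hF.1
  haveI := hG.1
  haveI := PullbackMod.finite_stalk_of_isFT hF.2 x
  haveI := PullbackMod.finite_stalk_of_isFT hG.2 x
  haveI := hT x
  have hFG := HomLib.isCoh_homSh hF hG
  have hb := RefOne.evalStalk_bijective hFG hG.1 x
  have hb1 := RefOne.evalStalk_bijective hF hG.1 x
  have he : ∀ v, RefHull.evalStalk (RefHull.homSh F G) G x (stalkLin (omegaMap F G) x v) = omegaAt F G x v :=
    omegaMap_stalk F G x
  refine ⟨(injective_iff_map_eq_zero _).2 fun v hv => ?_, fun z => ?_⟩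
  · obtain ⟨g0, hg0⟩ : ∃ g : G.presheaf.stalk x, g ≠ 0 := by
      by_contra hall
      push Not at hall
      exact one_ne_zero (hEnd.1 (a₁ := (1 : X.presheaf.stalk x)) (a₂ := 0)
        (LinearMap.ext fun w => (hall _).trans (hall _).symm))
    by_contra hv0
    obtain ⟨φ, hφ⟩ : ∃ φ : F.presheaf.stalk x →ₗ[X.presheaf.stalk x] X.presheaf.stalk x, φ v ≠ 0 := by
      by_contra hall
      push Not at hall
      exact hv0 (CAlgBasics.eval_injective_of_isTorsionFree ((LinearMap.ext hall).trans (map_zero _).symm))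
    obtain ⟨θ, hθ⟩ := hb1.2 (φ.smulRight g0)
    have h0 := LinearMap.congr_fun (he v) θ
    rw [hv, map_zero, LinearMap.zero_apply, omegaAt_apply, hθ, LinearMap.smulRight_apply] at h0
    exact hg0 ((smul_eq_zero.1 h0.symm).resolve_left hφ)
  · obtain ⟨m, hm⟩ := exists_eq_eval hEnd.2 hExt
      ((RefHull.evalStalk (RefHull.homSh F G) G x z).comp (LinearEquiv.ofBijective _ hb1).symm.toLinearMap)
    refine ⟨m, hb.1 ((he m).trans (LinearMap.ext fun θ => ?_))⟩
    have h := hm (RefHull.evalStalk F G x θ)
    rw [LinearMap.comp_apply] at h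
    rw [omegaAt_apply, ← h]
    exact congrArg _ ((LinearEquiv.ofBijective _ hb1).symm_apply_apply θ)

/-- An isomorphism at all closed points is an isomorphism. -/
theorem isIso_of_closed_points [IsLocallyNoetherian X] [CompactSpace X] {F G : X.Modules} (hF : Coh.IsCoh F)
    (hG : Coh.IsCoh G) (φ : F ⟶ G)
    (h : ∀ x : X, IsClosed ({x} : Set X) → Function.Bijective (stalkLin φ x)) : IsIso φ := by
  obtain ⟨hk, hc⟩ := QCohLib.isCoh_kernel_cokernel φ hF hG
  have key : ∀ {H : X.Modules}, Coh.IsCoh H →
      (∀ x : X, IsClosed ({x} : Set X) → Subsingleton (H.presheaf.stalk x)) → IsZero H := fun {H} hH h0 =>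
    isZero_of_stalks fun y => by
      by_contra hy
      obtain ⟨x, hx, hcl⟩ := exists_closed_specialization y
      have hS := PullbackMod.isClosed_support_of_isFT hH.2
      exact (hx.mem_closed hS hy) (h0 x hcl)
  haveI : Mono φ := Preadditive.mono_of_isZero_kernel φ (key hk fun x hx => subsingleton_of_forall_eq 0 fun z =>
    (PullbackMod.mono_iff_stalk (kernel.ι φ)).1 inferInstance x ((h x hx).1 (by
      rw [← LinearMap.comp_apply, ← stalkLin_comp, kernel.condition, (eq_zero_iff_stalk _).1 rfl x, map_zero, map_zero]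
      rfl)))
  haveI : Epi φ := Preadditive.epi_of_isZero_cokernel φ (key hc fun x hx => subsingleton_of_forall_eq 0 fun z => by
    obtain ⟨w, rfl⟩ := (PullbackMod.epi_iff_stalk (cokernel.π φ)).1 inferInstance x z
    obtain ⟨v, rfl⟩ := (h x hx).2 w
    rw [← LinearMap.comp_apply, ← stalkLin_comp, cokernel.condition, (eq_zero_iff_stalk _).1 rfl x]
    rfl)
  exact isIso_of_mono_of_epi φ

section curve

variable (k : Type u) [Field k] (X) [X.Over (Spec (CommRingCat.of k))]
  [IsIntegral X] [IsProper (X ↘ (Spec (CommRingCat.of k)))] (hdim : topologicalKrullDim X = 1)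
  [DCoh.HasRpush (X ↘ (Spec (CommRingCat.of k)))] (h : DCoh.RpushPreservesQCoh (X ↘ (Spec (CommRingCat.of k))))
  [DCoh.HasShriek (X ↘ (Spec (CommRingCat.of k))) h]
  (OY : DCoh.DQCoh (Spec (CommRingCat.of k)))
  (hOY : Nonempty (OY.obj ≅ DCoh.inD (Spec (CommRingCat.of k)) (Coh.structureModule (Spec (CommRingCat.of k)))))

include hdim hOY

/-- The dualizing module of a curve is coherent and canonical at closed points. -/
theorem canonical_dualizingMod :
    Coh.IsCoh (DCoh.dualizingMod (X ↘ (Spec (CommRingCat.of k))) h OY 1) ∧ ∀ x : X, IsClosed ({x} : Set X) →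
      Module.IsTorsionFree (X.presheaf.stalk x)
        ((DCoh.dualizingMod (X ↘ (Spec (CommRingCat.of k))) h OY 1).presheaf.stalk x) ∧
      (Function.Bijective fun r : X.presheaf.stalk x => r • (LinearMap.id :
        (DCoh.dualizingMod (X ↘ (Spec (CommRingCat.of k))) h OY 1).presheaf.stalk x →ₗ[X.presheaf.stalk x]
          (DCoh.dualizingMod (X ↘ (Spec (CommRingCat.of k))) h OY 1).presheaf.stalk x)) ∧
      ∀ (N : Type u) [AddCommGroup N] [Module (X.presheaf.stalk x) N] [Module.Finite (X.presheaf.stalk x) N]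
        [Module.IsTorsionFree (X.presheaf.stalk x) N],
        Subsingleton (Abelian.Ext (ModuleCat.of (X.presheaf.stalk x) N) (ModuleCat.of (X.presheaf.stalk x)
          ((DCoh.dualizingMod (X ↘ (Spec (CommRingCat.of k))) h OY 1).presheaf.stalk x)) 1) := by
  let f := X ↘ (Spec (CommRingCat.of k))
  haveI : ∀ R : CommRingCat.{u}, PreservesFiniteLimits (tilde.functor R) :=
    fun R => TildeD.preservesFiniteLimits_tilde
  haveI : IsLocallyNoetherian X := LocallyOfFiniteType.isLocallyNoetherian f
  haveI : CompactSpace X := QuasiCompact.compactSpace_of_compactSpace f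
  obtain ⟨eO⟩ := hOY
  obtain ⟨hK, hc, hN⟩ := proper_local_setup f h (DCoh.shriek f h) (DCoh.shriekAdj f h)
    (isDualizing_inD_of_isField (Field.toIsField k))
    (fun i hi => subsingleton_HK_inD_of_isField (Field.toIsField k) _ hi)
    OY (eO ≪≫ (DualCxLib.tildeInD (CommRingCat.of k)).symm)
  have hd1 : topologicalKrullDim X = ((1 : ℕ) : WithBot ℕ∞) := by rw [hdim, Nat.cast_one]
  obtain ⟨h1, -⟩ := amplitude_of_normalizedAt _ hc hN 1 hd1
  refine ⟨hc _, fun x hx => ?_⟩
  obtain ⟨Ω, hΩ, hn, he⟩ := exists_local_normalized x (hN x hx)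
  obtain ⟨e⟩ := he (-1)
  obtain ⟨hEnd, hExt⟩ := canonical_of_dualizing hΩ hn (CurveFF.dim_stalk hdim hx) e
  let W := (DCoh.dualizingMod f h OY 1).presheaf.stalk x
  haveI : Coh.IsQCoh (DCoh.dualizingMod f h OY 1) := (hc _).1
  haveI : Module.Finite (X.presheaf.stalk x) W := PullbackMod.finite_stalk_of_isFT (hc _).2 x
  haveI : Nontrivial W := by
    refine not_subsingleton_iff_nontrivial.1 fun hs => one_ne_zero (hEnd.1 (a₁ := (1 : X.presheaf.stalk x)) (a₂ := 0)
      (LinearMap.ext fun w => hs.elim _ _))
  refine ⟨(CAlgBasics.isTorsionFree_iff_hasSk_one (R := X.presheaf.stalk x) W).2 ⟨?_, fun p _ => ?_⟩, hEnd, hExt⟩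
  · refine Module.mem_support_iff_of_finite.2 fun r hr => ?_
    show r ∈ (⊥ : Ideal (X.presheaf.stalk x))
    exact (Submodule.mem_bot _).2 (hEnd.1 (LinearMap.ext fun w =>
      (Module.mem_annihilator.1 hr w).trans (by simp)))
  · exact le_trans (min_le_min_right _ (by norm_num))
      (hasSk_two_lowest hK (fun i hi => h1 i (Or.inl hi)) x p)

/-- Biduality on an integral proper curve. -/
theorem isIso_omegaMap {F : X.Modules} (hF : Coh.IsCoh F) (hT : TorSh.IsTorsionFree F) :
    IsIso (omegaMap F (DCoh.dualizingMod (X ↘ (Spec (CommRingCat.of k))) h OY 1)) := by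
  haveI : IsLocallyNoetherian X := LocallyOfFiniteType.isLocallyNoetherian (X ↘ (Spec (CommRingCat.of k)))
  haveI : CompactSpace X := QuasiCompact.compactSpace_of_compactSpace (X ↘ (Spec (CommRingCat.of k)))
  obtain ⟨hω, hx⟩ := canonical_dualizingMod X k hdim h OY hOY
  refine isIso_of_closed_points hF (HomLib.isCoh_homSh (HomLib.isCoh_homSh hF hω) hω) _ fun x hcl => ?_
  obtain ⟨htf, hEnd, hExt⟩ := hx x hcl
  exact bijective_stalk_omegaMap hF hT hω x hEnd hExt

end curve

end Groth.Agent.TwistShriek
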