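import Groth.Agent.TwistShriek.TopDual
import Groth.Agent.TwistShriek.CohRight
import Groth.Agent.GrothVan.Main
import Groth.Agent.DCohMore.RpushQC
import Groth.Agent.S1811

/-!
# The dualizing module of a proper scheme over a field
-/

set_option autoImplicit false
set_option linter.style.haveILetI false
set_option linter.unusedSectionVars false
set_option backward.isDefEq.respectTransparency false
set_option maxHeartbeats 1000000

universe u

open CategoryTheory CategoryTheory.Limits AlgebraicGeometry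
open Groth.Agent.DCohLib Groth.Agent.CohBase

attribute [local instance] HasDerivedCategory.standard

noncomputable section

namespace Groth.Agent.TwistShriek

/-- Existence of the dualizing module of a proper scheme over a field. -/
theorem exists_dualizing_module_field (k : Type u) [Field k] (X : Scheme.{u}) [X.Over (Spec (CommRingCat.of k))]
    [IsProper (X ↘ Spec (CommRingCat.of k))] (d : ℕ) (hd : topologicalKrullDim X = d) :
    ∃ (ω : X.Modules) (t : Coh.HH X ω d →ₗ[k] k), Coh.IsCoh ω ∧ ∀ (F : X.Modules), Coh.IsQCoh F →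
      ∀ ψ : Coh.HH X F d →ₗ[k] k, ∃! φ : F ⟶ ω,
        ∀ x : Coh.HH X F d, ψ x = t (Sheaf.H.map ((SheafOfModules.toSheaf X.ringCatSheaf).map φ) d x) := by
  let f := X ↘ Spec (CommRingCat.of k)
  let Y := Spec (CommRingCat.of k)
  haveI : ∀ (U : Scheme.{u}) (j : U ⟶ X) [IsOpenImmersion j],
      PreservesFiniteLimits (Scheme.Modules.restrictFunctor j) :=
    fun U j _ => preservesFiniteLimits_restrictFunctor j
  haveI : ∀ (R : CommRingCat.{u}), PreservesFiniteLimits (tilde.functor R) :=
    fun R => TildeD.preservesFiniteLimits_tilde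
  haveI : IsNoetherianRing (CommRingCat.of k) := inferInstanceAs (IsNoetherianRing k)
  haveI : IsLocallyNoetherian X := LocallyOfFiniteType.isLocallyNoetherian f
  haveI : CompactSpace X := QuasiCompact.compactSpace_of_compactSpace f
  haveI : QuasiSeparatedSpace X := quasiSeparatedSpace_of_quasiSeparated f
  haveI : IsNoetherian X := {}
  haveI : DCoh.HasRpush f := Groth.Agent.KInj.hasRightDerivedFunctor (hres_modules X) _
  have h : ∀ K : DCoh.D X, DCoh.IsQCohD K → DCoh.IsQCohD ((DCoh.Rpush f).obj K) :=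
    fun K hK => DCohMore.isQCohD_rpush f K hK
  haveI := DQCohBrown.isLeftAdjoint_rpushQ f h
  let a := (DCoh.RpushQ f h).rightAdjoint
  let adj : DCoh.RpushQ f h ⊣ a := Adjunction.ofIsLeftAdjoint (DCoh.RpushQ f h)
  have hOq : DCoh.IsQCohD (DCoh.inD Y (Coh.structureModule Y)) :=
    TildeD.isQCohD_of_iso ((DerivedCategory.singleFunctorIsoCompQ Y.Modules 0).app _).symm
      (DCohMore.isQCohD_sgl₀ _ (inferInstanceAs (Coh.IsQCoh (Coh.structureModule Y))))
  let O : DCoh.DQCoh Y := ⟨_, hOq⟩
  obtain ⟨hdual, hamp, -⟩ := Groth.Agent.S1811.result k X d hd f rfl h a adj O ⟨Iso.refl _⟩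
  have hM : (a.obj O).obj.IsGE (-(d : ℤ)) :=
    (DerivedCategory.isGE_iff _ _).2 fun i hi => hamp i (Or.inl hi)
  let c : (ΓA k).obj (DCoh.HD O.obj 0) ≃ₗ[k] k :=
    ((ΓA k).mapIso ((DerivedCategory.singleFunctorCompHomologyFunctorIso Y.Modules 0).app _ ≪≫
        (tildeSelf (R := CommRingCat.of k)).symm) ≪≫
      ((tilde.toTildeΓNatIso (R := CommRingCat.of k)).app _).symm).toLinearEquiv
  obtain ⟨t, ht⟩ := exists_trace_shift k X h a adj O 0
    (inferInstanceAs ((DCoh.inD Y (Coh.structureModule Y)).IsGE 0)) d (-(d : ℤ)) (by omega) hM k c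
  refine ⟨_, t, (bddCoh_of_isDualizingSch hdual).1 _, fun F hF ψ => ht F hF (fun j hj => ?_) ψ⟩
  exact GrothVan.subsingleton_H_of_dim_le (X := X.toPresheafedSpace.carrier) hd.le (Coh.toAb F) hj

end Groth.Agent.TwistShriek
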