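import Groth.Agent.TwistShriek.SurfDiv
import Groth.Agent.CurveLib.Deg
import Groth.Agent.CurveLib.Sections
import Groth.Agent.ShBCLib.Finrank

/-!
# Twists on integral curves of a surface
-/

set_option autoImplicit false
set_option backward.isDefEq.respectTransparency false
set_option linter.style.haveILetI false
set_option maxHeartbeats 800000

universe u

open CategoryTheory CategoryTheory.Limits AlgebraicGeometry TopologicalSpace
open Groth.Agent.PullbackMod Groth.Agent.DCohLib

noncomputable section

namespace Groth.Agent.TwistShriek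

variable (k : Type u) [Field k] [IsAlgClosed k] {X : Scheme.{u}} [X.Over (Spec (CommRingCat.of k))]
  [IsProper (X ↘ Spec (CommRingCat.of k))]

/-- Twists of degree at most zero on an integral curve. -/
theorem curve_twist {C : X.IdealSheafData} (hC : IsIntegral C.subscheme)
    (hCd : topologicalKrullDim (C.support : Set X) = 1) {M : X.Modules} (hM : PicF.IsInvertible M)
    (hdeg : Curv2.euler k X (CohB1.tensorMod (ClSub.quotMod C) M) - Curv2.euler k X (ClSub.quotMod C) ≤ 0) :
    Module.finrank k (Coh.HH X (CohB1.tensorMod (ClSub.quotMod C) M) 0) ≤ 1 ∧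
      (0 < Module.finrank k (Coh.HH X (CohB1.tensorMod (ClSub.quotMod C) M) 0) →
        Nonempty (CohB1.tensorMod (ClSub.quotMod C) M ≅ ClSub.quotMod C) ∧
          Curv2.euler k X (CohB1.tensorMod (ClSub.quotMod C) M) = Curv2.euler k X (ClSub.quotMod C)) := by
  haveI := EulerIneqLib.isNoetherian_proper (X := X) k
  haveI := hC
  letI : C.subscheme.Over (Spec (CommRingCat.of k)) := ⟨C.subschemeι ≫ (X ↘ Spec (CommRingCat.of k))⟩
  haveI : IsProper (C.subscheme ↘ Spec (CommRingCat.of k)) :=
    (inferInstanceAs (IsProper (C.subschemeι ≫ (X ↘ Spec (CommRingCat.of k)))))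
  haveI := EulerIneqLib.isNoetherian_proper (X := C.subscheme) k
  have hd : topologicalKrullDim C.subscheme ≤ 1 := by
    rw [← hCd, ← Scheme.IdealSheafData.range_subschemeι]
    exact ((C.subschemeι.isEmbedding.toHomeomorph).isHomeomorph.topologicalKrullDim_eq).le
  let M' := (Scheme.Modules.pullback C.subschemeι).obj M
  have hM' : PicF.IsInvertible M' := AmpleLib.isInvertible_pullback _ hM
  haveI : Coh.IsQCoh M' := (CurveLib.isCoh_of_isInvertible hM').1
  let e : CohB1.tensorMod (ClSub.quotMod C) M ≅ (Scheme.Modules.pushforward C.subschemeι).obj M' :=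
    projIso C.subschemeι (Coh.structureModule C.subscheme) M ≪≫
      (Scheme.Modules.pushforward C.subschemeι).mapIso (CurveLib.tmodUnit M')
  haveI : Coh.IsQCoh (Coh.structureModule C.subscheme) := (DevLib.isCoh_structureModule C.subscheme).1
  have h0 : Module.finrank k (Coh.HH X (CohB1.tensorMod (ClSub.quotMod C) M) 0) =
      Module.finrank k (Coh.HH C.subscheme M' 0) :=
    (ShBCLib.finrank_HH_iso (K := k) e 0).trans (IntLib.finrank_push k C.subschemeι rfl M' 0)
  have he : Curv2.euler k X (CohB1.tensorMod (ClSub.quotMod C) M) = Curv2.euler k C.subscheme M' :=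
    (CurveLib.euler_iso (K := k) e).trans (IntLib.euler_push k C.subschemeι rfl M')
  have heO : Curv2.euler k X (ClSub.quotMod C) = Curv2.euler k C.subscheme (Coh.structureModule C.subscheme) :=
    IntLib.euler_push k C.subschemeι rfl (Coh.structureModule C.subscheme)
  rw [he, heO] at hdeg
  rcases Nat.eq_zero_or_pos (Module.finrank k (Coh.HH C.subscheme M' 0)) with hz | hz
  · rw [h0, hz]
    exact ⟨zero_le_one, fun h => absurd h (lt_irrefl _)⟩
  haveI : Nontrivial (Coh.HH C.subscheme M' 0) := Module.nontrivial_of_finrank_pos hz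
  obtain ⟨s, hs⟩ := CurveLib.exists_hom_ne_zero M'
  obtain ⟨θ⟩ := CurveLib.nonempty_iso_structureModule (k := k) hd hM' s hs (by
    unfold Curv2.deg
    rw [Nat.cast_one, one_mul]
    exact hdeg)
  rw [h0, ShBCLib.finrank_HH_iso (K := k) θ 0, CurveLib.finrank_H0_structure]
  exact ⟨le_rfl, fun _ => ⟨⟨e ≪≫ (Scheme.Modules.pushforward C.subschemeι).mapIso θ⟩,
    by rw [he, CurveLib.euler_iso (K := k) θ, heO]⟩⟩

/-- No sections in negative degree. -/
theorem curve_twist_neg {C : X.IdealSheafData} (hC : IsIntegral C.subscheme)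
    (hCd : topologicalKrullDim (C.support : Set X) = 1) {M : X.Modules} (hM : PicF.IsInvertible M)
    (hdeg : Curv2.euler k X (CohB1.tensorMod (ClSub.quotMod C) M) - Curv2.euler k X (ClSub.quotMod C) < 0) :
    Module.finrank k (Coh.HH X (CohB1.tensorMod (ClSub.quotMod C) M) 0) = 0 := by
  by_contra h
  have := ((curve_twist k hC hCd hM hdeg.le).2 (Nat.pos_of_ne_zero h)).2
  omega

end Groth.Agent.TwistShriek
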