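import Groth.Agent.TwistShriek.SuppHom
import Groth.Agent.DCohMore.BCMain
import Groth.Agent.LocZLib.GammaQCoh
import Groth.Agent.DCohLib.MVTriangle
import Groth.Prelude.Def_Dual3

/-!
# Sections with supports in a closed subset, on the derived category
-/

set_option autoImplicit false
set_option linter.style.haveILetI false
set_option backward.isDefEq.respectTransparency false
set_option maxHeartbeats 1000000

universe u v w

open CategoryTheory CategoryTheory.Limits AlgebraicGeometry CategoryTheory.Pretriangulated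
open Groth.Agent.DCohLib Groth.Agent.DCohMore

attribute [local instance] HasDerivedCategory.standard

noncomputable section

namespace Groth.Agent.TwistShriek

/-- Composition with the first map of a triangle is bijective, out of an object without maps to the third vertex. -/
theorem bijective_comp_mor₁ {D : Type*} [Category D] [Preadditive D] [HasZeroObject D] [HasShift D ℤ]
    [∀ n : ℤ, (shiftFunctor D n).Additive] [Pretriangulated D] (T : Triangle D) (hT : T ∈ distTriang _) (F : D)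
    (h₀ : ∀ φ : F ⟶ T.obj₃, φ = 0) (h₁ : ∀ φ : F⟦(1 : ℤ)⟧ ⟶ T.obj₃, φ = 0) :
    Function.Bijective fun φ : F ⟶ T.obj₁ => φ ≫ T.mor₁ := by
  refine ⟨fun a b hab => ?_, fun ψ => ?_⟩
  · rw [← sub_eq_zero]
    have h : (a - b) ≫ T.mor₁ = 0 := by
      rw [Preadditive.sub_comp]; exact sub_eq_zero.2 hab
    obtain ⟨γ, hγ⟩ := Triangle.coyoneda_exact₁ T hT ((a - b)⟦(1 : ℤ)⟧')
      (by rw [← Functor.map_comp, h, Functor.map_zero])
    apply (shiftFunctor D (1 : ℤ)).map_injective
    rw [hγ, h₁ γ, zero_comp, Functor.map_zero]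
  · obtain ⟨φ, hφ⟩ := Triangle.coyoneda_exact₂ T hT ψ (h₀ _)
    exact ⟨φ, hφ.symm⟩

variable {X : Scheme.{u}} (W : X.Opens)

theorem isSuppD_iff (K : DCoh.D X) :
    CxOX.IsSuppD W.ι K ↔ IsZero ((DCoh.restrictD W.ι).obj K) := by
  rw [isZero_restrictD_iff_support, CxOX.IsSuppD]
  rw [show Set.range W.ι.base = (W : Set X) from W.range_ι]

variable [CxOX.HasRgammaZ W.ι]

/-- The defining equation of `RΓ_Z ⟶ 𝟭` on the quotient of a complex. -/
theorem gammaUnit_fac (I : CochainComplex X.Modules ℤ) :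
    ((CxOX.gammaZKh W.ι).totalRightDerivedUnit DerivedCategory.Qh
      (HomotopyCategory.quasiIso X.Modules (ComplexShape.up ℤ))).app ((quotM X).obj I) ≫
      (CxOX.RgammaZToId W.ι).app (DerivedCategory.Qh.obj ((quotM X).obj I)) =
    (CxOX.gammaZKhι W.ι).app ((quotM X).obj I) := by
  rw [CxOX.RgammaZToId, Functor.rightDerived_fac_app]
  simp

/-- A complex model of `RΓ_Z(K) ⟶ K`. -/
theorem exists_rgammaZ_model (K : DCoh.D X) :
    ∃ (I : CochainComplex X.Modules ℤ) (_ : I.IsKInjective) (_ : ∀ n, Injective (I.X n))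
      (e : K ≅ DerivedCategory.Q.obj I)
      (s : (CxOX.RgammaZ W.ι).obj K ≅
        DerivedCategory.Q.obj (((DCoh.gammaZ W.ι).mapHomologicalComplex (ComplexShape.up ℤ)).obj I)),
      s.hom ≫ DerivedCategory.Q.map ((NatTrans.mapHomologicalComplex (CxOX.gammaZι W.ι) (ComplexShape.up ℤ)).app I ≫
        (Functor.mapHomologicalComplexIdIso X.Modules (ComplexShape.up ℤ)).hom.app I) =
        (CxOX.RgammaZToId W.ι).app K ≫ e.hom := by
  obtain ⟨I, hI, hI', ⟨e⟩⟩ := exists_injective_resolution X K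
  haveI := hI
  let η := (CxOX.gammaZKh W.ι).totalRightDerivedUnit DerivedCategory.Qh
    (HomotopyCategory.quasiIso X.Modules (ComplexShape.up ℤ))
  haveI : IsIso (η.app ((quotM X).obj I)) :=
    Groth.Agent.KInj.isIso_app_of_isKInjective (hres_modules X) _ _ η I
  let q := (DerivedCategory.quotientCompQhIso X.Modules)
  let f := ((DCoh.gammaZ W.ι).mapHomotopyCategoryFactors (ComplexShape.up ℤ)).app I
  let s : (CxOX.RgammaZ W.ι).obj K ≅ _ := (CxOX.RgammaZ W.ι).mapIso (e ≪≫ (q.app I).symm) ≪≫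
    (asIso (η.app ((quotM X).obj I))).symm ≪≫ DerivedCategory.Qh.mapIso f ≪≫ q.app _
  refine ⟨I, hI, hI', e, s, ?_⟩
  have hn := (CxOX.RgammaZToId W.ι).naturality (e ≪≫ (q.app I).symm).hom
  simp only [Functor.id_map] at hn
  simp only [s, Iso.trans_hom, Functor.mapIso_hom, Iso.symm_hom, asIso_inv, Category.assoc]
  rw [← cancel_mono (q.inv.app I)]
  refine Eq.trans ?_ (hn.trans (by simp))
  simp only [Category.assoc]
  refine congrArg ((CxOX.RgammaZ W.ι).map _ ≫ ·) ?_
  rw [IsIso.inv_comp_eq]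
  refine Eq.trans ?_ (gammaUnit_fac W I).symm
  simp [CxOX.gammaZKhι, q, f]
  rfl

/-- The triangle `RΓ_Z(K) ⟶ K ⟶ Rj_*(K|_U)`. -/
theorem exists_rgammaZ_triangle [DCoh.HasRpush W.ι] (K : DCoh.D X) :
    IsZero ((DCoh.restrictD W.ι).obj ((CxOX.RgammaZ W.ι).obj K)) ∧
      ∃ (C : DCoh.D X) (g : K ⟶ C) (δ : C ⟶ ((CxOX.RgammaZ W.ι).obj K)⟦(1 : ℤ)⟧),
        Triangle.mk ((CxOX.RgammaZToId W.ι).app K) g δ ∈ distTriang _ ∧
        Nonempty (C ≅ (DCoh.Rpush W.ι).obj ((DCoh.restrictD W.ι).obj K)) := by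
  obtain ⟨I, hI, hI', e, s, hs⟩ := exists_rgammaZ_model W K
  let C := ComplexShape.up ℤ
  let j := W.ι
  let P := (LocZLib.GammaQCoh.out j).mapHomologicalComplex C
  let a := (NatTrans.mapHomologicalComplex (CxOX.gammaZι j) C).app I ≫
    (Functor.mapHomologicalComplexIdIso X.Modules C).hom.app I
  let b : I ⟶ P.obj I := (Functor.mapHomologicalComplexIdIso X.Modules C).inv.app I ≫
    (NatTrans.mapHomologicalComplex (LocZLib.GammaQCoh.outUnit j) C).app I
  have hab : a ≫ b = 0 := by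
    refine HomologicalComplex.hom_ext _ _ fun n => ?_
    simp [a, b]
    exact LocZLib.GammaQCoh.ι_unit j (I.X n)
  let S := ShortComplex.mk a b hab
  have hS : S.ShortExact := HomologicalComplex.shortExact_of_degreewise_shortExact _ fun n => by
    refine ShortComplex.shortExact_of_iso ?_ (LocZLib.GammaQCoh.shortExact_injective j (I.X n) (hI' n))
    exact ShortComplex.isoMk (Iso.refl _) (Iso.refl _) (Iso.refl _) (by simp [S, a]; exact Category.comp_id _) (by simp [S, b])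
  let T := DerivedCategory.triangleOfSES hS
  have hT : T ∈ distTriang _ := DerivedCategory.triangleOfSES_distinguished hS
  haveI : DCoh.HasRpush j := ‹DCoh.HasRpush W.ι›
  haveI := isKInjective_restrict W I
  let e₃ : T.obj₃ ≅ (DCoh.Rpush j).obj ((DCoh.restrictD j).obj (DerivedCategory.Q.obj I)) :=
    DerivedCategory.Q.mapIso (HomologicalComplex.Hom.isoOfComponents (fun n => Iso.refl _) (fun _ _ _ =>
      (Category.id_comp _).trans (Category.comp_id _).symm) :
      P.obj I ≅ ((Scheme.Modules.pushforward j).mapHomologicalComplex C).obj ((resCx j).obj I)) ≪≫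
    rpushInjIso j ((resCx j).obj I) ≪≫ (DCoh.Rpush j).mapIso (restrictDQ j I).symm
  refine ⟨?_, ?_⟩
  · refine IsZero.of_iso ?_ ((DCoh.restrictD j).mapIso s ≪≫ restrictDQ j _)
    refine DerivedCategory.Q.map_isZero ?_
    rw [IsZero.iff_id_eq_zero]
    refine HomologicalComplex.hom_ext _ _ fun n => ?_
    refine IsZero.eq_of_src ?_ _ _
    let η := LocZLib.GammaQCoh.outUnit j
    have h0 : (Scheme.Modules.restrictFunctor j).map ((CxOX.gammaZι j).app (I.X n)) = 0 := by
      haveI : IsIso ((Scheme.Modules.restrictFunctor j).map (η.app (I.X n))) := by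
        haveI : IsIso ((Scheme.Modules.restrictFunctor j).map (η.app (I.X n)) ≫
            (Scheme.Modules.restrictAdjunction j).counit.app _) := by
          erw [(Scheme.Modules.restrictAdjunction j).left_triangle_components]; exact IsIso.id _
        exact IsIso.of_isIso_comp_right _ ((Scheme.Modules.restrictAdjunction j).counit.app _)
      rw [← cancel_mono ((Scheme.Modules.restrictFunctor j).map (η.app (I.X n))), ← Functor.map_comp,
        LocZLib.GammaQCoh.ι_unit, Functor.map_zero, zero_comp]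
    exact IsZero.of_mono_eq_zero _ h0
  · have hs' : (CxOX.RgammaZToId W.ι).app K = s.hom ≫ T.mor₁ ≫ e.inv := by
      rw [← cancel_mono e.hom, Category.assoc, Category.assoc, e.inv_hom_id]
      erw [Category.comp_id]
      exact hs.symm
    refine ⟨T.obj₃, e.hom ≫ T.mor₂, T.mor₃ ≫ s.inv⟦(1 : ℤ)⟧', ?_, ⟨e₃ ≪≫ (DCoh.Rpush j).mapIso ((DCoh.restrictD j).mapIso e.symm)⟩⟩
    refine isomorphic_distinguished _ hT _ (Triangle.isoMk _ _ s e (Iso.refl _) ?_ ?_ ?_)
    · show (CxOX.RgammaZToId W.ι).app K ≫ e.hom = s.hom ≫ T.mor₁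
      rw [hs', Category.assoc, Category.assoc, e.inv_hom_id]
      erw [Category.comp_id]
    · show (e.hom ≫ T.mor₂) ≫ 𝟙 _ = e.hom ≫ T.mor₂
      exact Category.comp_id _
    · show (T.mor₃ ≫ s.inv⟦(1 : ℤ)⟧') ≫ s.hom⟦(1 : ℤ)⟧' = 𝟙 _ ≫ T.mor₃
      rw [Category.assoc, ← Functor.map_comp, s.inv_hom_id]
      erw [CategoryTheory.Functor.map_id, Category.comp_id, Category.id_comp]

omit [CxOX.HasRgammaZ W.ι] in
/-- A morphism with cone a direct image from the open is universal for maps from supported objects. -/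
theorem bijective_comp_of_cone [DCoh.HasRpush W.ι] {P L C : DCoh.D X} (t : P ⟶ L) (g : L ⟶ C) (δ : C ⟶ P⟦(1 : ℤ)⟧)
    (hT : Triangle.mk t g δ ∈ distTriang _) (N : DCoh.D (W : Scheme.{u})) (eC : C ≅ (DCoh.Rpush W.ι).obj N)
    (F : DCoh.D X) (hF : IsZero ((DCoh.restrictD W.ι).obj F)) :
    Function.Bijective fun φ : F ⟶ P => φ ≫ t := by
  haveI : DCoh.HasLpull W.ι := DCohLib.hasLpull _
  have hz : ∀ F : DCoh.D X, IsZero ((DCoh.restrictD W.ι).obj F) → ∀ φ : F ⟶ C, φ = 0 := fun F hF φ => by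
    rw [← cancel_mono eC.hom, zero_comp]
    exact ((restrictAdj W.ι).homEquiv F _).symm.injective (hF.eq_of_src _ _)
  exact bijective_comp_mor₁ _ hT F (hz F hF) (hz _ (((shiftFunctor _ (1 : ℤ)).map_isZero hF).of_iso
      (((DCoh.restrictD W.ι).commShiftIso (1 : ℤ)).app F)))

/-- `RΓ_Z(K)` is supported in `Z`, and it is universal for maps from supported objects. -/
theorem rgammaZ_props (K : DCoh.D X) :
    IsZero ((DCoh.restrictD W.ι).obj ((CxOX.RgammaZ W.ι).obj K)) ∧
      ∀ F : DCoh.D X, IsZero ((DCoh.restrictD W.ι).obj F) →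
        Function.Bijective fun φ : F ⟶ (CxOX.RgammaZ W.ι).obj K => φ ≫ (CxOX.RgammaZToId W.ι).app K := by
  haveI := BC.hasRpush W.ι
  obtain ⟨h₀, C, g, δ, hT, ⟨eC⟩⟩ := exists_rgammaZ_triangle W K
  exact ⟨h₀, fun F hF => bijective_comp_of_cone W _ g δ hT _ eC F hF⟩

/-- An exact functor carrying supported objects to supported objects, and the third vertex of the triangle to a
direct image from the open, commutes with sections with supports. -/
theorem factor_isIso {Y : Scheme.{u}} (U : Y.Opens) [CxOX.HasRgammaZ U.ι] [DCoh.HasRpush U.ι]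
    (G : DCoh.D Y ⥤ DCoh.D X) (hG : ExTri G) (K : DCoh.D Y)
    (hs : ∀ M : DCoh.D Y, IsZero ((DCoh.restrictD U.ι).obj M) → IsZero ((DCoh.restrictD W.ι).obj (G.obj M)))
    (hC : ∃ N : DCoh.D (W : Scheme.{u}), ∀ [DCoh.HasRpush W.ι],
      Nonempty (G.obj ((DCoh.Rpush U.ι).obj ((DCoh.restrictD U.ι).obj K)) ≅ (DCoh.Rpush W.ι).obj N)) :
    (∃ α : G.obj ((CxOX.RgammaZ U.ι).obj K) ⟶ (CxOX.RgammaZ W.ι).obj (G.obj K),
        α ≫ (CxOX.RgammaZToId W.ι).app (G.obj K) = G.map ((CxOX.RgammaZToId U.ι).app K)) ∧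
    ∀ α : G.obj ((CxOX.RgammaZ U.ι).obj K) ⟶ (CxOX.RgammaZ W.ι).obj (G.obj K),
        α ≫ (CxOX.RgammaZToId W.ι).app (G.obj K) = G.map ((CxOX.RgammaZToId U.ι).app K) → IsIso α := by
  haveI := BC.hasRpush W.ι
  obtain ⟨h₀, C, g, δ, hT, ⟨eC⟩⟩ := exists_rgammaZ_triangle U K
  obtain ⟨c, hc⟩ := hG _ hT
  obtain ⟨N, hN⟩ := hC
  obtain ⟨eN⟩ := hN
  obtain ⟨hW, hbW⟩ := rgammaZ_props W (G.obj K)
  have hP := hs _ h₀
  have hbG := bijective_comp_of_cone W _ _ c hc N (G.mapIso eC ≪≫ eN)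
  refine ⟨(hbW _ hP).2 (G.map ((CxOX.RgammaZToId U.ι).app K)), fun α hα => ?_⟩
  obtain ⟨β, hβ⟩ := (hbG _ hW).2 ((CxOX.RgammaZToId W.ι).app (G.obj K))
  refine ⟨β, ?_, ?_⟩
  · apply (hbG _ hP).1
    show (α ≫ β) ≫ _ = 𝟙 _ ≫ _
    rw [Category.assoc, Category.id_comp]
    exact (congrArg (α ≫ ·) hβ).trans hα
  · apply (hbW _ hW).1
    show (β ≫ α) ≫ _ = 𝟙 _ ≫ _
    rw [Category.assoc, Category.id_comp, hα]
    exact hβ

end Groth.Agent.TwistShriek
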