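import Groth.Agent.TwistShriek.TopDual
import Groth.Agent.TwistShriek.DualizingTop
import Groth.Agent.TwistShriek.Amplitude
import Groth.Agent.FibreVanishQC.Main
import Groth.Agent.ASp.FibreDimSp
import Groth.Agent.DualCxLib.EndModule
import Groth.Agent.S0402

/-!
# The dualizing module of a proper scheme over a local ring represents the dual of top cohomology
-/

set_option autoImplicit false
set_option linter.style.haveILetI false
set_option linter.unusedSectionVars false
set_option backward.isDefEq.respectTransparency false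
set_option maxHeartbeats 1000000

universe u

open CategoryTheory CategoryTheory.Limits AlgebraicGeometry
open Groth.Agent.DCohLib Groth.Agent.CohBase

attribute [local instance] HasDerivedCategory.standard

noncomputable section

namespace Groth.Agent.TwistShriek

/-- Over a local base the fibres of a proper morphism are at most as big as the closed one. -/
theorem fibre_le_closedFibre {A : Type u} [CommRing A] [IsLocalRing A] {X : Scheme.{u}}
    (f : X ⟶ Spec (CommRingCat.of A)) [IsProper f] (d : ℕ)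
    (hd : topologicalKrullDim (f.fiber (IsLocalRing.closedPoint A)) ≤ d) (y : Spec (CommRingCat.of A)) :
    topologicalKrullDim ↥(f.fiber y) ≤ d := by
  rw [Groth.Agent.ASp.topologicalKrullDim_fiber_le_iff]
  intro x hx
  by_contra hxd
  have hS : IsClosed {z : X | FlatMor.fibreDimAt f z ≤ (d : ℕ)}ᶜ := (Groth.Agent.S0402.result f d).isClosed_compl
  have hS' : IsClosed (f '' {z : X | FlatMor.fibreDimAt f z ≤ (d : ℕ)}ᶜ) := f.isClosedMap _ hS
  obtain ⟨z, hz, hz'⟩ := (IsLocalRing.specializes_closedPoint (show PrimeSpectrum A from f x)).mem_closed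
    hS' ⟨x, hxd, rfl⟩
  exact hz ((Groth.Agent.ASp.topologicalKrullDim_fiber_le_iff f _ _).1 hd z hz')

/-- Cohomology of quasi-coherent modules above the dimension of the closed fibre vanishes. -/
theorem subsingleton_HH_above_closedFibre {A : Type u} [CommRing A] [IsLocalRing A] {X : Scheme.{u}}
    (f : X ⟶ Spec (CommRingCat.of A)) [IsProper f] (d : ℕ)
    (hd : topologicalKrullDim (f.fiber (IsLocalRing.closedPoint A)) ≤ d) (F : X.Modules) [Coh.IsQCoh F]
    (j : ℕ) (hj : d < j) : Subsingleton (Coh.HH X F j) := by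
  obtain ⟨p, rfl⟩ : ∃ p, j = p + 1 := ⟨j - 1, by omega⟩
  exact subsingleton_HH _ _
    (FibreVanishQC.subsingleton_HU_affine f d (fibre_le_closedFibre f d hd) F p (by omega))

/-- The top-degree form of duality over a local base. -/
theorem exists_trace_local (A : Type u) [CommRing A] [IsLocalRing A] [IsNoetherianRing A] (ω : Dual.D A)
    (hω : Dual.IsDualizing A ω) (hn : Dual.IsNormalized A ω) (dA : ℕ) (hdA : ringKrullDim A = dA)
    (X : Scheme.{u}) [X.Over (Spec (CommRingCat.of A))] [IsProper (X ↘ Spec (CommRingCat.of A))]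
    [DCoh.HasRpush (X ↘ Spec (CommRingCat.of A))]
    (h : ∀ K : DCoh.D X, DCoh.IsQCohD K → DCoh.IsQCohD ((DCoh.Rpush (X ↘ Spec (CommRingCat.of A))).obj K))
    (a : DCoh.DQCoh (Spec (CommRingCat.of A)) ⥤ DCoh.DQCoh X)
    (adj : (ObjectProperty.lift DCoh.IsQCohD (ObjectProperty.ι DCoh.IsQCohD ⋙
      DCoh.Rpush (X ↘ Spec (CommRingCat.of A))) (fun K => h K.obj K.property)) ⊣ a)
    [PreservesFiniteLimits (tilde.functor (CommRingCat.of A))]
    (W : DCoh.DQCoh (Spec (CommRingCat.of A))) (eW : W.obj ≅ (DCoh.tildeD (CommRingCat.of A)).obj ω)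
    (dX d : ℕ) (hdX : topologicalKrullDim X = dX)
    (hd : topologicalKrullDim ((X ↘ Spec (CommRingCat.of A)).fiber (IsLocalRing.closedPoint A)) = d)
    (hdim : dX = d + dA) :
    ∃ t : Coh.HH X (DCoh.HD (a.obj W).obj (-(dX : ℤ))) d →ₗ[A] Dual.HD A ω (-(dA : ℤ)),
      ∀ (F : X.Modules), Coh.IsCoh F → ∀ ψ : Coh.HH X F d →ₗ[A] Dual.HD A ω (-(dA : ℤ)),
        ∃! φ : F ⟶ DCoh.HD (a.obj W).obj (-(dX : ℤ)), ∀ x : Coh.HH X F d,
          ψ x = t (Sheaf.H.map ((SheafOfModules.toSheaf X.ringCatSheaf).map φ) d x) := by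
  let f := X ↘ Spec (CommRingCat.of A)
  haveI : ∀ (U : Scheme.{u}) (j : U ⟶ X) [IsOpenImmersion j],
      PreservesFiniteLimits (Scheme.Modules.restrictFunctor j) :=
    fun U j _ => preservesFiniteLimits_restrictFunctor j
  haveI : ∀ (U : Scheme.{u}) (j : U ⟶ Spec (CommRingCat.of A)) [IsOpenImmersion j],
      PreservesFiniteLimits (Scheme.Modules.restrictFunctor j) :=
    fun U j _ => preservesFiniteLimits_restrictFunctor j
  haveI : ∀ (R : CommRingCat.{u}), PreservesFiniteLimits (tilde.functor R) :=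
    fun R => TildeD.preservesFiniteLimits_tilde
  haveI : IsNoetherianRing (CommRingCat.of A) := inferInstanceAs (IsNoetherianRing A)
  haveI : IsLocallyNoetherian X := LocallyOfFiniteType.isLocallyNoetherian f
  haveI : CompactSpace X := QuasiCompact.compactSpace_of_compactSpace f
  obtain ⟨-, hc, hN⟩ := proper_local_setup f h a adj hω hn W eW
  have hM : (a.obj W).obj.IsGE (-(dX : ℤ)) := (DerivedCategory.isGE_iff _ _).2 fun i hi =>
    (amplitude_of_normalizedAt _ hc hN dX hdX).1 i (Or.inl hi)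
  have hW : W.obj.IsGE (-(dA : ℤ)) := (DerivedCategory.isGE_iff _ _).2 fun i hi => by
    haveI := DualCxLib.dual_isGE hω hn dA hdA
    exact ((tilde.functor (CommRingCat.of A)).map_isZero (DerivedCategory.isZero_of_isGE ω (-(dA : ℤ)) i hi)).of_iso
      ((DerivedCategory.homologyFunctor _ i).mapIso eW ≪≫ (TildeD.nuT (CommRingCat.of A) i).app ω)
  let c : (ΓA A).obj (DCoh.HD W.obj (-(dA : ℤ))) ≃ₗ[A] Dual.HD A ω (-(dA : ℤ)) :=
    ((ΓA A).mapIso ((DerivedCategory.homologyFunctor _ _).mapIso eW ≪≫ (TildeD.nuT (CommRingCat.of A) _).app ω) ≪≫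
      ((tilde.toTildeΓNatIso (R := CommRingCat.of A)).app _).symm).toLinearEquiv
  obtain ⟨t, ht⟩ := exists_trace_shift A X h a adj W (-(dA : ℤ)) hW d (-(dX : ℤ)) (by omega) hM _ c
  exact ⟨t, fun F hF ψ => ht F hF.1
    (fun j hj => haveI := hF.1; subsingleton_HH_above_closedFibre f d hd.le F j hj) ψ⟩

end Groth.Agent.TwistShriek
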