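import Groth.Agent.DCohMore.RpushRelTor
import Groth.Agent.DCohMore.GoodCor
import Groth.Agent.DCohMore.TensorRelPerf
import Groth.Agent.DerSchH7.Stalk
import Groth.Agent.DerSchH7.Push
import Groth.Agent.DCohLib.PerfCoh
import Groth.Agent.PerfMorLib.Stalk
import Groth.Agent.PullbackMod.SuppClosed
import Groth.Agent.ClSubLib.ProperOver

/-!
# Direct images of perfect objects along proper perfect morphisms
-/

set_option autoImplicit false
set_option linter.style.haveILetI false
set_option backward.isDefEq.respectTransparency false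

universe u

open CategoryTheory CategoryTheory.Limits AlgebraicGeometry
open Groth.Agent.DRingLib Groth.Agent.DCohLib Groth.Agent.DCohMore Groth.Agent.DerSchH7 Groth.Agent.PerfMorLib
open Groth.Agent.DTenLib

attribute [local instance] HasDerivedCategory.standard

noncomputable section

namespace Groth.Agent.TwistShriek

variable {A B C : Type u} [CommRing A] [CommRing B] [CommRing C]

theorem tdle_comp {d e : ℕ} {φ : A →+* B} {ψ : B →+* C} (hd : TDLE d φ) (he : TDLE e ψ) :
    TDLE (d + e) (ψ.comp φ) := by
  rw [TDLE, hasTorDimLE_iff_amp] at hd he ⊢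
  have h := amp_restrictD φ hd he
  obtain ⟨i⟩ := nonempty_restrictD_inD φ (ModuleCat.of B (baseMod ψ))
  exact hasTorAmplitudeIn_mono (by push_cast; omega) le_rfl (amp_of_iso
    (i ≪≫ (DerivedCategory.singleFunctor (ModuleCat.{u} A) 0).mapIso (restrictBaseMod φ ψ)) h)

theorem tdle_zero_of_bijective {φ : A →+* B} (h : Function.Bijective φ) : TDLE 0 φ :=
  tdle_zero_of_flat (RingHom.Flat.of_bijective h)

theorem tdle_respectsIso (d : ℕ) :
    RingHom.RespectsIso (fun {R S : Type u} [CommRing R] [CommRing S] (f : R →+* S) => TDLE d f) :=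
  ⟨fun _ e hf => by simpa using tdle_comp hf (tdle_zero_of_bijective (φ := e.toRingHom) e.bijective),
    fun _ e hf => by simpa using tdle_comp (tdle_zero_of_bijective (φ := e.toRingHom) e.bijective) hf⟩

theorem tdle_localRingHom {d : ℕ} (f : A →+* B) (hf : TDLE d f) (p : Ideal A) [p.IsPrime] (Q : Ideal B) [Q.IsPrime]
    (hpQ : p = Q.comap f) : TDLE d (Localization.localRingHom p Q f hpQ) := by
  let ψ := Localization.localRingHom p Q f hpQ
  have hψ : ψ.comp (algebraMap A (Localization.AtPrime p)) =
      (algebraMap B (Localization.AtPrime Q)).comp f :=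
    RingHom.ext fun x => Localization.localRingHom_to_map p Q f hpQ x
  haveI : Module.Flat A (Localization.AtPrime p) := IsLocalization.flat _ p.primeCompl
  haveI : Module.Flat B (Localization.AtPrime Q) := IsLocalization.flat _ Q.primeCompl
  have h : TDLE d ((algebraMap B (Localization.AtPrime Q)).comp f) :=
    tdle_comp hf (tdle_zero_of_flat (RingHom.flat_algebraMap_iff.mpr inferInstance))
  letI algψ := ψ.toAlgebra
  letI : Algebra A (Localization.AtPrime Q) := ((algebraMap B (Localization.AtPrime Q)).comp f).toAlgebra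
  haveI : IsScalarTower A (Localization.AtPrime p) (Localization.AtPrime Q) :=
    .of_algebraMap_eq fun x => (RingHom.congr_fun hψ x).symm
  have hle : Algebra.algebraMapSubmonoid (Localization.AtPrime Q) p.primeCompl ≤
      IsUnit.submonoid (Localization.AtPrime Q) := by
    rintro _ ⟨x, hx, rfl⟩
    exact IsLocalization.map_units (Localization.AtPrime Q)
      (⟨f x, fun hfx => hx (by rw [hpQ]; exact hfx)⟩ : Q.primeCompl)
  haveI : IsLocalization (Algebra.algebraMapSubmonoid (Localization.AtPrime Q) p.primeCompl)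
      (Localization.AtPrime Q) := IsLocalization.self hle
  haveI : Algebra.IsPushout A (Localization.AtPrime p) (Localization.AtPrime Q) (Localization.AtPrime Q) :=
    (Algebra.isPushout_of_isLocalization p.primeCompl (Localization.AtPrime p) (Localization.AtPrime Q) _).symm
  let e := Algebra.IsPushout.equiv A (Localization.AtPrime p) (Localization.AtPrime Q) (Localization.AtPrime Q)
  have hb := tdle_comp (tdle_baseChange (R := A) (R' := Localization.AtPrime p) (S := Localization.AtPrime Q) h)
    (tdle_zero_of_bijective (φ := e.toRingEquiv.toRingHom) e.bijective)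
  rwa [show e.toRingEquiv.toRingHom.comp (algebraMap (Localization.AtPrime p) _) =
    algebraMap (Localization.AtPrime p) (Localization.AtPrime Q) from RingHom.ext fun r => e.commutes r] at hb

variable {X S : Scheme.{u}} (f : X ⟶ S)

theorem tdle_stalkMap {d : ℕ} {V : S.Opens} (hV : IsAffineOpen V) {U : X.Opens}
    (hU : IsAffineOpen U) (e : U ≤ f ⁻¹ᵁ V) (h : TDLE d (f.appLE V U e).hom) {x : X} (hx : x ∈ U) :
    TDLE d (f.stalkMap x).hom := by
  haveI := RingHom.toMorphismProperty_respectsIso_iff.mp (tdle_respectsIso.{u} d)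
  refine ((RingHom.toMorphismProperty fun f => TDLE d f).arrow_mk_iso_iff
    (IsAffineOpen.arrowStalkMapIso f V hV U hU e hx)).2 ?_
  exact tdle_localRingHom _ h _ _
    (congrArg PrimeSpectrum.asIdeal (IsAffineOpen.comap_primeIdealOf_appLE V hV U hU e hx)).symm

theorem hasTorAmplitudeAt_unit {d : ℕ} (x : X) (h : TDLE d (f.stalkMap x).hom) :
    DerSch.HasTorAmplitudeAt f (-(d : ℤ)) 0 (DerSch.unitCx X) x :=
  amp_of_iso (DerivedCategory.Q.mapIso (stalkUnitCxIso f x ≪≫
    (HomologicalComplex.singleMapHomologicalComplex (ModuleCat.restrictScalars (f.stalkMap x).hom)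
      (ComplexShape.up ℤ) 0).app (ModuleCat.of (X.presheaf.stalk x) (X.presheaf.stalk x)))).symm
    ((hasTorDimLE_iff_amp d (baseMod (f.stalkMap x).hom)).1 h)

theorem locFiniteTorAmplitude_unit (hf : MoreMor.IsPerfectMor f) :
    DerSch.LocFiniteTorAmplitude f (DerSch.unitCx X) := fun x => by
  obtain ⟨V, U, hx, e, hp⟩ := (isPerfectMor_iff_exists f).mp hf x
  obtain ⟨d, hd⟩ := hp.2
  exact ⟨U.1, -(d : ℤ), 0, hx, fun y hy => hasTorAmplitudeAt_unit f y (tdle_stalkMap f V.2 U.2 e hd hy)⟩

theorem isProperOver_support [IsProper f] (M : X.Modules) (h : Coh.IsCoh M) :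
    ClSub.IsProperOver f (CohB1.support M) :=
  ⟨Groth.Agent.PullbackMod.isClosed_support_of_isFT h.2, inferInstance⟩

theorem locFiniteTorAmplitude_of_unit (P : CochainComplex X.Modules ℤ) (hP : DCoh.IsKFlat P)
    (hPp : DCoh.IsPerfect (DCoh.toD X P)) (h : DerSch.LocFiniteTorAmplitude f (DerSch.unitCx X)) :
    DerSch.LocFiniteTorAmplitude f P := by
  have h1 := locFiniteTorAmplitude_tensorCx f hP hPp h
  have h2 : (DCoh.tensorCx.obj P).obj (DerSch.unitCx X) ≅ P := (tensorUnitCxIso (X := X)).app P
  exact locFiniteTorAmplitude_congr f (DerivedCategory.Q.mapIso h2) h1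

/-- Direct images along proper perfect morphisms of Noetherian schemes preserve perfect objects. -/
theorem isPerfect_rpush_perfectMor [IsNoetherian X] [IsNoetherian S] [IsProper f] (hperf : MoreMor.IsPerfectMor f)
    [DCoh.HasRpush f] (E : DCoh.D X) (hE : DCoh.IsPerfect E) : DCoh.IsPerfect ((DCoh.Rpush f).obj E) := by
  have hPE : DCoh.toD X ((resX X).obj (DerivedCategory.Q.objPreimage E)) ≅ E := resXIso E
  generalize hP : (resX X).obj (DerivedCategory.Q.objPreimage E) = P at hPE
  have hKF : DCoh.IsKFlat P := hP ▸ isKFlat_resX _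
  have hPp : DCoh.IsPerfect (DCoh.toD X P) := isPerfect_iso hPE.symm hE
  obtain ⟨hcoh, a, b, ha, hb⟩ := isCohD_bounded_of_isPerfect _ hPp
  refine isPerfect_iso ((DCoh.Rpush f).mapIso hPE) ?_
  have htor := hasFiniteTorAmplitude_of_loc f (locFiniteTorAmplitude_of_unit f P hKF hPp (locFiniteTorAmplitude_unit f hperf))
  exact isPerfect_rpush_relTor' f P (min a b) (max a b) (le_trans (min_le_left a b) (le_max_left a b)) hcoh
    (fun i hi => by
      rcases hi with h | h
      · exact (DerivedCategory.isGE_iff _ _).1 ha i (by omega)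
      · exact (DerivedCategory.isLE_iff _ _).1 hb i (by omega))
    (fun i => isProperOver_support f _ (hcoh i)) htor

end Groth.Agent.TwistShriek
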