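import Groth.Agent.TwistShriek.SurfH1

/-!
# Fundamental cycles
-/

set_option autoImplicit false
set_option backward.isDefEq.respectTransparency false
set_option linter.style.haveILetI false
set_option maxHeartbeats 800000

universe u

open CategoryTheory CategoryTheory.Limits AlgebraicGeometry TopologicalSpace
open Groth.Agent.PullbackMod Groth.Agent.DCohLib Groth.Agent.Nakai Groth.Agent.H1ZeroLib
open Groth.Agent.IntLib (PicRing pairing)

noncomputable section

namespace Groth.Agent.TwistShriek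

theorem num_fund₁ {c s r : ℤ} (h : c = -s) (hs : s = r + 0) : c = -r := by omega

theorem num_fund₂ {z b r : ℤ} (h1 : z = b + r) (h2 : 0 < b) (h3 : 0 ≤ r) (h4 : z ≤ 0) : False := by omega

theorem num_fund₃ {e c b p q : ℤ} (h1 : e = b + c) (hb : b ≤ 1) (hp : c - q = -p) (hp' : 0 < p) (hq : q ≤ 1) : e ≤ 1 := by
  omega

theorem num_fund₄ {e c b p q : ℤ} (h1 : e = b + c) (hb : b ≤ 1) (hp : c - q = -p) (hp' : 0 < p) (hq : q ≤ 1)
    (he : 1 ≤ e) : b = 1 ∧ q = 1 ∧ p = 1 := by omega

theorem num_fund₅ {m z l : ℤ} (h : m = -1 + l) (hl : 0 ≤ l) (hz : m = z) : -1 ≤ z := by omega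

variable (k : Type u) [Field k] [IsAlgClosed k] {X : Scheme.{u}} [X.Over (Spec (CommRingCat.of k))]
  [IsProper (X ↘ Spec (CommRingCat.of k))] [IsIntegral X] [Smooth (X ↘ Spec (CommRingCat.of k))]

omit [IsAlgClosed k] in
include k in
theorem curve_eq_of_le (hdim : topologicalKrullDim X = 2) {r : ℕ} (C : Fin r → X.IdealSheafData)
    (hCi : ∀ i, IsIntegral (C i).subscheme) (hCd : ∀ i, topologicalKrullDim ((C i).support : Set X) = 1)
    {D : X.IdealSheafData} (hD : IsIntegral D.subscheme) (hDd : topologicalKrullDim (D.support : Set X) = 1)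
    (hDs : (D.support : Set X) ⊆ ⋃ i, ((C i).support : Set X)) : ∃ i, D = C i := by
  haveI := hD
  obtain ⟨i, hi⟩ := Set.mem_iUnion.1 (hDs (show D.subschemeι (genericPoint D.subscheme) ∈ (D.support : Set X) by
    rw [← Scheme.IdealSheafData.range_subschemeι]; exact Set.mem_range_self _))
  have hsub : (D.support : Set X) ⊆ ((C i).support : Set X) := by
    rw [← Scheme.IdealSheafData.range_subschemeι, ← Set.image_univ, ← genericPoint_closure,
      ← D.subschemeι.isClosedEmbedding.closure_image_eq, Set.image_singleton]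
    exact closure_minimal (Set.singleton_subset_iff.2 hi) (C i).support.isClosed
  refine ⟨i, ideal_eq_of_support hD (hCi i) (Set.Subset.antisymm hsub ?_)⟩
  by_contra hn'
  have h := dim_inter_curve (hCi i) (hCd i) D.support.isClosed hn'
  rw [Set.inter_eq_left.2 hsub, hDd] at h
  exact absurd h (by norm_num)

/-- Laufer's computation sequence: the fundamental cycle has `χ ≤ 1`. -/
theorem euler_fundamental_le (hdim : topologicalKrullDim X = 2) {r : ℕ} (C : Fin r → X.IdealSheafData)
    (hCi : ∀ i, IsIntegral (C i).subscheme) (hCd : ∀ i, topologicalKrullDim ((C i).support : Set X) = 1)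
    {Z₀ : X.IdealSheafData} (hZ₀ : FGA.IsEffCartier Z₀) (hZ₀0 : Z₀ ≠ ⊤)
    (hZ₀s : (Z₀.support : Set X) ⊆ ⋃ i, ((C i).support : Set X))
    (hZ₀C : ∀ i, 0 ≤ Curv2.euler k X (CohB1.tensorMod (ClSub.quotMod (C i)) (ClSub.idealMod Z₀)) -
      Curv2.euler k X (ClSub.quotMod (C i)))
    (hmin : ∀ Z : X.IdealSheafData, FGA.IsEffCartier Z → Z ≠ ⊤ → (Z.support : Set X) ⊆ ⋃ i, ((C i).support : Set X) →
      (∀ i, 0 ≤ Curv2.euler k X (CohB1.tensorMod (ClSub.quotMod (C i)) (ClSub.idealMod Z)) -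
        Curv2.euler k X (ClSub.quotMod (C i))) → Z ≤ Z₀) :
    Curv2.euler k X (ClSub.quotMod Z₀) ≤ 1 := by
  haveI := EulerIneqLib.isNoetherian_proper (X := X) k
  obtain ⟨H, hH⟩ := exists_ample_of_smooth (k := k) (X := X) hdim
  have hI := fun i => invertible_curve k hdim (C i) (hCi i) (hCd i)
  have hZ₀I : PicF.IsInvertible (ClSub.idealMod Z₀) := (S8914.result _).2 hZ₀
  suffices key : ∀ (n : ℕ) (Z R : X.IdealSheafData) (hRI : PicF.IsInvertible (ClSub.idealMod R)),
      (form k (cl hRI) (cl hH.1)).natAbs = n → FGA.IsEffCartier Z → Z ≠ ⊤ → Z₀ = Z * R →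
      Curv2.euler k X (ClSub.quotMod Z) ≤ 1 → Curv2.euler k X (ClSub.quotMod Z₀) ≤ 1 by
    obtain ⟨D, hD, hDd, hDs⟩ := exists_curve_in k hdim hZ₀ hZ₀0
    obtain ⟨R, hR, hZR⟩ := exists_eq_curve_mul k hdim hD hDd hZ₀ hDs
    refine key _ D R ((S8914.result _).2 hR) rfl ((S8914.result _).1 (invertible_curve k hdim D hD hDd)) ?_ hZR ?_
    · rintro rfl
      rw [dim_top_support] at hDd
      exact WithBot.bot_ne_one hDd
    · rw [(euler_curve_eq k hD hDd).1]; omega
  intro n
  induction n using Nat.strong_induction_on with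
  | _ n ih =>
    intro Z R hRI hn hZ hZ0 hZR he
    have hR : FGA.IsEffCartier R := (S8914.result _).1 hRI
    have hZI : PicF.IsInvertible (ClSub.idealMod Z) := (S8914.result _).2 hZ
    have hZs : (Z.support : Set X) ⊆ ⋃ i, ((C i).support : Set X) := fun x hx => hZ₀s (by
      rw [hZR, Scheme.IdealSheafData.support_mul]; exact Or.inl hx)
    by_cases hall : ∀ i, 0 ≤ Curv2.euler k X (CohB1.tensorMod (ClSub.quotMod (C i)) (ClSub.idealMod Z)) -
        Curv2.euler k X (ClSub.quotMod (C i))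
    · have : Z₀ = Z := le_antisymm (hZR.le.trans (mul_le_left' Z R)) (hmin Z hZ hZ0 hZs hall)
      rwa [this]
    push Not at hall
    obtain ⟨i, hi⟩ := hall
    rw [← Nakai.pairing_cl k (ClSub.quotMod (C i)) hZI, pairing_quotMod_cl k (hI i)] at hi
    have hi' : 0 < form k (cl (hI i)) (cl hZI) := by omega
    have hsub : ((C i).support : Set X) ⊆ (R.support : Set X) := by
      by_contra hn'
      have h3 := form_ideal_nonneg k hdim hR hRI (hCi i) (hCd i) (hI i) hn'
      have h4 := hZ₀C i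
      rw [← Nakai.pairing_cl k (ClSub.quotMod (C i)) hZ₀I, pairing_quotMod_cl k (hI i)] at h4
      subst hZR
      rw [form_comm k (cl hRI)] at h3
      have h5 := form_ideal_mul k hdim hZI hRI hZ₀I (z := cl (hI i)) (cl_mem _)
      rw [form_comm k (cl hZ₀I), form_comm k (cl hZI), form_comm k (cl hRI)] at h5
      exact num_fund₂ h5 hi' h3 (neg_nonneg.1 h4)
    obtain ⟨R', hR', rfl⟩ := exists_eq_curve_mul k hdim (hCi i) (hCd i) hR hsub
    have hR'I : PicF.IsInvertible (ClSub.idealMod R') := (S8914.result _).2 hR'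
    refine ih _ (hn ▸ natAbs_lt k hdim hH (hCi i) (hCd i) hR' hR'I hRI) (C i * Z) R' hR'I rfl
      (BlowCompLib.isEffCartier_mul ((S8914.result _).1 (hI i)) hZ) (fun h => hZ0 (top_le_iff.1 (h.ge.trans (mul_le_right' _ _)))) ?_ ?_
    · rw [hZR]
      ext U : 2
      simp only [Scheme.IdealSheafData.ideal_mul, Pi.mul_apply]
      ring
    · have h1 := (peel_quot k (C := C i) (B := Z) hZI).1
      have h2 := Nakai.pairing_cl k (ClSub.quotMod (C i)) hZI
      rw [pairing_quotMod_cl k (hI i)] at h2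
      refine num_fund₃ h1 he h2.symm hi' ?_
      rw [(euler_curve_eq k (hCi i) (hCd i)).1]
      omega

/-- Laufer's computation sequence for a fundamental cycle with `χ = 1`. -/
theorem subsingleton_H1_fundamental (hdim : topologicalKrullDim X = 2) {r : ℕ} (C : Fin r → X.IdealSheafData)
    (hCi : ∀ i, IsIntegral (C i).subscheme) (hCd : ∀ i, topologicalKrullDim ((C i).support : Set X) = 1)
    {Z₀ : X.IdealSheafData} (hZ₀ : FGA.IsEffCartier Z₀) (hZ₀0 : Z₀ ≠ ⊤)
    (hZ₀s : (Z₀.support : Set X) ⊆ ⋃ i, ((C i).support : Set X))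
    (hZ₀C : ∀ i, 0 ≤ Curv2.euler k X (CohB1.tensorMod (ClSub.quotMod (C i)) (ClSub.idealMod Z₀)) -
      Curv2.euler k X (ClSub.quotMod (C i)))
    (hmin : ∀ Z : X.IdealSheafData, FGA.IsEffCartier Z → Z ≠ ⊤ → (Z.support : Set X) ⊆ ⋃ i, ((C i).support : Set X) →
      (∀ i, 0 ≤ Curv2.euler k X (CohB1.tensorMod (ClSub.quotMod (C i)) (ClSub.idealMod Z)) -
        Curv2.euler k X (ClSub.quotMod (C i))) → Z ≤ Z₀)
    (he1 : Curv2.euler k X (ClSub.quotMod Z₀) = 1) {L : X.Modules} (hL : PicF.IsInvertible L)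
    (hdegL : ∀ i, 0 ≤ Curv2.euler k X (CohB1.tensorMod (ClSub.quotMod (C i)) L) - Curv2.euler k X (ClSub.quotMod (C i))) :
    Subsingleton (Coh.HH X (CohB1.tensorMod (ClSub.quotMod Z₀) L) 1) := by
  haveI := EulerIneqLib.isNoetherian_proper (X := X) k
  obtain ⟨H, hH⟩ := exists_ample_of_smooth (k := k) (X := X) hdim
  have hI := fun i => invertible_curve k hdim (C i) (hCi i) (hCd i)
  have hZ₀I : PicF.IsInvertible (ClSub.idealMod Z₀) := (S8914.result _).2 hZ₀
  suffices key : ∀ (n : ℕ) (Z R : X.IdealSheafData) (hRI : PicF.IsInvertible (ClSub.idealMod R)),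
      (form k (cl hRI) (cl hH.1)).natAbs = n → FGA.IsEffCartier Z → Z ≠ ⊤ → Z₀ = Z * R →
      (Curv2.euler k X (ClSub.quotMod Z) ≤ 1 ∧ (1 ≤ Curv2.euler k X (ClSub.quotMod Z) →
        Subsingleton (Coh.HH X (CohB1.tensorMod (ClSub.quotMod Z) L) 1))) →
      Subsingleton (Coh.HH X (CohB1.tensorMod (ClSub.quotMod Z₀) L) 1) by
    obtain ⟨D, hD, hDd, hDs⟩ := exists_curve_in k hdim hZ₀ hZ₀0
    obtain ⟨R, hR, hZR⟩ := exists_eq_curve_mul k hdim hD hDd hZ₀ hDs
    refine key _ D R ((S8914.result _).2 hR) rfl ((S8914.result _).1 (invertible_curve k hdim D hD hDd)) ?_ hZR ?_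
    · rintro rfl
      rw [dim_top_support] at hDd
      exact WithBot.bot_ne_one hDd
    · refine ⟨by rw [(euler_curve_eq k hD hDd).1]; omega, fun h1 => ?_⟩
      have hg : Subsingleton (Coh.HH X (ClSub.quotMod D) 1) := by
        rw [subsingleton_H1_iff_of_coh k (IntLib.isCoh_quotMod D)]
        rw [(euler_curve_eq k hD hDd).1] at h1
        omega
      obtain ⟨i, rfl⟩ := curve_eq_of_le k hdim C hCi hCd hD hDd (hDs.trans hZ₀s)
      exact curve_H1 k hD hDd hg hL (le_trans (by norm_num) (hdegL i))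
  intro n
  induction n using Nat.strong_induction_on with
  | _ n ih =>
    intro Z R hRI hn hZ hZ0 hZR he
    have hR : FGA.IsEffCartier R := (S8914.result _).1 hRI
    have hZI : PicF.IsInvertible (ClSub.idealMod Z) := (S8914.result _).2 hZ
    have hZs : (Z.support : Set X) ⊆ ⋃ i, ((C i).support : Set X) := fun x hx => hZ₀s (by
      rw [hZR, Scheme.IdealSheafData.support_mul]; exact Or.inl hx)
    by_cases hall : ∀ i, 0 ≤ Curv2.euler k X (CohB1.tensorMod (ClSub.quotMod (C i)) (ClSub.idealMod Z)) -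
        Curv2.euler k X (ClSub.quotMod (C i))
    · have : Z₀ = Z := le_antisymm (hZR.le.trans (mul_le_left' Z R)) (hmin Z hZ hZ0 hZs hall)
      rw [this]
      exact he.2 (this ▸ he1.ge)
    push Not at hall
    obtain ⟨i, hi⟩ := hall
    rw [← Nakai.pairing_cl k (ClSub.quotMod (C i)) hZI, pairing_quotMod_cl k (hI i)] at hi
    have hi' : 0 < form k (cl (hI i)) (cl hZI) := by omega
    have hsub : ((C i).support : Set X) ⊆ (R.support : Set X) := by
      by_contra hn'
      have h3 := form_ideal_nonneg k hdim hR hRI (hCi i) (hCd i) (hI i) hn'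
      have h4 := hZ₀C i
      rw [← Nakai.pairing_cl k (ClSub.quotMod (C i)) hZ₀I, pairing_quotMod_cl k (hI i)] at h4
      subst hZR
      rw [form_comm k (cl hRI)] at h3
      have h5 := form_ideal_mul k hdim hZI hRI hZ₀I (z := cl (hI i)) (cl_mem _)
      rw [form_comm k (cl hZ₀I), form_comm k (cl hZI), form_comm k (cl hRI)] at h5
      exact num_fund₂ h5 hi' h3 (neg_nonneg.1 h4)
    obtain ⟨R', hR', rfl⟩ := exists_eq_curve_mul k hdim (hCi i) (hCd i) hR hsub
    have hR'I : PicF.IsInvertible (ClSub.idealMod R') := (S8914.result _).2 hR'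
    refine ih _ (hn ▸ natAbs_lt k hdim hH (hCi i) (hCd i) hR' hR'I hRI) (C i * Z) R' hR'I rfl
      (BlowCompLib.isEffCartier_mul ((S8914.result _).1 (hI i)) hZ) (fun h => hZ0 (top_le_iff.1 (h.ge.trans (mul_le_right' _ _)))) ?_ ?_
    · rw [hZR]
      ext U : 2
      simp only [Scheme.IdealSheafData.ideal_mul, Pi.mul_apply]
      ring
    · have h1 := (peel_quot k (C := C i) (B := Z) hZI).1
      have h2 := Nakai.pairing_cl k (ClSub.quotMod (C i)) hZI
      rw [pairing_quotMod_cl k (hI i)] at h2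
      have hq : Curv2.euler k X (ClSub.quotMod (C i)) ≤ 1 := by
        rw [(euler_curve_eq k (hCi i) (hCd i)).1]
        omega
      refine ⟨num_fund₃ h1 he.1 h2.symm hi' hq, fun hge => ?_⟩
      obtain ⟨hb1, hq1, hp1⟩ := num_fund₄ h1 he.1 h2.symm hi' hq hge
      have hg : Subsingleton (Coh.HH X (ClSub.quotMod (C i)) 1) := by
        rw [subsingleton_H1_iff_of_coh k (IntLib.isCoh_quotMod (C i))]
        rw [(euler_curve_eq k (hCi i) (hCd i)).1] at hq1
        omega
      have hM := AmpleLib.isInvertible_tensor hZI hL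
      have hdL := hdegL i
      rw [← Nakai.pairing_cl k (ClSub.quotMod (C i)) hL] at hdL
      have hsum : pairing k (ClSub.quotMod (C i)) (cl hM) =
          pairing k (ClSub.quotMod (C i)) (cl hZI) + pairing k (ClSub.quotMod (C i)) (cl hL) := by
        rw [← map_add]
        refine Nakai.pairing_congr k (n := 2) ?_ (IntLib.isCoh_quotMod (C i)) (Nakai.dim_supp_quotMod (d := 1)
          (by exact_mod_cast hCd i))
        rw [cl_tensor hZI hL, add_sub_cancel_left, pow_two]
        exact Ideal.mul_mem_mul (cl_mem _) (cl_mem _)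
      rw [pairing_quotMod_cl k (hI i) (cl hZI), hp1] at hsum
      have hdM := Nakai.pairing_cl k (ClSub.quotMod (C i)) hM
      exact peel_twist hL (curve_H1 k (hCi i) (hCd i) hg hM (num_fund₅ hsum hdL hdM))
        (he.2 (hb1.ge))

end Groth.Agent.TwistShriek
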