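import Groth.Agent.TwistShriek.SurfConn
import Groth.Agent.S15098
import Groth.Agent.H1ZeroLib.AmpleNef

/-!
# Vanishing of `H¹` of anti-ample modules with sections
-/

set_option autoImplicit false
set_option backward.isDefEq.respectTransparency false
set_option linter.style.haveILetI false
set_option maxHeartbeats 800000

universe u

open CategoryTheory CategoryTheory.Limits AlgebraicGeometry TopologicalSpace
open Groth.Agent.PullbackMod Groth.Agent.DCohLib

noncomputable section

namespace Groth.Agent.TwistShriek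

variable (k : Type u) [Field k] [IsAlgClosed k] {X : Scheme.{u}} [X.Over (Spec (CommRingCat.of k))]
  [IsProper (X ↘ Spec (CommRingCat.of k))] [Smooth (X ↘ Spec (CommRingCat.of k))] [IsIntegral X]

include k in
/-- `H¹(L⁻¹) = 0` for ample `L` with a section, when `H¹(O) = 0`. -/
theorem subsingleton_H1_antiAmple (hdim : topologicalKrullDim X = 2) {L L' : X.Modules} (hL : CohB1.IsAmple L)
    (e : CohB1.tensorMod L L' ≅ Coh.structureModule X) (h1 : Subsingleton (Coh.HH X (Coh.structureModule X) 1))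
    (s : Coh.structureModule X ⟶ L) (hs : (CohB1.genLocus L s : Set X).Nonempty) :
    Subsingleton (Coh.HH X L' 1) := by
  haveI := EulerIneqLib.isNoetherian_proper (X := X) k
  obtain ⟨D, hD, ⟨eD⟩⟩ := exists_divisor_of_genLocus hL.1 s hs
  have hI : PicF.IsInvertible (ClSub.idealMod D) := (S8914.result _).2 hD
  let θ : ClSub.idealMod D ≅ L' :=
    (AmpleLib.unitL _).symm ≪≫ AmpleLib.tIso (e.symm ≪≫ AmpleLib.comm _ _) (Iso.refl _) ≪≫ AmpleLib.assoc _ _ _ ≪≫
      AmpleLib.tIso (Iso.refl _) eD ≪≫ AmpleLib.unitR _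
  have hm : Nakai.cl hI - IntLib.dif hL.1 ∈ Nakai.Aug X ^ 2 :=
    Nakai.cl_mul_inverse_mem hI hL.1 (AmpleLib.comm _ _ ≪≫ eD)
  have hneg : ∀ z ∈ Nakai.Aug X, Nakai.form k (Nakai.cl hI) z = -Nakai.form k (Nakai.cl hL.1) z := fun z hz => by
    rw [Nakai.form_congr k hdim hm hz,
      show Nakai.cl hL.1 = -IntLib.dif hL.1 from Nakai.cl_eq_neg_dif hL.1, Nakai.form, Nakai.form, neg_mul, map_neg, neg_neg]
  by_cases hne : D = ⊤
  · subst hne
    refine subsingleton_of_forall_eq 0 fun x => ?_
    have hp := Nakai.form_ample_pos k hdim hL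
    exfalso
    have e1 := form_ideal_mul k hdim hI hI (A := ⊤) (B := ⊤) (by rw [eq_top_of_le_mul]; exact hI) (Nakai.cl_mem hL.1)
    rw [show Nakai.cl (show PicF.IsInvertible (ClSub.idealMod (⊤ * ⊤ : X.IdealSheafData)) by
      rw [eq_top_of_le_mul]; exact hI) = Nakai.cl hI from by congr 1 <;> rw [eq_top_of_le_mul],
      hneg _ (Nakai.cl_mem hL.1)] at e1
    linarith
  have hpos : 0 < FGA.intNum k X 2 ![(ClSub.idealMod D), (ClSub.idealMod D)] (Coh.structureModule X) := by
    rw [intNum_eq_form k hdim.le hI hI, hneg _ (Nakai.cl_mem hI), Nakai.form_comm k (Nakai.cl hL.1),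
      hneg _ (Nakai.cl_mem hL.1), neg_neg]
    exact Nakai.form_ample_pos k hdim hL
  have hnc := Groth.Agent.S15098.result k X hdim D hD hpos fun Γ hΓ hΓd => by
    have hΓI := invertible_curve k hdim Γ hΓ hΓd
    have h := form_ideal_neg k hdim.le hL hΓI hΓd
    rw [← Nakai.pairing_cl k (ClSub.quotMod Γ) hI, pairing_quotMod_cl k hΓI, Nakai.form_comm k, hneg _ (Nakai.cl_mem hΓI),
      neg_neg, Nakai.form_comm k]
    exact h.le
  have h0 := (numConn_twist k hdim hD hne hnc (ParaFLib.isInvertible_structureModule (X := X)) fun C _ _ _ => by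
    rw [CurveLib.euler_iso (K := k) (AmpleLib.unitR (ClSub.quotMod C)), sub_self]).1
  rw [ShBCLib.finrank_HH_iso (K := k) (AmpleLib.unitR (ClSub.quotMod D)) 0] at h0
  haveI := subsingleton_H1_ideal k hI h1 h0 hne
  exact ProjCoh.subsingleton_of_iso θ 1

end Groth.Agent.TwistShriek
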