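import Groth.Agent.TwistShriek.NumCurves

/-!
# The cones of a surface in the space of real classes
-/

set_option autoImplicit false
set_option backward.isDefEq.respectTransparency false
set_option maxHeartbeats 1000000
set_option linter.style.haveILetI false

universe u

open CategoryTheory CategoryTheory.Limits AlgebraicGeometry TopologicalSpace Filter
open Groth.Agent.PullbackMod Groth.Agent.DCohLib Groth.Agent.Nakai
open Groth.Agent.IntLib (PicRing pairing dif inv')
open scoped Topology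

noncomputable section

namespace Groth.Agent.TwistShriek

variable {k : Type u} [Field k] {X : Scheme.{u}} [X.Over (Spec (CommRingCat.of k))] [PicGrp.Law X]

variable (k) in
/-- The class of a curve. -/
abbrev cc (C : NumR.Curve X) : NumR.N1R k X := NumR.curveCl k X C.1 C.2.2.2

theorem clR_tensorPow {L : X.Modules} (hL : PicF.IsInvertible L) :
    ∀ (n : ℕ) (h : PicF.IsInvertible (CohB1.tensorPow L n)),
      NumR.clR k X (CohB1.tensorPow L n) h = (n : ℝ) • NumR.clR k X L hL
  | 0, h => by rw [Nat.cast_zero, zero_smul]; exact clR_structureModule h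
  | n + 1, h => by
    refine (clR_tensor (AmpleLib.isInvertible_tensorPow hL n) hL h).trans ?_
    rw [clR_tensorPow hL n, Nat.cast_succ, add_smul, one_smul]

variable [IsProper (X ↘ Spec (CommRingCat.of k))] [Smooth (X ↘ Spec (CommRingCat.of k))] [IsIntegral X]
  [Module.Finite ℝ (NumR.N1R k X)] {B : NumR.N1R k X →ₗ[ℝ] NumR.N1R k X →ₗ[ℝ] ℝ}
  (hdim : topologicalKrullDim X = 2) (hB : NumR.IsIntForm₂ k X B) {H : X.Modules} (hH : CohB1.IsAmple H)

omit [IsProper (X ↘ Spec (CommRingCat.of k))] [Smooth (X ↘ Spec (CommRingCat.of k))] [IsIntegral X] in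
theorem continuous_B_self : Continuous fun x : NumR.N1R k X => B x x :=
  (IsModuleTopology.continuous_bilinear_of_finite_left B).comp (continuous_id.prodMk continuous_id)

omit [IsProper (X ↘ Spec (CommRingCat.of k))] [Smooth (X ↘ Spec (CommRingCat.of k))] [IsIntegral X]
  [Module.Finite ℝ (NumR.N1R k X)] in
theorem continuous_B_left (y : NumR.N1R k X) : Continuous fun x : NumR.N1R k X => B x y :=
  IsModuleTopology.continuous_of_linearMap (R := ℝ) (B.flip y)

include hdim hB hH in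
theorem isOpen_posCone : IsOpen (NumR.posCone k X B H hH.1) :=
  (isOpen_lt continuous_const continuous_B_self).inter (isOpen_lt continuous_const (continuous_B_left _))

include hdim hB in
theorem pos_curve {L : X.Modules} (hL : CohB1.IsAmple L) (C : NumR.Curve X) :
    0 < B (NumR.clR k X L hL.1) (cc k C) := by
  rw [cc, B_curveCl hdim hB]
  haveI := C.2.1
  have h := pos_quotMod k hL C.1 (d := 1) (C.2.2.1.trans Nat.cast_one.symm)
  rw [pow_one] at h
  exact_mod_cast h

include hdim hB hH in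
theorem ample_mem_posCone {L : X.Modules} (hL : CohB1.IsAmple L) :
    NumR.clR k X L hL.1 ∈ NumR.posCone k X B H hH.1 := by
  have hsq := form_ample_pos k hdim hL
  obtain ⟨n, hn, hs⟩ := exists_section_of_pos k hdim hL hL.1 hsq hsq
  refine ⟨?_, ?_⟩
  · rw [B_clR hdim hB]; exact_mod_cast hsq
  · rw [B_clR hdim hB]; exact_mod_cast pairing_ample_pos_of_section k hdim hL.1 hH hn hs hsq

omit [Smooth (X ↘ Spec (CommRingCat.of k))] [Module.Finite ℝ (NumR.N1R k X)] [IsIntegral X]
  [IsProper (X ↘ Spec (CommRingCat.of k))] in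
theorem clR_mem_ampleCone {L : X.Modules} (hL : PicF.IsInvertible L) (h : CohB1.IsAmple L) :
    NumR.clR k X L hL ∈ (NumR.ampleCone k X : Set (NumR.N1R k X)) :=
  ConvexCone.subset_hull ⟨L, hL, h, rfl⟩

include hdim hB hH in
/-- Classes in the ample cone are positive. -/
theorem ampleCone_pos {x : NumR.N1R k X} (hx : x ∈ (NumR.ampleCone k X : Set (NumR.N1R k X))) :
    x ∈ NumR.posCone k X B H hH.1 ∧ ∀ C : NumR.Curve X, 0 < B x (cc k C) := by
  let K : ConvexCone ℝ (NumR.N1R k X) :=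
    { carrier := {x | x ∈ NumR.posCone k X B H hH.1 ∧ ∀ C : NumR.Curve X, 0 < B x (cc k C)}
      smul_mem' := fun t ht x hx => ⟨⟨by
          simp only [map_smul, LinearMap.smul_apply, smul_eq_mul]; exact mul_pos ht (mul_pos ht hx.1.1), by
          simp only [map_smul, LinearMap.smul_apply, smul_eq_mul]; exact mul_pos ht hx.1.2⟩,
        fun C => by simp only [map_smul, LinearMap.smul_apply, smul_eq_mul]; exact mul_pos ht (hx.2 C)⟩
      add_mem' := fun x hx y hy => ⟨⟨by
          have hxy := (isHodge hdim hB hH).pairing_pos hx.1.1 hx.1.2 hy.1.1.le hy.1.2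
          simp only [map_add, LinearMap.add_apply, B_symm hdim hB y x]
          linarith [hx.1.1, hy.1.1], by
          simp only [map_add, LinearMap.add_apply]; exact add_pos hx.1.2 hy.1.2⟩,
        fun C => by simp only [map_add, LinearMap.add_apply]; exact add_pos (hx.2 C) (hy.2 C)⟩ }
  exact (ConvexCone.hull_min (C := K) (by
    rintro z ⟨L, hL, hLa, rfl⟩
    exact ⟨ample_mem_posCone hdim hB hH hLa, fun C => pos_curve hdim hB hLa C⟩)) hx

include hdim in
/-- Points of the ample cone are interior, in coordinates. -/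
theorem ampleCone_ball {n : ℕ} {L : Fin n → X.Modules} (hL : ∀ i, PicF.IsInvertible (L i))
    (b : Module.Basis (Fin n) ℝ (NumR.N1R k X)) (hb : ∀ i, b i = NumR.clR k X (L i) (hL i))
    {x : NumR.N1R k X} (hx : x ∈ (NumR.ampleCone k X : Set (NumR.N1R k X))) :
    ∃ ε : ℝ, 0 < ε ∧ ∀ v, ‖b.equivFun v‖ < ε → x + v ∈ (NumR.ampleCone k X : Set (NumR.N1R k X)) := by
  haveI := EulerIneqLib.isNoetherian_proper (X := X) k
  obtain ⟨A, hA⟩ : ∃ A : ConvexCone ℝ (NumR.N1R k X), A = NumR.ampleCone k X := ⟨_, rfl⟩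
  rw [← hA] at hx ⊢
  let K : ConvexCone ℝ (NumR.N1R k X) :=
    { carrier := {x | x ∈ A ∧ ∃ ε : ℝ, 0 < ε ∧ ∀ v, ‖b.equivFun v‖ < ε → x + v ∈ A}
      smul_mem' := fun t ht x ⟨hxA, ε, hε, hv⟩ => ⟨A.smul_mem ht hxA, t * ε, mul_pos ht hε, fun v hv' => by
        rw [show t • x + v = t • (x + t⁻¹ • v) by rw [smul_add, smul_inv_smul₀ ht.ne']]
        refine A.smul_mem ht (hv _ ?_)
        rwa [map_smul, norm_smul, Real.norm_eq_abs, abs_of_pos (inv_pos.2 ht), inv_mul_lt_iff₀ ht]⟩
      add_mem' := fun x ⟨hxA, ε, hε, hv⟩ y ⟨hyA, _⟩ => ⟨A.add_mem hxA hyA, ε, hε, fun v hv' => by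
        rw [show x + y + v = (x + v) + y by abel]; exact A.add_mem (hv v hv') hyA⟩ }
  refine ((ConvexCone.hull_min (C := K) ?_) (show x ∈ NumR.ampleCone k X from hA ▸ hx)).2
  rintro z ⟨M, hM, hMa, rfl⟩
  obtain ⟨l, hl⟩ : ∃ l, l = NumR.clR k X M hM := ⟨_, rfl⟩
  rw [← hl]
  have hlA : l ∈ A := by rw [hl, hA]; exact clR_mem_ampleCone hM hMa
  choose L' hL' e using fun i => AmpleEmb.exists_isInverseOf (hL i)
  choose E hE using fun i => AmpleEmb.eventually_isAmple_tensor hMa (hL i)
  choose E' hE' using fun i => AmpleEmb.eventually_isAmple_tensor hMa (hL' i)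
  obtain ⟨m, hm⟩ : ∃ m : ℕ, m = (∑ i, (E i + E' i)) + 1 := ⟨_, rfl⟩
  have hmE : ∀ i, E i + E' i ≤ m := fun i => by
    have := Finset.single_le_sum (f := fun i => E i + E' i) (fun i _ => Nat.zero_le _) (Finset.mem_univ i)
    omega
  have hplus : ∀ i, (m : ℝ) • l + b i ∈ A ∧ (m : ℝ) • l - b i ∈ A := fun i => by
    have hinv : NumR.clR k X (L' i) (hL' i) = - b i := by
      rw [hb, eq_neg_iff_add_eq_zero, add_comm,
        ← clR_tensor (hL i) (hL' i) (AmpleLib.isInvertible_tensor (hL i) (hL' i))]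
      obtain ⟨ei⟩ := e i
      exact (clR_iso _ ParaFLib.isInvertible_structureModule ei).trans (clR_structureModule _)
    have h1 := hE i m (by linarith [hmE i])
    have h2 := hE' i m (by linarith [hmE i])
    rw [hA, hl]
    constructor
    · rw [hb, ← clR_tensorPow hM m (AmpleLib.isInvertible_tensorPow hM m),
        ← clR_tensor (AmpleLib.isInvertible_tensorPow hM m) (hL i) h1.1.1]
      exact clR_mem_ampleCone _ h1.1
    · rw [sub_eq_add_neg, ← hinv, ← clR_tensorPow hM m (AmpleLib.isInvertible_tensorPow hM m),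
        ← clR_tensor (AmpleLib.isInvertible_tensorPow hM m) (hL' i) h2.1.1]
      exact clR_mem_ampleCone _ h2.1
  refine ⟨hlA, 1 / ((m : ℝ) * (n + 1)), by subst hm; positivity, fun v hv => ?_⟩
  obtain ⟨c, hc⟩ : ∃ c, c = b.equivFun v := ⟨_, rfl⟩
  rw [← hc] at hv
  have hvs : v = ∑ i, c i • b i := by rw [hc]; exact (b.sum_equivFun v).symm
  have hm0 : (0 : ℝ) < m := by rw [hm]; positivity
  have hsum : (m : ℝ) * ∑ i, |c i| < 1 := by
    have h1 : ∑ i, |c i| ≤ (n : ℝ) * ‖c‖ := by
      refine (Finset.sum_le_sum fun i _ => (Real.norm_eq_abs (c i)).ge.trans (norm_le_pi_norm c i)).trans ?_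
      rw [Finset.sum_const, Finset.card_univ, Fintype.card_fin, nsmul_eq_mul]
    rw [lt_div_iff₀ (mul_pos hm0 (by positivity))] at hv
    have h2 : (m : ℝ) * ∑ i, |c i| ≤ (m : ℝ) * ((n : ℝ) * ‖c‖) := mul_le_mul_of_nonneg_left h1 hm0.le
    have h3 : 0 ≤ (m : ℝ) * ‖c‖ := by positivity
    linarith
  have hind : ∀ s : Finset (Fin n), (1 - (m : ℝ) * ∑ i, |c i|) • l +
      ∑ i ∈ s, (|c i| • ((m : ℝ) • l) + c i • b i) ∈ A := fun s => by
    induction s using Finset.induction_on with
    | empty => rw [Finset.sum_empty, add_zero]; exact A.smul_mem (sub_pos.2 hsum) hlA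
    | insert i s his ih =>
      rw [Finset.sum_insert his, add_left_comm, add_comm]
      rcases eq_or_ne (c i) 0 with h0 | h0
      · rw [h0, abs_zero, zero_smul, zero_smul, add_zero, add_zero]; exact ih
      · refine A.add_mem ih ?_
        rcases lt_or_gt_of_ne h0 with hneg | hpos
        · rw [show |c i| • ((m : ℝ) • l) + c i • b i = (-c i) • ((m : ℝ) • l - b i) by
            rw [abs_of_neg hneg]; module]
          exact A.smul_mem (neg_pos.2 hneg) (hplus i).2
        · rw [show |c i| • ((m : ℝ) • l) + c i • b i = c i • ((m : ℝ) • l + b i) by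
            rw [abs_of_pos hpos]; module]
          exact A.smul_mem hpos (hplus i).1
  have hfin := hind Finset.univ
  rwa [Finset.sum_add_distrib, ← hvs, ← Finset.sum_smul, ← add_assoc, smul_smul, ← add_smul,
    show 1 - (m : ℝ) * ∑ i, |c i| + (∑ i, |c i|) * (m : ℝ) = 1 by ring, one_smul] at hfin

include hdim in
theorem isOpen_ampleCone : IsOpen (NumR.ampleCone k X : Set (NumR.N1R k X)) := by
  obtain ⟨n, L, hL, b, hb⟩ := exists_basis_clR (k := k) (X := X)
  refine isOpen_iff_forall_mem_open.2 fun x hx => ?_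
  obtain ⟨ε, hε, hball⟩ := ampleCone_ball hdim hL b hb hx
  refine ⟨{z | ‖b.equivFun (z - x)‖ < ε}, fun z hz => ?_, ?_, by simpa using hε⟩
  · have h := hball (z - x) hz
    rwa [add_sub_cancel] at h
  · have hc : Continuous fun z => b.equivFun z :=
      IsModuleTopology.continuous_of_linearMap (R := ℝ) (b.equivFun : NumR.N1R k X →ₗ[ℝ] Fin n → ℝ)
    have h1 : Continuous fun z => ‖b.equivFun z - b.equivFun x‖ := (hc.sub continuous_const).norm
    simp only [map_sub]
    exact isOpen_lt h1 continuous_const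

include hdim hB hH in
/-- A nef module plus an ample class is in the ample cone. -/
theorem clR_nef_add_mem {N : X.Modules} (hN : PicF.IsInvertible N)
    (hn : ∀ C : NumR.Curve X, 0 ≤ B (NumR.clR k X N hN) (cc k C)) {y : NumR.N1R k X}
    (hy : y ∈ (NumR.ampleCone k X : Set (NumR.N1R k X))) :
    NumR.clR k X N hN + y ∈ (NumR.ampleCone k X : Set (NumR.N1R k X)) := by
  haveI := EulerIneqLib.isNoetherian_proper (X := X) k
  obtain ⟨n, L, hL, b, hb⟩ := exists_basis_clR (k := k) (X := X)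
  obtain ⟨ε, hε, hball⟩ := ampleCone_ball hdim hL b hb hy
  obtain ⟨a, ha⟩ := exists_nat_gt (‖b.equivFun (NumR.clR k X H hH.1)‖ / ε)
  have ha0 : (0 : ℝ) < a := lt_of_le_of_lt (div_nonneg (norm_nonneg _) hε.le) ha
  have ha' : 0 < a := by exact_mod_cast ha0
  have hy' : y + (-(1 / (a : ℝ))) • NumR.clR k X H hH.1 ∈ (NumR.ampleCone k X : Set (NumR.N1R k X)) := by
    refine hball _ ?_
    rw [map_smul, norm_smul, norm_neg, Real.norm_eq_abs, abs_of_pos (by positivity), one_div, inv_mul_lt_iff₀ ha0]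
    exact (div_lt_iff₀ hε).1 ha
  have hP := AmpleLib.isInvertible_tensorPow hN a
  have hM := AmpleLib.isInvertible_tensor hP hH.1
  have hnef : NefP k hN := nefP_of_quotMod k hN fun C hC hCd => by
    have h := hn ⟨C, hC, hCd, invertible_curve k hdim C hC hCd⟩
    rw [cc, B_curveCl hdim hB _ hN] at h
    rw [← pairing_cl k _ hN]
    exact_mod_cast h
  have hMa : CohB1.IsAmple (CohB1.tensorMod (CohB1.tensorPow N a) H) := by
    refine isAmple_of_cl k hN hH hnef hM (a := a) (b := 1) Nat.one_pos ?_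
    rw [show cl hM = cl (AmpleLib.isInvertible_tensor hP hH.1) from rfl, cl_tensor hP hH.1, Nat.cast_one, one_mul,
      show cl hP + cl hH.1 + cl hP * cl hH.1 - ((a : PicRing X) * cl hN + cl hH.1) =
        (cl hP - (a : PicRing X) * cl hN) + cl hP * cl hH.1 by ring]
    refine Ideal.add_mem _ (cl_tensorPow_sub_mem hN a) ?_
    rw [pow_two]; exact Ideal.mul_mem_mul (cl_mem _) (cl_mem _)
  have h1 := ConvexCone.add_mem _ (ConvexCone.smul_mem _ (one_div_pos.2 ha0) (clR_mem_ampleCone (k := k) hM hMa)) hy'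
  rw [clR_tensor hP hH.1 hM, clR_tensorPow hN a hP, smul_add, smul_smul, one_div_mul_cancel ha0.ne', one_smul] at h1
  rwa [show NumR.clR k X N hN + (1 / (a : ℝ)) • NumR.clR k X H hH.1 + (y + -(1 / (a : ℝ)) • NumR.clR k X H hH.1) =
    NumR.clR k X N hN + y by module] at h1

include hdim hB hH in
/-- The ample cone is described by a uniform lower bound on curves. -/
theorem mem_ampleCone_iff {x : NumR.N1R k X} :
    x ∈ (NumR.ampleCone k X : Set (NumR.N1R k X)) ↔
      ∃ δ : ℝ, 0 < δ ∧ ∀ C : NumR.Curve X, δ * B (NumR.clR k X H hH.1) (cc k C) ≤ B x (cc k C) := by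
  obtain ⟨h, hh⟩ : ∃ h, h = NumR.clR k X H hH.1 := ⟨_, rfl⟩
  rw [← hh]
  obtain ⟨n, L, hL, b, hb⟩ := exists_basis_clR (k := k) (X := X)
  constructor
  · intro hx
    obtain ⟨ε, hε, hball⟩ := ampleCone_ball hdim hL b hb hx
    obtain ⟨t, ht⟩ : ∃ t : ℝ, t = ε / (‖b.equivFun h‖ + 1) := ⟨_, rfl⟩
    have ht0 : 0 < t := by rw [ht]; positivity
    refine ⟨t, ht0, fun C => ?_⟩
    have h1 := hball ((-t) • h) (by
      rw [map_smul, norm_smul, norm_neg, Real.norm_eq_abs, abs_of_pos ht0, ht, div_mul_eq_mul_div,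
        div_lt_iff₀ (by positivity)]
      exact mul_lt_mul_of_pos_left (lt_add_one _) hε)
    have h2 := (ampleCone_pos hdim hB hH h1).2 C
    simp only [map_add, map_smul, LinearMap.add_apply, LinearMap.smul_apply, smul_eq_mul] at h2
    linarith
  · rintro ⟨δ, hδ, hC⟩
    obtain ⟨ε, hε, hball⟩ := ampleCone_ball hdim hL b hb (clR_mem_ampleCone (k := k) hH.1 hH)
    rw [← hh] at hball
    obtain ⟨M, hM⟩ := exists_nat_gt (1 / ε)
    have hM0 : (0 : ℝ) < M := lt_trans (by positivity) hM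
    obtain ⟨N, hN⟩ := exists_nat_gt (2 * (M : ℝ) / δ)
    have hN0 : (0 : ℝ) < N := lt_trans (by positivity) hN
    obtain ⟨c, hc⟩ : ∃ c : Fin n → ℝ, c = fun i => Int.fract ((N : ℝ) * b.equivFun x i) := ⟨_, rfl⟩
    obtain ⟨v, hv⟩ : ∃ v, v = ∑ i, c i • b i := ⟨_, rfl⟩
    have hcn : ‖c‖ ≤ 1 := (pi_norm_le_iff_of_nonneg zero_le_one).2 fun i => by
      rw [hc, Real.norm_eq_abs, abs_of_nonneg (Int.fract_nonneg _)]; exact (Int.fract_lt_one _).le
    have hmem : ∀ σ : ℝ, |σ| = 1 → h + (σ / M) • v ∈ (NumR.ampleCone k X : Set (NumR.N1R k X)) := fun σ hσ => by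
      refine hball _ ?_
      rw [map_smul, hv, Module.Basis.equivFun_apply, b.repr_sum_self, norm_smul, Real.norm_eq_abs, abs_div, hσ,
        abs_of_pos hM0]
      calc 1 / (M : ℝ) * ‖c‖ ≤ 1 / (M : ℝ) * 1 := mul_le_mul_of_nonneg_left hcn (by positivity)
        _ < ε := by rw [mul_one, div_lt_iff₀ hM0]; rw [div_lt_iff₀ hε] at hM; linarith
    obtain ⟨P, hP, hPc⟩ := exists_clR_sum (k := k) Finset.univ (fun i => ⌊(N : ℝ) * b.equivFun x i⌋) L hL
    have hPc' : NumR.clR k X P hP + v = (N : ℝ) • x := by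
      rw [hPc, hv, ← Finset.sum_add_distrib]
      conv_rhs => rw [← b.sum_equivFun x, Finset.smul_sum]
      refine Finset.sum_congr rfl fun i _ => ?_
      rw [← hb, hc, ← add_smul, Int.floor_add_fract, smul_smul]
    obtain ⟨Q, hQ, hQc⟩ := exists_clR_eq (k := k) (X := X) (NumR.cl k X P hP - M • NumR.cl k X H hH.1)
    have hQc' : NumR.clR k X Q hQ = NumR.clR k X P hP - (M : ℝ) • h := by
      rw [← hQc, map_sub, map_nsmul, Nat.cast_smul_eq_nsmul, hh]; rfl
    have hnef : ∀ C : NumR.Curve X, 0 ≤ B (NumR.clR k X Q hQ) (cc k C) := fun C => by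
      have hpos := (ampleCone_pos hdim hB hH (hmem (-1) (by simp))).2 C
      have hhC : 0 < B h (cc k C) := by rw [hh]; exact pos_curve hdim hB hH C
      simp only [map_add, map_smul, LinearMap.add_apply, LinearMap.smul_apply, smul_eq_mul] at hpos
      rw [hQc', show NumR.clR k X P hP = (N : ℝ) • x - v from eq_sub_of_add_eq hPc']
      simp only [map_sub, map_smul, LinearMap.sub_apply, LinearMap.smul_apply, smul_eq_mul]
      have hvb : B v (cc k C) < (M : ℝ) * B h (cc k C) := by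
        have e := mul_pos hM0 hpos
        rw [show (M : ℝ) * (B h (cc k C) + -1 / (M : ℝ) * B v (cc k C)) =
          (M : ℝ) * B h (cc k C) - B v (cc k C) by field_simp; ring] at e
        linarith
      have h1 := mul_le_mul_of_nonneg_left (hC C) hN0.le
      rw [div_lt_iff₀ hδ] at hN
      have h2 := mul_le_mul_of_nonneg_right hN.le hhC.le
      linarith
    have hy : (M : ℝ) • h + v ∈ (NumR.ampleCone k X : Set (NumR.N1R k X)) := by
      have h1 := ConvexCone.smul_mem _ hM0 (hmem 1 abs_one)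
      rwa [smul_add, smul_smul, mul_one_div_cancel hM0.ne', one_smul] at h1
    have h2 := clR_nef_add_mem hdim hB hH hQ hnef hy
    rw [hQc', show NumR.clR k X P hP - (M : ℝ) • h + ((M : ℝ) • h + v) = NumR.clR k X P hP + v by abel, hPc'] at h2
    have h3 := ConvexCone.smul_mem _ (inv_pos.2 hN0) h2
    rwa [inv_smul_smul₀ hN0.ne'] at h3

include hdim hB hH in
theorem add_mem_of_nef {x y : NumR.N1R k X} (hx : ∀ C : NumR.Curve X, 0 ≤ B x (cc k C))
    (hy : y ∈ (NumR.ampleCone k X : Set (NumR.N1R k X))) : x + y ∈ (NumR.ampleCone k X : Set (NumR.N1R k X)) := by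
  obtain ⟨δ, hδ, hC⟩ := (mem_ampleCone_iff hdim hB hH).1 hy
  refine (mem_ampleCone_iff hdim hB hH).2 ⟨δ, hδ, fun C => ?_⟩
  rw [map_add, LinearMap.add_apply]
  linarith [hC C, hx C]

include hdim hB hH in
/-- The closure of the ample cone. -/
theorem closure_ampleCone :
    closure (NumR.ampleCone k X : Set (NumR.N1R k X)) =
      {x | 0 ≤ B x x ∧ 0 ≤ B x (NumR.clR k X H hH.1) ∧ ∀ C : NumR.Curve X, 0 ≤ B x (cc k C)} := by
  refine Set.Subset.antisymm (closure_minimal (fun x hx => ?_) ?_) ?_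
  · obtain ⟨h1, h2⟩ := ampleCone_pos hdim hB hH hx
    exact ⟨h1.1.le, h1.2.le, fun C => (h2 C).le⟩
  · simp only [Set.ofPred_and, Set.ofPred_forall]
    exact (isClosed_le continuous_const continuous_B_self).inter ((isClosed_le continuous_const (continuous_B_left _)).inter
      (isClosed_iInter fun C => isClosed_le continuous_const (continuous_B_left _)))
  · rintro x ⟨-, -, hx⟩
    have hlim : Tendsto (fun m : ℕ => x + (1 / ((m : ℝ) + 1)) • NumR.clR k X H hH.1) atTop (𝓝 x) := by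
      have h := (tendsto_one_div_add_atTop_nhds_zero_nat (𝕜 := ℝ)).smul_const (NumR.clR k X H hH.1)
      simpa using tendsto_const_nhds.add h
    exact mem_closure_of_tendsto hlim (Eventually.of_forall fun m =>
      add_mem_of_nef hdim hB hH hx (ConvexCone.smul_mem _ (by positivity) (clR_mem_ampleCone hH.1 hH)))

include hdim hB hH in
theorem nef_nonneg {x : NumR.N1R k X} (hx : ∀ C : NumR.Curve X, 0 ≤ B x (cc k C)) :
    0 ≤ B x x ∧ 0 ≤ B x (NumR.clR k X H hH.1) := by
  have hlim : Tendsto (fun m : ℕ => x + (1 / ((m : ℝ) + 1)) • NumR.clR k X H hH.1) atTop (𝓝 x) := by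
    have h := (tendsto_one_div_add_atTop_nhds_zero_nat (𝕜 := ℝ)).smul_const (NumR.clR k X H hH.1)
    simpa using tendsto_const_nhds.add h
  have hmem := mem_closure_of_tendsto hlim (Eventually.of_forall fun m =>
    add_mem_of_nef hdim hB hH hx (ConvexCone.smul_mem _ (by positivity) (clR_mem_ampleCone hH.1 hH)))
  rw [closure_ampleCone hdim hB hH] at hmem
  exact ⟨hmem.1, hmem.2.1⟩

omit [IsProper (X ↘ Spec (CommRingCat.of k))] [Smooth (X ↘ Spec (CommRingCat.of k))] [IsIntegral X]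
  [Module.Finite ℝ (NumR.N1R k X)] in
theorem B_sum_cons (C : NumR.Curve X) (t : Multiset (NumR.Curve X)) (y : NumR.N1R k X) :
    B ((C ::ₘ t).map (cc k)).sum y = B (cc k C) y + B (t.map (cc k)).sum y := by
  rw [Multiset.map_cons, Multiset.sum_cons, map_add, LinearMap.add_apply]

omit [Module.Finite ℝ (NumR.N1R k X)] in
include hdim hB in
theorem exists_curves_lift (s : Multiset X.IdealSheafData) :
    (∀ J ∈ s, IsIntegral J.subscheme ∧ topologicalKrullDim (J.support : Set X) = 1) →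
    ∃ t : Multiset (NumR.Curve X), ∀ (M : X.Modules) (hM : PicF.IsInvertible M),
      B (t.map (cc k)).sum (NumR.clR k X M hM) =
        (((s.map fun J => pairing k (ClSub.quotMod J) (cl hM)).sum : ℤ) : ℝ) := by
  induction s using Multiset.induction_on with
  | empty => exact fun _ => ⟨0, fun M hM => by simp⟩
  | cons J s ih =>
    intro hs
    obtain ⟨t, ht⟩ := ih fun K hK => hs K (Multiset.mem_cons_of_mem hK)
    obtain ⟨hJ, hJd⟩ := hs J (Multiset.mem_cons_self J s)
    refine ⟨⟨J, hJ, hJd, invertible_curve k hdim J hJ hJd⟩ ::ₘ t, fun M hM => ?_⟩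
    rw [B_sum_cons, ht, Multiset.map_cons, Multiset.sum_cons, Int.cast_add, B_symm hdim hB]
    congr 1
    exact B_curveCl hdim hB _ hM

include hdim hB in
/-- The class of a module with a section is a sum of curves. -/
theorem clR_eq_sum_curves {N : X.Modules} (hN : PicF.IsInvertible N) (hs : Nontrivial (Coh.HH X N 0)) :
    ∃ s : Multiset (NumR.Curve X), NumR.clR k X N hN = (s.map (cc k)).sum := by
  obtain ⟨s, hs1, hs2⟩ := exists_curves_of_section k hdim hN hs
  obtain ⟨t, ht⟩ := exists_curves_lift hdim hB s hs1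
  refine ⟨t, sub_eq_zero.1 (eq_zero_of_radical hdim hB fun y => ?_)⟩
  rw [map_sub, LinearMap.sub_apply, sub_eq_zero]
  suffices e : B (NumR.clR k X N hN) = B (t.map (cc k)).sum by rw [e]
  refine LinearMap.ext_on NumR.span_clR ?_
  rintro _ ⟨M, hM, rfl⟩
  rw [ht M hM, B_clR hdim hB hN hM, hs2 _ (cl_mem hM)]

omit [IsProper (X ↘ Spec (CommRingCat.of k))] [Smooth (X ↘ Spec (CommRingCat.of k))] [IsIntegral X]
  [Module.Finite ℝ (NumR.N1R k X)] in
theorem B_sum_apply (t : Multiset (NumR.Curve X)) (y : NumR.N1R k X) :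
    B (t.map (cc k)).sum y = (t.map fun C => B (cc k C) y).sum := by
  induction t using Multiset.induction_on with
  | empty => simp
  | cons C t ih => rw [B_sum_cons, ih, Multiset.map_cons, Multiset.sum_cons]

include hdim hB hH in
/-- Ampleness from positivity of the square and on curves. -/
theorem mem_ampleCone_of_pos {x : NumR.N1R k X} (hx : 0 < B x x) (hC : ∀ C : NumR.Curve X, 0 < B x (cc k C)) :
    x ∈ (NumR.ampleCone k X : Set (NumR.N1R k X)) := by
  classical
  obtain ⟨h, hh⟩ : ∃ h, h = NumR.clR k X H hH.1 := ⟨_, rfl⟩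
  have hxh : 0 < B x h := by
    rw [hh]
    exact lt_of_le_of_ne (nef_nonneg hdim hB hH fun C => (hC C).le).2 ((isHodge hdim hB hH).ne_zero_of_pos hx).symm
  obtain ⟨n, L, hL, b, hb⟩ := exists_basis_clR (k := k) (X := X)
  obtain ⟨ε, hε, hball⟩ := ampleCone_ball hdim hL b hb (clR_mem_ampleCone (k := k) hH.1 hH)
  rw [← hh] at hball
  obtain ⟨M, hM⟩ := exists_nat_gt (1 / ε)
  have hM0 : (0 : ℝ) < M := lt_trans (by positivity) hM
  have hlim : Tendsto (fun N : ℕ => (∑ i, ((⌊(N : ℝ) * b.equivFun x i⌋ : ℝ) / N) • b i) - ((2 * (M : ℝ)) / N) • h)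
      atTop (𝓝 x) := by
    have h1 : Tendsto (fun N : ℕ => ∑ i, ((⌊(N : ℝ) * b.equivFun x i⌋ : ℝ) / N) • b i) atTop (𝓝 x) := by
      conv => enter [3]; rw [← b.sum_equivFun x]
      exact tendsto_finsetSum _ fun i _ =>
        (tendsto_pi_nhds.1 (NumForm.tendsto_floor (b.equivFun x)) i).smul_const (b i)
    have h2 := (tendsto_const_div_atTop_nhds_zero_nat (2 * (M : ℝ))).smul_const h
    haveI : ContinuousNeg (NumR.N1R k X) := IsModuleTopology.continuousNeg ℝ _
    haveI : IsTopologicalAddGroup (NumR.N1R k X) := ⟨⟩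
    have h3 := h1.sub h2
    simpa using h3
  have hev := hlim.eventually ((isOpen_posCone hdim hB hH).mem_nhds (⟨hx, hh ▸ hxh⟩ : x ∈ NumR.posCone k X B H hH.1))
  obtain ⟨N, hNpos, hNC⟩ := ((eventually_gt_atTop 0).and hev).exists
  have hN0 : (0 : ℝ) < N := by exact_mod_cast hNpos
  obtain ⟨c, hc⟩ : ∃ c : Fin n → ℝ, c = fun i => Int.fract ((N : ℝ) * b.equivFun x i) := ⟨_, rfl⟩
  obtain ⟨v, hv⟩ : ∃ v, v = ∑ i, c i • b i := ⟨_, rfl⟩
  obtain ⟨P, hP, hPc⟩ := exists_clR_sum (k := k) Finset.univ (fun i => ⌊(N : ℝ) * b.equivFun x i⌋) L hL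
  obtain ⟨Q, hQ, hQc⟩ := exists_clR_eq (k := k) (X := X) (NumR.cl k X P hP - (2 * M) • NumR.cl k X H hH.1)
  have hQc' : NumR.clR k X Q hQ = NumR.clR k X P hP - (2 * (M : ℝ)) • h := by
    rw [← hQc, map_sub, map_nsmul, ← Nat.cast_ofNat (R := ℝ), ← Nat.cast_mul, Nat.cast_smul_eq_nsmul, hh]; rfl
  have hPc' : NumR.clR k X P hP + v = (N : ℝ) • x := by
    rw [hPc, hv, ← Finset.sum_add_distrib]
    conv_rhs => rw [← b.sum_equivFun x, Finset.smul_sum]
    refine Finset.sum_congr rfl fun i _ => ?_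
    rw [← hb, hc, ← add_smul, Int.floor_add_fract, smul_smul]
  have hscale : (∑ i, ((⌊(N : ℝ) * b.equivFun x i⌋ : ℝ) / N) • b i) - ((2 * (M : ℝ)) / N) • h =
      (1 / (N : ℝ)) • NumR.clR k X Q hQ := by
    rw [hQc', hPc, smul_sub, Finset.smul_sum, smul_smul, one_div_mul_eq_div]
    congr 1
    exact Finset.sum_congr rfl fun i _ => by rw [hb, smul_smul, one_div_mul_eq_div]
  rw [hscale] at hNC
  have hsq : 0 < form k (cl hQ) (cl hQ) := by
    have h1 := hNC.1
    simp only [map_smul, LinearMap.smul_apply, smul_eq_mul, B_clR hdim hB] at h1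
    exact_mod_cast pos_of_mul_pos_right (pos_of_mul_pos_right h1 (by positivity)) (by positivity)
  have hQH : 0 < form k (cl hQ) (cl hH.1) := by
    have h1 := hNC.2
    simp only [map_smul, LinearMap.smul_apply, smul_eq_mul, B_clR hdim hB] at h1
    exact_mod_cast pos_of_mul_pos_right h1 (by positivity)
  obtain ⟨m, hm, hs⟩ := exists_section_of_pos k hdim hH hQ hsq hQH
  haveI : Nontrivial (Coh.HH X (CohB1.tensorPow Q m) 0) :=
    Module.nontrivial_of_finrank_pos (R := k) (Nat.pos_of_ne_zero hs)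
  obtain ⟨s, hsum⟩ := clR_eq_sum_curves hdim hB (AmpleLib.isInvertible_tensorPow hQ m) this
  rw [clR_tensorPow hQ m] at hsum
  have hbound : ∃ δ : ℝ, 0 < δ ∧ δ ≤ (M : ℝ) / N ∧ ∀ C ∈ s.toFinset, δ * B h (cc k C) ≤ B x (cc k C) := by
    induction s.toFinset using Finset.induction_on with
    | empty => exact ⟨(M : ℝ) / N, by positivity, le_rfl, fun C hC' => absurd hC' (Finset.notMem_empty C)⟩
    | insert C t _ ih =>
      obtain ⟨δ, hδ, hδM, hδC⟩ := ih
      have hhC : 0 < B h (cc k C) := by rw [hh]; exact pos_curve hdim hB hH C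
      refine ⟨min δ (B x (cc k C) / B h (cc k C)), lt_min hδ (div_pos (hC C) hhC), (min_le_left _ _).trans hδM,
        fun D hD => ?_⟩
      rcases Finset.mem_insert.1 hD with rfl | hD
      · exact (mul_le_mul_of_nonneg_right (min_le_right _ _) hhC.le).trans (div_mul_cancel₀ _ hhC.ne').le
      · have hhD : 0 < B h (cc k D) := by rw [hh]; exact pos_curve hdim hB hH D
        exact (mul_le_mul_of_nonneg_right (min_le_left _ _) hhD.le).trans (hδC D hD)
  obtain ⟨δ, hδ, hδM, hδC⟩ := hbound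
  refine (mem_ampleCone_iff hdim hB hH).2 ⟨δ, hδ, fun C => ?_⟩
  rw [← hh]
  by_cases hCs : C ∈ s.toFinset
  · exact hδC C hCs
  have hQC : 0 ≤ B (NumR.clR k X Q hQ) (cc k C) := by
    have h1 : 0 ≤ B ((m : ℝ) • NumR.clR k X Q hQ) (cc k C) := by
      rw [hsum, B_sum_apply]
      refine Multiset.sum_nonneg fun z hz => ?_
      obtain ⟨D, hD, rfl⟩ := Multiset.mem_map.1 hz
      rw [B_curve_curve hdim hB]
      exact_mod_cast form_curves_nonneg k hdim D.2.1 D.2.2.1 D.2.2.2 C.2.1 C.2.2.1 C.2.2.2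
        (fun heq => hCs (Multiset.mem_toFinset.2 (Subtype.ext heq ▸ hD)))
    rw [map_smul, LinearMap.smul_apply, smul_eq_mul] at h1
    exact nonneg_of_mul_nonneg_right h1 (by exact_mod_cast hm)
  have hpos := (ampleCone_pos hdim hB hH (hball ((1 / (M : ℝ)) • v) ?_)).2 C
  swap
  · rw [map_smul, hv, Module.Basis.equivFun_apply, b.repr_sum_self, norm_smul, Real.norm_eq_abs,
      abs_of_pos (by positivity)]
    have hcn : ‖c‖ ≤ 1 := (pi_norm_le_iff_of_nonneg zero_le_one).2 fun i => by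
      rw [hc, Real.norm_eq_abs, abs_of_nonneg (Int.fract_nonneg _)]; exact (Int.fract_lt_one _).le
    calc 1 / (M : ℝ) * ‖c‖ ≤ 1 / (M : ℝ) * 1 := mul_le_mul_of_nonneg_left hcn (by positivity)
      _ < ε := by rw [mul_one, div_lt_iff₀ hM0]; rw [div_lt_iff₀ hε] at hM; linarith
  have hhC : 0 < B h (cc k C) := by rw [hh]; exact pos_curve hdim hB hH C
  rw [hQc', show NumR.clR k X P hP = (N : ℝ) • x - v from eq_sub_of_add_eq hPc'] at hQC
  simp only [map_add, map_sub, map_smul, LinearMap.add_apply, LinearMap.sub_apply, LinearMap.smul_apply,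
    smul_eq_mul] at hQC hpos
  have hvb : -((M : ℝ) * B h (cc k C)) < B v (cc k C) := by
    have e := mul_pos hM0 hpos
    rw [show (M : ℝ) * (B h (cc k C) + 1 / (M : ℝ) * B v (cc k C)) =
      (M : ℝ) * B h (cc k C) + B v (cc k C) by field_simp] at e
    linarith
  rw [le_div_iff₀ hN0] at hδM
  have h1 := mul_le_mul_of_nonneg_right hδM hhC.le
  have h2 : (N : ℝ) * (δ * B h (cc k C)) ≤ (N : ℝ) * B x (cc k C) := by linarith
  exact le_of_mul_le_mul_left h2 hN0

end Groth.Agent.TwistShriek
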