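import Groth.Agent.TwistShriek.NumBase
import Groth.Agent.NakaiLib.Apps

/-!
# Real divisors and numerical equivalence
-/

set_option autoImplicit false
set_option backward.isDefEq.respectTransparency false
set_option maxHeartbeats 1000000
set_option linter.style.haveILetI false

universe u

open CategoryTheory CategoryTheory.Limits AlgebraicGeometry TopologicalSpace
open Groth.Agent.PullbackMod Groth.Agent.DCohLib Groth.Agent.Nakai
open Groth.Agent.IntLib (PicRing pairing dif inv')

noncomputable section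

namespace Groth.Agent.TwistShriek

/-- Real solutions of integral linear equations are combinations of integral solutions. -/
theorem exists_int_kernel {ι κ : Type*} (s : Finset ι) (a : κ → ι → ℤ) (v : ι → ℝ)
    (h : ∀ c, ∑ i ∈ s, v i * (a c i : ℝ) = 0) :
    ∃ (n : ℕ) (r : Fin n → ℝ) (w : Fin n → ι → ℤ),
      (∀ j c, ∑ i ∈ s, w j i * a c i = 0) ∧ ∀ i ∈ s, v i = ∑ j, r j * (w j i : ℝ) := by
  classical
  let b := Module.Basis.ofVectorSpace ℚ ℝ
  obtain ⟨T, hT⟩ : ∃ T, T = s.biUnion fun i => (b.repr (v i)).support := ⟨_, rfl⟩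
  obtain ⟨q, hq⟩ : ∃ q : ℕ → ι → ℚ, q = fun j i =>
      if hj : j < T.card then b.repr (v i) (T.equivFin.symm ⟨j, hj⟩).1 else 0 := ⟨_, rfl⟩
  obtain ⟨d, hd⟩ : ∃ d : ℕ → ℕ, d = fun j => ∏ i ∈ s, (q j i).den := ⟨_, rfl⟩
  have hd0 : ∀ j, (d j : ℚ) ≠ 0 := fun j => by
    rw [hd]; exact Nat.cast_ne_zero.2 (Finset.prod_ne_zero_iff.2 fun i _ => (q j i).den_ne_zero)
  obtain ⟨w, hw⟩ : ∃ w : Fin T.card → ι → ℤ, w = fun (j : Fin T.card) i => (q (j : ℕ) i).num * ((d (j : ℕ) / (q (j : ℕ) i).den : ℕ) : ℤ) := ⟨_, rfl⟩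
  have hwq : ∀ (j : Fin T.card), ∀ i ∈ s, (w j i : ℚ) = d j * q j i := fun j i hi => by
    have hdvd : (q j i).den ∣ d j := by rw [hd]; exact Finset.dvd_prod_of_mem _ hi
    rw [hw]
    push_cast [hdvd]
    have e := Rat.num_div_den (q j i)
    field_simp at e ⊢
    rw [e]
  refine ⟨T.card, fun j => b (T.equivFin.symm j).1 / (d j : ℝ), w, fun j c => ?_, fun i hi => ?_⟩
  · have h1 : ∑ i ∈ s, ((a c i : ℚ) • v i) = 0 := by
      rw [← h c]
      exact Finset.sum_congr rfl fun i _ => by rw [Rat.smul_def, mul_comm]; norm_num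
    have h2 := congrArg (fun z => b.repr z (T.equivFin.symm j).1) h1
    simp only [map_sum, map_smul, Finsupp.coe_finsetSum, Finset.sum_apply, Finsupp.coe_smul, Pi.smul_apply,
      smul_eq_mul, map_zero, Finsupp.coe_zero, Pi.zero_apply] at h2
    have h3 : ((∑ i ∈ s, w j i * a c i : ℤ) : ℚ) = 0 := by
      push_cast
      rw [Finset.sum_congr rfl fun i hi => by rw [hwq j i hi, mul_assoc, mul_comm (q j i)], ← Finset.mul_sum]
      refine mul_eq_zero_of_right _ ?_
      rw [← h2]
      exact Finset.sum_congr rfl fun i _ => by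
        rw [hq]; simp only [dif_pos j.2, Fin.eta]
    exact_mod_cast h3
  · have hv : v i = ∑ j : Fin T.card, ((b.repr (v i) (T.equivFin.symm j).1 : ℚ) : ℝ) * b (T.equivFin.symm j).1 := by
      rw [T.equivFin.symm.sum_comp (fun x => ((b.repr (v i) x.1 : ℚ) : ℝ) * b x.1),
        Finset.univ_eq_attach, T.sum_attach (fun x => ((b.repr (v i) x : ℚ) : ℝ) * b x)]
      conv_lhs => rw [← b.linearCombination_repr (v i), Finsupp.linearCombination_apply]
      rw [Finsupp.sum_of_support_subset _ (s := T) (by rw [hT]; exact Finset.subset_biUnion_of_mem (fun i => (b.repr (v i)).support) hi) _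
        (fun x _ => by simp)]
      exact Finset.sum_congr rfl fun x _ => Rat.smul_def _ _
    rw [hv]
    refine Finset.sum_congr rfl fun j _ => ?_
    have e : ((w j i : ℚ) : ℝ) = ((d j * q j i : ℚ) : ℝ) := by rw [hwq j i hi]
    push_cast at e
    have hdR : (d j : ℝ) ≠ 0 := by exact_mod_cast hd0 j
    rw [e, hq]
    simp only [dif_pos j.2, Fin.eta]
    field_simp

variable {k : Type u} [Field k] {X : Scheme.{u}} [X.Over (Spec (CommRingCat.of k))]
  [IsProper (X ↘ Spec (CommRingCat.of k))] [Smooth (X ↘ Spec (CommRingCat.of k))] [IsIntegral X] [PicGrp.Law X]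
  {B : NumR.N1R k X →ₗ[ℝ] NumR.N1R k X →ₗ[ℝ] ℝ} (hdim : topologicalKrullDim X = 2) (hB : NumR.IsIntForm₂ k X B)

omit [IsProper (X ↘ Spec (CommRingCat.of k))] [Smooth (X ↘ Spec (CommRingCat.of k))] [IsIntegral X] in
theorem divClR_single (C : NumR.Curve X) (r : ℝ) :
    NumR.divClR k X (Finsupp.single C r) = r • NumR.curveCl k X C.1 C.2.2.2 :=
  Finsupp.linearCombination_single _ _ _

include hdim hB in
/-- Adding a positive multiple of a numerically trivial divisor keeps a real divisor ample. -/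
theorem isAmpleRDiv_add_pos {D : NumR.CDivR X} (hD : NumR.IsAmpleRDiv X D) {W : NumR.CDiv X}
    (hW : ∀ C : NumR.Curve X, B (NumR.divClR k X (NumR.CDiv.toR X W)) (NumR.curveCl k X C.1 C.2.2.2) = 0)
    {r : ℝ} (hr : 0 < r) : NumR.IsAmpleRDiv X (D + r • NumR.CDiv.toR X W) := by
  haveI := EulerIneqLib.isNoetherian_proper (X := X) k
  classical
  obtain ⟨n, E, t, hn, ht, hE, rfl⟩ := hD
  obtain ⟨i₀, hi₀⟩ : ∃ i : Fin n, i = ⟨0, hn⟩ := ⟨_, rfl⟩
  obtain ⟨m, hm⟩ := exists_nat_gt (r / t i₀)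
  have hm0 : (0 : ℝ) < m := lt_of_le_of_lt (div_nonneg hr.le (ht i₀).le) hm
  obtain ⟨A, hA, hAa, hAc⟩ := hE i₀
  obtain ⟨L, hL, hLc⟩ : ∃ (L : X.Modules) (hL : PicF.IsInvertible L),
      Additive.ofMul (PicGrp.cls L hL) = NumR.divCl X W := by
    obtain ⟨L, hL, h⟩ := PicGrp.exists_eq_cls (Additive.toMul (NumR.divCl X W))
    exact ⟨L, hL, by rw [← h]; rfl⟩
  have hnef : NefP k hL := nefP_of_quotMod k hL fun C hC hCd => by
    have hI := invertible_curve k hdim C hC hCd
    have h := hW ⟨C, hC, hCd, hI⟩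
    rw [NumR.divClR_toR, ← hLc] at h
    have h' : (pairing k (ClSub.quotMod C) (cl hL) : ℝ) = 0 := (B_curveCl hdim hB hI hL).symm.trans h
    rw [← pairing_cl k _ hL]
    exact le_of_eq (by exact_mod_cast h'.symm)
  have hP := AmpleLib.isInvertible_tensorPow hL m
  have hM := AmpleLib.isInvertible_tensor hP hA
  have hMa : CohB1.IsAmple (CohB1.tensorMod (CohB1.tensorPow L m) A) := by
    refine isAmple_of_cl k hL hAa hnef hM (a := m) (b := 1) Nat.one_pos ?_
    rw [show cl hM = cl (AmpleLib.isInvertible_tensor hP hA) from rfl, cl_tensor hP hA, Nat.cast_one, one_mul,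
      show cl hP + cl hA + cl hP * cl hA - ((m : PicRing X) * cl hL + cl hA) =
        (cl hP - (m : PicRing X) * cl hL) + cl hP * cl hA by ring]
    refine Ideal.add_mem _ (cl_tensorPow_sub_mem hL m) ?_
    rw [pow_two]; exact Ideal.mul_mem_mul (cl_mem _) (cl_mem _)
  have hMc : Additive.ofMul (PicGrp.cls _ hM) = NumR.divCl X (m • W + E i₀) := by
    rw [map_add, map_nsmul, ← hLc, ← hAc, ← ofMul_pow, ← ofMul_mul]
    congr 1
    refine Subtype.ext ?_
    rw [show PicGrp.cls L hL ^ m = PicGrp.cls _ hP from Subtype.ext (PicGrp.cls_pow_val hL m),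
      PicGrp.cls_mul_cls_val hP hA]
    rfl
  refine ⟨n + 1, Fin.cons (m • W + E i₀) E, Fin.cons (r / m) (Function.update t i₀ (t i₀ - r / m)),
    n.succ_pos, fun i => ?_, fun i => ?_, ?_⟩
  · refine Fin.cases ?_ (fun j => ?_) i
    · rw [Fin.cons_zero]; exact div_pos hr hm0
    · rw [Fin.cons_succ]
      rcases eq_or_ne j i₀ with h | h
      · rw [h, Function.update_self, sub_pos, div_lt_iff₀ hm0]
        rw [div_lt_iff₀ (ht i₀)] at hm
        linarith
      · rw [Function.update_of_ne h]; exact ht j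
  · refine Fin.cases ?_ (fun j => ?_) i
    · exact ⟨_, hM, hMa, hMc⟩
    · exact hE j
  · rw [Fin.sum_univ_succ, Fin.cons_zero, Fin.cons_zero]
    simp only [Fin.cons_succ]
    have e : ∑ j, Function.update t i₀ (t i₀ - r / m) j • NumR.CDiv.toR X (E j) =
        ∑ j, t j • NumR.CDiv.toR X (E j) + (-(r / m)) • NumR.CDiv.toR X (E i₀) := by
      rw [show ((-(r / m)) • NumR.CDiv.toR X (E i₀)) =
          ∑ j, (if j = i₀ then (-(r / m)) else 0) • NumR.CDiv.toR X (E j) by simp,
        ← Finset.sum_add_distrib]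
      refine Finset.sum_congr rfl fun j _ => ?_
      rw [← add_smul]
      congr 1
      by_cases h : j = i₀
      · rw [h, Function.update_self, if_pos rfl, sub_eq_add_neg]
      · rw [Function.update_of_ne h, if_neg h, add_zero]
    rw [e, map_add, map_nsmul, ← Nat.cast_smul_eq_nsmul ℝ, smul_add, smul_smul, div_mul_cancel₀ _ hm0.ne']
    module

include hdim hB in
theorem isAmpleRDiv_add {D : NumR.CDivR X} (hD : NumR.IsAmpleRDiv X D) {W : NumR.CDiv X}
    (hW : ∀ C : NumR.Curve X, B (NumR.divClR k X (NumR.CDiv.toR X W)) (NumR.curveCl k X C.1 C.2.2.2) = 0)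
    (r : ℝ) : NumR.IsAmpleRDiv X (D + r • NumR.CDiv.toR X W) := by
  rcases lt_trichotomy 0 r with h | h | h
  · exact isAmpleRDiv_add_pos hdim hB hD hW h
  · rw [← h, zero_smul, add_zero]; exact hD
  · have := isAmpleRDiv_add_pos hdim hB hD (W := -W) (fun C => by
      rw [map_neg, map_neg, map_neg, LinearMap.neg_apply, hW C, neg_zero]) (neg_pos.2 h)
    rwa [map_neg, neg_smul_neg] at this

include hdim hB in
/-- Ampleness of real divisors only depends on the numerical class. -/
theorem isAmpleRDiv_of_numTrivial {D D' : NumR.CDivR X} (hD : NumR.IsAmpleRDiv X D)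
    (h : NumR.IsNumTrivialRDiv k X B (D' - D)) : NumR.IsAmpleRDiv X D' := by
  classical
  obtain ⟨K, hK⟩ : ∃ K, K = D' - D := ⟨_, rfl⟩
  rw [← hK] at h
  have hsingle : ∀ (C : NumR.Curve X) (n : ℤ), NumR.divClR k X (NumR.CDiv.toR X (Finsupp.single C n)) =
      (n : ℝ) • NumR.curveCl k X C.1 C.2.2.2 := fun C n => by
    rw [show NumR.CDiv.toR X (Finsupp.single C n) = Finsupp.single C (n : ℝ) by simp [NumR.CDiv.toR], divClR_single]
  have hKsum : K = ∑ C ∈ K.support, Finsupp.single C (K C) := (Finsupp.sum_single K).symm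
  obtain ⟨m, r, w, hw, hv⟩ := exists_int_kernel K.support
    (fun (C E : NumR.Curve X) => form k (cl E.2.2.2) (cl C.2.2.2)) (fun E => K E) fun C => by
      have h1 := h (Finsupp.single C 1)
      rw [hsingle, Int.cast_one, one_smul, hKsum, map_sum, map_sum, LinearMap.sum_apply] at h1
      simpa only [divClR_single, map_smul, LinearMap.smul_apply, smul_eq_mul, B_curve_curve hdim hB] using h1
  obtain ⟨W, hW⟩ : ∃ W : Fin m → NumR.CDiv X, W = fun j => ∑ E ∈ K.support, Finsupp.single E (w j E) := ⟨_, rfl⟩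
  have hWC : ∀ j (C : NumR.Curve X), B (NumR.divClR k X (NumR.CDiv.toR X (W j))) (NumR.curveCl k X C.1 C.2.2.2) = 0 :=
    fun j C => by
      rw [hW]
      simp only [map_sum, hsingle, LinearMap.sum_apply, map_smul, LinearMap.smul_apply, smul_eq_mul,
        B_curve_curve hdim hB]
      exact_mod_cast hw j C
  have hK' : K = ∑ j, r j • NumR.CDiv.toR X (W j) := by
    rw [hW]
    simp only [map_sum, Finset.smul_sum, NumR.CDiv.toR, Finsupp.mapRange.addMonoidHom_apply, Finsupp.mapRange_single,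
      Finsupp.smul_single, smul_eq_mul, Int.coe_castAddHom]
    rw [Finset.sum_comm]
    conv_lhs => rw [hKsum]
    refine Finset.sum_congr rfl fun E hE => ?_
    rw [← Finsupp.single_finsetSum, hv E hE]
  have hD' : D' = D + ∑ j, r j • NumR.CDiv.toR X (W j) := by rw [← hK', hK, add_sub_cancel]
  rw [hD']
  induction (Finset.univ : Finset (Fin m)) using Finset.induction_on with
  | empty => rwa [Finset.sum_empty, add_zero]
  | insert j s hj ih =>
    rw [Finset.sum_insert hj, add_left_comm, add_comm]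
    exact isAmpleRDiv_add hdim hB ih (hWC j) (r j)

end Groth.Agent.TwistShriek
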