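import Groth.Agent.TwistShriek.FlatBCLocal
import Groth.Agent.TwistShriek.PerfRpush
import Groth.Agent.TwistShriek.SuppBdd
import Groth.Agent.PerfMorLib.Scheme
import Groth.Agent.DQCohBrown.RightAdjoint

/-!
# The hypotheses of flat base change for bounded below objects and for perfect morphisms
-/

set_option autoImplicit false
set_option linter.style.haveILetI false
set_option linter.unusedSectionVars false
set_option backward.isDefEq.respectTransparency false
set_option maxHeartbeats 1000000

universe u

open CategoryTheory CategoryTheory.Limits AlgebraicGeometry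
open Groth.Agent.DCohLib Groth.Agent.DCohMore

attribute [local instance] HasDerivedCategory.standard

noncomputable section

namespace Groth.Agent.TwistShriek

variable {X Y : Scheme.{u}} [IsNoetherian Y] (f : X ⟶ Y) [IsProper f] [DCoh.HasRpush f]
  (hf : DCoh.RpushPreservesQCoh f) (a : DCoh.DQCoh Y ⥤ DCoh.DQCoh X) (adj : DCoh.RpushQ f hf ⊣ a)

include adj in
theorem suppHyp_bounded (K : DCoh.DQCoh Y) (c : ℤ) (hc : K.obj.IsGE c) : SuppHyp f a K := by
  intro V hV C hC h
  haveI : CompactSpace X := QuasiCompact.compactSpace_of_compactSpace f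
  haveI : QuasiSeparatedSpace X := quasiSeparatedSpace_of_quasiSeparated f
  haveI := hC c hc
  exact isZero_rightAdjoint_of_bounded f hf a adj (fun E hE => pc_rpush_of_proper f E hE) V hV C (c - 1) h

include adj in
theorem suppHyp_perfectMor (hperf : MoreMor.IsPerfectMor f) (K : DCoh.DQCoh Y) : SuppHyp f a K := by
  intro V hV C _ h
  haveI : CompactSpace X := QuasiCompact.compactSpace_of_compactSpace f
  haveI : QuasiSeparatedSpace X := quasiSeparatedSpace_of_quasiSeparated f
  haveI : IsLocallyNoetherian X := LocallyOfFiniteType.isLocallyNoetherian f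
  haveI : IsNoetherian X := {}
  exact isZero_rightAdjoint_of_isCompact f hf a adj (fun κ => DQCohBrown.preservesCoproducts_rightAdjoint f hf a adj
    (fun E hE => isPerfect_rpush_perfectMor f hperf E hE) κ) V hV C h

theorem isNoetherian_of_affine_open {V : Scheme.{u}} [IsAffine V] (i : V ⟶ Y) [IsOpenImmersion i] : IsNoetherian V :=
  haveI := isLocallyNoetherian_of_isOpenImmersion i
  {}

theorem affHyp_bounded (K : DCoh.DQCoh Y) (c : ℤ) (hc : K.obj.IsGE c) : AffHyp f K := by
  intro V V' XV i i' fV g₂ _ _ _ _ hsq _ _ _ E hE
  haveI : IsProper fV := MorphismProperty.of_isPullback (P := @IsProper) hsq inferInstance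
  haveI := isNoetherian_of_affine_open i
  haveI : CompactSpace XV := QuasiCompact.compactSpace_of_compactSpace fV
  haveI : QuasiSeparatedSpace XV := quasiSeparatedSpace_of_quasiSeparated fV
  haveI := hc
  haveI := isGE_lpull_flat i c K.obj
  letI := algTop g₂
  haveI := flat_top g₂
  exact homBC_pc g₂ _ _ _ (isPushout_top g₂) (rpushQC fV E (DCohMore.isQCohD_of_isPerfect hE))
    (fun m => pc_rpush_of_proper fV E hE m) c _ (TildeD.isQCohD_lpull i K.obj K.property)

theorem affHyp_perfectMor (hperf : MoreMor.IsPerfectMor f) (K : DCoh.DQCoh Y) : AffHyp f K := by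
  intro V V' XV i i' fV g₂ _ _ _ _ hsq _ _ _ E hE
  haveI : IsProper fV := MorphismProperty.of_isPullback (P := @IsProper) hsq inferInstance
  haveI := isNoetherian_of_affine_open i
  haveI : CompactSpace XV := QuasiCompact.compactSpace_of_compactSpace fV
  haveI : IsLocallyNoetherian XV := LocallyOfFiniteType.isLocallyNoetherian fV
  haveI : IsNoetherian XV := {}
  have hV : MoreMor.IsPerfectMor fV := PerfMorLib.isPerfectMor_of_flat_baseChange hsq hperf
  letI := algTop g₂
  haveI := flat_top g₂
  exact homBC_affine g₂ _ _ _ (isPushout_top g₂) (isPerfect_rpush_perfectMor fV hV E hE) _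
    (TildeD.isQCohD_lpull i K.obj K.property)

end Groth.Agent.TwistShriek
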