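import Groth.Agent.TwistShriek.DualizingPull
import Mathlib.RingTheory.Spectrum.Prime.RingHom
import Mathlib.AlgebraicGeometry.Morphisms.UniversallyOpen

/-!
# Descent of dualizing complexes along flat surjective morphisms, and the lci case
-/

set_option autoImplicit false
set_option linter.style.haveILetI false
set_option linter.unusedSectionVars false
set_option backward.isDefEq.respectTransparency false
set_option maxHeartbeats 1000000
set_option maxRecDepth 4000

universe u

open CategoryTheory CategoryTheory.Limits AlgebraicGeometry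
open Groth.Agent.DCohLib
open scoped TensorProduct

attribute [local instance] HasDerivedCategory.standard

noncomputable section

namespace Groth.Agent.TwistShriek

open Groth.Agent.DualCxLib Groth.Agent.GorSp Groth.Agent.CMFlatLib

variable {X Y : Scheme.{u}} (f : X ⟶ Y)

theorem flat_of_gorensteinMor (hf : Dual3.IsGorensteinMor f) : Flat f :=
  (Flat.iff_flat_stalkMap f).2 fun x => (hf x).1

theorem locallyOfFiniteType_of_lciMor (hf : Dual3.IsLCIMor f) : LocallyOfFiniteType f := by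
  rw [HasRingHomProperty.iff_exists_appLE (P := @LocallyOfFiniteType)
    (RingHom.finiteType_stableUnderComposition.stableUnderCompositionWithLocalizationAway
      RingHom.finiteType_holdsForLocalizationAway).left]
  intro x
  obtain ⟨U, V, e, hx, h⟩ := hf x
  exact ⟨V, U, hx, e, h.1⟩

theorem gorensteinMor_of_lci [Flat f] [IsLocallyNoetherian X] [IsLocallyNoetherian Y] (hf : Dual3.IsLCIMor f) :
    Dual3.IsGorensteinMor f := fun x => by
  obtain ⟨U, V, e, hx, h⟩ := hf x
  letI := (f.appLE V.1 U.1 e).hom.toAlgebra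
  haveI : Module.Flat Γ(Y, V.1) Γ(X, U.1) := RingHom.flat_algebraMap_iff.mp (f.flat_appLE V.2 U.2 e)
  haveI : IsNoetherianRing Γ(Y, V.1) := IsLocallyNoetherian.component_noetherian (X := Y) V
  haveI : IsNoetherianRing Γ(X, U.1) := IsLocallyNoetherian.component_noetherian (X := X) U
  rw [gorAt_iff_gorFibre]
  refine ⟨Flat.stalkMap f x, ?_⟩
  rw [appLE_stalkMap_iff respectsIso_gorFibre f V.2 U.2 e x hx]
  let q := (U.2.primeIdealOf ⟨x, hx⟩).asIdeal
  let p := (V.2.primeIdealOf ⟨f x, e hx⟩).asIdeal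
  haveI : q.LiesOver p := ⟨congr($(IsAffineOpen.comap_primeIdealOf_appLE V.1 V.2 U.1 U.2 e hx).1).symm⟩
  let Q := PrimeSpectrum.primesOverOrderIsoFiber Γ(Y, V.1) Γ(X, U.1) p ⟨q, ⟨inferInstance, inferInstance⟩⟩
  have hQ : Q.asIdeal.comap Algebra.TensorProduct.includeRight = q := by
    have := PrimeSpectrum.coe_primesOverOrderIsoFiber_symm_apply (R := Γ(Y, V.1)) (S := Γ(X, U.1)) p Q
    rw [OrderIso.symm_apply_apply] at this
    exact this.symm
  haveI := gorenstein_fibre_of_lci Γ(Y, V.1) Γ(X, U.1) h p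
  exact (localRingHom_gorFibre_iff p q Q hQ).2
    (LocCoh.IsGorensteinRing.isGorensteinLocalRing_localization Q.asIdeal)

variable [IsLocallyNoetherian X] [IsLocallyNoetherian Y]
  [∀ (U : Scheme.{u}) (j : U ⟶ X) [IsOpenImmersion j], PreservesFiniteLimits (Scheme.Modules.restrictFunctor j)]
  [∀ (U : Scheme.{u}) (j : U ⟶ Y) [IsOpenImmersion j], PreservesFiniteLimits (Scheme.Modules.restrictFunctor j)]
  [∀ (R : CommRingCat.{u}), PreservesFiniteLimits (tilde.functor R)]

/-- A quasi-coherent complex whose pullback along a flat surjective morphism of finite type is dualizing is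
dualizing. -/
theorem isDualizingSch_of_lpull [Flat f] [Surjective f] [LocallyOfFiniteType f] [DCoh.HasLpull f]
    (K : DCoh.D Y) (hKq : DCoh.IsQCohD K) (hX : Dual2.IsDualizingSch X ((DCoh.Lpull f).obj K)) :
    Dual2.IsDualizingSch Y K := by
  haveI : LocallyOfFinitePresentation f := inferInstance
  have h : ∀ y : Y, ∃ (W : Y.Opens) (U : X.Opens) (_ : IsAffineOpen W) (_ : IsAffineOpen U) (_ : U ≤ f ⁻¹ᵁ W),
      y ∈ W ∧ ∀ z ∈ W, ∃ x ∈ U, f x = z := fun y => by
    obtain ⟨x, rfl⟩ := f.surjective y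
    obtain ⟨V, hV, hyV, -⟩ := exists_isAffineOpen_mem_and_subset (X := Y) (x := f x) (U := ⊤) trivial
    obtain ⟨U, hU, hxU, hUV⟩ := exists_isAffineOpen_mem_and_subset (X := X) (x := x) (U := f ⁻¹ᵁ V) hyV
    let O : Y.Opens := ⟨f '' (U : Set X), f.isOpenMap _ U.2⟩
    obtain ⟨g, hg, hxg⟩ := hV.exists_basicOpen_le (V := O) ⟨f x, x, hxU, rfl⟩ hyV
    refine ⟨Y.basicOpen g, X.basicOpen (f.appLE V U hUV g), hV.basicOpen g, hU.basicOpen _, ?_, hxg,
      fun z hz => ?_⟩
    · rw [Scheme.basicOpen_appLE]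
      exact inf_le_right
    · obtain ⟨x', hx', rfl⟩ := hg hz
      exact ⟨x', by rw [Scheme.basicOpen_appLE]; exact ⟨hx', hz⟩, rfl⟩
  choose W U hW hU hUW hy hsurj using h
  let v : ∀ y, Spec (CommRingCat.of Γ(Y, W y)) ⟶ Y := fun y => (hW y).fromSpec
  haveI : ∀ y, IsOpenImmersion (v y) := fun y => inferInstanceAs (IsOpenImmersion (hW y).fromSpec)
  refine isDualizingSch_of_cover K (fun y => Γ(Y, W y)) v
    (fun y => ⟨y, (Set.ext_iff.1 (hW y).range_fromSpec y).2 (hy y)⟩) fun y => ?_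
  let A := Γ(Y, W y)
  let B := Γ(X, U y)
  let j : Spec (CommRingCat.of B) ⟶ X := (hU y).fromSpec
  haveI : IsOpenImmersion j := inferInstanceAs (IsOpenImmersion (hU y).fromSpec)
  obtain ⟨ω, ⟨e⟩⟩ := ((TildeD.main (CommRingCat.of A)).2.2 _).1 (TildeD.isQCohD_restrict (v y) K hKq)
  letI : Algebra A B := (f.appLE (W y) (U y) (hUW y)).hom.toAlgebra
  haveI : Module.Flat A B := RingHom.flat_algebraMap_iff.mp (f.flat_appLE (hW y) (hU y) (hUW y))
  haveI : IsNoetherianRing A := isNoetherianRing_of_isOpenImmersion (v y)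
  haveI : IsNoetherianRing B := isNoetherianRing_of_isOpenImmersion j
  haveI : DRing.HasLBaseChange (algebraMap A B) := DRingLib.hasLBaseChange _
  have w : j ≫ f = Spec.map (CommRingCat.ofHom (algebraMap A B)) ≫ v y :=
    (IsAffineOpen.SpecMap_appLE_fromSpec f (hW y) (hU y) (hUW y)).symm
  haveI : Module.FaithfullyFlat A B := Module.FaithfullyFlat.of_comap_surjective fun p => by
    obtain ⟨x, hx, hxp⟩ := hsurj y (v y p) ((Set.ext_iff.1 (hW y).range_fromSpec _).1 ⟨p, rfl⟩)
    obtain ⟨q, hq⟩ := (Set.ext_iff.1 (hU y).range_fromSpec x).2 hx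
    refine ⟨q, (v y).isOpenEmbedding.injective ?_⟩
    rw [← hxp, ← hq]
    show (Spec.map (CommRingCat.ofHom (algebraMap A B)) ≫ v y) q = (j ≫ f) q
    rw [w]
  obtain ⟨ω', hω', ⟨e'⟩⟩ := hX B j
  obtain ⟨t⟩ := nonempty_restrictD_lpull_tilde f (algebraMap A B) j (v y) w K ω e.symm
  haveI := (TildeD.main (CommRingCat.of B)).1
  haveI := (TildeD.main (CommRingCat.of B)).2.1
  exact ⟨ω, isDualizing_of_bcD A B
    (isDualizing_of_iso ((DCoh.tildeD (CommRingCat.of B)).preimageIso (e'.symm ≪≫ t)) hω'), ⟨e.symm⟩⟩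

end Groth.Agent.TwistShriek
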