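import Groth.Agent.TwistShriek.CartierSES
import Groth.Agent.RDPlus.Basic
import Groth.Agent.DCohLib.PCTop

/-!
# The derived functor of sections killed by an effective Cartier ideal
-/

set_option autoImplicit false
set_option linter.style.haveILetI false
set_option linter.unusedSectionVars false
set_option backward.isDefEq.respectTransparency false
set_option maxHeartbeats 800000

universe u

open CategoryTheory CategoryTheory.Limits AlgebraicGeometry
open Groth.Agent.PullbackMod Groth.Agent.DCohLib

attribute [local instance] HasDerivedCategory.standard preservesBinaryBiproducts_of_preservesBinaryProducts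

noncomputable section

namespace Groth.Agent.TwistShriek

variable {X : Scheme.{u}} (I : X.IdealSheafData) {L : X.Modules}
  (e : CohB1.tensorMod L (ClSub.idealMod I) ≅ Coh.structureModule X) (hI : BlowUp.IsEffCartierIdeal I)

include hI in
theorem map_pullback_cartMul (M : X.Modules) :
    (Scheme.Modules.pullback I.subschemeι).map ((cartMul I e).app M) = 0 := by
  let A := Scheme.Modules.pullbackPushforwardAdjunction I.subschemeι
  refine (A.homEquiv _ _).injective ?_
  rw [A.homEquiv_unit, A.homEquiv_unit, Functor.map_zero, comp_zero]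
  refine (A.unit.naturality ((cartMul I e).app M)).symm.trans ?_
  refine (eq_zero_iff_stalk _).2 fun x => LinearMap.ext fun m => ?_
  obtain ⟨U, hx, f, hf, hU⟩ := hI x
  obtain ⟨φ, hφ⟩ := exists_stalk_cartMul I e U hf hU x hx M
  rw [stalkLin_comp, LinearMap.comp_apply, LinearMap.zero_apply]
  have h : stalkLin ((cartMul I e).app M) x m = X.presheaf.germ U.1 x hx f • φ.symm m :=
    φ.injective ((hφ m).trans (by rw [map_smul, LinearEquiv.apply_symm_apply]))
  refine (congrArg _ h).trans ((map_smul _ _ _).trans ?_)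
  have hT := suppOn_pushforward I.subschemeι
    ((Scheme.Modules.pullback I.subschemeι).obj ((CurveLib.tensR L).obj M))
  by_cases hy : x ∈ Set.range I.subschemeι
  · obtain ⟨z, rfl⟩ := hy
    exact hT.smul_eq_zero z _ ((stalkMap_eq_zero_of_equation I U hU z hx _).2 (Ideal.mem_span_singleton_self _)) _
  · exact (hT.subsingleton x hy).elim _ _

include hI in
theorem suppOn_coker_cartMul (M : X.Modules) : SuppOn I.subschemeι (cokernel ((cartMul I e).app M)) := by
  have key : ∀ (U : X.affineOpens) (f : Γ(X, U.1)), f ∈ nonZeroDivisors Γ(X, U.1) → I.ideal U = Ideal.span {f} →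
      ∀ (x : X) (hx : x ∈ U.1) (z : (cokernel ((cartMul I e).app M)).presheaf.stalk x),
        X.presheaf.germ U.1 x hx f • z = 0 := by
    intro U f hf hU x hx z
    obtain ⟨φ, hφ⟩ := exists_stalk_cartMul I e U hf hU x hx M
    obtain ⟨w, rfl⟩ := (epi_iff_stalk (cokernel.π ((cartMul I e).app M))).1 inferInstance x z
    rw [← map_smul]
    have h : stalkLin ((cartMul I e).app M) x (φ w) = X.presheaf.germ U.1 x hx f • w :=
      φ.injective ((hφ _).trans (map_smul φ _ w).symm)
    refine (congrArg _ h).symm.trans ?_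
    have h2 := LinearMap.congr_fun ((eq_zero_iff_stalk _).1 (cokernel.condition ((cartMul I e).app M)) x) (φ w)
    rw [stalkLin_comp, LinearMap.comp_apply, LinearMap.zero_apply] at h2
    exact h2
  refine ⟨fun y hy => ?_, fun x a ha z => ?_⟩
  · obtain ⟨U, hyU, f, hf, hU⟩ := hI y
    have hy' : y ∉ X.zeroLocus (U := U.1) (I.ideal U) := fun h => hy <| by
      rw [Scheme.IdealSheafData.range_subschemeι]
      exact (Scheme.IdealSheafData.mem_support_iff_of_mem hyU).2 h
    rw [hU, Scheme.zeroLocus_span, Scheme.mem_zeroLocus_iff] at hy'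
    push Not at hy'
    obtain ⟨c, hc, hcy⟩ := hy'
    rw [Set.mem_singleton_iff.1 hc] at hcy
    have hu : IsUnit (X.presheaf.germ U.1 y hyU f) := (X.mem_basicOpen f y hyU).1 hcy
    exact subsingleton_of_forall_eq 0 fun w => hu.smul_eq_zero.1 (key U f hf hU y hyU w)
  · obtain ⟨U, hxU, f, hf, hU⟩ := hI (I.subschemeι x)
    obtain ⟨p, rfl⟩ := Ideal.mem_span_singleton'.1 ((stalkMap_eq_zero_of_equation I U hU x hxU a).1 ha)
    rw [mul_smul, key U f hf hU _ hxU z, smul_zero]

include hI in
/-- The cokernel of multiplication by the canonical section. -/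
theorem nonempty_coker_cartMul (M : X.Modules) :
    Nonempty (cokernel ((cartMul I e).app M) ≅ (Scheme.Modules.pushforward I.subschemeι).obj
      ((Scheme.Modules.pullback I.subschemeι).obj ((CurveLib.tensR L).obj M))) := by
  haveI := isIso_unit_of_suppOn I.subschemeι (suppOn_coker_cartMul I e hI M)
  let p := Scheme.Modules.pullback I.subschemeι
  haveI : p.IsLeftAdjoint := (Scheme.Modules.pullbackPushforwardAdjunction I.subschemeι).isLeftAdjoint
  exact ⟨asIso ((Scheme.Modules.pullbackPushforwardAdjunction I.subschemeι).unit.app (cokernel ((cartMul I e).app M))) ≪≫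
    (Scheme.Modules.pushforward I.subschemeι).mapIso
      (PreservesCokernel.iso p ((cartMul I e).app M) ≪≫ cokernelIsoOfEq (map_pullback_cartMul I e hI M) ≪≫
        cokernelZeroIsoTarget)⟩

variable [Dual3.HasHomO I.subschemeι] [EnoughInjectives X.Modules]

/-- Bounded below objects have injective models, computing the derived functor. -/
theorem exists_injective_model {Z : Scheme.{u}} (i : Z ⟶ X) [Dual3.HasHomO i] (K : DerivedCategory.Plus X.Modules) :
    ∃ J : CochainComplex X.Modules ℤ, (∀ n, Injective (J.X n)) ∧ Nonempty (K.obj ≅ DerivedCategory.Q.obj J) ∧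
      Nonempty (((Dual3.RHomOPlus i).obj K).obj ≅
        DerivedCategory.Q.obj (((Dual3.homO i).mapHomologicalComplex (ComplexShape.up ℤ)).obj J)) := by
  obtain ⟨T, ⟨t⟩⟩ : ∃ T, Nonempty ((RDPlus.injQh X.Modules).obj T ≅ K) :=
    ⟨_, ⟨(RDPlus.injQh X.Modules).objObjPreimageIso K⟩⟩
  obtain ⟨(L : CochainComplex.Plus (InjectiveObject X.Modules)), rfl⟩ := HomotopyCategory.Plus.quotient_obj_surjective T
  let J := ((InjectiveObject.ι X.Modules).mapHomologicalComplex (ComplexShape.up ℤ)).obj L.obj
  refine ⟨J, fun n => (L.obj.X n).property, ⟨DerivedCategory.Plus.ι.mapIso t.symm ≪≫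
    (DerivedCategory.quotientCompQhIso X.Modules).app J⟩, ⟨?_⟩⟩
  haveI : IsIso ((Dual3.homO i).rightDerivedFunctorPlusUnit.app
      ((InjectiveObject.ι X.Modules).mapHomotopyCategoryPlus.obj ((HomotopyCategory.Plus.quotient _).obj L))) :=
    inferInstance
  exact DerivedCategory.Plus.ι.mapIso ((Dual3.RHomOPlus i).mapIso t.symm ≪≫
    (asIso ((Dual3.homO i).rightDerivedFunctorPlusUnit.app _)).symm) ≪≫
    (DerivedCategory.quotientCompQhIso Z.Modules).app
      (((Dual3.homO i).mapHomologicalComplex (ComplexShape.up ℤ)).obj J)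

/-- The homology of a complex in degree `n` is that of its image in the derived category. -/
def hdQ {Y : Scheme.{u}} (C : CochainComplex Y.Modules ℤ) (n : ℤ) :
    DCoh.HD (DerivedCategory.Q.obj C) n ≅ C.homology n :=
  (DerivedCategory.homologyFunctorFactors Y.Modules n).app C

include hI e in
/-- Duality for an effective Cartier divisor. -/
theorem RHomO_structureModule_cartier (O : DerivedCategory.Plus X.Modules)
    (hO : Nonempty (O.obj ≅ DCoh.inD X (Coh.structureModule X))) :
    (∀ j : ℤ, j ≠ 1 → IsZero (DCoh.HD ((Dual3.RHomOPlus I.subschemeι).obj O).obj j)) ∧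
    Nonempty (DCoh.HD ((Dual3.RHomOPlus I.subschemeι).obj O).obj 1 ≅
      (Scheme.Modules.pullback I.subschemeι).obj ((CurveLib.tensR L).obj (Coh.structureModule X))) := by
  obtain ⟨J, hJ, ⟨eJ⟩, ⟨eR⟩⟩ := exists_injective_model I.subschemeι O
  obtain ⟨eO⟩ := hO
  let P := Scheme.Modules.pushforward I.subschemeι
  let T := CurveLib.tensR L
  haveI : T.IsEquivalence := VBLib.isEquivalence_tensR e
  haveI : P.PreservesZeroMorphisms := inferInstance
  haveI := (Scheme.Modules.pullbackPushforwardAdjunction I.subschemeι).isRightAdjoint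
  haveI : PreservesFiniteLimits P := by
    haveI : PreservesLimitsOfSize.{0, 0} P :=
      (Scheme.Modules.pullbackPushforwardAdjunction I.subschemeι).rightAdjoint_preservesLimits
    infer_instance
  haveI : PreservesFiniteColimits P := by
    haveI : PreservesColimitsOfSize.{0, 0} P := (Dual3.homOAdj I.subschemeι).leftAdjoint_preservesColimits
    infer_instance
  haveI : P.PreservesHomology := inferInstance
  haveI : P.Additive := Functor.additive_of_preservesBinaryBiproducts _
  haveI : T.Additive := Functor.additive_of_preservesBinaryBiproducts _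
  haveI : (Scheme.Modules.pushforward I.subschemeι).Full := by
    haveI : ∀ M, IsIso ((Scheme.Modules.pullbackPushforwardAdjunction I.subschemeι).counit.app M) :=
      isIso_counit_closedImmersion I.subschemeι
    haveI := NatIso.isIso_of_isIso_app (Scheme.Modules.pullbackPushforwardAdjunction I.subschemeι).counit
    exact (Scheme.Modules.pullbackPushforwardAdjunction I.subschemeι).fullyFaithfulROfIsIsoCounit.full
  haveI : (Scheme.Modules.pushforward I.subschemeι).Faithful := by
    haveI : ∀ M, IsIso ((Scheme.Modules.pullbackPushforwardAdjunction I.subschemeι).counit.app M) :=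
      isIso_counit_closedImmersion I.subschemeι
    haveI := NatIso.isIso_of_isIso_app (Scheme.Modules.pullbackPushforwardAdjunction I.subschemeι).counit
    exact (Scheme.Modules.pullbackPushforwardAdjunction I.subschemeι).fullyFaithfulROfIsIsoCounit.faithful
  let G := ((Dual3.homO I.subschemeι).mapHomologicalComplex (ComplexShape.up ℤ)).obj J
  let ε := (Dual3.homOAdj I.subschemeι).counit
  let σ := cartMul I e
  let f := (NatTrans.mapHomologicalComplex ε (ComplexShape.up ℤ)).app J
  let g := (NatTrans.mapHomologicalComplex σ (ComplexShape.up ℤ)).app J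
  have w : f ≫ g = 0 := HomologicalComplex.hom_ext _ _ fun n => cartMul_counit I e hI (J.X n)
  let S := ShortComplex.mk f g w
  have hS : S.ShortExact := HomologicalComplex.shortExact_of_degreewise_shortExact S fun n => by
    haveI := hJ n
    exact { exact := exact_cartMul I e hI (J.X n)
            mono_f := S3669.mono_counit I.subscheme X I.subschemeι (J.X n)
            epi_g := epi_cartMul_of_injective I e hI (J.X n) }
  let e1 : ∀ n : ℤ, S.X₁.homology n ≅ P.obj (G.homology n) := fun n => (G.sc n).mapHomologyIso P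
  let e2 : ∀ n : ℤ, S.X₂.homology n ≅ J.homology n := fun n => (J.sc n).mapHomologyIso (𝟭 X.Modules)
  let e3 : ∀ n : ℤ, S.X₃.homology n ≅ T.obj (J.homology n) := fun n => (J.sc n).mapHomologyIso T
  let eH : ∀ n : ℤ, J.homology n ≅ DCoh.HD (DCoh.inD X (Coh.structureModule X)) n := fun n =>
    (hdQ J n).symm ≪≫ (DerivedCategory.homologyFunctor X.Modules n).mapIso (eJ.symm ≪≫ eO)
  let eG : ∀ n : ℤ, DCoh.HD ((Dual3.RHomOPlus I.subschemeι).obj O).obj n ≅ G.homology n := fun n =>
    (DerivedCategory.homologyFunctor _ n).mapIso eR ≪≫ hdQ G n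
  have hz2 : ∀ n : ℤ, n ≠ 0 → IsZero (S.X₂.homology n) := fun n hn =>
    (isZero_HD_inD (Coh.structureModule X) hn).of_iso (e2 n ≪≫ eH n)
  have hz3 : ∀ n : ℤ, n ≠ 0 → IsZero (S.X₃.homology n) := fun n hn =>
    (T.map_isZero ((isZero_HD_inD (Coh.structureModule X) hn).of_iso (eH n))).of_iso (e3 n)
  let b : J.homology 0 ≅ Coh.structureModule X :=
    eH 0 ≪≫ (DerivedCategory.singleFunctorCompHomologyFunctorIso X.Modules 0).app _
  -- the middle map in degree zero
  let a2 : S.X₂.homology 0 ≅ Coh.structureModule X := e2 0 ≪≫ b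
  let a3 : S.X₃.homology 0 ≅ T.obj (Coh.structureModule X) := e3 0 ≪≫ T.mapIso b
  have hg : HomologicalComplex.homologyMap S.g 0 ≫ a3.hom = a2.hom ≫ σ.app (Coh.structureModule X) := by
    have h := ShortComplex.homologyMap_mapNatTrans (S := J.sc 0) σ
    have h' : HomologicalComplex.homologyMap S.g 0 = (e2 0).hom ≫ σ.app (J.homology 0) ≫ (e3 0).inv := h
    rw [h']
    simp only [a3, a2, Iso.trans_hom, Category.assoc, Iso.inv_hom_id_assoc, Functor.mapIso_hom]
    exact congrArg _ (σ.naturality b.hom).symm
  refine ⟨fun j hj => ?_, ?_⟩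
  · refine IsZero.of_iso (IsZero.of_full_of_faithful_of_isZero P _ (IsZero.of_iso ?_ (e1 j).symm)) (eG j)
    by_cases h0 : j = 0
    · subst h0
      haveI := mono_cartMul_unit I e hI
      haveI : Mono (HomologicalComplex.homologyMap S.g 0) := by
        have hg' : HomologicalComplex.homologyMap S.g 0 = a2.hom ≫ σ.app (Coh.structureModule X) ≫ a3.inv := by
          rw [← Category.assoc, ← hg, Category.assoc, Iso.hom_inv_id, Category.comp_id]
        rw [hg']
        infer_instance
      haveI : Mono (HomologicalComplex.homologyMap S.f 0) :=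
        (hS.homology_exact₁ (-1) 0 (by simp)).mono_g ((hz3 (-1) (by decide)).eq_of_src _ _)
      refine IsZero.of_mono_eq_zero (HomologicalComplex.homologyMap S.f 0)
        ((cancel_mono (HomologicalComplex.homologyMap S.g 0)).1 ?_)
      rw [zero_comp, ← HomologicalComplex.homologyMap_comp, S.zero, HomologicalComplex.homologyMap_zero]
    · exact (hS.homology_exact₁ (j - 1) j (by simp)).isZero_of_both_zeros
        ((hz3 (j - 1) (by omega)).eq_of_src _ _) ((hz2 j h0).eq_of_tgt _ _)
  · haveI : Epi (hS.δ 0 1 rfl) := hS.epi_δ 0 1 rfl (hz2 1 (by decide))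
    let c₁ : S.X₁.homology 1 ≅ cokernel (HomologicalComplex.homologyMap S.g 0) :=
      ((hS.homology_exact₃ 0 1 rfl).gIsCokernel).coconePointUniqueUpToIso
        (colimit.isColimit (parallelPair (HomologicalComplex.homologyMap S.g 0) 0))
    let c₂ : cokernel (HomologicalComplex.homologyMap S.g 0) ≅ cokernel (σ.app (Coh.structureModule X)) :=
      cokernel.mapIso _ _ a2 a3 hg
    obtain ⟨c₃⟩ := nonempty_coker_cartMul I e hI (Coh.structureModule X)
    exact ⟨eG 1 ≪≫ P.preimageIso ((e1 1).symm ≪≫ c₁ ≪≫ c₂ ≪≫ c₃)⟩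

end Groth.Agent.TwistShriek
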