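import Groth.Agent.TwistShriek.ShriekFlatBC
import Mathlib.AlgebraicGeometry.Morphisms.Etale

/-!
# Upper shriek of an étale morphism is the inverse image
-/

set_option autoImplicit false
set_option linter.style.haveILetI false
set_option linter.unusedSectionVars false
set_option backward.isDefEq.respectTransparency false
set_option maxHeartbeats 1000000

universe u

open CategoryTheory CategoryTheory.Limits AlgebraicGeometry
open Groth.Agent.DCohLib Groth.Agent.DCohMore

attribute [local instance] HasDerivedCategory.standard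

noncomputable section

namespace Groth.Agent.TwistShriek

variable {X Y : Scheme.{u}} {f : X ⟶ Y}

/-- Upper shriek of an étale morphism is the inverse image on objects bounded below. -/
theorem nonempty_shriekC_etale [IsNoetherian Y] [IsNoetherian X] [QuasiSeparated f] [Etale f]
    (c : DEt.Compactification f) [DCoh.HasRpush c.fbar] {hc : DCoh.RpushPreservesQCoh c.fbar}
    {a : DCoh.DQCoh Y ⥤ DCoh.DQCoh c.Xbar} (adj : DCoh.RpushQ c.fbar hc ⊣ a) [DCoh.HasLpull f]
    [PreservesFiniteLimits (Scheme.Modules.restrictFunctor c.j)] :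
    Nonempty (Dual3.bddι Y ⋙ Dual3.shriekC c a ≅ Dual3.bddι Y ⋙ ObjectProperty.ι _ ⋙ DCoh.Lpull f) := by
  let P := Limits.pullback f f
  let q₁ : P ⟶ X := Limits.pullback.fst f f
  let q₂ : P ⟶ X := Limits.pullback.snd f f
  have hsq : IsPullback q₁ q₂ f f := IsPullback.of_hasPullback _ _
  haveI : QuasiCompact f := quasiCompact_of_compactSpace f
  haveI : QuasiCompact q₂ := MorphismProperty.of_isPullback (P := @QuasiCompact) hsq inferInstance
  haveI : CompactSpace P := QuasiCompact.compactSpace_of_compactSpace q₂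
  -- a compactification of the projection
  let Z := Limits.pullback c.fbar f
  let jz : P ⟶ Z := pullback.lift (q₁ ≫ c.j) q₂ (by rw [Category.assoc, c.fac, hsq.w])
  have hz : IsPullback q₁ jz c.j (pullback.fst c.fbar f) :=
    IsPullback.of_bot (by rw [pullback.lift_snd, c.fac]; exact hsq) (pullback.lift_fst _ _ _).symm
      (IsPullback.of_hasPullback _ _)
  haveI : IsOpenImmersion jz := MorphismProperty.of_isPullback (P := @IsOpenImmersion) hz inferInstance
  let c' : DEt.Compactification q₂ :=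
    { Xbar := Z, j := jz, fbar := pullback.snd c.fbar f, isOpenImmersion := inferInstance,
      isProper := MorphismProperty.of_isPullback (P := @IsProper) (IsPullback.of_hasPullback c.fbar f) inferInstance,
      fac := pullback.lift_snd _ _ _ }
  haveI : CompactSpace c'.Xbar := QuasiCompact.compactSpace_of_compactSpace c'.fbar
  haveI : QuasiSeparatedSpace c'.Xbar := quasiSeparatedSpace_of_quasiSeparated c'.fbar
  haveI := BC.hasRpush c'.fbar
  haveI := isLeftAdjoint_rpushQ' c'.fbar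
  let a' := (DCoh.RpushQ c'.fbar (rpushQC c'.fbar)).rightAdjoint
  let adj' : DCoh.RpushQ c'.fbar (rpushQC c'.fbar) ⊣ a' := Adjunction.ofIsLeftAdjoint _
  haveI := hasLpull q₁
  obtain ⟨i₁⟩ := nonempty_shriekC_flatBaseChange hsq c c' adj adj' (lpullQCoh f)
  -- restrict along the diagonal
  let Δ : X ⟶ P := pullback.diagonal f
  haveI : IsOpenImmersion Δ := inferInstanceAs (IsOpenImmersion (pullback.diagonal f))
  have hΔ₁ : Δ ≫ q₁ = 𝟙 X := pullback.diagonal_fst f
  have hΔ₂ : Δ ≫ q₂ = 𝟙 X := pullback.diagonal_snd f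
  haveI := hasLpull Δ; haveI := hasLpull (Δ ≫ q₁); haveI := hasLpull (𝟙 X)
  obtain ⟨l⟩ := nonempty_lpullCompIso Δ q₁
  let R : DCoh.Lpull q₁ ⋙ DCoh.Lpull Δ ≅ 𝟭 (DCoh.D X) :=
    l ≪≫ eqToIso (by simp only [hΔ₁]) ≪≫ lpullRestrictNatIso (𝟙 X) ≪≫ restrictDId X
  let c'' : DEt.Compactification (𝟙 X) :=
    { Xbar := Z, j := Δ ≫ jz, fbar := c'.fbar, isOpenImmersion := inferInstance, isProper := c'.isProper,
      fac := by rw [Category.assoc]; exact (congrArg (Δ ≫ ·) c'.fac).trans hΔ₂ }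
  let c₂ : DEt.Compactification (𝟙 X) :=
    { Xbar := X, j := 𝟙 X, fbar := 𝟙 X, isOpenImmersion := inferInstance, isProper := inferInstance,
      fac := Category.comp_id _ }
  haveI : DCoh.HasRpush c₂.fbar := BC.hasRpush _
  haveI : DCoh.HasRpush c''.fbar := BC.hasRpush _
  obtain ⟨i⟩ : Nonempty (DCoh.Rpush c₂.fbar ≅ 𝟭 (DCoh.D X)) := nonempty_rpush_id
  have h₂ : DCoh.RpushPreservesQCoh c₂.fbar := fun K hK => TildeD.isQCohD_of_iso (i.app K).symm hK
  let iQ : DCoh.RpushQ c₂.fbar h₂ ≅ 𝟭 (DCoh.DQCoh X) :=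
    NatIso.ofComponents (fun K => ObjectProperty.isoMk _ (i.app K.obj))
      fun φ => ObjectProperty.hom_ext _ (i.hom.naturality φ.hom)
  let adj₂ : DCoh.RpushQ c₂.fbar h₂ ⊣ 𝟭 (DCoh.DQCoh X) := CategoryTheory.Adjunction.id.ofNatIsoLeft iQ.symm
  haveI : PreservesFiniteLimits (Scheme.Modules.restrictFunctor c''.j) := inferInstance
  haveI : PreservesFiniteLimits (Scheme.Modules.restrictFunctor c₂.j) := inferInstance
  obtain ⟨i₂⟩ := nonempty_shriekC_indep c'' c₂ (h₁ := rpushQC c'.fbar) adj' adj₂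
  let Φ : (Dual3.IsBddBelowQ Y).FullSubcategory ⥤ (Dual3.IsBddBelowQ X).FullSubcategory :=
    ObjectProperty.lift _ (Dual3.bddι Y ⋙ Dual3.LpullQ f (lpullQCoh f)) fun K => by
      obtain ⟨n, hn⟩ := K.property
      haveI := hn
      exact ⟨n, isGE_lpull_flat f n K.obj.obj⟩
  exact ⟨(Functor.isoWhiskerLeft (Dual3.bddι Y ⋙ Dual3.shriekC c a) R ≪≫ Functor.rightUnitor _).symm ≪≫
    (show (Dual3.bddι Y ⋙ Dual3.shriekC c a) ⋙ DCoh.Lpull q₁ ⋙ DCoh.Lpull Δ ≅
        Dual3.bddι Y ⋙ Dual3.LpullQ f (lpullQCoh f) ⋙ Dual3.shriekC c' a' ⋙ DCoh.Lpull Δ from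
      Functor.isoWhiskerRight i₁ (DCoh.Lpull Δ)) ≪≫
    Functor.isoWhiskerLeft Φ
      (show Dual3.bddι X ⋙ Dual3.shriekC c' a' ⋙ DCoh.Lpull Δ ≅ Dual3.bddι X ⋙ Dual3.shriekC c'' a' from
        Functor.isoWhiskerLeft (Dual3.bddι X ⋙ a' ⋙ ObjectProperty.ι _)
          (Functor.isoWhiskerLeft (DCoh.restrictD jz) (lpullRestrictNatIso Δ) ≪≫ (restrictDComp Δ jz).symm)) ≪≫
    Functor.isoWhiskerLeft Φ i₂ ≪≫
    Functor.isoWhiskerLeft (Φ ⋙ Dual3.bddι X ⋙ ObjectProperty.ι _) (restrictDId X) ≪≫ Functor.rightUnitor _⟩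

end Groth.Agent.TwistShriek
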