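import Groth.Agent.TwistShriek.Proj
import Groth.Agent.HTorCompute.Amp
import Groth.Agent.AmpleEmb.TwistOne
import Groth.Agent.DerSchH7.PerfAmp

/-!
# Cohomological dimension of projective morphisms
-/

set_option autoImplicit false
set_option linter.style.haveILetI false
set_option linter.unusedSectionVars false
set_option backward.isDefEq.respectTransparency false
set_option maxHeartbeats 1000000

universe u

open CategoryTheory CategoryTheory.Limits AlgebraicGeometry TopologicalSpace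
open Groth.Agent.DCohLib Groth.Agent.DCohMore Groth.Agent.RelPCLib Groth.Agent.DerSchH7 Groth.Agent.PerfMorLib

attribute [local instance] HasDerivedCategory.standard

noncomputable section

namespace Groth.Agent.TwistShriek

variable {X Y : Scheme.{u}} {r : ℕ}

/-- Higher direct images to an affine scheme vanish above the number of affine opens. -/
theorem isZero_rpush_of_cover' [IsAffine Y] (f : X ⟶ Y) [QuasiCompact f] [IsSeparated f]
    [HasInjectiveResolutions X.Modules] (N : ℕ)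
    (U : Fin (N + 1) → X.Opens) (hU : ∀ i, IsAffineOpen (U i)) (hcov : ⨆ i, U i = ⊤)
    (M : X.Modules) (hM : Coh.IsQCoh M) (p : ℕ) (hp : N < p) : IsZero ((Coh.Rpush f p).obj M) := by
  obtain ⟨p, rfl⟩ : ∃ n, p = n + 1 := ⟨p - 1, by omega⟩
  haveI := hM
  haveI hd : IsAffineHom (pullback.diagonal (terminal.from X)) := by
    haveI : IsSeparated (terminal.from X) := by
      rw [← terminal.comp_from f]
      infer_instance
    infer_instance
  have h : IsZero ((Coh.RpushAb f (p + 1)).obj (Coh.toAb M)) := by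
    refine RpushLib.isZero_rightDerived_at f.base
      (B := fun V => ∃ g : Γ(Y, ⊤), V = Y.basicOpen g)
      (fun W y hy => ?_) (Coh.toAb M) p ?_
    · obtain ⟨g, hgW, hyg⟩ := (isAffineOpen_top Y).exists_basicOpen_le
        (V := W) ⟨y, hy⟩ (show y ∈ (⊤ : Y.Opens) from trivial)
      exact ⟨_, ⟨g, rfl⟩, hyg, hgW⟩
    · rintro _ ⟨g, rfl⟩
      have haff : ∀ i, IsAffineOpen (U i ⊓ f ⁻¹ᵁ Y.basicOpen g) := fun i => by
        rw [Scheme.preimage_basicOpen]
        rw [show U i ⊓ X.basicOpen (f.app ⊤ g) =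
          X.basicOpen (X.presheaf.map (homOfLE (le_top : U i ≤ ⊤)).op (f.app ⊤ g)) from
            (X.basicOpen_res _ _).symm]
        exact (hU i).basicOpen _
      have he : f ⁻¹ᵁ Y.basicOpen g = ⨆ i, U i ⊓ f ⁻¹ᵁ Y.basicOpen g := by
        rw [← iSup_inf_eq, hcov, top_inf_eq]
      have := CohBase.subsingleton_HU_iUnion (Coh.toAb M) (fun W : Opens X => IsAffineOpen (X := X) W)
        (fun hV hW => IsAffineOpen.inf hV hW) (fun hV n => CohBase.affine_vanishing M hV n) (N + 1) _ haff (p + 1)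
        (by omega)
      rw [← he] at this
      exact this
  have h' : IsZero ((QCohLib.toAbF Y).obj ((Coh.Rpush f (p + 1)).obj M)) :=
    h.of_iso ((RpushLib.toAbRpushIso f (p + 1)).app M)
  haveI : (QCohLib.toAbF Y).Faithful := inferInstanceAs (SheafOfModules.toSheaf.{u} Y.ringCatSheaf).Faithful
  rw [IsZero.iff_id_eq_zero]
  exact (QCohLib.toAbF _).map_injective (h'.eq_of_src _ _)

/-- Projective space over an affine scheme is covered by `r + 1` affine opens. -/
theorem exists_cover_projSpaceOver [IsAffine Y] (r : ℕ) :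
    ∃ U : Fin (r + 1) → (CohB1.ProjSpaceOver r Y).Opens, (∀ a, IsAffineOpen (U a)) ∧ ⨆ a, U a = ⊤ := by
  let q : CohB1.ProjSpaceOver r Y ⟶ CohB1.ProjSpace r (ULift.{u} ℤ) :=
    pullback.fst (CohB1.ProjSpace.toSpec r (ULift.{u} ℤ)) (specULiftZIsTerminal.from Y)
  haveI : IsAffineHom q := MorphismProperty.pullback_fst _ _ inferInstance
  refine ⟨fun a => q ⁻¹ᵁ AmpleEmb.stdOpen r (ULift.{u} ℤ) a,
    fun a => (AmpleEmb.isAffineOpen_stdOpen r _ a).preimage q, ?_⟩
  rw [← Scheme.Hom.preimage_iSup, AmpleEmb.iSup_stdOpen]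
  rfl

/-- Projective morphisms to affine schemes have cohomological dimension `≤ r`. -/
theorem isLE_rpush_proj [IsAffine Y] (g : X ⟶ CohB1.ProjSpaceOver r Y) [IsAffineHom g] [IsSeparated g]
    [DCoh.HasRpush (g ≫ CohB1.ProjSpaceOver.toBase r Y)] (Z : DCoh.D X) (c : ℤ) (hZ : DCoh.IsQCohD Z)
    (hc : Z.IsLE c) : ((DCoh.Rpush (g ≫ CohB1.ProjSpaceOver.toBase r Y)).obj Z).IsLE (c + r) := by
  haveI := isProper_toBase' (r := r) (Y := Y)
  haveI : EnoughInjectives X.Modules := inferInstance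
  haveI : HasInjectiveResolutions X.Modules := inferInstance
  obtain ⟨U, hU, hcov⟩ := exists_cover_projSpaceOver (Y := Y) r
  exact HTorCompute.isLE_rpush_of_bound _ r (fun F hF p hp => isZero_rpush_of_cover' _ r (fun a => g ⁻¹ᵁ U a)
    (fun a => (hU a).preimage g) (by rw [← Scheme.Hom.preimage_iSup, hcov]; rfl) F hF p hp) Z c hZ hc

/-- The projection of projective space over an affine scheme has cohomological dimension `≤ r`. -/
theorem isLE_rpush_toBase [IsAffine Y] [DCoh.HasRpush (CohB1.ProjSpaceOver.toBase r Y)]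
    (Z : DCoh.D (CohB1.ProjSpaceOver r Y)) (c : ℤ) (hZ : DCoh.IsQCohD Z)
    (hc : Z.IsLE c) : ((DCoh.Rpush (CohB1.ProjSpaceOver.toBase r Y)).obj Z).IsLE (c + r) := by
  haveI := isProper_toBase' (r := r) (Y := Y)
  haveI : EnoughInjectives (CohB1.ProjSpaceOver r Y).Modules := inferInstance
  haveI : HasInjectiveResolutions (CohB1.ProjSpaceOver r Y).Modules := inferInstance
  obtain ⟨U, hU, hcov⟩ := exists_cover_projSpaceOver (Y := Y) r
  exact HTorCompute.isLE_rpush_of_bound _ r (fun F hF p hp => isZero_rpush_of_cover' _ r U hU hcov F hF p hp)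
    Z c hZ hc

/-- The unit has tor amplitude `[0, 0]` relative to a flat morphism. -/
theorem hasTorAmplitudeAt_unit_of_flat (f : X ⟶ Y) [Flat f] (x : X) :
    DerSch.HasTorAmplitudeAt f 0 0 (DerSch.unitCx X) x := by
  simpa using hasTorAmplitudeAt_unit f (d := 0) x (tdle_zero_of_flat (Flat.stalkMap f x))

/-- Perfect amplitude of direct images along projective space over an affine scheme. -/
theorem hasPerfectAmplitudeIn_rpush_toBase [IsAffine Y] [DCoh.HasRpush (CohB1.ProjSpaceOver.toBase r Y)]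
    (W : DCoh.D (CohB1.ProjSpaceOver r Y)) (a b : ℤ) (h : KSix.HasPerfectAmplitudeIn a b W) :
    KSix.HasPerfectAmplitudeIn a (b + r) ((DCoh.Rpush (CohB1.ProjSpaceOver.toBase r Y)).obj W) := by
  haveI := isProper_toBase' (r := r) (Y := Y)
  haveI := flat_toBase' (r := r) (Y := Y)
  obtain ⟨hpc₀, hfl⟩ := (hasPerfectAmplitudeIn_iff W a b).1 h
  have hpc := ((isPerfect_iff_pc W).1 (isPerfect_of_flatAmplitude a b hfl hpc₀)).1
  refine (hasPerfectAmplitudeIn_iff _ _ _).2 ⟨pc_rpush_toBase W hpc _, ?_⟩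
  let π := CohB1.ProjSpaceOver.toBase r Y
  let F := DerivedCategory.Q.objPreimage W
  let eF : DCoh.toD _ F ≅ W := DerivedCategory.Q.objObjPreimageIso W
  obtain ⟨E, hE, hEf, ⟨e⟩⟩ := hfl
  have hid : DerSch.HasTorAmplitude (𝟙 (CohB1.ProjSpaceOver r Y)) a b F :=
    hasTorAmplitude_id_of_flatAmplitude ⟨E, hE, hEf, ⟨e ≪≫ eF.symm⟩⟩
  have hrel : DerSch.HasTorAmplitude π a b F := fun x => by
    have := hasTorAmplitudeAt_comp (𝟙 _) π x (hasTorAmplitudeAt_unit_of_flat π ((𝟙 (CohB1.ProjSpaceOver r Y) : CohB1.ProjSpaceOver r Y ⟶ _).base x)) F (hid x)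
    simpa using this
  have hq : DCoh.IsQCohD (DerivedCategory.Q.obj F) := TildeD.isQCohD_of_iso eF.symm (isQCohD_of_pc hpc)
  haveI : ((DCoh.Rpush π).obj (DerivedCategory.Q.obj F)).IsLE (b + r) :=
    isLE_rpush_toBase _ b hq (isGE_isLE_of_hasTorAmplitude π F hrel).2
  have hD := hasTorAmplitudeD_rpush π (𝟙 Y) π (Category.comp_id _) F hq hrel (c := b + r)
  let G := DerivedCategory.Q.objPreimage ((DCoh.Rpush π).obj (DerivedCategory.Q.obj F))
  let eG : DCoh.toD Y G ≅ _ := DerivedCategory.Q.objObjPreimageIso ((DCoh.Rpush π).obj (DerivedCategory.Q.obj F))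
  obtain ⟨E', hE', hEf', ⟨e'⟩⟩ := flatAmplitude_of_hasTorAmplitude_id (hD G ⟨eG⟩)
  exact ⟨E', hE', hEf', ⟨e' ≪≫ eG ≪≫ (DCoh.Rpush π).mapIso eF⟩⟩

end Groth.Agent.TwistShriek
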