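import Groth.Agent.TwistShriek.RelTor
import Groth.Agent.DerSchH7.Local
import Groth.Agent.DCohMore.RelAmp

/-!
# Absolute tor dimension of direct images
-/

set_option autoImplicit false
set_option linter.style.haveILetI false
set_option backward.isDefEq.respectTransparency false
set_option maxHeartbeats 1000000

universe u

open CategoryTheory CategoryTheory.Limits AlgebraicGeometry
open Groth.Agent.DCohLib Groth.Agent.DCohMore Groth.Agent.DRingLib Groth.Agent.DerSchH7

attribute [local instance] HasDerivedCategory.standard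

noncomputable section

namespace Groth.Agent.TwistShriek

variable {X Y Z : Scheme.{u}}

/-- Tor amplitude over the source and of the morphism, at a point. -/
theorem hasTorAmplitudeAt_comp (f : X ⟶ Y) (g : Y ⟶ Z) (x : X) {a b c d : ℤ}
    (hg : DerSch.HasTorAmplitudeAt g c d (DerSch.unitCx Y) (f.base x)) (F : CochainComplex X.Modules ℤ)
    (hF : DerSch.HasTorAmplitudeAt f a b F x) : DerSch.HasTorAmplitudeAt (f ≫ g) (a + c) (b + d) F x := by
  have h := amp_trans (g.stalkMap (f.base x)).hom hF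
    (amp_of_iso (DerivedCategory.Q.mapIso (stalkUnitCxIso g (f.base x)) ≪≫
      ((DTen.resFactors (g.stalkMap (f.base x)).hom).app _).symm) hg)
  exact amp_of_iso ((DTen.resFactors (g.stalkMap (f.base x)).hom).app _ ≪≫
    DerivedCategory.Q.mapIso (stalkCxOverCompIso f g x F).symm) h

/-- Local finite tor dimension in the stalkwise form. -/
theorem locFiniteTorAmplitude_id_of_locHasFiniteTorDim {F : CochainComplex X.Modules ℤ}
    (h : DCoh.LocHasFiniteTorDim (DCoh.toD X F)) : DerSch.LocFiniteTorAmplitude (𝟙 X) F := fun x => by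
  obtain ⟨V, a, b, hx, hV⟩ := (locHasFiniteTorDim_iff _).1 h x
  obtain ⟨E, hE, hfl, ⟨e⟩⟩ := hV
  exact ⟨V, a, b, hx, fun x' hx' => hasTorAmplitudeAt_id_of_restrict V.ι
    (hasTorAmplitude_id_of_flatAmplitude ⟨E, hE, hfl, ⟨e ≪≫ restrictDQ V.ι F⟩⟩) ⟨x', hx'⟩⟩

/-- The stalkwise form gives local finite tor dimension. -/
theorem locHasFiniteTorDim_of_locFiniteTorAmplitudeD {K : DCoh.D X}
    (h : DerSch.LocFiniteTorAmplitudeD (𝟙 X) K) : DCoh.LocHasFiniteTorDim K := by
  refine (locHasFiniteTorDim_iff K).2 fun x => ?_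
  let F := DerivedCategory.Q.objPreimage K
  let eF : DCoh.toD X F ≅ K := DerivedCategory.Q.objObjPreimageIso K
  obtain ⟨V, a, b, hx, hV⟩ := h F ⟨eF⟩ x
  refine ⟨V, a, b, hx, ?_⟩
  have h1 : DerSch.HasTorAmplitude (𝟙 (V : Scheme.{u})) a b ((resCx V.ι).obj F) := by
    refine hasTorAmplitude_of_comp_open _ V.ι _ ?_
    have h2 : DerSch.HasTorAmplitude (V.ι ≫ 𝟙 X) a b ((resCx V.ι).obj F) := fun y =>
      amp_of_iso (DerivedCategory.Q.mapIso
        (HomologicalComplex.Hom.isoOfComponents (fun n => (stalkOverRestrictIso (𝟙 X) V.ι y).app (F.X n))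
          fun i k _ => ((stalkOverRestrictIso (𝟙 X) V.ι y).hom.naturality (F.d i k)).symm)).symm
        (hV (V.ι.base y) y.2)
    rw [Category.comp_id] at h2
    rw [Category.id_comp]
    exact h2
  obtain ⟨E, hE, hfl, ⟨e⟩⟩ := flatAmplitude_of_hasTorAmplitude_id h1
  exact ⟨E, hE, hfl, ⟨e ≪≫ (restrictDQ V.ι F).symm ≪≫ (DCoh.restrictD V.ι).mapIso eF⟩⟩

/-- Finite tor dimension over the source and of the morphism. -/
theorem locFiniteTorAmplitude_trans (f : X ⟶ Y) (hf : DerSch.LocFiniteTorAmplitude f (DerSch.unitCx X))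
    {F : CochainComplex X.Modules ℤ} (hF : DerSch.LocFiniteTorAmplitude (𝟙 X) F) :
    DerSch.LocFiniteTorAmplitude f F := fun x => by
  obtain ⟨V, a, b, hx, hV⟩ := hF x
  obtain ⟨W, c, d, hx', hW⟩ := hf x
  refine ⟨V ⊓ W, a + c, b + d, ⟨hx, hx'⟩, fun x' hx'' => ?_⟩
  have h := hasTorAmplitudeAt_comp (𝟙 X) f x' (hW x' hx''.2) F (hV x' hx''.1)
  rwa [Category.id_comp] at h

end Groth.Agent.TwistShriek
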