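import Groth.Agent.DCohMore.GoodCor
import Groth.Agent.DCohMore.ProjSpaceOverDer
import Groth.Agent.RelPCLib.Comp
import Groth.Agent.RelPCLib.Mor
import Groth.Agent.FMKLib.ClosedTensor
import Groth.Agent.TwistShriek.RelTorAbs
import Groth.Agent.TwistShriek.PerfRpush
import Groth.Prelude.Def_CohB1

/-!
# Direct images along projective morphisms
-/

set_option autoImplicit false
set_option linter.style.haveILetI false
set_option linter.unusedSectionVars false
set_option backward.isDefEq.respectTransparency false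
set_option maxHeartbeats 1000000

universe u

open CategoryTheory CategoryTheory.Limits AlgebraicGeometry
open Groth.Agent.DCohLib Groth.Agent.DCohMore Groth.Agent.RelPCLib

attribute [local instance] HasDerivedCategory.standard

noncomputable section

namespace Groth.Agent.TwistShriek

variable {X Y : Scheme.{u}} {r : ℕ}

local notation "π" => CohB1.ProjSpaceOver.toBase r Y

theorem smooth_toBase' : Smooth π := TwistOver.smooth_pr r Y

theorem isProper_toBase' : IsProper π := TwistOver.isProper_pr r Y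

theorem flat_toBase' : Flat π := TwistOver.flat_pr r Y

/-- Direct images of pseudo-coherent objects along projective space. -/
theorem pc_rpush_toBase [DCoh.HasRpush π] (W : DCoh.D (CohB1.ProjSpaceOver r Y))
    (hW : ∀ m : ℤ, DCoh.IsPseudoCoherentD m W) (m : ℤ) : DCoh.IsPseudoCoherentD m ((DCoh.Rpush π).obj W) :=
  haveI := smooth_toBase' (r := r) (Y := Y)
  haveI := isProper_toBase' (r := r) (Y := Y)
  haveI := flat_toBase' (r := r) (Y := Y)
  DCohMore.pc_rpush_proper π W hW m

/-- The direct image along a closed subscheme of projective space, through the embedding. -/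
theorem nonempty_rpush_proj (i : X ⟶ CohB1.ProjSpaceOver r Y) [IsClosedImmersion i]
    [DCoh.HasRpush (i ≫ π)] [DCoh.HasRpush π] (E : DCoh.D X) :
    Nonempty ((DCoh.Rpush (i ≫ π)).obj E ≅ (DCoh.Rpush π).obj ((pushD i).obj E)) := by
  haveI := BC.hasRpush i
  obtain ⟨e⟩ := nonempty_rpushCompIso i π
  obtain ⟨e'⟩ := FMKLib.nonempty_rpush_closed (i := i)
  exact ⟨(e.app E).symm ≪≫ (DCoh.Rpush π).mapIso (e'.app E)⟩

/-- Pseudo-coherence of the direct image, from the pseudo-coherence on projective space. -/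
theorem pc_rpush_proj (i : X ⟶ CohB1.ProjSpaceOver r Y) [IsClosedImmersion i]
    [DCoh.HasRpush (i ≫ π)] (E : DCoh.D X) (hE : ∀ m : ℤ, DCoh.IsPseudoCoherentD m ((pushD i).obj E)) (m : ℤ) :
    DCoh.IsPseudoCoherentD m ((DCoh.Rpush (i ≫ π)).obj E) := by
  haveI := BC.hasRpush π
  obtain ⟨e⟩ := nonempty_rpush_proj i E
  exact isPseudoCoherentD_iso e.symm (pc_rpush_toBase _ hE m)

/-- Relative pseudo-coherence and the embedding. -/
theorem rel_proj_iff (i : X ⟶ CohB1.ProjSpaceOver r Y) [IsClosedImmersion i] (E : DCoh.D X) (m : ℤ) :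
    DerSch.IsPseudoCoherentRel (i ≫ π) m E ↔ DCoh.IsPseudoCoherentD m ((pushD i).obj E) := by
  haveI := smooth_toBase' (r := r) (Y := Y)
  haveI := flat_toBase' (r := r) (Y := Y)
  exact (rel_comp_iff π i (fun V W h hV hW => pcHom_appLE_of_flat π hV hW h) m E).symm.trans (rel_closed_iff i m E)

/-- Relatively pseudo-coherent objects have pseudo-coherent direct images. -/
theorem pc_rpush_proj_of_rel (i : X ⟶ CohB1.ProjSpaceOver r Y) [IsClosedImmersion i]
    [DCoh.HasRpush (i ≫ π)] (E : DCoh.D X) (hE : ∀ m : ℤ, DerSch.IsPseudoCoherentRel (i ≫ π) m E) (m : ℤ) :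
    DCoh.IsPseudoCoherentD m ((DCoh.Rpush (i ≫ π)).obj E) :=
  pc_rpush_proj i E (fun k => (rel_proj_iff i E k).1 (hE k)) m

/-- Absolute pseudo-coherence along a pseudo-coherent morphism. -/
theorem rel_of_pc (f : X ⟶ Y) [LocallyOfFiniteType f]
    (hp : ∀ (V : X.Opens) (W : Y.Opens) (h : V ≤ f ⁻¹ᵁ W), IsAffineOpen V → IsAffineOpen W →
      PCHomLib.PCHom (f.appLE W V h).hom)
    {E : DCoh.D X} {m : ℤ} (hE : DCoh.IsPseudoCoherentD m E) : DerSch.IsPseudoCoherentRel f m E := by
  have h := (rel_comp_iff f (𝟙 X) hp m E).1 ((rel_id_iff m E).2 hE)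
  rwa [Category.id_comp] at h

/-- Perfect direct images along perfect projective morphisms. -/
theorem isPerfect_rpush_proj (i : X ⟶ CohB1.ProjSpaceOver r Y) [IsClosedImmersion i]
    [DCoh.HasRpush (i ≫ π)] (hf : MoreMor.IsPerfectMor (i ≫ π)) (E : DCoh.D X) (hE : DCoh.IsPerfect E) :
    DCoh.IsPerfect ((DCoh.Rpush (i ≫ π)).obj E) := by
  haveI := smooth_toBase' (r := r) (Y := Y)
  haveI := isProper_toBase' (r := r) (Y := Y)
  obtain ⟨hpc, htor⟩ := (isPerfect_iff_pc E).1 hE
  refine (isPerfect_iff_pc _).2 ⟨fun m => pc_rpush_proj_of_rel i E (fun k => rel_of_pc (i ≫ π)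
    (fun V W h hV hW => pcHom_appLE_of_mor (i ≫ π) (fun U V hU hV e => (hf U V hU hV e).1) hV hW h) (hpc k)) m, ?_⟩
  let F := DerivedCategory.Q.objPreimage E
  let eF : DerivedCategory.Q.obj F ≅ E := DerivedCategory.Q.objObjPreimageIso E
  have htor' : DerSch.LocFiniteTorAmplitude (i ≫ π) F := locFiniteTorAmplitude_trans (i ≫ π)
    (locFiniteTorAmplitude_unit (i ≫ π) hf)
    (locFiniteTorAmplitude_id_of_locHasFiniteTorDim (locHasFiniteTorDim_of_retract eF.hom eF.inv eF.hom_inv_id htor))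
  have h := locFiniteTorAmplitudeD_rpush (i ≫ π) (𝟙 Y) (i ≫ π) (Category.comp_id _) F
    (TildeD.isQCohD_of_iso eF.symm (isQCohD_of_pc hpc)) htor'
  exact locHasFiniteTorDim_of_retract ((DCoh.Rpush (i ≫ π)).mapIso eF).inv ((DCoh.Rpush (i ≫ π)).mapIso eF).hom
    (Iso.inv_hom_id _) (locHasFiniteTorDim_of_locFiniteTorAmplitudeD h)

end Groth.Agent.TwistShriek
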