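import Groth.Agent.TwistShriek.ProjBound
import Groth.Agent.RelPCLib.Open
import Groth.Agent.DCohLib.OpenD
import Mathlib.AlgebraicGeometry.ZariskisMainTheorem

/-!
# Relative pseudo-coherence of direct images along projective morphisms
-/

set_option autoImplicit false
set_option linter.style.haveILetI false
set_option linter.unusedSectionVars false
set_option backward.isDefEq.respectTransparency false
set_option maxHeartbeats 1000000

universe u

open CategoryTheory CategoryTheory.Limits AlgebraicGeometry TopologicalSpace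
open Groth.Agent.DCohLib Groth.Agent.DCohMore Groth.Agent.RelPCLib

attribute [local instance] HasDerivedCategory.standard

noncomputable section

namespace Groth.Agent.TwistShriek

variable {X Y S : Scheme.{u}} {r : ℕ}

theorem nonempty_rpush_congr {f g : X ⟶ Y} (h : f = g) [hf : DCoh.HasRpush f] [hg : DCoh.HasRpush g] (E : DCoh.D X) :
    Nonempty ((DCoh.Rpush f).obj E ≅ (DCoh.Rpush g).obj E) := by
  subst h
  exact ⟨Iso.refl _⟩

/-- A closed subscheme of projective space is one over any scheme receiving the base as a closed subscheme, locally. -/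
theorem exists_closed_proj (i : X ⟶ CohB1.ProjSpaceOver r Y) [IsClosedImmersion i] (V : Y.Opens) {A : Scheme.{u}}
    (j : (V : Scheme.{u}) ⟶ A) [IsClosedImmersion j] :
    ∃ i' : ((i ≫ CohB1.ProjSpaceOver.toBase r Y) ⁻¹ᵁ V : Scheme.{u}) ⟶ CohB1.ProjSpaceOver r A,
      IsClosedImmersion i' ∧
        i' ≫ CohB1.ProjSpaceOver.toBase r A = ((i ≫ CohB1.ProjSpaceOver.toBase r Y) ∣_ V) ≫ j := by
  haveI := isProper_toBase' (r := r) (Y := Y)
  haveI := isProper_toBase' (r := r) (Y := A)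
  let f := i ≫ CohB1.ProjSpaceOver.toBase r Y
  let i' : (f ⁻¹ᵁ V : Scheme.{u}) ⟶ CohB1.ProjSpaceOver r A := pullback.lift
    ((f ⁻¹ᵁ V).ι ≫ i ≫ pullback.fst (CohB1.ProjSpace.toSpec r (ULift.{u} ℤ)) (specULiftZIsTerminal.from Y))
    ((f ∣_ V) ≫ j) (specULiftZIsTerminal.hom_ext _ _)
  have hi' : i' ≫ CohB1.ProjSpaceOver.toBase r A = (f ∣_ V) ≫ j := pullback.lift_snd _ _ _
  have hfst : i' ≫ pullback.fst _ _ = (f ⁻¹ᵁ V).ι ≫ i ≫
      pullback.fst (CohB1.ProjSpace.toSpec r (ULift.{u} ℤ)) (specULiftZIsTerminal.from Y) :=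
    pullback.lift_fst _ _ _
  refine ⟨i', (IsClosedImmersion.iff_isProper_and_mono _).2 ⟨?_, ⟨fun {Z} a b h => ?_⟩⟩, hi'⟩
  · haveI : IsProper f := inferInstanceAs (IsProper (i ≫ CohB1.ProjSpaceOver.toBase r Y))
    haveI : IsProper (f ∣_ V) := IsZariskiLocalAtTarget.restrict ‹_› V
    haveI : IsProper (i' ≫ CohB1.ProjSpaceOver.toBase r A) := by
      rw [hi']
      infer_instance
    exact IsProper.of_comp i' (CohB1.ProjSpaceOver.toBase r A)
  · have h1 := congrArg (· ≫ pullback.fst _ _) h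
    simp only [Category.assoc] at h1
    rw [hfst] at h1
    have h2 : a ≫ (f ∣_ V) = b ≫ (f ∣_ V) := by
      refine (cancel_mono j).1 ?_
      rw [Category.assoc, Category.assoc, ← hi', ← Category.assoc, h, Category.assoc]
    have h3 := congrArg (· ≫ V.ι) h2
    simp only [Category.assoc, morphismRestrict_ι] at h3
    rw [← cancel_mono ((f ⁻¹ᵁ V).ι ≫ i)]
    apply pullback.hom_ext
    · simpa only [Category.assoc] using h1
    · simpa only [Category.assoc, f, CohB1.ProjSpaceOver.toBase] using h3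

/-- The projection of a polynomial ring over an affine open is flat and of finite presentation. -/
theorem flat_lfp_affineSpace {W : S.Opens} (hW : IsAffineOpen W) (n : ℕ) :
    Flat (Spec.map (CommRingCat.ofHom (MvPolynomial.C : Γ(S, W) →+* MvPolynomial (Fin n) Γ(S, W))) ≫ hW.fromSpec) ∧
      LocallyOfFinitePresentation
        (Spec.map (CommRingCat.ofHom (MvPolynomial.C : Γ(S, W) →+* MvPolynomial (Fin n) Γ(S, W))) ≫ hW.fromSpec) := by
  have h1 : (MvPolynomial.C : Γ(S, W) →+* MvPolynomial (Fin n) Γ(S, W)).Flat := by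
    show (algebraMap Γ(S, W) (MvPolynomial (Fin n) Γ(S, W))).Flat
    exact RingHom.flat_algebraMap_iff.2 inferInstance
  have h2 : (MvPolynomial.C : Γ(S, W) →+* MvPolynomial (Fin n) Γ(S, W)).FinitePresentation := by
    show (algebraMap Γ(S, W) (MvPolynomial (Fin n) Γ(S, W))).FinitePresentation
    exact RingHom.finitePresentation_algebraMap.2 inferInstance
  haveI : Flat (Spec.map (CommRingCat.ofHom (MvPolynomial.C : Γ(S, W) →+* MvPolynomial (Fin n) Γ(S, W)))) :=
    (HasRingHomProperty.Spec_iff (P := @Flat)).2 h1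
  haveI : LocallyOfFinitePresentation
      (Spec.map (CommRingCat.ofHom (MvPolynomial.C : Γ(S, W) →+* MvPolynomial (Fin n) Γ(S, W)))) :=
    (HasRingHomProperty.Spec_iff (P := @LocallyOfFinitePresentation)).2 h2
  exact ⟨inferInstance, inferInstance⟩

/-- A chart over an affine open, as a morphism. -/
theorem emb_comp {X : Scheme.{u}} (q : X ⟶ S) {U : X.Opens} {W : S.Opens} (hW : IsAffineOpen W) {h : U ≤ q ⁻¹ᵁ W}
    {n : ℕ} {φ : MvPolynomial (Fin n) Γ(S, W) →+* Γ(X, U)} (hφ : DerSch.IsChart q U W h φ) :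
    emb U φ ≫ Spec.map (CommRingCat.ofHom (MvPolynomial.C : Γ(S, W) →+* MvPolynomial (Fin n) Γ(S, W))) ≫
      hW.fromSpec = U.ι ≫ q := by
  rw [emb, Category.assoc, ← Spec.map_comp_assoc, ← CommRingCat.ofHom_comp, hφ.2, CommRingCat.ofHom_hom,
    Scheme.Opens.toSpecΓ_SpecMap_appLE_assoc, IsAffineOpen.toSpecΓ_fromSpec, Scheme.Hom.resLE_comp_ι]

/-- Relative pseudo-coherence of direct images along projective morphisms. -/
theorem rel_rpush_proj (q : Y ⟶ S) [LocallyOfFiniteType q] (i : X ⟶ CohB1.ProjSpaceOver r Y) [IsClosedImmersion i]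
    [DCoh.HasRpush (i ≫ CohB1.ProjSpaceOver.toBase r Y)] (E : DCoh.D X)
    (hE : ∀ m : ℤ, DerSch.IsPseudoCoherentRel ((i ≫ CohB1.ProjSpaceOver.toBase r Y) ≫ q) m E) (m : ℤ) :
    DerSch.IsPseudoCoherentRel q m ((DCoh.Rpush (i ≫ CohB1.ProjSpaceOver.toBase r Y)).obj E) := by
  refine rel_of_test q fun y => ?_
  obtain ⟨V, W, hV, hW, hy, hVW⟩ := exists_affine_pair q y
  obtain ⟨n, φ, hφ⟩ := exists_chart q hVW (q.finiteType_appLE hW hV hVW)
  refine ⟨V, W, hVW, hV, hW, hy, (test_iff_of_chart q hV hφ).2 ?_⟩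
  haveI := isClosedImmersion_emb hV hφ.1
  rw [cpc_iff]
  obtain ⟨i', hi'c, hi'⟩ := exists_closed_proj i V (emb V φ)
  haveI := hi'c
  let f := i ≫ CohB1.ProjSpaceOver.toBase r Y
  let EV := (DCoh.restrictD (f ⁻¹ᵁ V).ι).obj E
  haveI := BC.hasRpush (f ∣_ V)
  haveI := BC.hasRpush (emb V φ)
  haveI := BC.hasRpush ((f ∣_ V) ≫ emb V φ)
  haveI := BC.hasRpush (i' ≫ CohB1.ProjSpaceOver.toBase r (Spec (CommRingCat.of (MvPolynomial (Fin n) Γ(S, W)))))
  obtain ⟨eV⟩ := nonempty_restrictD_rpush f V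
  obtain ⟨eC⟩ := nonempty_rpushCompIso (f ∣_ V) (emb V φ)
  obtain ⟨eJ⟩ := FMKLib.nonempty_rpush_closed (i := emb V φ)
  let p := Spec.map (CommRingCat.ofHom (MvPolynomial.C : Γ(S, W) →+* MvPolynomial (Fin n) Γ(S, W))) ≫ hW.fromSpec
  have hrel : ∀ k : ℤ, DerSch.IsPseudoCoherentRel
      (i' ≫ CohB1.ProjSpaceOver.toBase r (Spec (CommRingCat.of (MvPolynomial (Fin n) Γ(S, W))))) k EV := fun k => by
    obtain ⟨_, _⟩ := flat_lfp_affineSpace hW n
    haveI := isProper_toBase' (r := r) (Y := Spec (CommRingCat.of (MvPolynomial (Fin n) Γ(S, W))))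
    refine (rel_comp_iff p _ (fun V' W' h hV' hW' => pcHom_appLE_of_flat p hV' hW' h) k EV).2 ?_
    rw [hi', Category.assoc, emb_comp q hW hφ, ← Category.assoc, morphismRestrict_ι, Category.assoc]
    exact rel_restrict (f ⁻¹ᵁ V).ι (f ≫ q) (hE k)
  have hpc := pc_rpush_proj_of_rel i' EV hrel m
  obtain ⟨e⟩ := nonempty_rpush_congr hi' EV
  exact isPseudoCoherentD_iso ((pushD (emb V φ)).mapIso (eV.app E) ≪≫ (eJ.app _).symm ≪≫ eC.app EV ≪≫ e.symm).symm hpc

end Groth.Agent.TwistShriek
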