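import Groth.Agent.CurveLib.MaxSections
import Groth.Agent.H1ZeroLib.Global
import Groth.Agent.ExtVanLib.Basic

/-!
# Tensoring a coherent module with a section of an invertible one
-/

set_option autoImplicit false
set_option linter.style.haveILetI false
set_option backward.isDefEq.respectTransparency false

universe u

open CategoryTheory CategoryTheory.Limits AlgebraicGeometry TensorProduct
open Groth.Agent.PullbackMod Groth.Agent.DCohLib Groth.Agent.ParaFLib Groth.Agent.CurveLib

noncomputable section

namespace Groth.Agent.TwistShriek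

variable {X : Scheme.{u}} {A L : X.Modules}

/-- If `A ⊗ s` splits, then `s` generates at every point of the support of `A`. -/
theorem mem_genLocus_of_split (hL : PicF.IsInvertible L) (s : Coh.structureModule X ⟶ L)
    (v : tmod A L ⟶ tmod A (Coh.structureModule X)) (hv : mulS A s ≫ v = 𝟙 _) (x : X)
    [Nontrivial (A.presheaf.stalk x)] [Module.Finite (X.presheaf.stalk x) (A.presheaf.stalk x)] :
    x ∈ CohB1.genLocus L s := by
  obtain ⟨e, he⟩ := exists_stalk_gen hL x
  obtain ⟨a, ha⟩ := he.2 (stalkLin s x (oneG x))
  simp only at ha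
  have hs : L.presheaf.germ ⊤ x trivial (AmpleLib.sec s) = stalkLin s x (oneG x) :=
    (stalkLin_germ s (U := ⊤) x trivial _).symm
  rw [AmpleLib.mem_genLocus_iff hL, hs, ← ha, AmpleLib.bijective_smul_iff he]
  by_contra hu
  let T := stalkTensor x A (Coh.structureModule X)
  let o := LinearEquiv.ofBijective (LinearMap.toSpanSingleton (X.presheaf.stalk x) _ (oneG x)) (bijective_oneG x)
  let E : A.presheaf.stalk x ≃ₗ[X.presheaf.stalk x] (tmod A (Coh.structureModule X)).presheaf.stalk x :=
    ((TensorProduct.rid _ _).symm.trans (LinearEquiv.lTensor _ o)).trans T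
  have hE : ∀ m, E m = T (m ⊗ₜ oneG x) := fun m => by simp [E, o]
  haveI := E.symm.toEquiv.nontrivial
  haveI := Module.Finite.equiv E
  have hI : (⊤ : Submodule (X.presheaf.stalk x) ((tmod A (Coh.structureModule X)).presheaf.stalk x)) ≤
      IsLocalRing.maximalIdeal (X.presheaf.stalk x) • ⊤ := fun z _ => by
    obtain ⟨m, rfl⟩ := E.surjective z
    have h1 : stalkLin (mulS A s) x (E m) = a • stalkTensor x A L (m ⊗ₜ e) := by
      rw [hE, stalkTensor_natural_right, LinearMap.lTensor_tmul, ← ha, TensorProduct.tmul_smul, map_smul]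
    have h2 : stalkLin v x (stalkLin (mulS A s) x (E m)) = E m := by
      rw [← LinearMap.comp_apply, ← stalkLin_comp, hv, stalkLin_id]
      rfl
    rw [← h2, h1, map_smul]
    exact Submodule.smul_mem_smul hu Submodule.mem_top
  exact top_ne_bot (Submodule.eq_bot_of_le_smul_of_le_jacobson_bot _ _ Module.Finite.fg_top hI
    (IsLocalRing.maximalIdeal_le_jacobson _))

/-- A map out of `A ⊗ L` killed by all global sections of a globally generated `L` vanishes. -/
theorem eq_zero_of_forall_mulS (hgg : Curv2.IsGloballyGenerated L) {B : X.Modules} (u : tmod A L ⟶ B)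
    (h : ∀ s : Coh.structureModule X ⟶ L, mulS A s ≫ u = 0) : u = 0 := by
  refine hom_ext_stalk fun x => LinearMap.ext fun z => ?_
  obtain ⟨w, rfl⟩ := (stalkTensor x A L).surjective z
  induction w with
  | zero => rw [map_zero, map_zero, map_zero]
  | add p q hp hq => rw [map_add, map_add, map_add, hp, hq]
  | tmul m l =>
    have hl : l ∈ (⊤ : Submodule (X.presheaf.stalk x) (L.presheaf.stalk x)) := trivial
    rw [← H1ZeroLib.iSup_range_sections hgg x] at hl
    refine Submodule.iSup_induction (fun t : Coh.structureModule X ⟶ L => LinearMap.range (stalkLin t x))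
      (motive := fun l => stalkLin u x (stalkTensor x A L (m ⊗ₜ l)) = stalkLin 0 x (stalkTensor x A L (m ⊗ₜ l)))
      hl ?_ ?_ ?_
    · rintro t _ ⟨r, rfl⟩
      rw [← LinearMap.lTensor_tmul, ← stalkTensor_natural_right, ← LinearMap.comp_apply,
        ← LinearMap.comp_apply (g := stalkLin (mulS A t) x), ← stalkLin_comp, ← stalkLin_comp, h t, comp_zero]
    · rw [tmul_zero, map_zero, map_zero, map_zero]
    · intro p q hp hq
      rw [tmul_add, map_add, map_add, map_add, hp, hq]

end Groth.Agent.TwistShriek
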