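import Groth.Agent.TwistShriek.OmegaBidual
import Groth.Agent.TwistShriek.DualPair
import Groth.Agent.TwistShriek.CurveSetup
import Groth.Agent.CurveLib.Frac
import Groth.Agent.CurveLib.DegTensor
import Groth.Agent.CurveLib.StalkDim
import Groth.Agent.CurveLib.MaxSections
import Groth.Agent.CurveLib.Inv
import Groth.Agent.CMRegLib.Res
import Groth.Agent.VBLib.Sub
import Groth.Agent.AmpleLib.ExtendMod

/-!
# Global generation of torsion-free sheaves containing the dualizing module
-/

set_option autoImplicit false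
set_option linter.style.haveILetI false
set_option linter.unusedSectionVars false
set_option backward.isDefEq.respectTransparency false
set_option maxHeartbeats 2000000

universe u

open CategoryTheory CategoryTheory.Limits AlgebraicGeometry TopologicalSpace Opposite
open Groth.Agent.DCohLib Groth.Agent.PullbackMod Groth.Agent.ParaFLib

attribute [local instance] HasDerivedCategory.standard

noncomputable section

namespace Groth.Agent.TwistShriek

theorem exists_smul_of_end {R : Type u} [CommRing R] (hf : IsField R) {W : Type u} [AddCommGroup W] [Module R W]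
    (hEnd : Function.Surjective fun r : R => r • (LinearMap.id : W →ₗ[R] W)) {v : W} (hv : v ≠ 0) (w : W) :
    ∃ a : R, a • v = w := by
  letI := hf.toField
  obtain ⟨φ, hφ⟩ := Module.Projective.exists_dual_ne_zero R hv
  obtain ⟨c, hc⟩ := hEnd (((φ v)⁻¹ • φ).smulRight w)
  refine ⟨c, (LinearMap.congr_fun hc v).trans ?_⟩
  rw [LinearMap.smulRight_apply, LinearMap.smul_apply, smul_eq_mul, inv_mul_cancel₀ hφ, one_smul]

variable (k : Type u) [Field k] (X : Scheme.{u}) [X.Over (Spec (CommRingCat.of k))]
  [IsIntegral X] [IsProper (X ↘ (Spec (CommRingCat.of k)))] (hdim : topologicalKrullDim X = 1)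

include hdim in
theorem subsingleton_stalk_generic {Q : X.Modules} (hQ : Coh.IsCoh Q)
    (hQ0 : topologicalKrullDim (CohB1.support Q) ≤ 0) :
    Subsingleton (Q.presheaf.stalk (genericPoint X)) := by
  by_contra hne
  haveI := hQ.1
  have hu : (Set.univ : Set X) ⊆ CohB1.support Q := fun x _ =>
    ((genericPoint_spec X).specializes trivial).mem_closed (PullbackMod.isClosed_support_of_isFT hQ.2) hne
  have h1 : topologicalKrullDim (Set.univ : Set X) ≤ 0 := by
    rw [Set.univ_subset_iff.1 hu] at hQ0
    exact hQ0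
  rw [(Homeomorph.Set.univ X).isHomeomorph.topologicalKrullDim_eq, hdim] at h1
  exact absurd h1 (by norm_num)

variable [DCoh.HasRpush (X ↘ (Spec (CommRingCat.of k)))] (h : DCoh.RpushPreservesQCoh (X ↘ (Spec (CommRingCat.of k))))
  [DCoh.HasShriek (X ↘ (Spec (CommRingCat.of k))) h]
  (OY : DCoh.DQCoh (Spec (CommRingCat.of k)))
  (hOY : Nonempty (OY.obj ≅ DCoh.inD (Spec (CommRingCat.of k)) (Coh.structureModule (Spec (CommRingCat.of k)))))

include hdim hOY

/-- The dualizing module of an integral curve has rank one. -/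
theorem exists_smul_generic {v : (DCoh.dualizingMod (X ↘ (Spec (CommRingCat.of k))) h OY 1).presheaf.stalk (genericPoint X)}
    (hv : v ≠ 0) (w : (DCoh.dualizingMod (X ↘ (Spec (CommRingCat.of k))) h OY 1).presheaf.stalk (genericPoint X)) :
    ∃ a : X.presheaf.stalk (genericPoint X), a • v = w := by
  let f := X ↘ (Spec (CommRingCat.of k))
  let η := genericPoint X
  let A := X.presheaf.stalk η
  haveI : ∀ R : CommRingCat.{u}, PreservesFiniteLimits (tilde.functor R) :=
    fun R => TildeD.preservesFiniteLimits_tilde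
  haveI : IsLocallyNoetherian X := LocallyOfFiniteType.isLocallyNoetherian f
  haveI : CompactSpace X := QuasiCompact.compactSpace_of_compactSpace f
  obtain ⟨eO⟩ := hOY
  obtain ⟨hK, hc, hN⟩ := proper_local_setup f h (DCoh.shriek f h) (DCoh.shriekAdj f h)
    (isDualizing_inD_of_isField (Field.toIsField k))
    (fun i hi => subsingleton_HK_inD_of_isField (Field.toIsField k) _ hi)
    OY (eO ≪≫ (DualCxLib.tildeInD (CommRingCat.of k)).symm)
  have hd1 : topologicalKrullDim X = ((1 : ℕ) : WithBot ℕ∞) := by rw [hdim, Nat.cast_one]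
  obtain ⟨h1, h2⟩ := amplitude_of_normalizedAt _ hc hN 1 hd1
  obtain ⟨Ω, hΩ, he⟩ := exists_local_dualizing hK η
  have hconc : ∀ j : ℤ, j ≠ -1 → Subsingleton (Dual.HD A Ω j) := fun j hj => by
    obtain ⟨e⟩ := he j
    by_cases hj0 : j = 0
    · subst hj0
      haveI : Subsingleton ((DCoh.HD ((DCoh.shriek f h).obj OY).obj (0 : ℤ)).presheaf.stalk η) :=
        subsingleton_stalk_generic X hdim (hc 0) (by
          have h3 := h2 0 0 (by norm_num)
          rwa [show {x : X | Nontrivial ((DCoh.HD ((DCoh.shriek f h).obj OY).obj (0 : ℤ)).presheaf.stalk x)} =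
            CohB1.support (DCoh.HD ((DCoh.shriek f h).obj OY).obj (0 : ℤ)) from
              Set.ext fun x => not_subsingleton_iff_nontrivial.symm, Nat.cast_zero] at h3)
      exact e.toEquiv.subsingleton
    · haveI : Subsingleton ((DCoh.HD ((DCoh.shriek f h).obj OY).obj j).presheaf.stalk η) :=
        DCohLib.subsingleton_stalk_of_isZero (h1 j (by omega)) η
      exact e.toEquiv.subsingleton
  obtain ⟨e⟩ := he (-1)
  haveI : DerivedCategory.IsGE Ω (-1) := (DerivedCategory.isGE_iff _ _).2 fun j hj =>
    ModuleCat.isZero_iff_subsingleton.2 (hconc j hj.ne)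
  haveI : DerivedCategory.IsLE Ω (-1) := (DerivedCategory.isLE_iff _ _).2 fun j hj =>
    ModuleCat.isZero_iff_subsingleton.2 (hconc j (ne_of_gt hj))
  obtain ⟨Y, ⟨eY⟩⟩ := DerivedCategory.exists_iso_singleFunctor_obj_of_isGE_of_isLE Ω (-1)
  let eN : Y ≃ₗ[A] _ :=
    ((DerivedCategory.singleFunctorCompHomologyFunctorIso (ModuleCat.{u} A) (-1)).app Y).toLinearEquiv.symm.trans
      (((DerivedCategory.homologyFunctor (ModuleCat.{u} A) (-1)).mapIso eY.symm).toLinearEquiv.trans e)
  let S := DerivedCategory.singleFunctor (ModuleCat.{u} A) (-1)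
  refine exists_smul_of_end (Field.toIsField X.functionField : IsField A) (fun g => ?_) hv w
  let g' : Y ⟶ Y := ModuleCat.ofHom (eN.symm.toLinearMap ∘ₗ g ∘ₗ eN.toLinearMap)
  obtain ⟨a, ha⟩ := hΩ.toEnd_bijective.2 (eY.hom ≫ S.map g' ≫ eY.inv)
  refine ⟨a, LinearMap.ext fun z => ?_⟩
  have h3 : (a • 𝟙 Y : Y ⟶ Y) = g' := S.map_injective ((cancel_epi eY.hom).1 ((cancel_mono eY.inv).1 (by
    rw [Category.assoc, Category.assoc, ← ha, Functor.map_smul, S.map_id, Linear.smul_comp, Linear.comp_smul,
      Category.id_comp, Iso.hom_inv_id])))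
  have h4 := congrArg (fun φ : Y ⟶ Y => eN (φ.hom (eN.symm z))) h3
  simp only [g'] at h4
  refine Eq.trans ?_ (h4.trans ?_)
  · simp
  · show eN (eN.symm (g (eN (eN.symm z)))) = g z
    rw [LinearEquiv.apply_symm_apply, LinearEquiv.apply_symm_apply]

/-- A torsion-free sheaf containing the dualizing module with length at least two cokernel. -/
theorem isGloballyGenerated_of_ext (h0 : Module.finrank k (Coh.HH X (Coh.structureModule X) 0) = 1)
    (F Q : X.Modules) (hF : Coh.IsCoh F) (hQ : Coh.IsCoh Q)
    (f : DCoh.dualizingMod (X ↘ (Spec (CommRingCat.of k))) h OY 1 ⟶ F) (g : F ⟶ Q) (w : f ≫ g = 0)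
    (hex : (ShortComplex.mk f g w).ShortExact)
    (htf : TorSh.IsTorsionFree F)
    (hQ0 : topologicalKrullDim (CohB1.support Q) ≤ 0) (hQ2 : 2 ≤ Module.finrank k (Coh.HH X Q 0)) :
    Curv2.IsGloballyGenerated F := by
  classical
  haveI : IsLocallyNoetherian X := LocallyOfFiniteType.isLocallyNoetherian (X ↘ (Spec (CommRingCat.of k)))
  haveI : CompactSpace X := QuasiCompact.compactSpace_of_compactSpace (X ↘ (Spec (CommRingCat.of k)))
  haveI := EulerIneqLib.isNoetherian_proper (X := X) k
  have hd1 : topologicalKrullDim X ≤ 1 := hdim.le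
  let ω := DCoh.dualizingMod (X ↘ (Spec (CommRingCat.of k))) h OY 1
  let η := genericPoint X
  obtain ⟨hω, hωx⟩ := canonical_dualizingMod X k hdim h OY hOY
  obtain ⟨tr, htr, -, hle⟩ := exists_pair_dualizingMod k X h OY hOY (by rw [hdim, Nat.cast_one])
  haveI := hω.1
  haveI := hF.1
  haveI := EulerIneqLib.finite_HH (k := k) hF 0
  -- the Euler characteristic
  have hQc : IsClosed (CohB1.support Q) := by
    haveI := hQ.1
    exact PullbackMod.isClosed_support_of_isFT hQ.2
  have eulerZero : ∀ {T : X.Modules} {C : Set X}, IsClosed C → topologicalKrullDim C ≤ 0 →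
      CohB1.support T ⊆ C → Curv2.euler k X T = Module.finrank k (Coh.HH X T 0) := fun {T C} hC hd hT => by
    rw [CurveLib.euler_eq_sub (k := k) hd1]
    haveI := CurveLib.subsingleton_HH_of_support T hC hT (d := 0) hd one_pos
    rw [Module.finrank_zero_of_subsingleton (M := Coh.HH X T 1), Nat.cast_zero, sub_zero]
  have eF : Curv2.euler k X F = Curv2.euler k X ω + Module.finrank k (Coh.HH X Q 0) := by
    rw [← eulerZero hQc hQ0 le_rfl]
    exact CurveLib.euler_shortExact hex hω hF hQ
  have eω : (Module.finrank k (Coh.HH X ω 0) : ℤ) - 1 ≤ Curv2.euler k X ω := by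
    rw [CurveLib.euler_eq_sub (k := k) hd1]
    have hle' : Module.finrank k (Coh.HH X ω 1) ≤ 1 := hle.trans h0.le
    omega
  have hlt : (Module.finrank k (Coh.HH X ω 0) : ℤ) < Module.finrank k (Coh.HH X F 0) := by
    have := CurveLib.euler_eq_sub (k := k) (M := F) hd1
    omega
  -- the generated subsheaf
  let n := Module.finrank k (Coh.HH X F 0)
  let b := Module.finBasis k (Coh.HH X F 0)
  let P : X.Modules := ∐ fun _ : Fin n => Coh.structureModule X
  let p : P ⟶ F := Sigma.desc fun i => DCohLib.secHom F (CurveLib.secOf F (b i))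
  by_contra hgen
  have hp : ¬ Epi p := fun hp => by
    let p' : (SheafOfModules.free (ULift.{u} (Fin n)) : X.Modules) ⟶ F :=
      Sigma.desc fun i => DCohLib.secHom F (CurveLib.secOf F (b i.down))
    have hfac : (Sigma.desc fun i : Fin n =>
        Sigma.ι (fun _ : ULift.{u} (Fin n) => Coh.structureModule X) ⟨i⟩) ≫ p' = p :=
      Sigma.hom_ext _ _ fun i => by
        simp [p, p']
    haveI := hp
    exact hgen ⟨ULift.{u} (Fin n), p', epi_of_epi_fac hfac⟩
  obtain ⟨-, hC⟩ := QCohLib.isCoh_kernel_cokernel p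
    (CMRegLib.isCoh_sigma_fin _ fun _ => DevLib.isCoh_structureModule X) hF
  let π := cokernel.π p
  have hK : Coh.IsCoh (kernel π) := (QCohLib.isCoh_kernel_cokernel π hF hC).1
  haveI := hK.1
  haveI := hC.1
  -- all sections die in the quotient
  have hkill : CurveLib.hMap (k := k) π 0 = 0 := b.ext fun i => (CurveLib.secOf (cokernel p)).injective (by
    rw [LinearMap.zero_apply, map_zero, CurveLib.secOf_hMap]
    have h5 : DCohLib.secHom F (CurveLib.secOf F (b i)) ≫ π = 0 := by
      rw [← Sigma.ι_desc (fun i => DCohLib.secHom F (CurveLib.secOf F (b i))) i, Category.assoc]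
      show Sigma.ι _ i ≫ p ≫ cokernel.π p = 0
      rw [cokernel.condition, comp_zero]
    have h6 := congrArg AmpleLib.sec h5
    exact ((congrArg (π.app ⊤) (AmpleLib.sec_secHom (CurveLib.secOf F (b i))).symm).trans h6).trans rfl)
  let S' : ShortComplex X.Modules := ShortComplex.mk (kernel.ι π) π (kernel.condition π)
  have hS' : S'.ShortExact :=
    { exact := ShortComplex.exact_of_f_is_kernel _ (kernelIsKernel π), mono_f := inferInstance, epi_g := inferInstance }
  have h0K : Module.finrank k (Coh.HH X F 0) ≤ Module.finrank k (Coh.HH X (kernel π) 0) := by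
    haveI := EulerIneqLib.finite_HH (k := k) hK 0
    have hr : LinearMap.range (CurveLib.hMap (k := k) S'.f 0) = ⊤ := by
      rw [CurveLib.range_hMap_f hS']
      exact LinearMap.ker_eq_top.2 hkill
    exact LinearMap.finrank_le_finrank_of_surjective (f := CurveLib.hMap (k := k) S'.f 0)
      (LinearMap.range_eq_top.1 hr)
  -- the generic stalk
  have hQη := subsingleton_stalk_generic X hdim hQ hQ0
  haveI := hex.epi_g
  haveI := hex.mono_f
  have hfη : Function.Bijective (stalkLin f η) :=
    ⟨(PullbackMod.mono_iff_stalk f).1 inferInstance η, fun z =>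
      ((DCohLib.exact_stalkLin _ hex.exact η) z).1 (hQη.elim _ _)⟩
  have hFη : ∀ v : F.presheaf.stalk η, v ≠ 0 → ∀ u, ∃ a : X.presheaf.stalk η, a • v = u := fun v hv u => by
    obtain ⟨v, rfl⟩ := hfη.2 v
    obtain ⟨u, rfl⟩ := hfη.2 u
    obtain ⟨a, ha⟩ := exists_smul_generic k X hdim h OY hOY (v := v) (fun h5 => hv (by rw [h5, map_zero])) u
    exact ⟨a, by rw [← map_smul, ha]⟩
  have hsepF : CurveLib.SepGen F := fun O σ hσ => by
    refine TopCat.Presheaf.section_ext ⟨F.presheaf, F.isSheaf⟩ O σ 0 fun x hx => ?_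
    rw [map_zero]
    refine NormalRefLib.isTorsionFree_iff_inj F htf x ?_
    exact (RefOne.toGen_germ F x hx σ).trans ((hσ _).trans (map_zero (F.presheaf.stalkSpecializes ((genericPoint_spec ↥X).specializes (Set.mem_univ x))).hom).symm)
  have hpη : Function.Surjective (stalkLin p η) := fun u => by
    obtain ⟨i, hi⟩ : ∃ i, F.presheaf.germ ⊤ η trivial (CurveLib.secOf F (b i)) ≠ 0 := by
      have hn : 0 < n := by
        have := Int.natCast_nonneg (Module.finrank k (Coh.HH X ω 0))
        show 0 < Module.finrank k (Coh.HH X F 0)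
        omega
      refine ⟨⟨0, hn⟩, fun h5 => b.ne_zero ⟨0, hn⟩ ((CurveLib.secOf F).injective ?_)⟩
      rw [map_zero]
      exact hsepF _ _ fun _ => h5
    obtain ⟨a, ha⟩ := hFη _ hi u
    refine ⟨a • stalkLin (Sigma.ι (fun _ : Fin n => Coh.structureModule X) i) η (oneG η), ?_⟩
    rw [map_smul, ← LinearMap.comp_apply, ← stalkLin_comp, Sigma.ι_desc, ← ha]
    exact congrArg (a • ·) ((stalkLin_germ (DCohLib.secHom F _) (U := ⊤) η (Opens.mem_top η) _).trans
      (congrArg _ ((DCohLib.secHom_app_one F _ ⊤).trans (res_self _ _))))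
  have hCη : η ∉ CohB1.support (cokernel p) := fun hne => hne (subsingleton_of_forall_eq 0 fun z => by
    obtain ⟨u, rfl⟩ := (PullbackMod.epi_iff_stalk π).1 inferInstance η z
    obtain ⟨y, rfl⟩ := hpη u
    rw [← LinearMap.comp_apply, ← stalkLin_comp, cokernel.condition, (eq_zero_iff_stalk _).1 rfl η]
    rfl)
  have hCc : IsClosed (CohB1.support (cokernel p)) := PullbackMod.isClosed_support_of_isFT hC.2
  have hC0 := CurveLib.dim_le_zero_of_notMem hd1 hCc (genericPoint_spec X) hCη
  -- a nonzero map to the dualizing module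
  have ht : 0 < Module.finrank k (Coh.HH X (cokernel p) 0) := by
    haveI := EulerIneqLib.finite_HH (k := k) hC 0
    by_contra h5
    haveI : Subsingleton (Coh.HH X (cokernel p) 0) := Module.finrank_zero_iff.1 (by omega : Module.finrank k _ = 0)
    exact hp (Preadditive.epi_of_isZero_cokernel p (isZero_of_stalks fun x =>
      CurveLib.subsingleton_stalk_of_H0 hCc hC0 (cokernel p) le_rfl x))
  have hh1 : 0 < Module.finrank k (Coh.HH X (kernel π) 1) := by
    have e1 : Curv2.euler k X F = Curv2.euler k X (kernel π) + Curv2.euler k X (cokernel p) :=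
      CurveLib.euler_shortExact hS' hK hF hC
    rw [eulerZero hCc hC0 le_rfl] at e1
    have := CurveLib.euler_eq_sub (k := k) (M := kernel π) hd1
    have := CurveLib.euler_eq_sub (k := k) (M := F) hd1
    omega
  haveI := Module.nontrivial_of_finrank_pos hh1
  obtain ⟨x₁, hx₁⟩ := exists_ne (0 : Coh.HH X (kernel π) 1)
  haveI : Module.Free k (Coh.HH X (kernel π) 1) := Module.Free.of_divisionRing k _
  haveI : Module.Projective k (Coh.HH X (kernel π) 1) := Module.Projective.of_free
  obtain ⟨l, hlx⟩ := Module.Projective.exists_dual_ne_zero k hx₁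
  have hl : l ≠ 0 := fun h5 => hlx (by rw [h5, LinearMap.zero_apply])
  obtain ⟨φ, hφ⟩ := (htr.2 (kernel π) hK.1).2 l
  have hφ0 : φ ≠ 0 := fun h5 => hl (by
    rw [← hφ, h5]
    have h6 := dualityMap_add k (r := 1) (ω := ω) (tr := tr) (F := kernel π) 0 0
    rwa [add_zero, left_eq_add] at h6)
  -- it is injective
  have hιη := (PullbackMod.mono_iff_stalk (kernel.ι π)).1 inferInstance η
  have hsepK : CurveLib.SepGen (kernel π) := fun O σ hσ => by
    refine TopCat.Presheaf.section_ext ⟨(kernel π).presheaf, (kernel π).isSheaf⟩ O σ 0 fun x hx => ?_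
    rw [map_zero]
    refine (PullbackMod.mono_iff_stalk (kernel.ι π)).1 inferInstance x ?_
    rw [stalkLin_germ, map_zero, hsepF O ((kernel.ι π).app O σ) (fun hη => by
      rw [← stalkLin_germ, hσ hη, map_zero]), map_zero]
  have hωtf : TorSh.IsTorsionFree ω := fun x => by
    by_cases hx : IsClosed ({x} : Set X)
    · exact (hωx x hx).1
    · obtain rfl := CurveFF.eq_generic_of_not_closed k hdim hx
      letI := (Field.toIsField X.functionField : IsField (X.presheaf.stalk η)).toField
      infer_instance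
  have hφη : stalkLin φ η ≠ 0 := fun h5 => hφ0 ((eq_zero_iff_stalk φ).2 fun x => LinearMap.ext fun z => by
    obtain ⟨U, hx, σ, rfl⟩ := TopCat.Presheaf.exists_germ_eq (kernel π).presheaf z
    rw [stalkLin_germ, LinearMap.zero_apply]
    refine NormalRefLib.isTorsionFree_iff_inj ω hωtf x ?_
    refine (RefOne.toGen_germ ω x hx _).trans (Eq.trans ?_
      (map_zero (ω.presheaf.stalkSpecializes ((genericPoint_spec ↥X).specializes (Set.mem_univ x))).hom).symm)
    rw [← stalkLin_germ, h5, LinearMap.zero_apply])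
  haveI : Mono φ := CurveLib.mono_of_generic_injective hsepK φ ((injective_iff_map_eq_zero _).2 fun z hz => by
    by_contra hz0
    refine hφη (LinearMap.ext fun u => ?_)
    obtain ⟨a, ha⟩ := hFη (stalkLin (kernel.ι π) η z) (fun h5 => hz0 (hιη (h5.trans (map_zero _).symm)))
      (stalkLin (kernel.ι π) η u)
    rw [show u = a • z from (hιη ((map_smul _ a z).trans ha)).symm, map_smul, hz, smul_zero, LinearMap.zero_apply])
  have hmono : Module.finrank k (Coh.HH X (kernel π) 0) ≤ Module.finrank k (Coh.HH X ω 0) :=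
    VBLib.finrank_H0_le_of_mono (k := k) φ hω
  omega

end Groth.Agent.TwistShriek
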