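import Groth.Agent.TwistShriek.FiniteShriek
import Groth.Agent.TwistShriek.CurveSetup
import Groth.Agent.TwistShriek.PairCoh
import Groth.Agent.TwistShriek.TopDualPush

/-!
# Dualizing modules of closed subschemes
-/

set_option autoImplicit false
set_option backward.isDefEq.respectTransparency false
set_option linter.style.haveILetI false
set_option linter.unusedSectionVars false
set_option maxHeartbeats 1000000

universe u

open CategoryTheory CategoryTheory.Limits AlgebraicGeometry TopologicalSpace Opposite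
open Groth.Agent.PullbackMod Groth.Agent.DCohLib Groth.Agent.ParaFLib
open scoped TensorProduct

noncomputable section

namespace Groth.Agent.TwistShriek.FinPush

variable {X Z : Scheme.{u}} (i : X ⟶ Z) [IsClosedImmersion i]

local instance hasHF5 (M : Z.Modules) : ModSite.HasSheafHom (O := Z.sheaf) M :=
  ModTensor.hasSheafHom (O := Z.sheaf) M

theorem isIso_kap_closed (L : Z.Modules) : IsIso (kapPairing i L).lift := by
  refine (isIso_iff_stalk _).2 fun z => ?_
  by_cases hz : z ∈ Set.range i
  · obtain ⟨x, rfl⟩ := hz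
    let A := Z.presheaf.stalk (i x)
    let B := X.presheaf.stalk x
    letI := (i.stalkMap x).hom.toAlgebra
    let P := (pO i).presheaf.stalk (i x)
    let Ls := L.presheaf.stalk (i x)
    let one : P := (pO i).presheaf.germ ⊤ (i x) trivial (show Γ(X, i ⁻¹ᵁ ⊤) from 1)
    have hsurj : Function.Surjective (Algebra.linearMap A B) := i.stalkMap_surjective x
    have hP : ∀ b : P, ∃ a : A, b = a • one := fun b => by
      obtain ⟨V, hxV, b, rfl⟩ := TopCat.Presheaf.exists_germ_eq (pO i).presheaf b
      obtain ⟨a, ha⟩ := hsurj (X.presheaf.germ (i ⁻¹ᵁ V) x hxV b)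
      refine ⟨a, (bijective_pushStalk i (Coh.structureModule X) x).1 ?_⟩
      refine (pushStalk_germ i (Coh.structureModule X) x hxV b).trans
        (Eq.trans ?_ (pushStalk_smul i (Coh.structureModule X) x a one).symm)
      refine Eq.trans ?_ (congrArg₂ (· • ·) ha.symm (pushStalk_germ i (Coh.structureModule X) x (W := ⊤) trivial _).symm)
      let b' : Γ(X, i ⁻¹ᵁ V) := b
      have hres : (Coh.structureModule X).presheaf.germ ⊤ x trivial (show Γ(X, ⊤) from 1) =
          (Coh.structureModule X).presheaf.germ (i ⁻¹ᵁ V) x hxV (show Γ(X, i ⁻¹ᵁ V) from 1) :=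
        ((Coh.structureModule X).presheaf.germ_res_apply (homOfLE (le_top : i ⁻¹ᵁ V ≤ ⊤)) x hxV _).symm.trans
          (congrArg ((Coh.structureModule X).presheaf.germ (i ⁻¹ᵁ V) x hxV) (map_one (X.presheaf.map _).hom))
      refine Eq.trans ?_ (congrArg (X.presheaf.germ (i ⁻¹ᵁ V) x hxV b' • ·) hres.symm)
      refine Eq.trans ?_ (PresheafOfModules.germ_smul (R := X.presheaf) (Coh.structureModule X).val x
        (i ⁻¹ᵁ V) hxV _ _)
      exact congrArg ((Coh.structureModule X).presheaf.germ (i ⁻¹ᵁ V) x hxV) (mul_one b').symm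
    have hval : ∀ l : Ls, pushStalk i ((Scheme.Modules.pullback i).obj L) x
        (stalkLin (kapPairing i L).lift (i x) (stalkTensor (i x) L (pO i) (l ⊗ₜ[A] one))) =
          pullStalk i L x l := fun l => by
      obtain ⟨V, hxV, l, rfl⟩ := TopCat.Presheaf.exists_germ_eq L.presheaf l
      have h1 : one = (pO i).presheaf.germ V (i x) hxV (show Γ(X, i ⁻¹ᵁ V) from 1) :=
        ((pO i).presheaf.germ_res_apply (homOfLE (le_top : V ≤ ⊤)) (i x) hxV _).symm.trans
          (congrArg ((pO i).presheaf.germ V (i x) hxV) (map_one (X.presheaf.map _).hom))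
      rw [h1]
      show pushStalk i _ x (stalkLin _ (i x) (stalkTensorHom (i x) _)) = _
      rw [stalkTensorHom_tmul, stalkLin_germ]
      refine (pushStalk_germ i _ x hxV _).trans ?_
      rw [ProjTwistLib.Pairing.lift_pairS, pullStalk_germ]
      refine congrArg (((Scheme.Modules.pullback i).obj L).presheaf.germ (i ⁻¹ᵁ V) x hxV) ?_
      exact (one_smul Γ(X, i ⁻¹ᵁ V) (pullMap i L (le_refl (i ⁻¹ᵁ V)) l)).trans
        (res_self (M := (Scheme.Modules.pullback i).obj L) le_rfl _)
    have hw : ∀ w : Ls ⊗[A] P, ∃ l : Ls, w = l ⊗ₜ[A] one := fun w => by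
      induction w using TensorProduct.induction_on with
      | zero => exact ⟨0, (TensorProduct.zero_tmul _ _).symm⟩
      | tmul l b =>
        obtain ⟨a, rfl⟩ := hP b
        exact ⟨a • l, (TensorProduct.smul_tmul a l one).symm⟩
      | add p q hp hq =>
        obtain ⟨⟨u, hu⟩, v, hv⟩ := And.intro hp hq
        exact ⟨u + v, (congrArg₂ (· + ·) hu hv).trans (TensorProduct.add_tmul u v one).symm⟩
    constructor
    · refine (injective_iff_map_eq_zero _).2 fun z hz => ?_
      obtain ⟨c, rfl⟩ := (stalkTensor (i x) L (pO i)).surjective z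
      obtain ⟨l, rfl⟩ := hw c
      have h0 : pullStalkEquiv i x L ((1 : B) ⊗ₜ[A] l) = 0 := by
        rw [pullStalkEquiv_tmul, one_smul, ← hval, hz, map_zero]
      have ht : (1 : B) ⊗ₜ[A] l = 0 := (pullStalkEquiv i x L).injective (h0.trans (map_zero _).symm)
      have hex := rTensor_exact Ls (LinearMap.exact_subtype_ker_map (Algebra.linearMap A B)) hsurj
      obtain ⟨n, hn⟩ := (hex ((1 : A) ⊗ₜ[A] l)).1 (by
        rw [LinearMap.rTensor_tmul]
        show algebraMap A B 1 ⊗ₜ[A] l = 0
        rw [map_one]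
        exact ht)
      have h2 : ∀ n, (TensorProduct.lid A Ls
          ((LinearMap.ker (Algebra.linearMap A B)).subtype.rTensor Ls n)) ⊗ₜ[A] one = 0 := fun n => by
        induction n using TensorProduct.induction_on with
        | zero => rw [map_zero, map_zero, TensorProduct.zero_tmul]
        | tmul a t =>
          rw [LinearMap.rTensor_tmul, TensorProduct.lid_tmul, Submodule.subtype_apply, TensorProduct.smul_tmul,
            show (a.1 • one : P) = 0 from (suppOn_pushforward i (Coh.structureModule X)).smul_eq_zero x a.1 a.2 one,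
            TensorProduct.tmul_zero]
        | add p q hp hq => rw [map_add, map_add, TensorProduct.add_tmul, hp, hq, add_zero]
      have h3 := h2 n
      rw [hn, TensorProduct.lid_tmul, one_smul] at h3
      rw [h3, map_zero]
    · intro y
      obtain ⟨c, hc⟩ := (pullStalkEquiv i x L).surjective (pushStalk i ((Scheme.Modules.pullback i).obj L) x y)
      have hl : ∃ l : Ls, c = (1 : B) ⊗ₜ[A] l := by
        clear hc
        induction c using TensorProduct.induction_on with
        | zero => exact ⟨0, (TensorProduct.tmul_zero _ _).symm⟩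
        | tmul b t =>
          obtain ⟨a, rfl⟩ := hsurj b
          refine ⟨a • t, ?_⟩
          show algebraMap A B a ⊗ₜ[A] t = (1 : B) ⊗ₜ[A] (a • t)
          rw [Algebra.algebraMap_eq_smul_one, TensorProduct.smul_tmul]
        | add p q hp hq =>
          obtain ⟨⟨u, hu⟩, v, hv⟩ := And.intro hp hq
          exact ⟨u + v, (congrArg₂ (· + ·) hu hv).trans (TensorProduct.tmul_add _ u v).symm⟩
      obtain ⟨l, rfl⟩ := hl
      rw [pullStalkEquiv_tmul, one_smul] at hc
      exact ⟨stalkTensor (i x) L (pO i) (l ⊗ₜ[A] one),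
        (bijective_pushStalk i ((Scheme.Modules.pullback i).obj L) x).1 ((hval l).trans hc)⟩
  · haveI := subsingleton_stalk_pushforward i ((Scheme.Modules.pullback i).obj L) z hz
    haveI := subsingleton_stalk_pushforward i (Coh.structureModule X) z hz
    haveI : Subsingleton (L.presheaf.stalk z ⊗[Z.presheaf.stalk z] (pO i).presheaf.stalk z) := by
      refine ⟨fun a b => ?_⟩
      suffices h : ∀ c : L.presheaf.stalk z ⊗[Z.presheaf.stalk z] (pO i).presheaf.stalk z, c = 0 from
        (h a).trans (h b).symm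
      intro c
      induction c using TensorProduct.induction_on with
      | zero => rfl
      | tmul m n => rw [Subsingleton.elim n 0, TensorProduct.tmul_zero]
      | add p q hp hq => rw [hp, hq, add_zero]
    exact ⟨fun a b _ => (stalkTensor z L (pO i)).symm.injective (Subsingleton.elim _ _),
      fun _ => ⟨0, Subsingleton.elim _ _⟩⟩

/-- A representing object of `F ↦ Hom(i_* F, G)` for a closed immersion. -/
theorem isIso_aMap_closed [IsLocallyNoetherian Z] {W : X.Modules} {G : Z.Modules} (hW : Coh.IsQCoh W)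
    [Coh.IsQCoh G] (t : (Scheme.Modules.pushforward i).obj W ⟶ G)
    (huniv : ∀ F : X.Modules, Coh.IsQCoh F →
      Function.Bijective (fun φ : F ⟶ W => (Scheme.Modules.pushforward i).map φ ≫ t)) :
    IsIso (aMap i t) := by
  haveI : IsLocallyNoetherian X := LocallyOfFiniteType.isLocallyNoetherian i
  haveI := hW
  have hP : Coh.IsCoh (pO i) := EtAlgEasy.PrinPartPush.isCoh_pushforward_finite i (DevLib.isCoh_structureModule X)
  have key : ∀ L : Z.Modules, Coh.IsQCoh L →
      Function.Bijective fun u : L ⟶ (Scheme.Modules.pushforward i).obj W => u ≫ aMap i t := fun L hL => by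
    haveI := hL
    haveI := isIso_kap_closed i L
    let adjP := Scheme.Modules.pullbackPushforwardAdjunction i
    let adjH := ModSite.sheafHomAdj (O := Z.sheaf) (pO i)
    have h1 : Function.Bijective fun φ : (Scheme.Modules.pullback i).obj L ⟶ W =>
        adjH.homEquiv L G ((kapPairing i L).lift ≫ (Scheme.Modules.pushforward i).map φ ≫ t) :=
      (adjH.homEquiv L G).bijective.comp ((Iso.homFromEquiv (asIso (kapPairing i L).lift).symm).bijective.comp
        (huniv _ (PullbackMod.isQCoh_pullback i L)))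
    have h2 : (fun u : L ⟶ (Scheme.Modules.pushforward i).obj W => u ≫ aMap i t) =
        (fun φ : (Scheme.Modules.pullback i).obj L ⟶ W =>
          adjH.homEquiv L G ((kapPairing i L).lift ≫ (Scheme.Modules.pushforward i).map φ ≫ t)) ∘
          (adjP.homEquiv L W).symm := funext fun u =>
      ((congrArg (· ≫ aMap i t) ((adjP.homEquiv L W).apply_symm_apply u).symm).trans
        (comp_aMap i t L ((adjP.homEquiv L W).symm u)))
    rw [h2]
    exact h1.comp (adjP.homEquiv L W).symm.bijective
  obtain ⟨g, hg⟩ := (key _ (StalkHomLib.isQCoh_hF' (F := pO i) (N := G) hP)).2 (𝟙 _)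
  exact ⟨⟨g, (key _ (QCohLib.isQCoh_pushforward W i)).1
    ((Category.assoc _ _ _).trans ((congrArg (aMap i t ≫ ·) hg).trans
      ((Category.comp_id _).trans (Category.id_comp _).symm))), hg⟩⟩

/-- The adjoint-defined sheaf hom agrees with the internal hom. -/
theorem nonempty_sheafHom_iso_hF (P G : Z.Modules) [DCoh.HasSheafHom P] :
    Nonempty ((DCoh.sheafHom P).obj G ≅ (StalkHomLib.hF P).obj G) :=
  ⟨((DCoh.sheafHomAdj P).rightAdjointUniq
    ((ModSite.sheafHomAdj (O := Z.sheaf) P).ofNatIsoLeft (ModTensor.tensorSymm (O := Z.sheaf) P))).app G⟩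

/-- Duality descends to a closed subscheme: `i_* ω_X ≅ Hom(i_* O_X, ω_Z)`. -/
theorem nonempty_iso_hF_of_pairs (k : Type u) [CommRing k] [Z.Over (Spec (CommRingCat.of k))]
    [X.Over (Spec (CommRingCat.of k))] (hi : i ≫ (Z ↘ Spec (CommRingCat.of k)) = X ↘ Spec (CommRingCat.of k))
    [IsLocallyNoetherian Z] (r : ℕ) {ωZ : Z.Modules} (trZ : Coh.HH Z ωZ r →ₗ[k] k)
    (hZ : Canon.IsRDualOver k Z r ωZ trZ) {ωX : X.Modules} (trX : Coh.HH X ωX r →ₗ[k] k)
    (hX : Canon.IsRDualOver k X r ωX trX) :
    Nonempty ((Coh.push i).obj ωX ≅ (StalkHomLib.hF (pO i)).obj ωZ) := by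
  haveI := hX.1
  haveI := hZ.1
  obtain ⟨θ, hθ⟩ := exists_pushLinearEquiv i k hi r
  have hq : Coh.IsQCoh ((Coh.push i).obj ωX) := QCohLib.isQCoh_pushforward ωX i
  obtain ⟨τ, hτ⟩ := (hZ.2 _ hq).2 (trX ∘ₗ (θ ωX hX.1).symm.toLinearMap)
  have huniv : ∀ F : X.Modules, Coh.IsQCoh F →
      Function.Bijective (fun φ : F ⟶ ωX => (Coh.push i).map φ ≫ τ) := fun F hF => by
    haveI := hF
    have hqF : Coh.IsQCoh ((Coh.push i).obj F) := QCohLib.isQCoh_pushforward F i
    have e : Canon.dualityMap k Z r ωZ trZ ((Coh.push i).obj F) ∘ (fun φ : F ⟶ ωX => (Coh.push i).map φ ≫ τ) =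
        (θ F hF).congrLeft k k ∘ Canon.dualityMap k X r ωX trX F := funext fun φ => LinearMap.ext fun y => by
      obtain ⟨y, rfl⟩ := (θ F hF).surjective y
      show trZ (Canon.HHlin k ((Coh.push i).map φ ≫ τ) r (θ F hF y)) =
        trX (Canon.HHlin k φ r ((θ F hF).symm (θ F hF y)))
      refine Eq.trans ?_ (congrArg (fun z => trX (Canon.HHlin k φ r z)) ((θ F hF).symm_apply_apply y)).symm
      refine (congrArg trZ (TwistShriek.HHlin_comp_apply k ((Coh.push i).map φ) τ r _)).trans ?_
      rw [← hθ F ωX hF hX.1 φ y]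
      exact (LinearMap.congr_fun hτ _).trans (congrArg trX ((θ ωX hX.1).symm_apply_apply _))
    exact ((hZ.2 _ hqF).of_comp_iff' _).1 (e ▸ (LinearEquiv.bijective _).comp (hX.2 F hF))
  haveI := isIso_aMap_closed i hX.1 τ huniv
  exact ⟨asIso (aMap i τ)⟩

end Groth.Agent.TwistShriek.FinPush
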