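import Groth.Agent.DCohMore.ProjPC
import Groth.Agent.DCohMore.GoodMain
import Groth.Agent.DCohLib.TensorPerf

/-!
# Properties on projective space detected by twists
-/

set_option autoImplicit false
set_option linter.style.haveILetI false
set_option linter.unusedSectionVars false
set_option maxHeartbeats 1600000
set_option backward.isDefEq.respectTransparency false

universe u

open CategoryTheory CategoryTheory.Limits AlgebraicGeometry TopologicalSpace Opposite
open CategoryTheory.Pretriangulated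
open Groth.Agent.DCohLib Groth.Agent.DCohMore Groth.Agent.DCohMore.TwistFam

attribute [local instance] HasDerivedCategory.standard

noncomputable section

namespace Groth.Agent.TwistShriek.ProjWindow

variable (n : ℕ) (R : Type u) [CommRing R] [DCoh.HasRpush (CohB1.ProjSpace.toSpec n R)]

local notation "P" => CohB1.ProjSpace n R
local notation "π" => CohB1.ProjSpace.toSpec n R

/-- A pair of properties on the base and on projective space, closed under the operations of the induction
on twists. -/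
structure Closed (Qp : DCoh.D (Spec (CommRingCat.of R)) → Prop) (Pp : DCoh.D P → Prop) : Prop where
  isoS : ∀ {A B : DCoh.D (Spec (CommRingCat.of R))}, (A ≅ B) → Qp A → Qp B
  iso : ∀ {A B : DCoh.D P}, (A ≅ B) → Pp A → Pp B
  zero : ∀ {A : DCoh.D P}, IsZero A → Pp A
  third : ∀ T ∈ distTriang (DCoh.D (Spec (CommRingCat.of R))), Qp T.obj₁ → Qp T.obj₂ → Qp T.obj₃
  obj₂ : ∀ T ∈ distTriang (DCoh.D P), Pp T.obj₁ → Pp T.obj₃ → Pp T.obj₂
  lpull : ∀ [DCoh.HasLpull π] (M : DCoh.D (Spec (CommRingCat.of R))), DCoh.IsQCohD M → Qp M →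
    Pp ((DCoh.Lpull π).obj M)
  rpush : ∀ (d : ℤ) (W : DCoh.D P), Pp W → Qp ((DCoh.Rpush π).obj ((DCoh.LTensorMod ((projMul n R).F d)).obj W))
  twist : ∀ (d : ℤ) (W : DCoh.D P), Pp W → Pp ((DCoh.LTensorMod ((projMul n R).F d)).obj W)

variable {Qp : DCoh.D (Spec (CommRingCat.of R)) → Prop} {Pp : DCoh.D (CohB1.ProjSpace n R) → Prop}

/-- The induction: twists vanishing below the window and pseudo-coherent inside it. -/
theorem of_window (H : Closed n R Qp Pp) : ∀ r : ℕ, r ≤ n + 1 → ∀ L : DCoh.D P, DCoh.IsQCohD L →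
    (∀ i : ℤ, -((n : ℤ) + 1 - r) ≤ i → i < 0 →
      IsZero ((DCoh.Rpush π).obj ((DCoh.LTensorMod ((projMul n R).F i)).obj L))) →
    (∀ i : ℤ, 0 ≤ i → i < r → Qp ((DCoh.Rpush π).obj ((DCoh.LTensorMod ((projMul n R).F i)).obj L))) →
    Pp L := by
  intro r
  induction r with
  | zero =>
    intro _ L hL hz _
    haveI := hasLpull (CohB1.ProjSpace.toSpec n R)
    refine H.zero ?_
    refine isZero_of_twists (projMul n R) (isAffineOpen_projMul n R) (isQCoh_projMul n R) (projMulZero n R) L hL
      (-((n : ℤ) + 1)) fun e he k φ => ?_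
    have he' : e ≤ n := by simpa [Nat.lt_succ_iff] using he
    have hzero := hz (-((n : ℤ) + 1) + e) (by push_cast; omega) (by omega)
    let O := Coh.structureModule (Spec (CommRingCat.of R))
    let q := -k
    haveI : IsIso ((BC.lamN π q).app O) :=
      BC.isIso_lamN_app_flat π q _ ((isFlat_iff _).2 (SiteBase.ExtZeroPre.isFlat_unit (Spec (CommRingCat.of R)).sheaf))
    let sX := ((DerivedCategory.singleFunctors (CohB1.ProjSpace n R).Modules).shiftIso k q 0 (by omega)).app
      (Coh.structureModule P)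
    let b : (DCoh.Lpull π).obj ((BC.TT _ q).obj O) ≅ (DCoh.inD P (Coh.structureModule P))⟦k⟧ :=
      asIso ((BC.lamN π q).app O) ≪≫ (BC.TT P q).mapIso (pullStructureIso π) ≪≫ sX.symm
    rw [← cancel_epi b.hom, comp_zero]
    exact ((lpullRpushAdj π).homEquiv _ _).injective (hzero.eq_of_tgt _ _)
  | succ r ih =>
    intro hr L hL hz hpc
    haveI := hasLpull (CohB1.ProjSpace.toSpec n R)
    let adj := lpullRpushAdj π
    let Tw := fun (i : ℤ) => DCoh.LTensorMod ((projMul n R).F i)
    obtain ⟨e0⟩ := nonempty_lTensorMod_unit (A := (projMul n R).F 0) (projMulZero n R) L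
    let Q₀ := (DCoh.Rpush π).obj L
    have hQq : DCoh.IsQCohD Q₀ := isQCohD_rpush π L hL
    have hQ : Qp Q₀ := H.isoS ((DCoh.Rpush π).mapIso e0) (hpc 0 le_rfl (by omega))
    let E := (DCoh.Lpull π).obj Q₀
    have hE : Pp E := H.lpull Q₀ hQq hQ
    have hEq : DCoh.IsQCohD E := TildeD.isQCohD_lpull π _ hQq
    haveI : IsIso (adj.unit.app Q₀) := isIso_unit_qcoh n R Q₀ hQq
    have hε : IsIso ((DCoh.Rpush π).map (adj.counit.app L)) := by
      haveI : IsIso (adj.unit.app Q₀ ≫ (DCoh.Rpush π).map (adj.counit.app L)) := by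
        erw [adj.right_triangle_components]
        exact inferInstanceAs (IsIso (𝟙 _))
      exact IsIso.of_isIso_comp_left (adj.unit.app Q₀) _
    obtain ⟨C, g, δ, hT⟩ := distinguished_cocone_triangle (adj.counit.app L)
    have hCq : DCoh.IsQCohD C := isQCohD_obj₂ _ (rot_of_distTriang _ hT) hL
      (fun p => isQCoh_of_iso' (((DerivedCategory.homologyFunctor (CohB1.ProjSpace n R).Modules 0).shiftIso 1 p (1 + p) rfl).app E).symm
        (hEq (1 + p)))
    have hC0 : IsZero ((DCoh.Rpush π).obj C) := by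
      obtain ⟨c, hc⟩ := BC.exTri_rpush π _ hT
      exact Triangle.isZero₃_of_isIso₁ _ hc hε
    have hTw : ∀ i : ℤ, ∃ c, Triangle.mk ((DCoh.Rpush π).map ((Tw i).map (adj.counit.app L)))
        ((DCoh.Rpush π).map ((Tw i).map g)) c ∈ distTriang (DCoh.D (Spec (CommRingCat.of R))) := fun i =>
      ((BC.exTri_lTensorMod ((projMul n R).F i)).comp (BC.exTri_rpush π)) _ hT
    let L' := (Tw 1).obj C
    have hL'q : DCoh.IsQCohD L' := BC.isQCohD_lTensorMod _ (isQCoh_projMul n R 1) C hCq
    have hpcL' : Pp L' := by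
      refine ih (by omega) L' hL'q (fun i hi hi' => ?_) fun i hi hi' => ?_
      · obtain ⟨e⟩ := nonempty_twist_twist n R 1 i C
        refine IsZero.of_iso ?_ ((DCoh.Rpush π).mapIso e)
        by_cases h1 : 1 + i = 0
        · obtain ⟨z⟩ := nonempty_lTensorMod_unit (A := (projMul n R).F (1 + i))
            (eqToIso (by rw [h1]) ≪≫ projMulZero n R) C
          exact hC0.of_iso ((DCoh.Rpush π).mapIso z)
        · obtain ⟨c, hc⟩ := hTw (1 + i)
          have z1 : IsZero ((DCoh.Rpush π).obj ((Tw (1 + i)).obj E)) :=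
            isZero_rpush_twist_lpull n R (1 + i) (by omega) (by omega) Q₀ hQq
          have z2 : IsZero ((DCoh.Rpush π).obj ((Tw (1 + i)).obj L)) :=
            hz (1 + i) (by push_cast; omega) (by omega)
          exact Triangle.isZero₃_of_isIso₁ _ hc ⟨0, z1.eq_of_src _ _, z2.eq_of_src _ _⟩
      · obtain ⟨e⟩ := nonempty_twist_twist n R 1 i C
        refine H.isoS ((DCoh.Rpush π).mapIso e).symm ?_
        obtain ⟨c, hc⟩ := hTw (1 + i)
        exact H.third _ hc (H.rpush (1 + i) E hE) (hpc (1 + i) (by omega) (by push_cast; omega))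
    have hCpc : Pp C := by
      obtain ⟨e⟩ := nonempty_twist_twist n R 1 (-1) C
      obtain ⟨z⟩ := nonempty_lTensorMod_unit (A := (projMul n R).F (1 + -1))
        (eqToIso (by rw [add_neg_cancel]) ≪≫ projMulZero n R) C
      exact H.iso (e ≪≫ z) (H.twist (-1) L' hpcL')
    exact H.obj₂ _ hT hE hCpc

/-- A property on projective space holds when the twists `0, …, n` have it downstairs. -/
theorem of_twists (H : Closed n R Qp Pp) (K : DCoh.D P) (hK : DCoh.IsQCohD K)
    (h : ∀ d : ℕ, d ≤ n → Qp ((DCoh.Rpush π).obj ((DCoh.LTensorMod (Twist.twistProjSpace n R (d : ℤ))).obj K))) :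
    Pp K := by
  refine of_window n R H (n + 1) le_rfl K hK (fun i hi hi' => ?_) fun i hi hi' => ?_
  · push_cast at hi
    omega
  · obtain ⟨d, rfl⟩ := Int.eq_ofNat_of_zero_le hi
    exact h d (by omega)

/-- Twists of perfect objects are perfect. -/
theorem isPerfect_twistMod (d : ℤ) (W : DCoh.D P) (h : DCoh.IsPerfect W) :
    DCoh.IsPerfect ((DCoh.LTensorMod ((projMul n R).F d)).obj W) := by
  obtain ⟨a⟩ := nonempty_lTensorMod_single ((projMul n R).F d) W
  have hs := isStrictlyPerfect_single (isFinLocFree_projMul n R d)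
  exact isPerfect_iso a.symm (isPerfect_lTensor (sgl₀ ((projMul n R).F d)) (isKFlat_of_strictlyPerfect hs)
    (isPerfect_of_perfOn ⟨_, hs, ⟨Iso.refl _⟩⟩) W h)

/-- Perfection is such a property. -/
theorem closed_isPerfect : Closed n R DCoh.IsPerfect DCoh.IsPerfect where
  isoS := fun e h => isPerfect_iso e h
  iso := fun e h => isPerfect_iso e h
  zero := fun h => isPerfect_of_perfOn (perfOn_of_isZero h)
  third := fun T hT h₁ h₂ => isPerfect_obj₃ T hT h₁ h₂
  obj₂ := fun T hT h₁ h₃ => isPerfect_obj₂ T hT h₁ h₃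
  lpull := fun M _ h => isPerfect_lpull π M h
  rpush := fun d W h => by
    haveI : Smooth π := ProjSmoothLib.smooth_toSpec n R
    haveI : IsProper π := inferInstance
    exact isPerfect_rpush_proper π _ (isPerfect_twistMod n R d W h)
  twist := fun d W h => isPerfect_twistMod n R d W h

end Groth.Agent.TwistShriek.ProjWindow
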