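import Groth.Agent.TwistShriek.KernelTest
import Groth.Agent.DCohMore.ProjPC
import Groth.Agent.TwistShriek.ProjWindow
import Groth.Agent.DCohMore.ThickGen
import Groth.Agent.DCohMore.PerfHom
import Groth.Agent.ProjSmoothLib.Basic
import Groth.Agent.CompleteCurve.ProjSpace
import Groth.Agent.PicProjLib.Chart
import Groth.Agent.RelPCLib.Rel
import Groth.Agent.RelPCLib.Compat

/-!
# Testing a quasi-coherent object by perfect objects

An affine open of a separated scheme of finite type over `A` is closed in a chart of projective space; through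
a perfect kernel, finiteness properties of all `Rπ_*(E ⊗ K)` pass to the transform on projective space, hence
to the push forward of the restriction of `K`.
-/

set_option autoImplicit false
set_option linter.style.haveILetI false
set_option linter.unusedSectionVars false
set_option backward.isDefEq.respectTransparency false
set_option maxHeartbeats 1000000

universe u

open CategoryTheory CategoryTheory.Limits AlgebraicGeometry
open Groth.Agent.DCohLib Groth.Agent.DCohMore Groth.Agent.RelPCLib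

attribute [local instance] HasDerivedCategory.standard

noncomputable section

namespace Groth.Agent.TwistShriek

/-- An affine open of a scheme of finite type over `A` embedded in a chart of projective space. -/
theorem exists_proj_chart (A : Type u) [CommRing A] {X : Scheme.{u}} (π : X ⟶ Spec (CommRingCat.of A))
    [LocallyOfFiniteType π] (W : X.Opens) (hW : IsAffineOpen W) :
    ∃ (n : ℕ) (φ : MvPolynomial (Fin n) Γ(Spec (CommRingCat.of A), ⊤) →+* Γ(X, W)),
      DerSch.IsChart π W ⊤ le_top φ ∧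
      ∃ (V : (CohB1.ProjSpace n A).Opens) (_ : IsAffineOpen V)
        (t : Spec (CommRingCat.of (MvPolynomial (Fin n) Γ(Spec (CommRingCat.of A), ⊤))) ≅ (V : Scheme.{u})),
        W.ι ≫ π = (emb W φ ≫ t.hom) ≫ V.ι ≫ CohB1.ProjSpace.toSpec n A := by
  let S := Spec (CommRingCat.of A)
  obtain ⟨n, φ, hφ⟩ := RelPCLib.exists_chart π (le_top : W ≤ π ⁻¹ᵁ ⊤)
    (π.finiteType_appLE (isAffineOpen_top S) hW le_top)
  let γ : A →+* Γ(S, ⊤) := (Scheme.ΓSpecIso (CommRingCat.of A)).inv.hom
  have hγ : Function.Bijective γ :=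
    (Scheme.ΓSpecIso (CommRingCat.of A)).symm.commRingCatIsoToRingEquiv.bijective
  let m : MvPolynomial (Fin n) A →+* MvPolynomial (Fin n) Γ(S, ⊤) := MvPolynomial.map γ
  have hm : Function.Bijective m := ⟨MvPolynomial.map_injective γ hγ.1, MvPolynomial.map_surjective γ hγ.2⟩
  let α := PicProjLib.awayToPoly n A 0
  have hα : Function.Bijective α := (RingEquiv.ofRingHom (PicProjLib.polyToAway n A 0) (PicProjLib.awayToPoly n A 0)
      (PicProjLib.polyToAway_comp n A 0) (PicProjLib.awayToPoly_comp n A 0)).symm.bijective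
  haveI : IsIso (CommRingCat.ofHom (m.comp α)) := (ConcreteCategory.isIso_iff_bijective _).2 (hm.comp hα)
  let j := Spec.map (CommRingCat.ofHom (m.comp α)) ≫ ProjMap.chart (R := A) (0 : Fin (n + 1))
  haveI : IsOpenImmersion j := inferInstance
  have hj : j ≫ CohB1.ProjSpace.toSpec n A =
      Spec.map (CommRingCat.ofHom (MvPolynomial.C.comp γ : A →+* MvPolynomial (Fin n) Γ(S, ⊤))) := by
    rw [Category.assoc, ProjMap.awayι_toSpec, ← Spec.map_comp, ← Spec.map_comp]
    congr 1
    refine CommRingCat.hom_ext (RingHom.ext fun a => ?_)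
    show m (α (PicProjLib.constAway n A 0 a)) = MvPolynomial.C (γ a)
    rw [show α (PicProjLib.constAway n A 0 a) = MvPolynomial.C a from
      ProjMap.evalAway_fromZero (A := MvPolynomial (Fin n) A) _ _ _ a]
    exact MvPolynomial.map_C γ a
  refine ⟨n, φ, hφ, j.opensRange, isAffineOpen_opensRange j, j.isoOpensRange, ?_⟩
  have hS : Spec.map (CommRingCat.ofHom γ) = (isAffineOpen_top S).fromSpec := by
    rw [IsAffineOpen.fromSpec_top, Scheme.isoSpec_Spec_inv]
    rfl
  simp only [Category.assoc, Scheme.Hom.isoOpensRange_hom_ι_assoc]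
  rw [hj, emb, Category.assoc, ← Spec.map_comp, ← CommRingCat.ofHom_comp, ← RingHom.comp_assoc, hφ.2,
    CommRingCat.ofHom_comp, Spec.map_comp, hS, CommRingCat.ofHom_hom,
    IsAffineOpen.SpecMap_appLE_fromSpec π (isAffineOpen_top S) hW le_top, hW.toSpecΓ_fromSpec_assoc]

/-- The restriction to an affine open, pushed to a chart, is a retract of an object on projective space whose
twists are direct images of tensor products with perfect objects. -/
theorem exists_model (A : Type u) [CommRing A] {X : Scheme.{u}}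
    (π : X ⟶ Spec (CommRingCat.of A)) [IsSeparated π] [QuasiCompact π] [LocallyOfFiniteType π]
    [DCoh.HasRpush π] (W : X.Opens) (hW : IsAffineOpen W) :
    ∃ (n : ℕ) (φ : MvPolynomial (Fin n) Γ(Spec (CommRingCat.of A), ⊤) →+* Γ(X, W))
      (_ : DerSch.IsChart π W ⊤ le_top φ) (V : (CohB1.ProjSpace n A).Opens)
      (t : Spec (CommRingCat.of (MvPolynomial (Fin n) Γ(Spec (CommRingCat.of A), ⊤))) ≅ (V : Scheme.{u}))
      (_ : IsClosedImmersion (emb W φ ≫ t.hom)) (_ : W.ι ≫ π = (emb W φ ≫ t.hom) ≫ V.ι ≫ CohB1.ProjSpace.toSpec n A),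
      haveI := BC.hasRpush (CohB1.ProjSpace.toSpec n A)
      ∀ K : DCoh.D X, DCoh.IsQCohD K → ∃ M : DCoh.D (CohB1.ProjSpace n A), DCoh.IsQCohD M ∧
        (∀ d : ℕ, ∃ E : CochainComplex X.Modules ℤ, DCoh.IsKFlat E ∧ DCoh.IsPerfect (DerivedCategory.Q.obj E) ∧
          Nonempty ((DCoh.Rpush (CohB1.ProjSpace.toSpec n A)).obj
            ((DCoh.LTensorMod (Twist.twistProjSpace n A (d : ℤ))).obj M) ≅
            (DCoh.Rpush π).obj ((DCoh.LTensorCx E).obj K))) ∧
        Nonempty (Retract ((pushD (emb W φ ≫ t.hom)).obj ((DCoh.restrictD W.ι).obj K))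
          ((DCoh.restrictD V.ι).obj M)) := by
  haveI : CompactSpace X := QuasiCompact.compactSpace_of_compactSpace π
  haveI : QuasiSeparatedSpace X := quasiSeparatedSpace_of_quasiSeparated π
  obtain ⟨n, φ, hφ, V, hV, t, w⟩ := exists_proj_chart A π W hW
  haveI := RelPCLib.isClosedImmersion_emb hW hφ.1
  let P := CohB1.ProjSpace n A
  let η := CohB1.ProjSpace.toSpec n A
  haveI : Smooth η := ProjSmoothLib.smooth_toSpec n A
  haveI : IsProper η := inferInstance
  haveI : CompactSpace P := QuasiCompact.compactSpace_of_compactSpace η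
  haveI : QuasiSeparatedSpace P := quasiSeparatedSpace_of_quasiSeparated η
  haveI : DCoh.HasLpull (pullback.fst π η) := DCohLib.hasLpull _
  haveI := BC.hasRpush (pullback.snd π η)
  haveI := BC.hasRpush η
  refine ⟨n, φ, hφ, V, t, inferInstance, w, fun K hK => ?_⟩
  obtain ⟨R, hR, hRp, hRK⟩ := exists_kernel π η W V hV.isCompact (emb W φ ≫ t.hom) w
  have hpK : DCoh.IsQCohD ((DCoh.Lpull (pullback.fst π η)).obj K) := TildeD.isQCohD_lpull (pullback.fst π η) K hK
  have hTK : DCoh.IsQCohD ((DCoh.LTensorCx R).obj ((DCoh.Lpull (pullback.fst π η)).obj K)) :=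
    TildeD.isQCohD_lTensorCx R (DCohMore.isQCohD_of_isPerfect hRp) _ hpK
  refine ⟨(trR π η R).obj K, DCohMore.isQCohD_rpush (pullback.snd π η) _ hTK, fun d => ?_, hRK K hK⟩
  let O := Twist.twistProjSpace n A (d : ℤ)
  have hO : FlatMod.IsFinLocFree O := DCohMore.TwistFam.isFinLocFree_projMul n A d
  let L := (resX P).obj (sgl₀ O)
  haveI := isIso_Q_resXπ (sgl₀ O)
  let eL : DerivedCategory.Q.obj L ≅ DerivedCategory.Q.obj (sgl₀ O) :=
    asIso (DerivedCategory.Q.map ((resXπ P).app (sgl₀ O)))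
  have hLp : DCoh.IsPerfect (DerivedCategory.Q.obj L) :=
    isPerfect_iso eL.symm (isPerfect_of_perfOn ⟨_, isStrictlyPerfect_single hO, ⟨Iso.refl _⟩⟩)
  obtain ⟨E, hE, hEp, hEK⟩ := exists_twist π η R hRp L (isKFlat_resX _) hLp
  obtain ⟨e⟩ := hEK K hK
  obtain ⟨a⟩ := nonempty_lTensorMod_single O ((trR π η R).obj K)
  obtain ⟨b⟩ := nonempty_lTensor_of_iso (E := sgl₀ O) (E' := L) eL
  exact ⟨E, hE, hEp, ⟨(DCoh.Rpush η).mapIso (a ≪≫ (b.app _).symm) ≪≫ e⟩⟩

/-- Relative pseudo-coherence is detected by tensoring with perfect objects. -/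
theorem rel_of_perfect_test (A : Type u) [CommRing A] {X : Scheme.{u}}
    (π : X ⟶ Spec (CommRingCat.of A)) [IsSeparated π] [QuasiCompact π] [LocallyOfFiniteType π]
    [DCoh.HasRpush π] (K : DCoh.D X) (hK : DCoh.IsQCohD K)
    (h : ∀ (E : CochainComplex X.Modules ℤ), DCoh.IsKFlat E → DCoh.IsPerfect (DerivedCategory.Q.obj E) →
      ∀ m : ℤ, DCoh.IsPseudoCoherentD m ((DCoh.Rpush π).obj ((DCoh.LTensorCx E).obj K))) (m : ℤ) :
    DerSch.IsPseudoCoherentRel π m K := by
  refine RelPCLib.rel_of_test π fun x => ?_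
  obtain ⟨_, ⟨W : X.Opens, hW, rfl⟩, hx, -⟩ :=
    X.isBasis_affineOpens.exists_subset_of_mem_open (a := x) (Set.mem_univ x) isOpen_univ
  obtain ⟨n, φ, hφ, V, t, _, -, hM⟩ := exists_model A π W hW
  obtain ⟨M, hMq, hT, ⟨r⟩⟩ := hM K hK
  refine ⟨W, ⊤, le_top, hW, isAffineOpen_top _, hx, (RelPCLib.test_iff_of_chart π hW hφ).2 fun hc => ?_⟩
  haveI := BC.hasRpush (CohB1.ProjSpace.toSpec n A)
  have hpc : ∀ k : ℤ, DCoh.IsPseudoCoherentD k M :=
    (DCohMore.TwistFam.pseudoCoherent_iff_twists n A M hMq).2 fun d _ k => by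
      obtain ⟨E, hE, hEp, ⟨e⟩⟩ := hT d
      exact isPseudoCoherentD_iso e.symm (h E hE hEp k)
  have hi : DCoh.IsPseudoCoherentD m ((pushD (emb W φ ≫ t.hom)).obj ((DCoh.restrictD W.ι).obj K)) :=
    pc_of_retract r (isPseudoCoherentD_restrict V.ι (hpc m))
  obtain ⟨c⟩ := RelPCLib.nonempty_pushD_comp (emb W φ) t.hom (emb W φ ≫ t.hom) rfl ((DCoh.restrictD W.ι).obj K)
  exact (RelPCLib.pc_pushD_iso_iff t m _).1 (isPseudoCoherentD_iso c.symm hi)

/-- The push forwards to charts are perfect when all tests are. -/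
theorem exists_perfect_chart (A : Type u) [CommRing A] {X : Scheme.{u}}
    (π : X ⟶ Spec (CommRingCat.of A)) [IsSeparated π] [QuasiCompact π] [LocallyOfFiniteType π]
    [DCoh.HasRpush π] (K : DCoh.D X) (hK : DCoh.IsQCohD K)
    (h : ∀ (E : CochainComplex X.Modules ℤ), DCoh.IsKFlat E → DCoh.IsPerfect (DerivedCategory.Q.obj E) →
      DCoh.IsPerfect ((DCoh.Rpush π).obj ((DCoh.LTensorCx E).obj K))) (x : X) :
    ∃ (W : X.Opens) (_ : x ∈ W) (Q : Scheme.{u}) (i : (W : Scheme.{u}) ⟶ Q) (_ : IsClosedImmersion i)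
      (g : Q ⟶ Spec (CommRingCat.of A)) (_ : Smooth g), i ≫ g = W.ι ≫ π ∧
      DCoh.IsPerfect ((pushD i).obj ((DCoh.restrictD W.ι).obj K)) := by
  obtain ⟨_, ⟨W : X.Opens, hW, rfl⟩, hx, -⟩ :=
    X.isBasis_affineOpens.exists_subset_of_mem_open (a := x) (Set.mem_univ x) isOpen_univ
  obtain ⟨n, φ, hφ, V, t, hc, w, hM⟩ := exists_model A π W hW
  obtain ⟨M, hMq, hT, ⟨r⟩⟩ := hM K hK
  haveI := BC.hasRpush (CohB1.ProjSpace.toSpec n A)
  haveI : Smooth (CohB1.ProjSpace.toSpec n A) := ProjSmoothLib.smooth_toSpec n A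
  have hp : DCoh.IsPerfect M :=
    ProjWindow.of_twists n A (ProjWindow.closed_isPerfect n A) M hMq fun d _ => by
      obtain ⟨E, hE, hEp, ⟨e⟩⟩ := hT d
      exact isPerfect_iso e.symm (h E hE hEp)
  exact ⟨W, hx, V, emb W φ ≫ t.hom, hc, V.ι ≫ CohB1.ProjSpace.toSpec n A, inferInstance, w.symm,
    isPerfect_of_retract r (isPerfect_restrict V.ι hp)⟩

end Groth.Agent.TwistShriek
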