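import Groth.Agent.TwistShriek.SurfCan
import Groth.Agent.SmoothSecLib.Irred
import Groth.Agent.S11559
import Groth.Agent.AmpleLib.Pullback

/-! # Smooth proper surfaces with several components are projective -/

set_option autoImplicit false
set_option backward.isDefEq.respectTransparency false
set_option linter.style.haveILetI false
set_option maxHeartbeats 1000000

universe u

open CategoryTheory CategoryTheory.Limits AlgebraicGeometry TopologicalSpace
open Groth.Agent.PullbackMod Groth.Agent.DCohLib

noncomputable section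

namespace Groth.Agent.TwistShriek

/-- Invertible modules glue along disjoint open and closed sets. -/
theorem exists_glue_clopen {X : Scheme.{u}} {ι : Type} [Finite ι] (U : ι → X.Opens)
    (hcl : ∀ i, IsClosed (U i : Set X)) (hd : ∀ i j, i ≠ j → Disjoint (U i : Set X) (U j : Set X))
    (hcov : ∀ x : X, ∃ i, x ∈ U i) (P : ∀ i, (U i : Scheme.{u}).Modules) (hP : ∀ i, PicF.IsInvertible (P i)) :
    ∃ M : X.Modules, PicF.IsInvertible M ∧
      ∀ i, Nonempty ((Scheme.Modules.restrictFunctor (U i).ι).obj M ≅ P i) := by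
  classical
  haveI := Fintype.ofFinite ι
  haveI : ∀ i, IsClosedImmersion (U i).ι := fun i =>
    IsClosedImmersion.of_isPreimmersion _ (by rw [Scheme.Opens.range_ι]; exact hcl i)
  let Q : ι → X.Modules := fun i => (Scheme.Modules.pushforward (U i).ι).obj (P i)
  let M := ⨁ Q
  have hzero : ∀ i j, i ≠ j → IsZero ((Scheme.Modules.restrictFunctor (U i).ι).obj (Q j)) := fun i j hij => by
    refine DCohLib.isZero_of_stalks fun y => ?_
    haveI : Subsingleton ((Q j).presheaf.stalk ((U i).ι y)) :=
      DCohLib.subsingleton_stalk_pushforward (U j).ι (P j) _ (by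
        rw [Scheme.Opens.range_ι]
        exact fun h => Set.disjoint_left.1 (hd i j hij) y.2 h)
    exact ((Scheme.Modules.restrictStalkNatIso (U i).ι y).app (Q j)).addCommGroupIsoToAddEquiv.toEquiv.subsingleton_congr.2 this
  have hiso : ∀ i, Nonempty ((Scheme.Modules.restrictFunctor (U i).ι).obj M ≅ P i) := by
    intro i
    let R := Scheme.Modules.restrictFunctor (U i).ι
    have hsum : R.map (biproduct.π Q i) ≫ R.map (biproduct.ι Q i) = 𝟙 (R.obj M) := by
      have h := congrArg (fun φ => R.map φ) (biproduct.total (f := Q))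
      simp only [Functor.map_sum, Functor.map_id, Functor.map_comp] at h
      refine Eq.trans ?_ h
      rw [Finset.sum_eq_single i]
      · intro j _ hj
        rw [(hzero i j (Ne.symm hj)).eq_of_src (R.map (biproduct.ι Q j)) 0, comp_zero]
      · exact fun h => absurd (Finset.mem_univ i) h
    haveI : IsIso (R.map (biproduct.π Q i)) :=
      ⟨R.map (biproduct.ι Q i), hsum, by rw [← R.map_comp, biproduct.ι_π_self, R.map_id]⟩
    exact ⟨asIso (R.map (biproduct.π Q i)) ≪≫
      asIso ((Scheme.Modules.restrictAdjunction (U i).ι).counit.app (P i))⟩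
  refine ⟨M, ParaFLib.isInvertible_of_locally fun x => ?_, hiso⟩
  obtain ⟨i, hi⟩ := hcov x
  obtain ⟨e⟩ := hiso i
  exact ⟨U i, hi, ParaFLib.isInvertible_of_iso e.symm (hP i)⟩

variable (k : Type u) [Field k] {X : Scheme.{u}} [X.Over (Spec (CommRingCat.of k))]
  [IsProper (X ↘ Spec (CommRingCat.of k))] [Smooth (X ↘ Spec (CommRingCat.of k))]

/-- A smooth proper surface has an ample module. -/
theorem exists_ample_components (hdim : ∀ Z ∈ irreducibleComponents (X : Type u), topologicalKrullDim Z = 2) :
    ∃ H : X.Modules, CohB1.IsAmple H ∧ SmoothOfRelativeDimension 2 (X ↘ Spec (CommRingCat.of k)) := by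
  classical
  let f := X ↘ Spec (CommRingCat.of k)
  haveI := EulerIneqLib.isNoetherian_proper (X := X) k
  have hdom : ∀ z : X, IsDomain (X.presheaf.stalk z) := fun z => by
    haveI := ASp.isRegularLocalRing_stalk_of_smooth_field f z
    exact RegLocal.isDomain _
  haveI : ∀ z : X, _root_.IsReduced (X.presheaf.stalk z) := fun z => by haveI := hdom z; infer_instance
  haveI : IsReduced X := isReduced_of_isReduced_stalk X
  have hcomp : ∀ x : X, IsIrreducible (connectedComponent x) :=
    SmoothSecLib.isIrreducible_connectedComponent_of_domain hdom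
  have hT : ∀ T ∈ irreducibleComponents (X : Type u), ∀ x ∈ T, connectedComponent x = T := fun T hT x hx =>
    le_antisymm (hT.2 (hcomp x) (hT.1.isConnected.subset_connectedComponent hx))
      (hT.1.isConnected.subset_connectedComponent hx)
  let ι := {T // T ∈ irreducibleComponents (X : Type u)}
  haveI : Finite ι := (TopologicalSpace.NoetherianSpace.finite_irreducibleComponents (α := X)).to_subtype
  have hclosed : ∀ T : ι, IsClosed T.1 := fun T => isClosed_of_mem_irreducibleComponents T.1 T.2
  have hdisj : ∀ S T : ι, S ≠ T → Disjoint S.1 T.1 := fun S T hST =>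
    Set.disjoint_left.2 fun x hxS hxT => hST (Subtype.ext ((hT _ S.2 x hxS).symm.trans (hT _ T.2 x hxT)))
  have hcov : ∀ x : X, ∃ T : ι, x ∈ T.1 := fun x =>
    ⟨⟨irreducibleComponent x, irreducibleComponent_mem_irreducibleComponents x⟩, mem_irreducibleComponent⟩
  have hopen : ∀ T : ι, IsOpen T.1 := fun T => by
    have h : (T.1)ᶜ = ⋃ S ∈ {S : ι | S ≠ T}, S.1 := by
      ext x
      simp only [Set.mem_compl_iff, Set.mem_iUnion, Set.mem_ofPred_eq]
      refine ⟨fun hx => ?_, fun ⟨S, hS, hxS⟩ hxT => Set.disjoint_left.1 (hdisj S T hS) hxS hxT⟩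
      obtain ⟨S, hS⟩ := hcov x
      exact ⟨S, fun e => hx (e ▸ hS), hS⟩
    rw [← isClosed_compl_iff, h]
    exact (Set.toFinite _).isClosed_biUnion fun S _ => hclosed S
  let U : ι → X.Opens := fun T => ⟨T.1, hopen T⟩
  haveI : ∀ T, IsClosedImmersion (U T).ι := fun T =>
    IsClosedImmersion.of_isPreimmersion _ (by rw [Scheme.Opens.range_ι]; exact hclosed T)
  letI : ∀ T, (U T : Scheme.{u}).Over (Spec (CommRingCat.of k)) := fun T => ⟨(U T).ι ≫ f⟩
  haveI : ∀ T, IsProper ((U T : Scheme.{u}) ↘ Spec (CommRingCat.of k)) := fun T =>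
    (inferInstanceAs (IsProper ((U T).ι ≫ f)))
  haveI : ∀ T, Smooth ((U T : Scheme.{u}) ↘ Spec (CommRingCat.of k)) := fun T =>
    (inferInstanceAs (Smooth ((U T).ι ≫ f)))
  haveI : ∀ T, IsIntegral (U T : Scheme.{u}) := fun T => by
    haveI : IrreducibleSpace ↥(T.1) := Subtype.irreducibleSpace T.2.1
    haveI : IrreducibleSpace (U T : Scheme.{u}) := this
    exact isIntegral_of_irreducibleSpace_of_isReduced _
  have hdimU : ∀ T, topologicalKrullDim (U T : Scheme.{u}) = 2 := fun T => hdim _ T.2
  choose P hP using fun T => exists_ample_of_smooth (k := k) (X := (U T : Scheme.{u})) (hdimU T)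
  obtain ⟨n, ⟨eι⟩⟩ := Finite.exists_equiv_fin ι
  obtain ⟨M, hM, hMi'⟩ := exists_glue_clopen (fun j : Fin n => U (eι.symm j)) (fun j => hclosed _)
    (fun i j hij => hdisj _ _ fun h => hij (eι.symm.injective h))
    (fun x => let ⟨T, hT⟩ := hcov x; ⟨eι T, by simp only [Equiv.symm_apply_apply]; exact hT⟩) (fun j => P (eι.symm j)) fun j => (hP _).1
  have hMi : ∀ T, Nonempty ((Scheme.Modules.restrictFunctor (U T).ι).obj M ≅ P T) := fun T => by
    obtain ⟨j, rfl⟩ := eι.symm.surjective T
    exact hMi' j
  refine ⟨M, (S11559.result k X M hM).2 fun Z hZ => ?_, ?_⟩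
  · let J := Scheme.IdealSheafData.vanishingIdeal Z
    let T : ι := ⟨(Z : Set X), hZ⟩
    have hr : Set.range J.subschemeι ⊆ Set.range (U T).ι := by
      rw [Scheme.IdealSheafData.range_subschemeι, Scheme.Opens.range_ι, Scheme.IdealSheafData.coe_support_vanishingIdeal]
      rfl
    let g := IsOpenImmersion.lift (U T).ι J.subschemeι hr
    have hg : g ≫ (U T).ι = J.subschemeι := IsOpenImmersion.lift_fac _ _ _
    haveI : IsClosedImmersion g := by
      haveI : IsClosedImmersion (g ≫ (U T).ι) := hg ▸ inferInstance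
      exact IsClosedImmersion.of_comp g (U T).ι
    obtain ⟨e⟩ := hMi T
    refine AmpleLib.isAmple_of_iso ((Scheme.Modules.pullback g).mapIso (e.symm ≪≫
      (Scheme.Modules.restrictFunctorIsoPullback (U T).ι).app M) ≪≫
      (Scheme.Modules.pullbackComp g (U T).ι).app M ≪≫ eqToIso (by rw [hg])) (AmpleLib.isAmple_pullback g (hP T))
  · let 𝒰 : X.OpenCover := Scheme.openCoverOfIsOpenCover X U
      (eq_top_iff.2 fun x _ => Opens.mem_iSup.2 (hcov x))
    exact IsZariskiLocalAtSource.of_openCover (P := @SmoothOfRelativeDimension 2) 𝒰 fun T =>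
      smoothOfRelativeDimension_of_smooth ((U T).ι ≫ f) (d := 2) (hdimU T)

end Groth.Agent.TwistShriek

namespace Groth.Agent.TwistShriek

/-- Riemann–Roch without integrality. -/
theorem two_mul_euler_components (k : Type u) [Field k] {X : Scheme.{u}} [X.Over (Spec (CommRingCat.of k))]
    [IsProper (X ↘ Spec (CommRingCat.of k))] [Smooth (X ↘ Spec (CommRingCat.of k))]
    (hdim : ∀ Z ∈ irreducibleComponents (X : Type u), topologicalKrullDim Z = 2)
    {W : X.Modules} (hW : ExtPow.IsExtPow 2 (Omega.sheaf (X ↘ Spec (CommRingCat.of k))) W)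
    {L : X.Modules} (hL : PicF.IsInvertible L) :
    2 * Curv2.euler k X L =
      FGA.intNum k X 2 ![L, L] (Coh.structureModule X) - FGA.intNum k X 2 ![L, W] (Coh.structureModule X) +
        2 * Curv2.euler k X (Coh.structureModule X) := by
  haveI := EulerIneqLib.isNoetherian_proper (X := X) k
  obtain ⟨H, hH, hs⟩ := exists_ample_components k hdim
  haveI := hs
  obtain ⟨N, ι, hι0, hι⟩ := exists_closedImmersion_of_ample (X ↘ Spec (CommRingCat.of k)) hH
  haveI := hι0
  have hWinv : PicF.IsInvertible W :=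
    SeesawVB.isInvertible_of_isExtPow hW (SeesawVB.exists_frame_omega (X ↘ Spec (CommRingCat.of k)) 2)
  have hn : topologicalKrullDim X ≤ ((2 : ℕ) : WithBot ℕ∞) := by
    rcases isEmpty_or_nonempty X with hX | hX
    · haveI : IsEmpty (IrreducibleCloseds X) := ⟨fun Z => isEmptyElim Z.isIrreducible.nonempty.some⟩
      rw [show topologicalKrullDim X = ⊥ from Order.krullDim_eq_bot]
      exact bot_le
    · exact (JacLib.topologicalKrullDim_of_smooth (X ↘ Spec (CommRingCat.of k)) 2).le
  obtain ⟨t, ht⟩ := FundLocIsoLib.exists_trace_topForms ι hι hW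
  refine two_mul_euler_of_duality k hn hWinv (euler_dual_of_trace k ι (CurveLib.isCoh_of_isInvertible hWinv) hn
    (fun x hx => ?_) t ht) hL
  haveI : IsRegularLocalRing (X.presheaf.stalk x) :=
    ASp.isRegularLocalRing_stalk_of_smooth_field (X ↘ Spec (CommRingCat.of k)) x
  refine ⟨S10881.cm_of_regular _, ?_⟩
  rw [← DimFormulaLib.localDim_eq_of_isClosed (X ↘ Spec (CommRingCat.of k)) _ hx,
    S2768.localDim_eq 2 (X ↘ Spec (CommRingCat.of k))]

end Groth.Agent.TwistShriek
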