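import Groth.Agent.TwistShriek.DualizingGlue
import Groth.Agent.DCohMore.TildeStalkAmp
import Groth.Agent.DerSchH7.Local
import Groth.Agent.LocZLib.GammaQCoh
import Groth.Agent.ShriekAlgLib.Poly

/-!
# Dualizing complexes from stalks and finite injective dimension
-/

set_option autoImplicit false
set_option linter.style.haveILetI false
set_option linter.unusedSectionVars false
set_option backward.isDefEq.respectTransparency false
set_option maxHeartbeats 1000000

universe u

open CategoryTheory CategoryTheory.Limits AlgebraicGeometry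
open Groth.Agent.DCohLib Groth.Agent.DRingLib Groth.Agent.DTenLib

attribute [local instance] HasDerivedCategory.standard

noncomputable section

namespace Groth.Agent.TwistShriek

open Groth.Agent.DualCxLib

/-- Morphisms from a sheaf to a bounded complex of injectives vanish outside the range. -/
theorem subsingleton_hom_single_injective {V : Scheme.{u}} (E : CochainComplex V.Modules ℤ)
    (hE : ∀ n, Injective (E.X n)) {a b : ℤ} (hab : ∀ n, (n < a ∨ b < n) → IsZero (E.X n))
    (N : V.Modules) (i : ℤ) (hi : i < a ∨ b < i) :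
    Subsingleton (DerivedCategory.Q.obj ((HomologicalComplex.single V.Modules (ComplexShape.up ℤ) 0).obj N) ⟶
      (DerivedCategory.Q.obj E)⟦i⟧) := by
  haveI : CochainComplex.IsStrictlyGE E a :=
    (CochainComplex.isStrictlyGE_iff _ _).2 fun n hn => hab n (Or.inl hn)
  haveI : E.IsKInjective := CochainComplex.isKInjective_of_injective E a
  refine subsingleton_of_forall_eq 0 fun v => ?_
  let K0 := (HomologicalComplex.single V.Modules (ComplexShape.up ℤ) 0).obj N
  obtain ⟨g, hg⟩ := (CochainComplex.IsKInjective.Qh_map_bijective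
    ((HomotopyCategory.quotient V.Modules (ComplexShape.up ℤ)).obj K0) (E⟦i⟧)).2
      (v ≫ (DerivedCategory.Q.commShiftIso i).inv.app E)
  obtain ⟨φ, rfl⟩ := (HomotopyCategory.quotient _ _).map_surjective g
  have hφ : φ = 0 := by
    refine HomologicalComplex.hom_ext _ _ fun n => ?_
    rcases eq_or_ne n 0 with rfl | hn
    · refine IsZero.eq_of_tgt ?_ _ _
      show IsZero (E.X (0 + i))
      rw [zero_add]
      exact hab i hi
    · exact (HomologicalComplex.isZero_single_obj_X (ComplexShape.up ℤ) 0 N n hn).eq_of_src _ _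
  have h1 : DerivedCategory.Q.map φ = v ≫ (DerivedCategory.Q.commShiftIso i).inv.app E := hg
  rw [hφ, Functor.map_zero] at h1
  exact (cancel_mono ((DerivedCategory.Q.commShiftIso i).inv.app E)).1 (by rw [zero_comp]; exact h1.symm)

/-- Bijective base change preserves dualizing complexes. -/
theorem isDualizing_lbc_of_bijective {S P : Type u} [CommRing S] [CommRing P] [IsNoetherianRing S]
    [IsNoetherianRing P] (h : S →+* P) (hh : Function.Bijective h) [DRing.HasLBaseChange h] {ω : Dual.D S}
    (hω : Dual.IsDualizing S ω) : Dual.IsDualizing P ((DRing.LBaseChange h).obj ω) := by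
  letI : Algebra S P := h.toAlgebra
  let e : S ≃ₗ[S] P := LinearEquiv.ofBijective (Algebra.linearMap S P) hh
  haveI : Module.Flat S P := Module.Flat.of_linearEquiv e.symm
  haveI : Module.FaithfullyFlat S P := Module.FaithfullyFlat.of_linearEquiv _ _ e.symm
  haveI : DRing.HasLBaseChange (algebraMap S P) := ‹_›
  exact isDualizing_bcD_of_maximal S P hω fun n _ =>
    ⟨n.comap (algebraMap S P), Ideal.map_comap_of_surjective _ hh.2 n⟩

variable {X : Scheme.{u}} [IsLocallyNoetherian X]
  [∀ (R : CommRingCat.{u}), PreservesFiniteLimits (tilde.functor R)]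

/-- A dualizing stalk complex gives a good prime on an affine open. -/
theorem good_of_stalk {A : Type u} [CommRing A] (j : Spec (CommRingCat.of A) ⟶ X) [IsOpenImmersion j]
    (I : CochainComplex X.Modules ℤ) (K : DRing.Cx A)
    (e : DerivedCategory.Q.obj ((resCx j).obj I) ≅ DerivedCategory.Q.obj (TildePerf.tilC K))
    (p : Spec (CommRingCat.of A))
    (h : Dual.IsDualizing (X.presheaf.stalk (j p))
      (DRing.toD (((stkF (j.base p)).mapHomologicalComplex (ComplexShape.up ℤ)).obj I))) :
    Good (DRing.toD K) p := by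
  haveI : IsNoetherianRing A := isNoetherianRing_of_isOpenImmersion j
  let T := (Spec (CommRingCat.of A)).presheaf.stalk p
  let S := X.presheaf.stalk (j p)
  let σ : S →+* T := (j.stalkMap p).hom
  let gE : S ≃+* T := (asIso (j.stalkMap p)).commRingCatIsoToRingEquiv
  let g : T →+* S := gE.symm.toRingHom
  have hσg : σ.comp g = RingHom.id T := RingHom.ext fun t => gE.apply_symm_apply t
  have hgσ : g.comp σ = RingHom.id S := RingHom.ext fun s => gE.symm_apply_apply s
  let ψ : A →+* T := DCohMore.toStk p
  letI : Algebra A T := StructureSheaf.stalkAlgebra A p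
  haveI : IsLocalization.AtPrime T p.asIdeal := StructureSheaf.IsLocalization.to_stalk A p
  have hflat : Module.Flat A (baseMod ψ) := by
    haveI := IsLocalization.flat T p.asIdeal.primeCompl
    exact flat_baseMod A _
  haveI : DRing.HasLBaseChange ψ := DRingLib.hasLBaseChange _
  haveI : DRing.HasLBaseChange g := DRingLib.hasLBaseChange _
  haveI : DRing.HasLBaseChange (g.comp ψ) := DRingLib.hasLBaseChange _
  let MT : Dual.D T := DRing.toD ((DTen.extCx ψ).obj K)
  -- stalks invert quasi-isomorphisms
  let c1 : DRing.toD (((stkF p).mapHomologicalComplex (ComplexShape.up ℤ)).obj ((resCx j).obj I)) ≅ MT :=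
    ((stkF p).mapDerivedCategoryFactors.app _).symm ≪≫ (stkF p).mapDerivedCategory.mapIso e ≪≫
      (stkF p).mapDerivedCategoryFactors.app _ ≪≫ DerivedCategory.Q.mapIso (DCohMore.tildeStalkCxIso p K).symm
  let c2 : DRing.toD (((stkF (j.base p)).mapHomologicalComplex (ComplexShape.up ℤ)).obj I) ≅
      (DRing.restrictD σ).obj MT :=
    DerivedCategory.Q.mapIso ((DerSchH7.restrictStalkCxIso j p I).symm ≪≫
      DerSchH7.stalkCxOverResIso j p _) ≪≫ ((DTen.resFactors σ).app _).symm ≪≫ (DRing.restrictD σ).mapIso c1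
  obtain ⟨c3⟩ := ShriekAlgLib.nonempty_lbc_of_bijective g σ hgσ hσg MT
  obtain ⟨c4⟩ := DRingLib.nonempty_lbc_comp ψ g (DRing.toD K)
  have hS : Dual.IsDualizing S ((DRing.LBaseChange (g.comp ψ)).obj (DRing.toD K)) :=
    isDualizing_of_iso (c2 ≪≫ c3.symm ≪≫ (DRing.LBaseChange g).mapIso (lbcIsoOfFlat ψ hflat K).symm ≪≫ c4) h
  -- comparison with the localization
  let P := Localization.AtPrime p.asIdeal
  let u := IsLocalization.algEquiv p.asIdeal.primeCompl T P
  let η : S →+* P := u.toRingEquiv.toRingHom.comp σ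
  have hη : Function.Bijective η := u.bijective.comp gE.bijective
  have hcomp : η.comp (g.comp ψ) = algebraMap A P := RingHom.ext fun x => by
    show u (σ (g (ψ x))) = _
    rw [show σ (g (ψ x)) = ψ x from gE.apply_symm_apply _]
    exact u.commutes x
  haveI : IsNoetherianRing T := IsLocalization.isNoetherianRing p.asIdeal.primeCompl T ‹_›
  haveI : IsNoetherianRing S := isNoetherianRing_of_ringEquiv T gE.symm
  haveI : IsNoetherianRing P := IsLocalization.isNoetherianRing p.asIdeal.primeCompl P ‹_›
  haveI : DRing.HasLBaseChange η := DRingLib.hasLBaseChange _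
  haveI : DRing.HasLBaseChange (algebraMap A P) := DRingLib.hasLBaseChange _
  obtain ⟨c5⟩ := ShriekAlgLib.nonempty_lbc_comp' (g.comp ψ) η _ hcomp (DRing.toD K)
  exact isDualizing_of_iso c5 (isDualizing_lbc_of_bijective η hη hS)

/-- Finite injective dimension and dualizing stalks give a dualizing complex. -/
theorem isDualizingSch_of_stalks
    [∀ (U : Scheme.{u}) (j : U ⟶ X) [IsOpenImmersion j], PreservesFiniteLimits (Scheme.Modules.restrictFunctor j)]
    (I : CochainComplex X.Modules ℤ) (hIinj : ∀ i : ℤ, Injective (I.X i))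
    (hIbdd : ∃ a b : ℤ, ∀ i : ℤ, (i < a ∨ b < i) → IsZero (I.X i))
    (hcoh : DCoh.IsCohD (DCoh.toD X I))
    (hst : ∀ x : X, Dual.IsDualizing (X.presheaf.stalk x)
      (DRing.toD (((stkF x).mapHomologicalComplex (ComplexShape.up ℤ)).obj I))) :
    Dual2.IsDualizingSch X (DCoh.toD X I) := by
  intro A _ j _
  obtain ⟨a, b, hab⟩ := hIbdd
  haveI : IsNoetherianRing A := isNoetherianRing_of_isOpenImmersion j
  let T := CommRingCat.of A
  obtain ⟨ω, ⟨e⟩⟩ := ((TildeD.main T).2.2 _).1
    (TildeD.isQCohD_restrict j (DCoh.toD X I) fun i => (hcoh i).1)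
  haveI := (TildeD.main T).1
  haveI := (TildeD.main T).2.1
  haveI : (tilde.functor T).Additive := TildeKFlat.additive_til T
  haveI : PreservesFiniteColimits (tilde.functor T) := by
    haveI : PreservesColimitsOfSize.{0, 0} (tilde.functor T) :=
      (tilde.adjunction (R := T)).leftAdjoint_preservesColimits
    exact PreservesColimitsOfSize.preservesFiniteColimits _
  let eH : ∀ i, (tilde.functor T).obj ((DerivedCategory.homologyFunctor (ModuleCat.{u} T) i).obj ω) ≅
      (Scheme.Modules.restrictFunctor j).obj (DCoh.HD (DCoh.toD X I) i) := fun i =>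
    ((TildeD.nu (tilde.functor T) i).app ω).symm ≪≫ (DerivedCategory.homologyFunctor _ i).mapIso e ≪≫
      restrictHDIso j (DCoh.toD X I) i
  have hfin : ∀ i, Module.Finite A (Dual.HD A ω i) := fun i =>
    TildePerf.finite_of_isFT _ (TildePerf.isFT_of_iso (eH i).symm (DCohMore.isFT_restrictFunctor j (hcoh i).2))
  let K : DRing.Cx A := DerivedCategory.Q.objPreimage ω
  let eK : DRing.toD K ≅ ω := DerivedCategory.Q.objObjPreimageIso ω
  let E := (resCx j).obj I
  let eE : DerivedCategory.Q.obj E ≅ (DCoh.tildeD T).obj ω := (restrictDQ j I).symm ≪≫ e.symm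
  have hEinj : ∀ n, Injective (E.X n) := fun n => LocZLib.GammaQCoh.injective_restrict j _ (hIinj n)
  have hEab : ∀ n, (n < a ∨ b < n) → IsZero (E.X n) := fun n hn =>
    (Scheme.Modules.restrictFunctor j).map_isZero (hab n hn)
  have hI : ∀ (J : Ideal A) (i : ℤ), (i < a ∨ b < i) → Subsingleton (Dual.inD A (A ⧸ J) ⟶ ω⟦i⟧) :=
    fun J i hi => by
    let M : ModuleCat.{u} T := ModuleCat.of A (A ⧸ J)
    haveI := subsingleton_hom_single_injective E hEinj hEab ((tilde.functor T).obj M) i hi
    let c : (DCoh.tildeD T).obj (Dual.inD A (A ⧸ J)) ≅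
        DerivedCategory.Q.obj ((HomologicalComplex.single (Spec T).Modules (ComplexShape.up ℤ) 0).obj
          ((tilde.functor T).obj M)) :=
      (DCoh.tildeD T).mapIso (singleQZeroIso M).symm ≪≫ TildePerf.tildeDQ _ ≪≫
        DerivedCategory.Q.mapIso ((HomologicalComplex.singleMapHomologicalComplex (tilde.functor T)
          (ComplexShape.up ℤ) 0).app M)
    let d : (DCoh.tildeD T).obj (ω⟦i⟧) ≅ (DerivedCategory.Q.obj E)⟦i⟧ :=
      ((DCoh.tildeD T).commShiftIso i).app ω ≪≫ (shiftFunctor _ i).mapIso eE.symm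
    exact subsingleton_of_forall_eq 0 fun v => (DCoh.tildeD T).map_injective
      ((c.homCongr d).injective (Subsingleton.elim _ _))
  obtain ⟨M', hM', hMi, ⟨eM⟩⟩ := DRingLib.exists_injAmp (K := ω) (a := a) (b := b) hI
  let Mf : MaximalSpectrum A → Submonoid A := fun m => m.asIdeal.primeCompl
  haveI : ∀ m, DRing.HasLBaseChange (algebraMap A (Localization (Mf m))) := fun m => DRingLib.hasLBaseChange _
  refine ⟨ω, isDualizing_of_cover (⟨M', a, b, hM', hMi, eM⟩ : Model ω) hfin Mf
    (fun m hm => ⟨⟨m, hm⟩, fun _ hs => hs⟩) fun m => ?_, ⟨e.symm⟩⟩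
  exact Good.of_iso eK (good_of_stalk j I K
    (eE ≪≫ (DCoh.tildeD T).mapIso eK.symm ≪≫ TildePerf.tildeDQ K) m.toPrimeSpectrum (hst _))

end Groth.Agent.TwistShriek
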