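import Groth.Agent.TwistShriek.DualizingTop
import Groth.Agent.DCohLib.CompactD
import Groth.Agent.TwistShriek.ShriekIndep

/-!
# The twisted inverse image of a field extension
-/

set_option autoImplicit false
set_option linter.style.haveILetI false
set_option linter.unusedSectionVars false
set_option backward.isDefEq.respectTransparency false
set_option maxHeartbeats 800000
set_option maxRecDepth 4000

universe u

open CategoryTheory CategoryTheory.Limits AlgebraicGeometry

attribute [local instance] HasDerivedCategory.standard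

noncomputable section

namespace Groth.Agent.TwistShriek

open Groth.Agent.DualCxLib

/-- A dualizing complex of a field with cohomology in degree zero is the unit. -/
theorem nonempty_iso_inD_of_field {L : Type u} [Field L] {ω : Dual.D L} (hω : Dual.IsDualizing L ω)
    (h : ∀ i : ℤ, i ≠ 0 → Subsingleton (Dual.HD L ω i)) : Nonempty (ω ≅ Dual.inD L L) := by
  have hf : IsField L := Field.toIsField L
  haveI : DerivedCategory.IsGE ω 0 := (DerivedCategory.isGE_iff _ _).2 fun j hj =>
    ModuleCat.isZero_iff_subsingleton.2 (h j hj.ne)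
  haveI : DerivedCategory.IsLE ω 0 := (DerivedCategory.isLE_iff _ _).2 fun j hj =>
    ModuleCat.isZero_iff_subsingleton.2 (h j (ne_of_gt hj))
  obtain ⟨Y, ⟨eY⟩⟩ := DerivedCategory.exists_iso_singleFunctor_obj_of_isGE_of_isLE ω 0
  have hn : Dual.IsNormalized L ω := fun i hi => by
    suffices Subsingleton (HK (Dual.inD L Y) i (IsLocalRing.ResidueField L)) from
      ((Iso.refl _).homCongr ((shiftFunctor (Dual.D L) i).mapIso eY)).subsingleton_congr.2 this
    rcases lt_or_gt_of_ne hi with hi' | hi'
    · exact subsingleton_HK_inD_of_neg _ _ hi'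
    · obtain ⟨k, rfl⟩ := Int.eq_ofNat_of_zero_le hi'.le
      rw [subsingleton_HK_inD_iff]
      haveI : Projective (ModuleCat.of L (IsLocalRing.ResidueField L)) :=
        (IsProjective.iff_projective _).1 (Module.Projective.of_free (R := L))
      obtain ⟨k, rfl⟩ : ∃ k' : ℕ, k = k' + 1 := ⟨k - 1, by omega⟩
      exact subsingleton_of_forall_eq 0 fun e => Abelian.Ext.eq_zero_of_projective e
  exact nonempty_iso_of_isNormalized (isDualizing_inD_of_isField hf)
    (fun i hi => subsingleton_HK_inD_of_isField hf _ hi) hω hn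

variable {k L : Type u} [Field k] [Field L]

/-- The transform of the structure sheaf under a finite field extension is the structure sheaf. -/
theorem nonempty_rightAdjoint_field (g : Spec (CommRingCat.of L) ⟶ Spec (CommRingCat.of k)) [IsProper g]
    [DCoh.HasRpush g] (hg : DCoh.RpushPreservesQCoh g)
    (b : DCoh.DQCoh (Spec (CommRingCat.of k)) ⥤ DCoh.DQCoh (Spec (CommRingCat.of L)))
    (adj : DCoh.RpushQ g hg ⊣ b) (O : DCoh.DQCoh (Spec (CommRingCat.of k)))
    (hO : Nonempty (O.obj ≅ DCoh.inD (Spec (CommRingCat.of k)) (Coh.structureModule (Spec (CommRingCat.of k))))) :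
    Nonempty ((b.obj O).obj ≅ DCoh.inD (Spec (CommRingCat.of L)) (Coh.structureModule (Spec (CommRingCat.of L)))) := by
  haveI : ∀ R : CommRingCat.{u}, PreservesFiniteLimits (tilde.functor R) :=
    fun R => TildeD.preservesFiniteLimits_tilde
  let T := Spec (CommRingCat.of L)
  haveI : IsNoetherianRing (CommRingCat.of L) := inferInstanceAs (IsNoetherianRing L)
  obtain ⟨eO⟩ := hO
  obtain ⟨hK, hc, hN⟩ := proper_local_setup g hg b adj
    (isDualizing_inD_of_isField (Field.toIsField k))
    (fun i hi => subsingleton_HK_inD_of_isField (Field.toIsField k) _ hi)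
    O (eO ≪≫ (DualCxLib.tildeInD (CommRingCat.of k)).symm)
  have hd : topologicalKrullDim T = ((0 : ℕ) : WithBot ℕ∞) := by
    show topologicalKrullDim (PrimeSpectrum L) = _
    rw [PrimeSpectrum.topologicalKrullDim_eq_ringKrullDim, ringKrullDim_eq_zero_of_field, Nat.cast_zero]
  obtain ⟨h1, -⟩ := amplitude_of_normalizedAt _ hc hN 0 hd
  obtain ⟨ω, hω, ⟨e⟩⟩ := hK L (𝟙 T)
  haveI := hω.isNoetherianRing
  have hz : ∀ i : ℤ, i ≠ 0 → Subsingleton (Dual.HD L ω i) := fun i hi =>
    not_nontrivial_iff_subsingleton.1 fun hn => by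
      have hnt := (nontrivial_stalk_HD_iff (𝟙 T) e (IsLocalRing.closedPoint L) i).2
        (IsLocalRing.closedPoint_mem_support L (Dual.HD L ω i))
      haveI : Subsingleton ((DCoh.HD (b.obj O).obj i).presheaf.stalk ((𝟙 T : T ⟶ T) (IsLocalRing.closedPoint L))) :=
        AddCommGrpCat.subsingleton_of_isZero ((Scheme.Modules.toPresheaf T ⋙
          TopCat.Presheaf.stalkFunctor AddCommGrpCat.{u} _).map_isZero (h1 i (by omega)))
      exact not_nontrivial_iff_subsingleton.2 inferInstance hnt
  obtain ⟨eω⟩ := nonempty_iso_inD_of_field hω hz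
  exact ⟨((DCohLib.restrictDId T).app (b.obj O).obj).symm ≪≫ e ≪≫ (DCoh.tildeD (CommRingCat.of L)).mapIso eω ≪≫
    DualCxLib.tildeInD (CommRingCat.of L)⟩

end Groth.Agent.TwistShriek
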