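import Groth.Prelude.Def_Dual3
import Groth.Agent.FMKLib.NatPF
import Groth.Agent.DCohLib.ProjClosed
import Groth.Agent.DCohLib.TensorInj

/-!
# Derived tensor product with the structure sheaf of a closed subscheme
-/

set_option autoImplicit false
set_option linter.style.haveILetI false
set_option linter.unusedSectionVars false
set_option backward.isDefEq.respectTransparency false
set_option maxHeartbeats 1600000

universe u

open CategoryTheory CategoryTheory.Limits AlgebraicGeometry HomologicalComplex
open Groth.Agent.DCohLib Groth.Agent.DCohMore Groth.Agent.KFlat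

attribute [local instance] HasDerivedCategory.standard

noncomputable section

namespace Groth.Agent.TwistShriek

variable {X : Scheme.{u}}

theorem singleι_natural {C₁ : Type*} [Category C₁] {C₂ : Type*} [Category C₂] {D : Type*} [Category D]
    [Abelian C₁] [Abelian C₂] [Abelian D] (F : C₁ ⥤ C₂ ⥤ D) [F.Additive] [∀ A, (F.obj A).Additive]
    {L L' : CochainComplex C₁ ℤ} (f : L ⟶ L') (M : C₂)
    [∀ (K₁ : CochainComplex C₁ ℤ) (K₂ : CochainComplex C₂ ℤ), CochainComplex.HasMapBifunctor K₁ K₂ F]
    (p n : ℤ) (h : p + 0 = n) :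
    (F.map (f.f p)).app M ≫ singleι F L' 0 M p n h =
      singleι F L 0 M p n h ≫ (mapBifunctorMap f (𝟙 _) F (ComplexShape.up ℤ)).f n := by
  dsimp only [singleι]
  rw [Category.assoc, ι_mapBifunctorMap f (𝟙 _) F]
  simp only [HomologicalComplex.id_f, CategoryTheory.Functor.map_id, Category.id_comp]
  erw [← NatTrans.naturality_assoc]

theorem totSingleIso_natural {I I' : CochainComplex X.Modules ℤ} (f : I ⟶ I') (M : X.Modules) :
    (((DCoh.tensorBi (X := X)).flip.obj M).mapHomologicalComplex (ComplexShape.up ℤ)).map f ≫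
        (totSingleIso I' M).hom =
      (totSingleIso I M).hom ≫
        (DCoh.tensorCx.map f).app ((HomologicalComplex.single X.Modules (ComplexShape.up ℤ) 0).obj M) :=
  HomologicalComplex.hom_ext _ _ fun n => singleι_natural (DCoh.tensorBi (X := X)) f M n n (add_zero n)

variable {Z : Scheme.{u}} (i : Z ⟶ X) [IsClosedImmersion i]

/-- Tensoring with the structure sheaf of a closed subscheme, on modules. -/
def closedTensorIso :
    (DCoh.tensorBi (X := X)).flip.obj ((Scheme.Modules.pushforward i).obj (Coh.structureModule Z)) ≅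
      Scheme.Modules.pullback i ⋙ Scheme.Modules.pushforward i :=
  (symmIso X.sheaf).symm.app _ ≪≫ ((projNatIso i).app (Coh.structureModule Z)).symm ≪≫
    Functor.isoWhiskerRight (Functor.isoWhiskerLeft (Scheme.Modules.pullback i)
      ((symmIso Z.sheaf).app (Coh.structureModule Z) ≪≫ Groth.Agent.ModTensor.tensorUnitRight Z.sheaf))
      (Scheme.Modules.pushforward i)

/-- The structure sheaf of a closed subscheme, as a complex. -/
abbrev closedUnit : CochainComplex X.Modules ℤ :=
  (HomologicalComplex.single X.Modules (ComplexShape.up ℤ) 0).obj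
    ((Scheme.Modules.pushforward i).obj (Coh.structureModule Z))

/-- Tensoring with the structure sheaf of a closed subscheme, on complexes. -/
def closedTensorCxIso :
    DCoh.tensorCx.flip.obj (closedUnit i) ≅ pullCx i ⋙ pushCx i :=
  (NatIso.ofComponents
    (F := ((DCoh.tensorBi (X := X)).flip.obj
      ((Scheme.Modules.pushforward i).obj (Coh.structureModule Z))).mapHomologicalComplex (ComplexShape.up ℤ))
    (G := (DCoh.tensorCx (X := X)).flip.obj (closedUnit i))
    (fun I => totSingleIso I _) (fun f => totSingleIso_natural f _)).symm ≪≫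
    NatIso.mapHomologicalComplex (closedTensorIso i) (ComplexShape.up ℤ)

/-- Derived tensor product with the structure sheaf of a closed subscheme. -/
theorem nonempty_lTensor_closed [DCoh.HasLpull i] (E : CochainComplex X.Modules ℤ) [DCoh.HasLTensorCx E]
    [PreservesFiniteLimits (Scheme.Modules.pushforward i)] [PreservesFiniteColimits (Scheme.Modules.pushforward i)]
    (hE : Nonempty (DCoh.toD X E ≅ DCoh.inD X ((Scheme.Modules.pushforward i).obj (Coh.structureModule Z)))) :
    Nonempty (DCoh.LTensorCx E ≅ DCoh.Lpull i ⋙ Dual3.pushD i) := by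
  haveI : DCoh.HasLTensorCx (closedUnit i) := DCohLib.hasLTensorCx _
  obtain ⟨e⟩ := hE
  obtain ⟨a⟩ := nonempty_lTensor_of_iso (E := E) (E' := closedUnit i)
    (((DerivedCategory.singleFunctorIsoCompQ X.Modules 0).app _).symm ≪≫ e.symm)
  obtain ⟨b⟩ : Nonempty (DCoh.LTensorCx (closedUnit i) ≅ DCoh.Lpull i ⋙ Dual3.pushD i) := by
    refine FMKLib.nonempty_iso_of_resX ?_
    exact FMKLib.lTensorFlatIso (closedUnit i) (resX X) (fun A => isKFlat_resX A) ≪≫
      Functor.isoWhiskerLeft (resX X) (Functor.isoWhiskerRight (closedTensorCxIso i) DerivedCategory.Q) ≪≫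
      Functor.isoWhiskerLeft (resX X ⋙ pullCx i) (Scheme.Modules.pushforward i).mapDerivedCategoryFactors.symm ≪≫
      Functor.isoWhiskerRight ((FMKLib.lpullResIso i).symm) (Dual3.pushD i) ≪≫ Functor.associator _ _ _
  exact ⟨a.symm ≪≫ b⟩

end Groth.Agent.TwistShriek
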