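import Groth.Agent.TwistShriek.SurfEff
import Groth.Agent.TwistShriek.SurfPeel
import Groth.Agent.BlowCompLib.Compose
import Groth.Agent.S6307

/-!
# Dividing effective divisors
-/

set_option autoImplicit false
set_option backward.isDefEq.respectTransparency false
set_option linter.style.haveILetI false
set_option maxHeartbeats 800000

universe u

open CategoryTheory CategoryTheory.Limits AlgebraicGeometry TopologicalSpace

noncomputable section

namespace Groth.Agent.TwistShriek

variable {X : Scheme.{u}}

/-- Colon of finitely generated ideals commutes with localisation. -/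
theorem colon_map {R S : Type u} [CommRing R] [CommRing S] [Algebra R S] (M : Submonoid R) [IsLocalization M S]
    (I J : Ideal R) (hJ : J.FG) :
    (I.colon J).map (algebraMap R S) = (I.map (algebraMap R S)).colon (J.map (algebraMap R S)) := by
  classical
  refine le_antisymm (Ideal.map_le_iff_le_comap.2 fun a ha => ?_) fun y hy => ?_
  · rw [Ideal.mem_comap, Submodule.mem_colon]
    intro z hz
    rw [smul_eq_mul]
    have h1 : (I.colon J) * J ≤ I := Ideal.mul_le.2 fun r hr s hs => by
      simpa using Submodule.mem_colon.1 hr s hs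
    refine Ideal.map_mono h1 ?_
    rw [Ideal.map_mul]
    exact Ideal.mul_mem_mul (Ideal.mem_map_of_mem _ ha) hz
  obtain ⟨⟨a, s⟩, rfl⟩ := IsLocalization.mk'_surjective M y
  obtain ⟨G, rfl⟩ := hJ
  have hg : ∀ c : {c // c ∈ G}, ∃ t : M, (t : R) * (a * c.1) ∈ I := fun c => by
    have h := Submodule.mem_colon.1 hy (algebraMap R S c.1) (Ideal.mem_map_of_mem _ (Ideal.subset_span c.2))
    rw [smul_eq_mul, mul_comm, IsLocalization.mul_mk'_eq_mk'_of_mul] at h
    obtain ⟨t, ht, h'⟩ := (IsLocalization.mk'_mem_map_algebraMap_iff M S I (c.1 * a) s).1 h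
    exact ⟨⟨t, ht⟩, by simpa [mul_comm a] using h'⟩
  choose t ht using hg
  refine (IsLocalization.mk'_mem_map_algebraMap_iff M S _ a s).2 ⟨(∏ c, t c : M), SetLike.coe_mem _, ?_⟩
  rw [Submodule.mem_colon]
  intro z hz
  rw [smul_eq_mul]
  induction hz using Submodule.span_induction with
  | zero => rw [mul_zero]; exact I.zero_mem
  | add x y _ _ hx hy => rw [mul_add]; exact I.add_mem hx hy
  | smul r x _ hx => rw [smul_eq_mul, mul_left_comm]; exact I.mul_mem_left _ hx
  | mem c hc => ?_
  show ((∏ c, t c : M) : R) * a * c ∈ I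
  rw [← Finset.prod_erase_mul _ _ (Finset.mem_univ ⟨c, hc⟩), Submonoid.coe_mul, mul_assoc, mul_assoc]
  exact I.mul_mem_left _ (ht ⟨c, hc⟩)

/-- Division of ideal sheaves by a locally principal one. -/
theorem exists_eq_mul_of_le [IsLocallyNoetherian X] {C D : X.IdealSheafData} (hC : FGA.IsEffCartier C)
    (hD : FGA.IsEffCartier D) (h : D ≤ C) : ∃ B : X.IdealSheafData, FGA.IsEffCartier B ∧ D = C * B := by
  haveI : ∀ U : X.affineOpens, IsNoetherianRing Γ(X, U.1) := fun U => IsLocallyNoetherian.component_noetherian U
  let K : X.IdealSheafData := Scheme.IdealSheafData.ofIdeals fun U => (D.ideal U).colon (C.ideal U)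
  let B : X.IdealSheafData :=
    { ideal := fun U => (D.ideal U).colon (C.ideal U)
      map_ideal_basicOpen := fun U f => by
        letI : Algebra Γ(X, U.1) Γ(X, X.basicOpen f) := (X.presheaf.map (homOfLE (X.basicOpen_le f)).op).hom.toAlgebra
        haveI : IsLocalization.Away f Γ(X, X.basicOpen f) := U.2.isLocalization_basicOpen f
        refine (colon_map (Submonoid.powers f) (D.ideal U) (C.ideal U) (IsNoetherian.noetherian _)).trans ?_
        rw [← D.map_ideal_basicOpen U f, ← C.map_ideal_basicOpen U f]
        rfl }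
  have hDB : D = C * B := by
    choose U hxU c hc hU using hC
    refine Scheme.IdealSheafData.ext_of_iSup_eq_top U (top_le_iff.1 fun x _ => Opens.mem_iSup.2 ⟨x, hxU x⟩) fun x => ?_
    rw [Scheme.IdealSheafData.ideal_mul, Pi.mul_apply]
    exact Groth.Agent.S6307.result _ _ ⟨c x, (hU x).trans rfl⟩ (h _)
  refine ⟨B, ?_, hDB⟩
  refine BlowCompLib.isEffCartier_of_mul (B := C) ?_
  have e : B * C = D := by
    rw [hDB]
    ext U : 2
    rw [Scheme.IdealSheafData.ideal_mul, Scheme.IdealSheafData.ideal_mul, mul_comm]
  exact e ▸ hD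

variable (k : Type u) [Field k] [X.Over (Spec (CommRingCat.of k))] [IsProper (X ↘ Spec (CommRingCat.of k))]
  [IsIntegral X] [Smooth (X ↘ Spec (CommRingCat.of k))]

include k in
/-- An integral curve in the support of a divisor divides it. -/
theorem exists_eq_curve_mul (hdim : topologicalKrullDim X = 2) {C D : X.IdealSheafData} (hC : IsIntegral C.subscheme)
    (hCd : topologicalKrullDim (C.support : Set X) = 1) (hD : FGA.IsEffCartier D)
    (hs : (C.support : Set X) ⊆ (D.support : Set X)) :
    ∃ B : X.IdealSheafData, FGA.IsEffCartier B ∧ D = C * B := by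
  haveI := EulerIneqLib.isNoetherian_proper (X := X) k
  haveI := hC
  refine exists_eq_mul_of_le ((S8914.result _).1 (invertible_curve k hdim C hC hCd)) hD ?_
  rw [← radical_eq_self C, ← Scheme.IdealSheafData.vanishingIdeal_support]
  exact (Scheme.IdealSheafData.le_radical D).trans
    ((Scheme.IdealSheafData.vanishingIdeal_support (I := D)).ge.trans (Scheme.IdealSheafData.vanishingIdeal_antimono hs))

include k in
/-- A nonzero effective divisor contains an integral curve. -/
theorem exists_curve_in (hdim : topologicalKrullDim X = 2) {D : X.IdealSheafData} (hD : FGA.IsEffCartier D)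
    (hne : D ≠ ⊤) : ∃ C : X.IdealSheafData, IsIntegral C.subscheme ∧ topologicalKrullDim (C.support : Set X) = 1 ∧
      (C.support : Set X) ⊆ (D.support : Set X) := by
  haveI := EulerIneqLib.isNoetherian_proper (X := X) k
  have hd := dim_divisor k hdim hD hne
  obtain ⟨p, hp, hp'⟩ := (HilbLib.not_dim_lt_iff D.support.isClosed 1).1
    (fun h => by rw [hd] at h; exact lt_irrefl _ (by exact_mod_cast h))
  let Z : Closeds X := ⟨closure {p (Fin.last 1)}, isClosed_closure⟩
  have hZ : (Z : Set X) ⊆ (D.support : Set X) := closure_minimal (Set.singleton_subset_iff.2 (hp _)) D.support.isClosed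
  refine ⟨Scheme.IdealSheafData.vanishingIdeal Z,
    CurveLib.isIntegral_vanishingIdeal (X := X) isClosed_closure isIrreducible_singleton.closure, ?_, ?_⟩
  · rw [Scheme.IdealSheafData.coe_support_vanishingIdeal]
    refine le_antisymm (hd ▸ (Topology.IsEmbedding.inclusion hZ).isInducing.topologicalKrullDim_le) ?_
    by_contra hlt
    push Not at hlt
    refine (HilbLib.not_dim_lt_iff Z.isClosed 1).2 ⟨p, fun i => ?_, hp'⟩ (by exact_mod_cast hlt)
    rcases (Fin.le_last i).eq_or_lt with rfl | hi
    · exact subset_closure rfl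
    · exact (hp' _ _ hi).1.mem_closure
  · rw [Scheme.IdealSheafData.coe_support_vanishingIdeal]
    exact hZ

end Groth.Agent.TwistShriek
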