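import Groth.Agent.TwistShriek.PointParams
import Groth.Agent.TwistShriek.SpecIdeal
import Groth.Agent.TwistShriek.SurfDiv
import Groth.Agent.TwistShriek.SurfEff
import Groth.Agent.BlowExistsLib.Proper
import Groth.Agent.JacLib.IdealPull
import Groth.Agent.NakaiLib.Ring

/-!
# The exceptional divisor of the blow-up of a regular point of a surface
-/

set_option autoImplicit false
set_option backward.isDefEq.respectTransparency false
set_option linter.style.haveILetI false
set_option maxHeartbeats 1000000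

universe u

open CategoryTheory CategoryTheory.Limits AlgebraicGeometry TopologicalSpace
open Groth.Agent.BlowChartLib Groth.Agent.BlowExistsLib

noncomputable section

namespace Groth.Agent.TwistShriek.PointBlow

variable {X X' : Scheme.{u}} {x : X} {hx : IsClosed ({x} : Set X)} {π : X' ⟶ X}

/-- The ideal of the point. -/
abbrev pointIdeal (hx : IsClosed ({x} : Set X)) : X.IdealSheafData :=
  Scheme.IdealSheafData.vanishingIdeal (⟨{x}, hx⟩ : Closeds X)

variable (hb : BlowUp.IsBlowUp π (pointIdeal hx)) (P : PointParams hx)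

include hb in
omit P in
/-- The blow-up is proper. -/
theorem isProper [IsLocallyNoetherian X] : IsProper π :=
  isProper_of_FG hb fun V => by
    haveI : IsNoetherianRing Γ(X, V.1) := IsLocallyNoetherian.component_noetherian V
    exact (IsNoetherian.noetherian ((pointIdeal hx).ideal V) : ((pointIdeal hx).ideal V).FG)

theorem mem_ideal (i : Fin 2) : P.f i ∈ (pointIdeal hx).ideal P.U := P.span_eq ▸ Ideal.subset_span ⟨i, rfl⟩

/-- The chart algebras. -/
abbrev B (i : Fin 2) : Type u := ChartAlg (pointIdeal hx) P.U (P.f i)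

theorem isDomain_B (i : Fin 2) : IsDomain (B P i) := by
  haveI := P.isDomain
  haveI : IsDomain (Localization.Away (P.f i)) :=
    IsLocalization.isDomain_localization (powers_le_nonZeroDivisors_of_noZeroDivisors (P.ne_zero i))
  exact inferInstanceAs (IsDomain ↥(BlowUp.affineAlgebra _ _ _))

theorem alg_ne_zero (i j : Fin 2) : algebraMap Γ(X, P.U.1) (B P i) (P.f j) ≠ 0 := by
  haveI := P.isDomain
  intro h
  have h1 : algebraMap Γ(X, P.U.1) (Localization.Away (P.f i)) (P.f j) = 0 := congrArg Subtype.val h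
  exact P.ne_zero j ((map_eq_zero_iff _ (IsLocalization.injective (Localization.Away (P.f i))
    (powers_le_nonZeroDivisors_of_noZeroDivisors (P.ne_zero i)))).1 h1)

/-- The part of the blow-up over the parameters. -/
abbrev W (π : X' ⟶ X) : Scheme.{u} := (π ⁻¹ᵁ P.U.1).toScheme

variable (π) in
/-- The map to the affine base. -/
def q : W P π ⟶ Spec (CommRingCat.of Γ(X, P.U.1)) := (π ∣_ P.U.1) ≫ P.U.2.isoSpec.hom

theorem q_fromSpec : q π P ≫ P.U.2.fromSpec = (π ⁻¹ᵁ P.U.1).ι ≫ π := by
  rw [q, Category.assoc, ← P.U.2.isoSpec_inv_ι]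
  erw [Iso.hom_inv_id_assoc]
  rw [morphismRestrict_ι]

theorem range_emb_subset (i : Fin 2) :
    Set.range (emb hb (mem_ideal P i)) ⊆ Set.range (π ⁻¹ᵁ P.U.1).ι := by
  rw [Scheme.Opens.range_ι, ← Scheme.Hom.coe_opensRange, opensRange_emb]
  exact chartOpen_le_preimage π

/-- The charts. -/
def e (i : Fin 2) : Spec (CommRingCat.of (B P i)) ⟶ W P π :=
  IsOpenImmersion.lift (π ⁻¹ᵁ P.U.1).ι (emb hb (mem_ideal P i)) (range_emb_subset hb P i)

@[reassoc]
theorem e_ι (i : Fin 2) : e hb P i ≫ (π ⁻¹ᵁ P.U.1).ι = emb hb (mem_ideal P i) := IsOpenImmersion.lift_fac _ _ _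

instance e_isOpenImmersion (i : Fin 2) : IsOpenImmersion (e hb P i) := by
  haveI : IsOpenImmersion (e hb P i ≫ (π ⁻¹ᵁ P.U.1).ι) := by rw [e_ι]; infer_instance
  exact IsOpenImmersion.of_comp _ (π ⁻¹ᵁ P.U.1).ι

theorem e_cover (w : W P π) : ∃ i, w ∈ Set.range (e hb P i) := by
  obtain ⟨a, ⟨i, rfl⟩, ha⟩ := BlowChartLib.exists_mem_chartOpen (pointIdeal hx) P.U π hb (Set.range P.f) P.span_eq.symm
    ((π ⁻¹ᵁ P.U.1).ι w) (show π w.1 ∈ P.U.1 from w.2)
  rw [← opensRange_emb hb (mem_ideal P i)] at ha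
  obtain ⟨z, hz⟩ := ha
  refine ⟨i, z, (π ⁻¹ᵁ P.U.1).ι.isOpenEmbedding.injective ?_⟩
  rw [← Scheme.Hom.comp_apply, e_ι]
  exact hz

theorem e_q (i : Fin 2) :
    e hb P i ≫ q π P = Spec.map (CommRingCat.ofHom (algebraMap Γ(X, P.U.1) (B P i))) := by
  rw [← cancel_mono P.U.2.fromSpec, Category.assoc, q_fromSpec, e_ι_assoc, emb_comp]
  rfl

/-- The exceptional ideal over the parameters. -/
def EW (π : X' ⟶ X) : (W P π).IdealSheafData := (BlowUp.exceptional π (pointIdeal hx)).comap (π ⁻¹ᵁ P.U.1).ι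

theorem EW_e (i : Fin 2) :
    (EW P π).comap (e hb P i) = Curv2.idealSheaf (B P i) (Ideal.span {algebraMap _ (B P i) (P.f i)}) := by
  rw [EW, ← Scheme.IdealSheafData.comap_comp, e_ι]
  show ((pointIdeal hx).comap π).comap _ = _
  rw [← Scheme.IdealSheafData.comap_comp, emb_comp]
  refine Scheme.IdealSheafData.ext_of_isAffine ?_
  obtain ⟨g, rfl, -, hI⟩ := exists_top_generator (pointIdeal hx) P.U (P.f i) (mem_ideal P i)
  rw [hI, appLE_chartMap]
  simp [Curv2.idealSheaf, Ideal.map_span]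

include hb in
theorem isEffCartier_EW : BlowUp.IsEffCartierIdeal (EW P π) :=
  isEffCartierIdeal_of_cover (e hb P) (e_cover hb P) fun i =>
    ⟨_, BlowChartLib.mem_nonZeroDivisors, EW_e hb P i⟩

/-- The first parameter on the affine base. -/
def fa (i : Fin 2) : (Spec (CommRingCat.of Γ(X, P.U.1))).IdealSheafData :=
  Curv2.idealSheaf _ (Ideal.span {P.f i})

theorem fa_e (i j : Fin 2) :
    ((fa P j).comap (q π P)).comap (e hb P i) = Curv2.idealSheaf (B P i) (Ideal.span {algebraMap _ (B P i) (P.f j)}) := by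
  rw [← Scheme.IdealSheafData.comap_comp, e_q, fa, idealSheaf_comap, Ideal.map_span, Set.image_singleton]

theorem fa_isEffCartier (i : Fin 2) : BlowUp.IsEffCartierIdeal (fa P i) := by
  haveI := P.isDomain
  exact isEffCartierIdeal_of_cover (B := fun _ : Unit => Γ(X, P.U.1)) (fun _ => 𝟙 _)
    (fun y => ⟨(), y, rfl⟩) fun _ => ⟨P.f i, mem_nonZeroDivisors_of_ne_zero (P.ne_zero i), by
      rw [Scheme.IdealSheafData.comap_id]; rfl⟩

variable [IsLocallyNoetherian X]

include hb in
omit P in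
theorem exists_strict (P : PointParams hx) :
    ∃ J : (W P π).IdealSheafData, BlowUp.IsEffCartierIdeal J ∧ (fa P 0).comap (q π P) = EW P π * J ∧
      J.comap (e hb P 0) = ⊤ ∧
        J.comap (e hb P 1) = Curv2.idealSheaf (B P 1) (Ideal.span {frac (P.f (1 + 1)) (mem_ideal P _)}) := by
  haveI := isProper hb
  haveI : IsLocallyNoetherian X' := LocallyOfFiniteType.isLocallyNoetherian π
  haveI : IsLocallyNoetherian (W P π) := LocallyOfFiniteType.isLocallyNoetherian (π ⁻¹ᵁ P.U.1).ι
  haveI : ∀ i, IsDomain (B P i) := isDomain_B P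
  have hD : BlowUp.IsEffCartierIdeal ((fa P 0).comap (q π P)) :=
    isEffCartierIdeal_of_cover (e hb P) (e_cover hb P) fun i =>
      ⟨_, mem_nonZeroDivisors_of_ne_zero (alg_ne_zero P i 0), fa_e hb P i 0⟩
  have hle : (fa P 0).comap (q π P) ≤ EW P π := le_of_cover (e hb P) (e_cover hb P) fun i => by
    rw [fa_e, EW_e]
    have h1 : Ideal.span {algebraMap _ (B P i) (P.f 0)} ≤ Ideal.span {algebraMap _ (B P i) (P.f i)} := by
      rw [← map_eq_span (mem_ideal P i), Ideal.span_singleton_le_iff_mem]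
      exact Ideal.mem_map_of_mem _ (mem_ideal P 0)
    rw [← sup_eq_right.2 h1, idealSheaf_sup]
    exact le_sup_left
  obtain ⟨J, hJ, hJe⟩ := exists_eq_mul_of_le (isEffCartier_EW hb P) hD hle
  refine ⟨J, hJ, hJe, ?_, ?_⟩
  · obtain ⟨K, hK⟩ := exists_idealSheaf (J.comap (e hb P 0))
    have h := congrArg (fun I : (W P π).IdealSheafData => I.comap (e hb P 0)) hJe
    simp only [BlowCompLib.comap_mul, fa_e, EW_e, hK, ← idealSheaf_mul] at h
    have h2 := idealSheaf_inj h
    rw [hK, ← idealSheaf_top]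
    congr 1
    refine ((Ideal.span_singleton_mul_right_inj (alg_ne_zero P 0 0)).1 ?_).symm
    rw [← h2, Ideal.mul_top]
  · obtain ⟨K, hK⟩ := exists_idealSheaf (J.comap (e hb P 1))
    have h := congrArg (fun I : (W P π).IdealSheafData => I.comap (e hb P 1)) hJe
    simp only [BlowCompLib.comap_mul, fa_e, EW_e, hK, ← idealSheaf_mul] at h
    have h2 := idealSheaf_inj h
    rw [hK]
    congr 1
    refine ((Ideal.span_singleton_mul_right_inj (alg_ne_zero P 1 1)).1 ?_).symm
    rw [← h2, Ideal.span_singleton_mul_span_singleton]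
    show Ideal.span {algebraMap _ (B P 1) (P.f 1) * frac (P.f (1 + 1)) (mem_ideal P _)} = _
    rw [mul_comm, frac_mul]
    rfl

end Groth.Agent.TwistShriek.PointBlow
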