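import Groth.Agent.TwistShriek.Scalar
import Groth.Agent.PullbackMod.Sections
import Groth.Agent.DCohLib.Restrict
import Mathlib.RingTheory.IsTensorProduct
import Mathlib.Algebra.Category.Ring.Constructions

/-!
# Base change of homomorphisms of modules on affine schemes
-/

set_option autoImplicit false
set_option linter.style.haveILetI false
set_option linter.unusedSectionVars false
set_option backward.isDefEq.respectTransparency false

universe u

open CategoryTheory CategoryTheory.Limits AlgebraicGeometry TopologicalSpace Opposite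
open Groth.Agent.DCohLib Groth.Agent.PullbackMod Groth.Agent.QCohLib Groth.Agent.CohBase
open scoped TensorProduct

attribute [local instance] HasDerivedCategory.standard Groth.Agent.TwistShriek.linΓ

noncomputable section

namespace Groth.Agent.TwistShriek

variable {V W : Scheme.{u}}

/-- Maps out of the structure sheaf are global sections. -/
theorem bijective_unit_eval (N : V.Modules) :
    Function.Bijective fun ψ : Coh.structureModule V ⟶ N => ψ.app ⊤ (1 : Γ(V, ⊤)) :=
  ⟨fun _ _ h => hom_unit_ext h, fun s => ⟨secHom N s, by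
    show (secHom N s).app ⊤ (1 : Γ(V, ⊤)) = s
    rw [secHom_app_one]
    exact restr_self N _ s⟩⟩

/-- The image of `1` among the sections of the inverse image of the structure sheaf. -/
def oneP (g : W ⟶ V) : Γ((Scheme.Modules.pullback g).obj (Coh.structureModule V), ⊤) :=
  pullMap g (Coh.structureModule V) (W := ⊤) (W' := ⊤) le_top (1 : Γ(V, ⊤))

/-- Maps out of the inverse image of the structure sheaf are global sections. -/
theorem bijective_pull_eval (g : W ⟶ V) (N' : W.Modules) :
    Function.Bijective fun ψ : (Scheme.Modules.pullback g).obj (Coh.structureModule V) ⟶ N' =>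
      ψ.app ⊤ (oneP g) := by
  let A := Scheme.Modules.pullbackPushforwardAdjunction g
  have hr : Function.Bijective (N'.presheaf.map (homOfLE (le_top : g ⁻¹ᵁ (⊤ : V.Opens) ≤ ⊤)).op) :=
    res_bijective N' le_top le_top
  have key : ∀ ψ : (Scheme.Modules.pullback g).obj (Coh.structureModule V) ⟶ N',
      ψ.app ⊤ (oneP g) = N'.presheaf.map (homOfLE (le_top : ⊤ ≤ g ⁻¹ᵁ (⊤ : V.Opens))).op
        ((A.homEquiv _ _ ψ).app ⊤ (1 : Γ(V, ⊤))) := by
    intro ψ
    rw [A.homEquiv_unit]
    exact app_natural ψ _ _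
  have h2 : (fun ψ : (Scheme.Modules.pullback g).obj (Coh.structureModule V) ⟶ N' => ψ.app ⊤ (oneP g)) =
      N'.presheaf.map (homOfLE (le_top : ⊤ ≤ g ⁻¹ᵁ (⊤ : V.Opens))).op ∘
        (fun φ : Coh.structureModule V ⟶ (Scheme.Modules.pushforward g).obj N' => φ.app ⊤ (1 : Γ(V, ⊤))) ∘
          A.homEquiv _ _ := funext key
  rw [h2]
  exact (res_bijective N' le_top le_top).comp ((bijective_unit_eval _).comp (Equiv.bijective _))

/-- The canonical map on global sections is natural. -/
theorem pullMap_natural (g : W ⟶ V) {M N : V.Modules} (ψ : M ⟶ N) (m : Γ(M, ⊤)) :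
    ((Scheme.Modules.pullback g).map ψ).app ⊤ (pullMap g M (W := ⊤) (W' := ⊤) le_top m) =
      pullMap g N (W := ⊤) (W' := ⊤) le_top (ψ.app ⊤ m) := by
  let A := Scheme.Modules.pullbackPushforwardAdjunction g
  show ((Scheme.Modules.pullback g).map ψ).app ⊤
      (((Scheme.Modules.pullback g).obj M).presheaf.map (homOfLE _).op ((A.unit.app M).app ⊤ m)) =
    ((Scheme.Modules.pullback g).obj N).presheaf.map (homOfLE _).op ((A.unit.app N).app ⊤ (ψ.app ⊤ m))
  rw [app_natural]
  refine congrArg _ ?_
  exact (congrArg (fun t : M ⟶ (Scheme.Modules.pushforward g).obj ((Scheme.Modules.pullback g).obj N) => t.app ⊤ m)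
    (A.unit.naturality ψ)).symm

theorem app_smul_top (N : V.Modules) {M : V.Modules} (r : Coh.Γtop V) (ψ : M ⟶ N) (m : Γ(M, ⊤)) :
    (r • ψ).app ⊤ m = (show Γ(V, ⊤) from r) • ψ.app ⊤ m := by
  show ψ.app ⊤ ((Formal.smulModΓ M r).app ⊤ m) = _
  rw [KLin.smulModΓ_app_apply]
  refine (Scheme.Modules.Hom.app_smul _ _ _).trans (congrArg (fun t : Γ(V, ⊤) => t • ψ.app ⊤ m) ?_)
  rw [show (homOfLE (le_top : (⊤ : V.Opens) ≤ ⊤)).op = 𝟙 _ from rfl, V.presheaf.map_id]
  rfl

theorem pullback_map_smul (g : W ⟶ V) {M N : V.Modules} (r : Coh.Γtop V) (ψ : M ⟶ N) :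
    (Scheme.Modules.pullback g).map (r • ψ) = fa g r • (Scheme.Modules.pullback g).map ψ := by
  show (Scheme.Modules.pullback g).map (Formal.smulModΓ M r ≫ ψ) = _
  rw [Functor.map_comp, pullback_smulModΓ]
  rfl

theorem appLE_top (g : W ⟶ V) (e : (⊤ : W.Opens) ≤ g ⁻¹ᵁ ⊤) : g.appLE ⊤ ⊤ e = g.appTop := by
  show g.app ⊤ ≫ W.presheaf.map (homOfLE e).op = g.appTop
  rw [show (homOfLE e).op = 𝟙 (op (⊤ : W.Opens)) from rfl]
  exact (congrArg (g.app ⊤ ≫ ·) (W.presheaf.map_id _)).trans (Category.comp_id _)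

variable (g : W ⟶ V) {R R' : Type u} [CommRing R] [CommRing R'] [Algebra R R'] (ρ : R →+* Coh.Γtop V)
  (ρ' : R' →+* Coh.Γtop W) (hρ : ∀ r, fa g (ρ r) = ρ' (algebraMap R R' r))

/-- Homomorphisms of modules as a module over the base. -/
@[instance_reducible]
def modHomMod (F N : V.Modules) : Module R (F ⟶ N) :=
  Module.compHom _ ρ

/-- Inverse image of homomorphisms of modules, with scalars from the new base. -/
def modPair (F N : V.Modules) (s : R') :
    (F ⟶ N) →+ ((Scheme.Modules.pullback g).obj F ⟶ (Scheme.Modules.pullback g).obj N) where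
  toFun ψ := ρ' s • (Scheme.Modules.pullback g).map ψ
  map_zero' := by rw [Functor.map_zero, smul_zero]
  map_add' φ ψ := by rw [Functor.map_add, smul_add]

include hρ in
theorem modPair_smul (F N : V.Modules) (r : R) (s : R') (ψ : F ⟶ N) :
    modPair g ρ' F N (r • s) ψ = modPair g ρ' F N s ((ρ r) • ψ) := by
  show ρ' (r • s) • (Scheme.Modules.pullback g).map ψ = ρ' s • (Scheme.Modules.pullback g).map ((ρ r) • ψ)
  rw [pullback_map_smul, hρ, smul_smul, ← map_mul, Algebra.smul_def, mul_comm]

/-- Inverse image of homomorphisms of modules, with scalars from the new base. -/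
def modHom (F N : V.Modules) :
    (letI := modHomMod ρ F N
     R' ⊗[R] (F ⟶ N)) →+ ((Scheme.Modules.pullback g).obj F ⟶ (Scheme.Modules.pullback g).obj N) :=
  letI := modHomMod ρ F N
  TensorProduct.liftAddHom
    { toFun := modPair g ρ' F N
      map_zero' := by
        refine AddMonoidHom.ext fun ψ => ?_
        show ρ' 0 • (Scheme.Modules.pullback g).map ψ = 0
        rw [map_zero, zero_smul]
      map_add' := fun a b => by
        refine AddMonoidHom.ext fun ψ => ?_
        show ρ' (a + b) • (Scheme.Modules.pullback g).map ψ =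
          ρ' a • (Scheme.Modules.pullback g).map ψ + ρ' b • (Scheme.Modules.pullback g).map ψ
        rw [map_add, add_smul] }
    (fun r s ψ => modPair_smul g ρ ρ' hρ F N r s ψ)

variable [IsAffine V] [IsAffine W]
  (hp : IsPushout (CommRingCat.ofHom (algebraMap R R')) (CommRingCat.ofHom (show R →+* Γ(V, ⊤) from ρ))
    (CommRingCat.ofHom (show R' →+* Γ(W, ⊤) from ρ')) g.appTop)

include hp in
theorem bijective_modHom_unit (N : V.Modules) [Coh.IsQCoh N] :
    Function.Bijective (modHom g ρ ρ' hρ (Coh.structureModule V) N) := by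
  let A : Type u := Γ(V, ⊤)
  let B : Type u := Γ(W, ⊤)
  let M₀ : Type u := Γ(N, ⊤)
  let M₁ : Type u := Γ((Scheme.Modules.pullback g).obj N, ⊤)
  letI : Algebra R A := (show R →+* Γ(V, ⊤) from ρ).toAlgebra
  letI : Algebra R' B := (show R' →+* Γ(W, ⊤) from ρ').toAlgebra
  have e : (⊤ : W.Opens) ≤ g ⁻¹ᵁ ⊤ := le_top
  letI : Algebra A B := (g.appLE ⊤ ⊤ e).hom.toAlgebra
  letI : Algebra R B := ((algebraMap A B).comp (algebraMap R A)).toAlgebra
  haveI : IsScalarTower R A B := .of_algebraMap_eq fun _ => rfl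
  haveI : IsScalarTower R R' B := .of_algebraMap_eq fun r => by
    show g.appLE ⊤ ⊤ e (ρ r) = _
    rw [appLE_top]
    exact hρ r
  haveI : Algebra.IsPushout R R' A B :=
    (CommRingCat.isPushout_iff_isPushout (R := R) (S := A) (R' := R') (S' := B)).1 (by
      rw [← appLE_top g e] at hp
      exact hp)
  letI : Module R M₀ := Module.compHom M₀ (show R →+* Γ(V, ⊤) from ρ)
  haveI : IsScalarTower R A M₀ := .of_algebraMap_smul fun _ _ => rfl
  letI : Module A M₁ := Module.compHom M₁ (g.appLE ⊤ ⊤ e).hom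
  haveI : IsScalarTower A B M₁ := .of_algebraMap_smul fun _ _ => rfl
  have hB : IsBaseChange B (show M₀ →ₗ[A] M₁ from
      { toFun := pullMap g N (W := ⊤) (W' := ⊤) le_top
        map_add' := map_add _
        map_smul' := fun a m => pullMap_smul g N (W := ⊤) (W' := ⊤) e a m }) :=
    isBaseChange_pullMapL g N (isAffineOpen_top V) (isAffineOpen_top W) e
  let Ψ : R' ⊗[R] M₀ ≃ M₁ :=
    (Algebra.IsPushout.cancelBaseChange R R' A B M₀).symm.toEquiv.trans hB.equiv.toEquiv
  letI := modHomMod ρ (Coh.structureModule V) N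
  let eV : (Coh.structureModule V ⟶ N) ≃ₗ[R] M₀ := LinearEquiv.ofBijective
    { toFun := fun ψ => ψ.app ⊤ (1 : Γ(V, ⊤))
      map_add' := fun φ ψ => rfl
      map_smul' := fun r ψ => app_smul_top N (ρ r) ψ (1 : Γ(V, ⊤)) } (bijective_unit_eval N)
  have h : (fun ψ : (Scheme.Modules.pullback g).obj (Coh.structureModule V) ⟶ (Scheme.Modules.pullback g).obj N =>
      ψ.app ⊤ (oneP g)) ∘ modHom g ρ ρ' hρ (Coh.structureModule V) N =
      Ψ ∘ LinearEquiv.lTensor R' eV := by
    funext x
    induction x using TensorProduct.induction_on with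
    | zero =>
      simp only [Function.comp_apply, map_zero]
      exact (map_zero (hB.equiv.toAddEquiv.toAddMonoidHom.comp
        (Algebra.IsPushout.cancelBaseChange R R' A B M₀).symm.toAddEquiv.toAddMonoidHom)).symm
    | tmul s ψ =>
      show ((ρ' s : Coh.Γtop W) • (Scheme.Modules.pullback g).map ψ).app ⊤ (oneP g) =
        hB.equiv ((Algebra.IsPushout.cancelBaseChange R R' A B M₀).symm (s ⊗ₜ eV ψ))
      rw [Algebra.IsPushout.cancelBaseChange_symm_tmul, IsBaseChange.equiv_tmul, app_smul_top]
      refine congrArg _ ?_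
      exact pullMap_natural g ψ _
    | add a b ha hb =>
      simp only [Function.comp_apply] at ha hb ⊢
      rw [map_add, map_add]
      refine Eq.trans ?_ (map_add (hB.equiv.toAddEquiv.toAddMonoidHom.comp
        (Algebra.IsPushout.cancelBaseChange R R' A B M₀).symm.toAddEquiv.toAddMonoidHom) _ _).symm
      exact (congrArg₂ (· + ·) ha hb)
  refine (Function.Bijective.of_comp_iff' (bijective_pull_eval g _) _).1 ?_
  rw [h]
  exact (Equiv.bijective _).comp (LinearEquiv.bijective _)

end Groth.Agent.TwistShriek
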