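import Groth.Agent.TwistShriek.Scalar
import Groth.Agent.DCohMore.DescFPPF

/-!
# Cohomology sheaves of derived inverse images along flat morphisms, naturally
-/

set_option autoImplicit false
set_option linter.style.haveILetI false
set_option linter.unusedSectionVars false
set_option backward.isDefEq.respectTransparency false

universe u

open CategoryTheory CategoryTheory.Limits AlgebraicGeometry
open Groth.Agent.DCohLib

attribute [local instance] HasDerivedCategory.standard

noncomputable section

namespace Groth.Agent.TwistShriek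

variable {X Y : Scheme.{u}}

/-- Along a flat morphism cohomology sheaves commute with derived inverse image, naturally. -/
theorem nonempty_hd_lpull (f : X ⟶ Y) [Flat f] [DCoh.HasLpull f] (q : ℤ) :
    Nonempty (DerivedCategory.homologyFunctor Y.Modules q ⋙ Scheme.Modules.pullback f ≅
      DCoh.Lpull f ⋙ DerivedCategory.homologyFunctor X.Modules q) := by
  let P := Scheme.Modules.pullback f
  haveI : PreservesFiniteLimits P := DCohMore.preservesFiniteLimits_pullback_of_flat f
  obtain ⟨l⟩ := nonempty_lpull_iso_mapDerived f
  let HY := DerivedCategory.homologyFunctor Y.Modules q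
  let HX := DerivedCategory.homologyFunctor X.Modules q
  let e₀ : HomologicalComplex.homologyFunctor Y.Modules (ComplexShape.up ℤ) q ⋙ P ≅
      P.mapHomologicalComplex (ComplexShape.up ℤ) ⋙
        HomologicalComplex.homologyFunctor X.Modules (ComplexShape.up ℤ) q :=
    NatIso.ofComponents (fun C => ((C.sc q).mapHomologyIso P).symm) fun {C D} φ => by
      have := ShortComplex.mapHomologyIso_hom_naturality
        ((HomologicalComplex.shortComplexFunctor Y.Modules (ComplexShape.up ℤ) q).map φ) P
      show P.map (ShortComplex.homologyMap _) ≫ ((D.sc q).mapHomologyIso P).inv =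
        ((C.sc q).mapHomologyIso P).inv ≫ _
      rw [Iso.eq_inv_comp, ← Category.assoc, Iso.comp_inv_eq]
      exact this.symm
  let e : (DerivedCategory.Q ⋙ HY) ⋙ P ≅ (DerivedCategory.Q ⋙ P.mapDerivedCategory) ⋙ HX :=
    Functor.isoWhiskerRight (DerivedCategory.homologyFunctorFactors Y.Modules q) P ≪≫ e₀ ≪≫
      Functor.isoWhiskerLeft (P.mapHomologicalComplex (ComplexShape.up ℤ))
        (DerivedCategory.homologyFunctorFactors X.Modules q).symm ≪≫
      (Functor.associator _ _ _).symm ≪≫
      Functor.isoWhiskerRight P.mapDerivedCategoryFactors.symm HX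
  let W := HomologicalComplex.quasiIso Y.Modules (ComplexShape.up ℤ)
  letI : Localization.Lifting DerivedCategory.Q W ((DerivedCategory.Q ⋙ HY) ⋙ P) (HY ⋙ P) :=
    ⟨(Functor.associator _ _ _).symm⟩
  letI : Localization.Lifting DerivedCategory.Q W ((DerivedCategory.Q ⋙ P.mapDerivedCategory) ⋙ HX)
      (P.mapDerivedCategory ⋙ HX) :=
    ⟨(Functor.associator _ _ _).symm⟩
  exact ⟨Localization.liftNatIso DerivedCategory.Q W ((DerivedCategory.Q ⋙ HY) ⋙ P)
    ((DerivedCategory.Q ⋙ P.mapDerivedCategory) ⋙ HX) (HY ⋙ P) (P.mapDerivedCategory ⋙ HX) e ≪≫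
      Functor.isoWhiskerRight l.symm HX⟩

end Groth.Agent.TwistShriek
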