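import Groth.Agent.TwistShriek.HomBC
import Groth.Agent.TwistShriek.HdPull
import Groth.Agent.TwistShriek.AffineHomBC
import Groth.Agent.DCohMore.PerfHom
import Groth.Agent.DCohMore.ThickGen
import Groth.Agent.DCohMore.RpushSum
import Groth.Agent.RlimCrit.ClBij
import Groth.Agent.DCohMore.ApproxGlobal
import Groth.Agent.S1007

/-!
# Base change of homomorphisms out of perfect objects on affine schemes
-/

set_option autoImplicit false
set_option linter.style.haveILetI false
set_option linter.unusedSectionVars false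
set_option backward.isDefEq.respectTransparency false

universe u

open CategoryTheory CategoryTheory.Limits AlgebraicGeometry Pretriangulated
open Groth.Agent.DCohLib Groth.Agent.QCohLib Groth.Agent.CohBase
open scoped TensorProduct

attribute [local instance] HasDerivedCategory.standard Groth.Agent.TwistShriek.linΓ

noncomputable section

namespace Groth.Agent.TwistShriek

variable {V W Y : Scheme.{u}}

/-- On an affine scheme, maps out of the shifted structure sheaf are read off in cohomology. -/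
theorem bijective_hdMap [IsAffine Y] {F : Y.Modules} (eF : Coh.structureModule Y ≅ F) (q : ℤ) {S : DCoh.D Y}
    (eS : S ≅ RlimCrit.sgl q F) (M : DCoh.D Y) (hM : DCoh.IsQCohD M) :
    Function.Bijective fun φ : S ⟶ M => (DerivedCategory.homologyFunctor Y.Modules q).map φ := by
  haveI : HasExt.{u} Y.Modules := inferInstance
  haveI := TildeD.hasProductsOfShape_derived (hres_modules Y) ℕ
  haveI hp : HasProduct (CohCx.truncTower M) := inferInstance
  let H := DerivedCategory.homologyFunctor Y.Modules q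
  let O := Coh.structureModule Y
  have hb : Function.Bijective (RlimCrit.cl : (RlimCrit.sgl q O ⟶ M) → _) :=
    RlimCrit.cl_bijective.{u} O q M (Groth.Agent.S1007.result Y M hM) fun i k hk => by
      obtain ⟨k, rfl⟩ : ∃ k', k = k' + 1 := ⟨k - 1, by omega⟩
      haveI : Coh.IsQCoh ((DerivedCategory.homologyFunctor Y.Modules i).obj M) := hM i
      exact subsingleton_ext_unit _ _ (Groth.Agent.CohBase.subsingleton_HH _ (k + 1)
        (Groth.Agent.CohBase.affine_vanishing _ (isAffineOpen_top Y) k))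
  let e : RlimCrit.sgl q O ≅ S :=
    DerivedCategory.Q.mapIso ((HomologicalComplex.single Y.Modules (ComplexShape.up ℤ) q).mapIso eF) ≪≫ eS.symm
  let a : O ≅ H.obj S :=
    (HomologicalComplex.singleObjHomologySelfIso (ComplexShape.up ℤ) q O).symm ≪≫ RlimCrit.ff q _ ≪≫ H.mapIso e
  have h : (a.homFromEquiv.symm : (H.obj S ⟶ H.obj M) → _) ∘ (fun φ : S ⟶ M => H.map φ) =
      RlimCrit.cl ∘ (e.homFromEquiv.symm : (S ⟶ M) → _) := funext fun φ => by
    show a.hom ≫ H.map φ = RlimCrit.cl (e.hom ≫ φ)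
    rw [RlimCrit.cl, Functor.map_comp]
    simp [a, H]
  refine (Function.Bijective.of_comp_iff' (Equiv.bijective a.homFromEquiv.symm) _).1 ?_
  rw [h]
  exact hb.comp (Equiv.bijective _)

/-- Shifts of objects placed in one degree. -/
theorem nonempty_shift_sgl (F : Y.Modules) (n a a' : ℤ) (h : n + a = a') :
    Nonempty ((RlimCrit.sgl a' F)⟦n⟧ ≅ RlimCrit.sgl a F) :=
  ⟨(shiftFunctor _ n).mapIso ((DerivedCategory.singleFunctorIsoCompQ Y.Modules a').app F).symm ≪≫
    ((DerivedCategory.singleFunctors Y.Modules).shiftIso n a a' h).app F ≪≫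
    (DerivedCategory.singleFunctorIsoCompQ Y.Modules a).app F⟩

/-- On an affine scheme the structure sheaf generates. -/
theorem isZero_of_affine [IsAffine Y] (E : DCoh.D Y) (hE : DCoh.IsQCohD E)
    (h : ∀ (n : ℤ) (φ : (RlimCrit.sgl 0 (Coh.structureModule Y))⟦n⟧ ⟶ E), φ = 0) : IsZero E := by
  refine isZero_of_isZero_HD fun i => ?_
  haveI : Coh.IsQCoh ((DerivedCategory.homologyFunctor Y.Modules i).obj E) := hE i
  refine DCohMore.isZero_of_sections_zero _ fun s => ?_
  obtain ⟨e⟩ := nonempty_shift_sgl (Coh.structureModule Y) (-i) i 0 (by omega)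
  let H := DerivedCategory.homologyFunctor Y.Modules i
  let S := RlimCrit.sgl i (Coh.structureModule Y)
  let a : Coh.structureModule Y ≅ H.obj S :=
    (HomologicalComplex.singleObjHomologySelfIso (ComplexShape.up ℤ) i _).symm ≪≫ RlimCrit.ff i _
  obtain ⟨φ, hφ⟩ := (bijective_hdMap (Iso.refl _) i (Iso.refl S) E hE).2 (a.inv ≫ secHom _ s)
  have h0 : e.hom ≫ φ = 0 := h (-i) _
  have h1 : φ = 0 := by rw [← cancel_epi e.hom, h0, comp_zero]
  have h2 : secHom ((DerivedCategory.homologyFunctor Y.Modules i).obj E) s = 0 := by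
    rw [← cancel_epi a.inv, comp_zero, ← hφ, h1]
    exact Functor.map_zero _ _ _
  have h3 := secHom_app_one ((DerivedCategory.homologyFunctor Y.Modules i).obj E) s ⊤
  rw [h2] at h3
  refine (restr_self _ (le_rfl : (⊤ : Y.Opens) ≤ ⊤) s).symm.trans ?_
  exact h3.symm

variable (g : W ⟶ V) {R R' : Type u} [CommRing R] [CommRing R'] [Algebra R R'] (ρ : R →+* Coh.Γtop V)
  (ρ' : R' →+* Coh.Γtop W) (hρ : ∀ r, fa g (ρ r) = ρ' (algebraMap R R' r))
  [IsAffine V] [IsAffine W]
  (hp : IsPushout (CommRingCat.ofHom (algebraMap R R')) (CommRingCat.ofHom (show R →+* Γ(V, ⊤) from ρ))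
    (CommRingCat.ofHom (show R' →+* Γ(W, ⊤) from ρ')) g.appTop)

include hp in
theorem bijective_modHom_iso {F : V.Modules} (e : Coh.structureModule V ≅ F) (N : V.Modules) [Coh.IsQCoh N] :
    Function.Bijective (modHom g ρ ρ' hρ F N) := by
  letI := modHomMod ρ F N
  letI := modHomMod ρ (Coh.structureModule V) N
  let pre : (F ⟶ N) ≃ₗ[R] (Coh.structureModule V ⟶ N) :=
    { e.homFromEquiv.symm with
      map_add' := fun φ ψ => Preadditive.comp_add _ _ _ _ _ _
      map_smul' := fun r φ => Linear.comp_smul _ _ _ e.hom (ρ r) φ }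
  let P := Scheme.Modules.pullback g
  have h : ((P.mapIso e).homFromEquiv.symm : (P.obj F ⟶ P.obj N) → _) ∘ modHom g ρ ρ' hρ F N =
      modHom g ρ ρ' hρ (Coh.structureModule V) N ∘ LinearEquiv.lTensor R' pre := funext fun x => by
    induction x using TensorProduct.induction_on with
    | zero => simp
    | tmul s ψ =>
      show P.map e.hom ≫ ((ρ' s : Coh.Γtop W) • P.map ψ) = (ρ' s : Coh.Γtop W) • P.map (e.hom ≫ ψ)
      rw [Linear.comp_smul, P.map_comp]
    | add a b ha hb =>
      show P.map e.hom ≫ modHom g ρ ρ' hρ F N (a + b) = _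
      rw [map_add, Preadditive.comp_add]
      refine (congrArg₂ (· + ·) ha hb).trans ?_
      exact (map_add ((modHom g ρ ρ' hρ (Coh.structureModule V) N).comp (LinearMap.lTensor R' pre.toLinearMap).toAddMonoidHom) a b).symm
  refine (Function.Bijective.of_comp_iff' (Equiv.bijective (P.mapIso e).homFromEquiv.symm) _).1 ?_
  rw [h]
  exact (bijective_modHom_unit g ρ ρ' hρ hp N).comp (LinearEquiv.bijective _)

variable [Flat g] [DCoh.HasLpull g]

include hp in
/-- Base change of homomorphisms out of the shifted structure sheaf. -/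
theorem homBC_sgl (q : ℤ) (M : DCoh.D V) (hM : DCoh.IsQCohD M) :
    HomBC g ρ ρ' hρ (RlimCrit.sgl q (Coh.structureModule V)) M := by
  let O := Coh.structureModule V
  let S := RlimCrit.sgl q O
  let P := Scheme.Modules.pullback g
  let L := DCoh.Lpull g
  let HV := DerivedCategory.homologyFunctor V.Modules q
  let HW := DerivedCategory.homologyFunctor W.Modules q
  obtain ⟨l⟩ := nonempty_lpull_iso_mapDerived g
  obtain ⟨Φ⟩ := nonempty_hd_lpull g q
  have eS : L.obj S ≅ RlimCrit.sgl q (P.obj O) :=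
    l.app _ ≪≫ P.mapDerivedCategoryFactors.app _ ≪≫
      DerivedCategory.Q.mapIso ((HomologicalComplex.singleMapHomologicalComplex P (ComplexShape.up ℤ) q).app O)
  have hW := bijective_hdMap (pullStructureIso g).symm q eS (L.obj M) (DCohMore.BC.isQCohD_lpull' g M hM)
  have hV := bijective_hdMap (Iso.refl O) q (Iso.refl S) M hM
  haveI : Coh.IsQCoh (HV.obj M) := hM q
  have hmod := bijective_modHom_iso g ρ ρ' hρ hp
    ((HomologicalComplex.singleObjHomologySelfIso (ComplexShape.up ℤ) q O).symm ≪≫ RlimCrit.ff q _) (HV.obj M)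
  letI := homMod ρ S M
  letI := modHomMod ρ (HV.obj S) (HV.obj M)
  let hd : (S ⟶ M) ≃ₗ[R] (HV.obj S ⟶ HV.obj M) := LinearEquiv.ofBijective
    { toFun := fun φ => HV.map φ
      map_add' := fun φ ψ => HV.map_add
      map_smul' := fun r φ => by
        show HV.map ((ρ r : Coh.Γtop V) • φ) = (ρ r : Coh.Γtop V) • HV.map φ
        rw [← sc_comp, Functor.map_comp, hd_sc, Linear.smul_comp, Category.id_comp] } hV
  let c : (HW.obj (L.obj S) ⟶ HW.obj (L.obj M)) ≃ (P.obj (HV.obj S) ⟶ P.obj (HV.obj M)) :=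
    Iso.homCongr (Φ.app S).symm (Φ.app M).symm
  have h : c ∘ (fun φ : L.obj S ⟶ L.obj M => HW.map φ) ∘ bcHom g ρ ρ' hρ S M =
      modHom g ρ ρ' hρ (HV.obj S) (HV.obj M) ∘ LinearEquiv.lTensor R' hd := funext fun x => by
    induction x using TensorProduct.induction_on with
    | zero =>
      show c (HW.map (bcHom g ρ ρ' hρ S M 0)) = modHom g ρ ρ' hρ _ _ (LinearEquiv.lTensor R' hd 0)
      rw [map_zero, map_zero, map_zero, Functor.map_zero]
      simp [c]
    | tmul s φ =>
      show Φ.hom.app S ≫ HW.map (sc (ρ' s) _ ≫ L.map φ) ≫ Φ.inv.app M = (ρ' s : Coh.Γtop W) • P.map (HV.map φ)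
      have hn : Φ.hom.app S ≫ HW.map (L.map φ) = P.map (HV.map φ) ≫ Φ.hom.app M := (Φ.hom.naturality φ).symm
      rw [Functor.map_comp, hd_sc, Linear.smul_comp, Category.id_comp, Linear.smul_comp, Linear.comp_smul,
        ← Category.assoc, hn, Category.assoc, Iso.hom_inv_id_app]
      exact congrArg _ (Category.comp_id _)
    | add a b ha hb =>
      simp only [Function.comp_apply] at ha hb ⊢
      rw [map_add, map_add, map_add, ← ha, ← hb, Functor.map_add]
      simp [c, Preadditive.add_comp, Preadditive.comp_add]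
  have h2 : Function.Bijective (c ∘ fun φ : L.obj S ⟶ L.obj M => HW.map φ) := (Equiv.bijective _).comp hW
  refine (Function.Bijective.of_comp_iff' h2 _).1 ?_
  rw [Function.comp_assoc, h]
  exact hmod.comp (LinearEquiv.bijective _)

variable [Module.Flat R R']

include hp in
/-- Base change of homomorphisms out of perfect objects on an affine scheme. -/
theorem homBC_affine {P : DCoh.D V} (hP : DCoh.IsPerfect P) (M : DCoh.D V) (hM : DCoh.IsQCohD M) :
    HomBC g ρ ρ' hρ P M := by
  let G := RlimCrit.sgl 0 (Coh.structureModule V)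
  obtain ⟨E, hE, ⟨r⟩⟩ := DCohMore.exists_built_retract (G := G) (DCohMore.isPerfect_sgl_unit V 0) isZero_of_affine hP
  refine homBC_retract_left g ρ ρ' hρ r M ?_
  suffices H : ∀ n : ℤ, HomBC g ρ ρ' hρ (E⟦n⟧) M from
    homBC_of_iso_left g ρ ρ' hρ ((shiftFunctorZero _ ℤ).app E) M (H 0)
  clear r
  induction hE with
  | shift m =>
    intro n
    obtain ⟨e⟩ := nonempty_shift_sgl (Coh.structureModule V) (m + n) (-(m + n)) 0 (by omega)
    exact homBC_of_iso_left g ρ ρ' hρ (e.symm ≪≫ (shiftFunctorAdd _ m n).app G) M (homBC_sgl g ρ ρ' hρ hp _ M hM)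
  | zero Z hZ => exact fun n => homBC_of_isZero_left g ρ ρ' hρ ((shiftFunctor _ n).map_isZero hZ) M
  | iso e _ ih => exact fun n => homBC_of_iso_left g ρ ρ' hρ ((shiftFunctor _ n).mapIso e) M (ih n)
  | ext T hT _ _ ih₁ ih₃ =>
    intro n
    exact homBC_obj₂_left g ρ ρ' hρ M ((Triangle.shiftFunctor (DCoh.D V) n).obj T)
      (Triangle.shift_distinguished T hT n)
      (homBC_of_iso_left g ρ ρ' hρ ((shiftFunctorAdd _ n (-1)).app T.obj₃) M (ih₃ _)) (ih₁ n) (ih₃ n)
      (homBC_of_iso_left g ρ ρ' hρ ((shiftFunctorAdd _ n 1).app T.obj₁) M (ih₁ _))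

omit [IsAffine V] [IsAffine W] [Module.Flat R R'] [DCoh.HasLpull g] [Flat g] in
/-- Derived inverse image along a flat morphism preserves lower bounds. -/
theorem isGE_lpull_flat {Z : Scheme.{u}} (f : Z ⟶ V) [Flat f] [DCoh.HasLpull f] (c : ℤ) (K : DCoh.D V) [K.IsGE c] :
    ((DCoh.Lpull f).obj K).IsGE c :=
  (DerivedCategory.isGE_iff _ _).2 fun i hi => by
    obtain ⟨e⟩ := DCohMore.nonempty_HD_lpull_flat f K i
    exact ((Scheme.Modules.pullback f).map_isZero (DerivedCategory.isZero_of_isGE K c i hi)).of_iso e.symm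

omit [IsAffine V] [IsAffine W] [Module.Flat R R'] [DCoh.HasLpull g] [Flat g] in
/-- Derived inverse image along a flat morphism preserves upper bounds. -/
theorem isLE_lpull_flat {Z : Scheme.{u}} (f : Z ⟶ V) [Flat f] [DCoh.HasLpull f] (c : ℤ) (K : DCoh.D V) [K.IsLE c] :
    ((DCoh.Lpull f).obj K).IsLE c :=
  (DerivedCategory.isLE_iff _ _).2 fun i hi => by
    obtain ⟨e⟩ := DCohMore.nonempty_HD_lpull_flat f K i
    exact ((Scheme.Modules.pullback f).map_isZero (DerivedCategory.isZero_of_isLE K c i hi)).of_iso e.symm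

omit [IsAffine V] [IsAffine W] [Module.Flat R R'] in
theorem homBC_of_isLE_of_isGE (a b : ℤ) (h : a < b) (Q M : DCoh.D V) [Q.IsLE a] [M.IsGE b] :
    HomBC g ρ ρ' hρ Q M := by
  letI := homMod ρ Q M
  haveI := isLE_lpull_flat g a Q
  haveI := isGE_lpull_flat g b M
  haveI : Subsingleton (Q ⟶ M) :=
    ⟨fun x y => (DerivedCategory.TStructure.t.zero x a b h).trans (DerivedCategory.TStructure.t.zero y a b h).symm⟩
  exact ⟨fun x y _ => Subsingleton.elim x y, fun z => ⟨0, by
    rw [map_zero]
    exact (DerivedCategory.TStructure.t.zero z a b h).symm⟩⟩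

include hp in
/-- Base change of homomorphisms out of pseudo-coherent objects into bounded below ones. -/
theorem homBC_pc {C : DCoh.D V} (hCq : DCoh.IsQCohD C) (hC : ∀ n, DCoh.IsPseudoCoherentD n C) (c : ℤ) (M : DCoh.D V)
    [M.IsGE c] (hM : DCoh.IsQCohD M) : HomBC g ρ ρ' hρ C M := by
  obtain ⟨r, hr⟩ := DCohMore.appr_main (X := V) Set.univ isClosed_univ (by rw [Set.compl_univ]; exact isCompact_empty)
  obtain ⟨P, α, hP, -, D, p, q, hT, hD⟩ := hr (c - 2) C hCq (hC _) (fun i _ => Set.subset_univ _)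
  haveI : (Triangle.mk α p q).obj₃.IsLE (c - 3) := (DerivedCategory.isLE_iff _ _).2 fun i hi => hD i (by omega)
  haveI : ((Triangle.mk α p q).obj₃⟦(-1 : ℤ)⟧).IsLE (c - 2) :=
    DerivedCategory.TStructure.t.isLE_shift _ (c - 3) (-1) (c - 2) (by omega)
  exact homBC_obj₂_left g ρ ρ' hρ M (Triangle.mk α p q) hT
    (homBC_of_isLE_of_isGE g ρ ρ' hρ (c - 2) c (by omega) _ M)
    (homBC_affine g ρ ρ' hρ hp hP M hM)
    (homBC_of_isLE_of_isGE g ρ ρ' hρ (c - 3) c (by omega) _ M)
    (homBC_affine g ρ ρ' hρ hp (isPerfect_shift hP 1) M hM)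

end Groth.Agent.TwistShriek
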