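import Groth.Agent.TwistShriek.BcMapMate

/-!
# Base change maps of right adjoints: pasting, transport, and the criterion through `ξ`
-/

set_option autoImplicit false
set_option linter.style.haveILetI false
set_option linter.unusedSectionVars false

universe v₁ v₂ v₃ v₄ v₅ v₆ u₁ u₂ u₃ u₄ u₅ u₆

open CategoryTheory

namespace Groth.Agent.TwistShriek

variable {A : Type u₁} [Category.{v₁} A] {B : Type u₂} [Category.{v₂} B] {A' : Type u₃} [Category.{v₃} A']
  {B' : Type u₄} [Category.{v₄} B'] {F : A ⥤ B} {a : B ⥤ A} {F' : A' ⥤ B'} {a' : B' ⥤ A'}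
  {G : B' ⥤ B} {G' : A' ⥤ A} {L : B ⥤ B'} {L' : A ⥤ A'}
  (adj : F ⊣ a) (adj' : F' ⊣ a') (e : G' ⋙ F ≅ F' ⋙ G) (adjL : L ⊣ G) (adjL' : L' ⊣ G')

/-- The base change map is characterised by its transpose. -/
theorem bcAdjMap_unique (K : B) [IsIso (xiMap adj adj' e (L.obj K))] (x : L'.obj (a.obj K) ⟶ a'.obj (L.obj K))
    (h : adjL'.unit.app (a.obj K) ≫ G'.map x ≫ xiMap adj adj' e (L.obj K) = a.map (adjL.unit.app K)) :
    x = bcAdjMap adj adj' e adjL adjL' K := by
  apply (adjL'.homEquiv _ _).injective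
  rw [adjL'.homEquiv_unit, adjL'.homEquiv_unit, unit_bcAdjMap, IsIso.eq_comp_inv, Category.assoc, h]

/-- The defining equation of the base change map. -/
theorem bcAdjMap_eq (K : B) [IsIso (xiMap adj adj' e (L.obj K))] :
    adjL'.unit.app (a.obj K) ≫ G'.map (bcAdjMap adj adj' e adjL adjL' K) ≫ xiMap adj adj' e (L.obj K) =
      a.map (adjL.unit.app K) := by
  rw [← Category.assoc, unit_bcAdjMap, Category.assoc, IsIso.inv_hom_id, Category.comp_id]

/-- The base change transforms are invertible when the `ξ` are. -/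
theorem isIso_bc_of_isIso_xiMap (h : ∀ M, IsIso (xiMap adj adj' e M)) (E : A) :
    IsIso ((DCohMore.BC.bc adjL adjL' e).app E) := by
  refine isIso_of_coyoneda_map_bijective _ fun M => ?_
  haveI := h M
  let Φ : (F'.obj (L'.obj E) ⟶ M) ≃ (L.obj (F.obj E) ⟶ M) :=
    (adj'.homEquiv _ _).trans <| (adjL'.homEquiv _ _).trans <|
      (asIso (xiMap adj adj' e M)).homToEquiv.trans <| (adj.homEquiv _ _).symm.trans (adjL.homEquiv _ _).symm
  have key : ∀ ψ, (DCohMore.BC.bc adjL adjL' e).app E ≫ ψ = Φ ψ := by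
    intro ψ
    apply (adjL.homEquiv _ _).injective
    rw [adjL.homEquiv_naturality_right, adjL.homEquiv_unit, DCohMore.BC.unit_bc]
    simp only [Φ, Equiv.trans_apply, Equiv.apply_symm_apply, Iso.homToEquiv_apply, asIso_hom]
    rw [xiMap, ← adj.homEquiv_naturality_left, Equiv.symm_apply_apply, adjL'.homEquiv_unit, Functor.map_comp,
      Category.assoc, Category.assoc]
    refine congrArg _ ?_
    rw [← Category.assoc]
    have hn := e.hom.naturality (adj'.homEquiv _ _ ψ)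
    rw [Functor.comp_map] at hn
    erw [hn]
    rw [Category.assoc, Functor.comp_map, ← Functor.map_comp, ← adj'.homEquiv_counit, Equiv.symm_apply_apply]
  have h2 : Function.Bijective fun ψ : F'.obj (L'.obj E) ⟶ M => (DCohMore.BC.bc adjL adjL' e).app E ≫ ψ := by
    rw [show (fun ψ : F'.obj (L'.obj E) ⟶ M => (DCohMore.BC.bc adjL adjL' e).app E ≫ ψ) = Φ from funext key]
    exact Φ.bijective
  exact h2

section Conj

variable {H : B' ⥤ B} {H' : A' ⥤ A} (θ : G ≅ H) (θ' : G' ≅ H')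

/-- An identification, transported along isomorphisms of the direct images. -/
noncomputable def eConj : H' ⋙ F ≅ F' ⋙ H :=
  Functor.isoWhiskerRight θ'.symm F ≪≫ e ≪≫ Functor.isoWhiskerLeft F' θ

theorem xiMap_conj (M : B') :
    xiMap adj adj' (eConj e θ θ') M = θ'.inv.app _ ≫ xiMap adj adj' e M ≫ a.map (θ.hom.app M) := by
  rw [xiMap, xiMap, ← adj.homEquiv_naturality_right, ← adj.homEquiv_naturality_left]
  refine congrArg _ ?_
  simp [eConj]

theorem isIso_xiMap_conj (M : B') [IsIso (xiMap adj adj' e M)] : IsIso (xiMap adj adj' (eConj e θ θ') M) := by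
  rw [xiMap_conj]
  infer_instance

theorem bcAdjMap_conj (K : B) [IsIso (xiMap adj adj' e (L.obj K))]
    [IsIso (xiMap adj adj' (eConj e θ θ') (L.obj K))] :
    bcAdjMap adj adj' (eConj e θ θ') (adjL.ofNatIsoRight θ) (adjL'.ofNatIsoRight θ') K =
      bcAdjMap adj adj' e adjL adjL' K := by
  symm
  apply bcAdjMap_unique
  have hu : ∀ x, (adjL.ofNatIsoRight θ).unit.app x = adjL.unit.app x ≫ θ.hom.app _ := fun x => by
    simp [Adjunction.ofNatIsoRight, Adjunction.equivHomsetRightOfNatIso, Adjunction.homEquiv_unit]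
  have hu' : ∀ x, (adjL'.ofNatIsoRight θ').unit.app x = adjL'.unit.app x ≫ θ'.hom.app _ := fun x => by
    simp [Adjunction.ofNatIsoRight, Adjunction.equivHomsetRightOfNatIso, Adjunction.homEquiv_unit]
  rw [hu, hu', xiMap_conj, Category.assoc, ← θ'.hom.naturality_assoc, θ'.hom_inv_id_app_assoc, Functor.map_comp,
    ← Category.assoc (adjL'.unit.app _), ← Category.assoc (_ ≫ _), Category.assoc (adjL'.unit.app _),
    bcAdjMap_eq adj adj' e adjL adjL' K]

/-- Invertibility of the base change map can be tested after transporting the direct images. -/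
theorem isIso_bcAdjMap_conj {L₂ : B ⥤ B'} {L₂' : A ⥤ A'} (adjL₂ : L₂ ⊣ H) (adjL₂' : L₂' ⊣ H') (K : B)
    [IsIso (xiMap adj adj' e (L.obj K))] (hξ : ∀ M, IsIso (xiMap adj adj' (eConj e θ θ') M))
    [IsIso (bcAdjMap adj adj' e adjL adjL' K)] : IsIso (bcAdjMap adj adj' (eConj e θ θ') adjL₂ adjL₂' K) := by
  haveI := hξ (L.obj K); haveI := hξ (L₂.obj K)
  haveI : IsIso (bcAdjMap adj adj' (eConj e θ θ') (adjL.ofNatIsoRight θ) (adjL'.ofNatIsoRight θ') K) := by
    rw [bcAdjMap_conj]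
    infer_instance
  exact isIso_bcAdjMap_transport adj adj' (eConj e θ θ') (adjL.ofNatIsoRight θ) (adjL'.ofNatIsoRight θ') adjL₂ adjL₂' K

end Conj

section Comp

variable {A'' : Type u₅} [Category.{v₅} A''] {B'' : Type u₆} [Category.{v₆} B''] {F'' : A'' ⥤ B''} {a'' : B'' ⥤ A''}
  {G₂ : B'' ⥤ B'} {G₂' : A'' ⥤ A'} {L₂ : B' ⥤ B''} {L₂' : A' ⥤ A''}
  (adj'' : F'' ⊣ a'') (e₂ : G₂' ⋙ F' ≅ F'' ⋙ G₂) (adjL₂ : L₂ ⊣ G₂) (adjL₂' : L₂' ⊣ G₂')

/-- Two identifications compose to a given one, when the outer direct image is fully faithful. -/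
theorem exists_eComp [G.Full] [G.Faithful] (eb : (G₂' ⋙ G') ⋙ F ≅ F'' ⋙ (G₂ ⋙ G)) :
    ∃ e₂ : G₂' ⋙ F' ≅ F'' ⋙ G₂,
      Functor.associator _ _ _ ≪≫ Functor.isoWhiskerLeft G₂' e ≪≫ (Functor.associator _ _ _).symm ≪≫
        Functor.isoWhiskerRight e₂ G ≪≫ Functor.associator _ _ _ = eb := by
  let hG := Functor.FullyFaithful.ofFullyFaithful G
  refine ⟨NatIso.ofComponents (fun X => hG.preimageIso ((e.app (G₂'.obj X)).symm ≪≫ eb.app X)) fun {X Y} φ => ?_, ?_⟩
  · apply G.map_injective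
    rw [G.map_comp, G.map_comp]
    simp only [Functor.FullyFaithful.preimageIso_hom, hG.map_preimage, Iso.trans_hom, Iso.symm_hom, Iso.app_inv,
      Iso.app_hom, Functor.comp_map]
    rw [← Functor.comp_map, Category.assoc, ← Category.assoc _ (e.inv.app _)]
    erw [e.inv.naturality]
    rw [Category.assoc]
    exact congrArg _ (eb.hom.naturality φ)
  · ext X
    simp

/-- The composite identification. -/
noncomputable def eComp : (G₂' ⋙ G') ⋙ F ≅ F'' ⋙ (G₂ ⋙ G) :=
  Functor.associator _ _ _ ≪≫ Functor.isoWhiskerLeft G₂' e ≪≫ (Functor.associator _ _ _).symm ≪≫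
    Functor.isoWhiskerRight e₂ G ≪≫ Functor.associator _ _ _

theorem xiMap_comp (M : B'') :
    xiMap adj adj'' (eComp e e₂) M = G'.map (xiMap adj' adj'' e₂ M) ≫ xiMap adj adj' e (G₂.obj M) := by
  rw [xiMap, xiMap, xiMap, ← adj.homEquiv_naturality_left]
  refine congrArg _ ?_
  have hn := e.hom.naturality ((adj'.homEquiv _ _) (e₂.hom.app (a''.obj M) ≫ G₂.map (adj''.counit.app M)))
  rw [Functor.comp_map] at hn
  erw [reassoc_of% hn]
  simp only [Functor.comp_map, ← Functor.map_comp, ← adj'.homEquiv_counit, Equiv.symm_apply_apply]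
  simp [eComp]

theorem bcAdjMap_comp (K : B) [IsIso (xiMap adj adj' e (L.obj K))]
    [IsIso (xiMap adj' adj'' e₂ (L₂.obj (L.obj K)))]
    [IsIso (xiMap adj adj'' (eComp e e₂) ((L ⋙ L₂).obj K))] :
    bcAdjMap adj adj'' (eComp e e₂) (adjL.comp adjL₂) (adjL'.comp adjL₂') K =
      L₂'.map (bcAdjMap adj adj' e adjL adjL' K) ≫ bcAdjMap adj' adj'' e₂ adjL₂ adjL₂' (L.obj K) := by
  symm
  refine bcAdjMap_unique adj adj'' (eComp e e₂) (adjL.comp adjL₂) (adjL'.comp adjL₂') K
    (L₂'.map (bcAdjMap adj adj' e adjL adjL' K) ≫ bcAdjMap adj' adj'' e₂ adjL₂ adjL₂' (L.obj K)) ?_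
  rw [xiMap_comp]
  simp only [Adjunction.comp_unit_app, Functor.comp_map, Functor.map_comp, Category.assoc, Functor.comp_obj]
  have h1 : G'.map (adjL₂'.unit.app (L'.obj (a.obj K))) ≫
      G'.map (G₂'.map (L₂'.map (bcAdjMap adj adj' e adjL adjL' K))) =
      G'.map (bcAdjMap adj adj' e adjL adjL' K) ≫ G'.map (adjL₂'.unit.app (a'.obj (L.obj K))) := by
    rw [← Functor.map_comp, ← Functor.map_comp]
    exact congrArg _ (adjL₂'.unit.naturality _).symm
  rw [reassoc_of% h1]
  have h2 := congrArg (fun t => G'.map t ≫ xiMap adj adj' e (G₂.obj (L₂.obj (L.obj K))))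
    (bcAdjMap_eq adj' adj'' e₂ adjL₂ adjL₂' (L.obj K))
  simp only [Functor.map_comp, Category.assoc] at h2
  rw [h2]
  have h3 := xiMap_natural adj adj' e (adjL₂.unit.app (L.obj K))
  simp only [Functor.comp_obj, Functor.id_obj] at h3 ⊢
  rw [h3, ← Category.assoc (G'.map _), ← Category.assoc, bcAdjMap_eq adj adj' e adjL adjL' K]

end Comp

end Groth.Agent.TwistShriek
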