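import Groth.Agent.DCohMore.BCMate

/-!
# The identification of composite inverse images attached to one of direct images
-/

set_option autoImplicit false
set_option linter.style.haveILetI false
set_option linter.unusedSectionVars false

open CategoryTheory

namespace Groth.Agent.TwistShriek

open Groth.Agent.DCohMore.BC

variable {X S X' S' : Type*} [Category X] [Category S] [Category X'] [Category S']
  {Rf : X ⥤ S} {Rf' : X' ⥤ S'} {Rg : S' ⥤ S} {Rg' : X' ⥤ X} {Lg : S ⥤ S'} {Lg' : X ⥤ X'} {Lf : S ⥤ X}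
  {Lf' : S' ⥤ X'}
  (adjg : Lg ⊣ Rg) (adjg' : Lg' ⊣ Rg') (e : Rg' ⋙ Rf ≅ Rf' ⋙ Rg) (adjf : Lf ⊣ Rf) (adjf' : Lf' ⊣ Rf')

/-- The comparison of composite left adjoints. -/
def bcTheta (E : S) : Lf'.obj (Lg.obj E) ⟶ Lg'.obj (Lf.obj E) :=
  (adjf'.homEquiv _ _).symm (Lg.map (adjf.unit.app E) ≫ (bc adjg adjg' e).app (Lf.obj E))

theorem bcTheta_transpose {E : S} {N : X} (φ : E ⟶ Rf.obj N) :
    (adjf'.homEquiv _ _).symm (Lg.map φ ≫ (bc adjg adjg' e).app N) =
      bcTheta adjg adjg' e adjf adjf' E ≫ Lg'.map ((adjf.homEquiv _ _).symm φ) := by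
  obtain ⟨ψ, rfl⟩ := (adjf.homEquiv _ _).surjective φ
  rw [Equiv.symm_apply_apply, bcTheta, ← adjf'.homEquiv_naturality_right_symm]
  refine congrArg _ ?_
  rw [adjf.homEquiv_unit, Functor.map_comp, Category.assoc, Category.assoc]
  exact congrArg _ ((bc adjg adjg' e).naturality ψ)

theorem isIso_bcTheta (E : S) : IsIso (bcTheta adjg adjg' e adjf adjf' E) := by
  refine isIso_of_coyoneda_map_bijective _ fun Z => ?_
  let K : (Lg'.obj (Lf.obj E) ⟶ Z) ≃ (E ⟶ Rg.obj (Rf'.obj Z)) :=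
    (adjg'.homEquiv _ _).trans ((adjf.homEquiv _ _).trans (e.app Z).homToEquiv)
  have h : (fun ψ => bcTheta adjg adjg' e adjf adjf' E ≫ ψ) =
      (adjf'.homEquiv _ _).symm ∘ (adjg.homEquiv _ _).symm ∘ K := funext fun ψ => by
    show bcTheta adjg adjg' e adjf adjf' E ≫ ψ = (adjf'.homEquiv _ _).symm ((adjg.homEquiv _ _).symm (K ψ))
    rw [bcTheta, ← adjf'.homEquiv_naturality_right_symm]
    refine congrArg _ ((adjg.homEquiv _ _).injective ?_)
    rw [Equiv.apply_symm_apply, adjg.homEquiv_naturality_right, adjg.homEquiv_naturality_left]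
    show (adjf.unit.app E ≫ (adjg.homEquiv _ _) ((adjg.homEquiv _ _).symm _)) ≫ Rg.map (Rf'.map ψ) =
      (adjf.homEquiv _ _ ((adjg'.homEquiv _ _) ψ)) ≫ e.hom.app Z
    rw [Equiv.apply_symm_apply, adjf.homEquiv_unit, adjg'.homEquiv_unit, Functor.map_comp]
    simp only [Category.assoc]
    exact congrArg (fun t => _ ≫ _ ≫ t) (e.hom.naturality ψ).symm
  rw [h]
  exact (Equiv.bijective _).comp ((Equiv.bijective _).comp (Equiv.bijective _))

end Groth.Agent.TwistShriek
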