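import Groth.Agent.TwistShriek.CartierCoker

/-!
# The derived functor of sections killed by an effective Cartier ideal, at a module placed in one degree
-/

set_option autoImplicit false
set_option linter.style.haveILetI false
set_option linter.unusedSectionVars false
set_option backward.isDefEq.respectTransparency false
set_option maxHeartbeats 800000

universe u

open CategoryTheory CategoryTheory.Limits AlgebraicGeometry
open Groth.Agent.PullbackMod Groth.Agent.DCohLib

attribute [local instance] HasDerivedCategory.standard preservesBinaryBiproducts_of_preservesBinaryProducts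

noncomputable section

namespace Groth.Agent.TwistShriek

variable {X : Scheme.{u}} (I : X.IdealSheafData) {L : X.Modules}
  (e : CohB1.tensorMod L (ClSub.idealMod I) ≅ Coh.structureModule X) (hI : BlowUp.IsEffCartierIdeal I)
variable [Dual3.HasHomO I.subschemeι] [EnoughInjectives X.Modules]

include hI e in
/-- Duality for an effective Cartier divisor. -/
theorem RHomO_single_cartier (O : DerivedCategory.Plus X.Modules) (c : ℤ)
    (hz : ∀ q : ℤ, q ≠ c → IsZero (DCoh.HD O.obj q))
    (hσ : Mono ((cartMul I e).app (DCoh.HD O.obj c))) :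
    (∀ j : ℤ, j ≠ c + 1 → IsZero (DCoh.HD ((Dual3.RHomOPlus I.subschemeι).obj O).obj j)) ∧
    Nonempty (DCoh.HD ((Dual3.RHomOPlus I.subschemeι).obj O).obj (c + 1) ≅
      (Scheme.Modules.pullback I.subschemeι).obj ((CurveLib.tensR L).obj (DCoh.HD O.obj c))) := by
  obtain ⟨J, hJ, ⟨eJ⟩, ⟨eR⟩⟩ := exists_injective_model I.subschemeι O
  let P := Scheme.Modules.pushforward I.subschemeι
  let T := CurveLib.tensR L
  haveI : T.IsEquivalence := VBLib.isEquivalence_tensR e
  haveI : P.PreservesZeroMorphisms := inferInstance
  haveI := (Scheme.Modules.pullbackPushforwardAdjunction I.subschemeι).isRightAdjoint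
  haveI : PreservesFiniteLimits P := by
    haveI : PreservesLimitsOfSize.{0, 0} P :=
      (Scheme.Modules.pullbackPushforwardAdjunction I.subschemeι).rightAdjoint_preservesLimits
    infer_instance
  haveI : PreservesFiniteColimits P := by
    haveI : PreservesColimitsOfSize.{0, 0} P := (Dual3.homOAdj I.subschemeι).leftAdjoint_preservesColimits
    infer_instance
  haveI : P.PreservesHomology := inferInstance
  haveI : P.Additive := Functor.additive_of_preservesBinaryBiproducts _
  haveI : T.Additive := Functor.additive_of_preservesBinaryBiproducts _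
  haveI : (Scheme.Modules.pushforward I.subschemeι).Full := by
    haveI : ∀ M, IsIso ((Scheme.Modules.pullbackPushforwardAdjunction I.subschemeι).counit.app M) :=
      isIso_counit_closedImmersion I.subschemeι
    haveI := NatIso.isIso_of_isIso_app (Scheme.Modules.pullbackPushforwardAdjunction I.subschemeι).counit
    exact (Scheme.Modules.pullbackPushforwardAdjunction I.subschemeι).fullyFaithfulROfIsIsoCounit.full
  haveI : (Scheme.Modules.pushforward I.subschemeι).Faithful := by
    haveI : ∀ M, IsIso ((Scheme.Modules.pullbackPushforwardAdjunction I.subschemeι).counit.app M) :=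
      isIso_counit_closedImmersion I.subschemeι
    haveI := NatIso.isIso_of_isIso_app (Scheme.Modules.pullbackPushforwardAdjunction I.subschemeι).counit
    exact (Scheme.Modules.pullbackPushforwardAdjunction I.subschemeι).fullyFaithfulROfIsIsoCounit.faithful
  let G := ((Dual3.homO I.subschemeι).mapHomologicalComplex (ComplexShape.up ℤ)).obj J
  let ε := (Dual3.homOAdj I.subschemeι).counit
  let σ := cartMul I e
  let f := (NatTrans.mapHomologicalComplex ε (ComplexShape.up ℤ)).app J
  let g := (NatTrans.mapHomologicalComplex σ (ComplexShape.up ℤ)).app J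
  have w : f ≫ g = 0 := HomologicalComplex.hom_ext _ _ fun n => cartMul_counit I e hI (J.X n)
  let S := ShortComplex.mk f g w
  have hS : S.ShortExact := HomologicalComplex.shortExact_of_degreewise_shortExact S fun n => by
    haveI := hJ n
    exact { exact := exact_cartMul I e hI (J.X n)
            mono_f := S3669.mono_counit I.subscheme X I.subschemeι (J.X n)
            epi_g := epi_cartMul_of_injective I e hI (J.X n) }
  let e1 : ∀ n : ℤ, S.X₁.homology n ≅ P.obj (G.homology n) := fun n => (G.sc n).mapHomologyIso P
  let e2 : ∀ n : ℤ, S.X₂.homology n ≅ J.homology n := fun n => (J.sc n).mapHomologyIso (𝟭 X.Modules)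
  let e3 : ∀ n : ℤ, S.X₃.homology n ≅ T.obj (J.homology n) := fun n => (J.sc n).mapHomologyIso T
  let eH : ∀ n : ℤ, J.homology n ≅ DCoh.HD O.obj n := fun n =>
    (hdQ J n).symm ≪≫ (DerivedCategory.homologyFunctor X.Modules n).mapIso eJ.symm
  let eG : ∀ n : ℤ, DCoh.HD ((Dual3.RHomOPlus I.subschemeι).obj O).obj n ≅ G.homology n := fun n =>
    (DerivedCategory.homologyFunctor _ n).mapIso eR ≪≫ hdQ G n
  have hz2 : ∀ n : ℤ, n ≠ c → IsZero (S.X₂.homology n) := fun n hn =>
    (hz n hn).of_iso (e2 n ≪≫ eH n)
  have hz3 : ∀ n : ℤ, n ≠ c → IsZero (S.X₃.homology n) := fun n hn =>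
    (T.map_isZero ((hz n hn).of_iso (eH n))).of_iso (e3 n)
  let M := DCoh.HD O.obj c
  let b : J.homology c ≅ M := eH c
  -- the middle map in degree zero
  let a2 : S.X₂.homology c ≅ M := e2 c ≪≫ b
  let a3 : S.X₃.homology c ≅ T.obj (M) := e3 c ≪≫ T.mapIso b
  have hg : HomologicalComplex.homologyMap S.g c ≫ a3.hom = a2.hom ≫ σ.app (M) := by
    have h := ShortComplex.homologyMap_mapNatTrans (S := J.sc c) σ
    have h' : HomologicalComplex.homologyMap S.g c = (e2 c).hom ≫ σ.app (J.homology c) ≫ (e3 c).inv := h
    rw [h']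
    simp only [a3, a2, Iso.trans_hom, Category.assoc, Iso.inv_hom_id_assoc, Functor.mapIso_hom]
    exact congrArg _ (σ.naturality b.hom).symm
  refine ⟨fun j hj => ?_, ?_⟩
  · refine IsZero.of_iso (IsZero.of_full_of_faithful_of_isZero P _ (IsZero.of_iso ?_ (e1 j).symm)) (eG j)
    by_cases h0 : j = c
    · subst j
      haveI := hσ
      haveI : Mono (HomologicalComplex.homologyMap S.g c) := by
        have hg' : HomologicalComplex.homologyMap S.g c = a2.hom ≫ σ.app (M) ≫ a3.inv := by
          rw [← Category.assoc, ← hg, Category.assoc, Iso.hom_inv_id, Category.comp_id]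
        rw [hg']
        infer_instance
      haveI : Mono (HomologicalComplex.homologyMap S.f c) :=
        (hS.homology_exact₁ (c - 1) c (by simp)).mono_g ((hz3 (c - 1) (by omega)).eq_of_src _ _)
      refine IsZero.of_mono_eq_zero (HomologicalComplex.homologyMap S.f c)
        ((cancel_mono (HomologicalComplex.homologyMap S.g c)).1 ?_)
      rw [zero_comp, ← HomologicalComplex.homologyMap_comp, S.zero, HomologicalComplex.homologyMap_zero]
    · exact (hS.homology_exact₁ (j - 1) j (by simp)).isZero_of_both_zeros
        ((hz3 (j - 1) (by omega)).eq_of_src _ _) ((hz2 j h0).eq_of_tgt _ _)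
  · haveI : Epi (hS.δ c (c + 1) rfl) := hS.epi_δ c (c + 1) rfl (hz2 (c + 1) (by omega))
    let c₁ : S.X₁.homology (c + 1) ≅ cokernel (HomologicalComplex.homologyMap S.g c) :=
      ((hS.homology_exact₃ c (c + 1) rfl).gIsCokernel).coconePointUniqueUpToIso
        (colimit.isColimit (parallelPair (HomologicalComplex.homologyMap S.g c) 0))
    let c₂ : cokernel (HomologicalComplex.homologyMap S.g c) ≅ cokernel (σ.app (M)) :=
      cokernel.mapIso _ _ a2 a3 hg
    obtain ⟨c₃⟩ := nonempty_coker_cartMul I e hI (M)
    exact ⟨eG (c + 1) ≪≫ P.preimageIso ((e1 (c + 1)).symm ≪≫ c₁ ≪≫ c₂ ≪≫ c₃)⟩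

end Groth.Agent.TwistShriek
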