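import Groth.Agent.TwistShriek.PerfTest
import Groth.Agent.TwistShriek.SuppBdd
import Groth.Agent.DCohMore.RHomCoh
import Groth.Agent.DCohMore.RpushBdd
import Groth.Agent.DCohMore.DescFPPF
import Groth.Agent.ASBunKS.Descent
import Groth.Agent.RelPCLib.ClosedPC

/-!
# Coherence tested by perfect objects, bounded below version
-/

set_option autoImplicit false
set_option linter.style.haveILetI false
set_option linter.unusedSectionVars false
set_option backward.isDefEq.respectTransparency false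
set_option maxHeartbeats 1000000

universe u

open CategoryTheory CategoryTheory.Limits AlgebraicGeometry Pretriangulated
open Groth.Agent.DCohLib Groth.Agent.DCohMore Groth.Agent.RelPCLib

attribute [local instance] HasDerivedCategory.standard

noncomputable section

namespace Groth.Agent.TwistShriek

variable {X Y : Scheme.{u}}

/-- Bounded below with coherent cohomology. -/
def BddCoh (K : DCoh.D X) : Prop := DCoh.IsCohD K ∧ ∃ a : ℤ, K.IsGE a

namespace BddCoh

theorem of_iso [IsLocallyNoetherian X] {K L : DCoh.D X} (h : BddCoh K) (e : K ≅ L) : BddCoh L := by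
  obtain ⟨hc, a, ha⟩ := h
  exact ⟨isCohD_of_iso' e hc, a, DerivedCategory.TStructure.t.isGE_of_iso e a⟩

theorem of_isZero [IsLocallyNoetherian X] {K : DCoh.D X} (h : IsZero K) : BddCoh K :=
  ⟨isCohD_of_isZero h, 0, (DerivedCategory.isGE_iff _ _).2 fun i _ =>
    (DerivedCategory.homologyFunctor X.Modules i).map_isZero h⟩

theorem of_retract [IsLocallyNoetherian X] {K L : DCoh.D X} (r : Retract K L) (h : BddCoh L) : BddCoh K := by
  obtain ⟨hc, a, ha⟩ := h
  refine ⟨fun i => ASBunKS.isCoh_of_retract (hc i) _ _ (r.map (DerivedCategory.homologyFunctor X.Modules i)).retract,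
    a, (DerivedCategory.isGE_iff _ _).2 fun i hi => ?_⟩
  let r' := r.map (DerivedCategory.homologyFunctor X.Modules i)
  rw [IsZero.iff_id_eq_zero, ← r'.retract,
    ((DerivedCategory.isGE_iff _ _).1 ha i hi).eq_of_tgt r'.i 0, zero_comp]

theorem obj₂ [IsLocallyNoetherian X] (T : Triangle (DCoh.D X)) (hT : T ∈ distTriang _) (h₁ : BddCoh T.obj₁)
    (h₃ : BddCoh T.obj₃) : BddCoh T.obj₂ := by
  obtain ⟨c₁, a₁, g₁⟩ := h₁
  obtain ⟨c₃, a₃, g₃⟩ := h₃
  let t := DerivedCategory.TStructure.t (C := X.Modules)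
  exact ⟨isCohD_obj₂ T hT c₁ c₃, min a₁ a₃, t.isGE₂ T hT _ (t.isGE_of_ge _ _ a₁ (min_le_left _ _))
    (t.isGE_of_ge _ _ a₃ (min_le_right _ _))⟩

theorem shift [IsLocallyNoetherian X] {K : DCoh.D X} (h : BddCoh K) (n : ℤ) : BddCoh (K⟦n⟧) := by
  obtain ⟨hc, a, ha⟩ := h
  exact ⟨fun i => isCoh_iso
      (((DerivedCategory.homologyFunctor X.Modules 0).shiftIso n i (n + i) rfl).app K).symm (hc (n + i)),
    a - n, DerivedCategory.TStructure.t.isGE_shift K a n (a - n) (by omega)⟩

theorem obj₃ [IsLocallyNoetherian X] (T : Triangle (DCoh.D X)) (hT : T ∈ distTriang _) (h₁ : BddCoh T.obj₁)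
    (h₂ : BddCoh T.obj₂) : BddCoh T.obj₃ :=
  obj₂ T.rotate (rot_of_distTriang _ hT) h₂ (h₁.shift 1)

theorem restrict [IsLocallyNoetherian X] {K : DCoh.D X} (h : BddCoh K) (V : X.Opens) :
    BddCoh ((DCoh.restrictD V.ι).obj K) := by
  obtain ⟨hc, a, ha⟩ := h
  exact ⟨isCohD_restrict' hc V, a, (DerivedCategory.isGE_iff _ _).2 fun i hi =>
    ((Scheme.Modules.restrictFunctor V.ι).map_isZero ((DerivedCategory.isGE_iff _ _).1 ha i hi)).of_iso
      (restrictHDIso V.ι K i)⟩

theorem rpush [IsLocallyNoetherian Y] (f : X ⟶ Y) [IsProper f] [DCoh.HasRpush f] {K : DCoh.D X} (h : BddCoh K) :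
    BddCoh ((DCoh.Rpush f).obj K) := by
  obtain ⟨hc, a, ha⟩ := h
  exact ⟨isCohD_rpush f K a hc fun i => ⟨PullbackMod.isClosed_support_of_isFT (hc i).2, inferInstance⟩, a, isGE_rpush f K a⟩

theorem lTensor [IsLocallyNoetherian X] [CompactSpace X] (E : CochainComplex X.Modules ℤ) (hE : DCoh.IsKFlat E)
    (hEp : DCoh.IsPerfect (DerivedCategory.Q.obj E)) {K : DCoh.D X} (h : BddCoh K) :
    BddCoh ((DCoh.LTensorCx E).obj K) := by
  obtain ⟨hc, a, ha⟩ := h
  obtain ⟨D, hD, hDp, _, -, ⟨eD⟩⟩ := exists_predual _ hEp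
  obtain ⟨e⟩ := nonempty_lTensor_dual D hD hDp E hE eD.symm K
  have hpc : ∀ m, DCoh.IsPseudoCoherentD m (DerivedCategory.Q.obj D) := fun m =>
    ((isPerfect_iff_pc _).1 hDp).1 m
  obtain ⟨b, hb⟩ := DerSchH7.exists_isZero_above_of_pc (hpc 0)
  haveI : (DCoh.toD X D).IsLE b := (DerivedCategory.isLE_iff _ _).2 fun j hj => hb j hj
  exact BddCoh.of_iso (isCohD_rSheafHom D b (TensorCohLib.isCohD_of_pc _ hpc) K a hc) e.symm

theorem lpull [IsLocallyNoetherian X] (f : X ⟶ Y) [Flat f] [DCoh.HasLpull f] {K : DCoh.D Y} (h : BddCoh K) :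
    BddCoh ((DCoh.Lpull f).obj K) := by
  obtain ⟨hc, a, ha⟩ := h
  refine ⟨fun i => ?_, a, (DerivedCategory.isGE_iff _ _).2 fun i hi => ?_⟩
  · obtain ⟨e⟩ := nonempty_HD_lpull_flat f K i
    exact isCoh_iso e (PullbackMod.isCoh_pullback f _ (hc i))
  · obtain ⟨e⟩ := nonempty_HD_lpull_flat f K i
    exact IsZero.of_iso ((Scheme.Modules.pullback f).map_isZero (DerivedCategory.isZero_of_isGE K a i hi)) e.symm

end BddCoh

/-- Bounded below coherence is detected on projective space by twists. -/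
theorem closed_bddCoh (n : ℕ) (A : Type u) [CommRing A] [IsNoetherianRing A]
    [DCoh.HasRpush (CohB1.ProjSpace.toSpec n A)] :
    ProjWindow.Closed n A BddCoh BddCoh := by
  haveI : IsProper (CohB1.ProjSpace.toSpec n A) := inferInstance
  haveI : IsLocallyNoetherian (CohB1.ProjSpace n A) :=
    LocallyOfFiniteType.isLocallyNoetherian (CohB1.ProjSpace.toSpec n A)
  haveI : CompactSpace (CohB1.ProjSpace n A) :=
    QuasiCompact.compactSpace_of_compactSpace (CohB1.ProjSpace.toSpec n A)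
  have twist : ∀ (d : ℤ) (W : DCoh.D (CohB1.ProjSpace n A)), BddCoh W →
      BddCoh ((DCoh.LTensorMod ((TwistFam.projMul n A).F d)).obj W) := fun d W h => by
    obtain ⟨a⟩ := nonempty_lTensorMod_single ((TwistFam.projMul n A).F d) W
    have hs := isStrictlyPerfect_single (TwistFam.isFinLocFree_projMul n A d)
    exact (BddCoh.lTensor _ (isKFlat_of_strictlyPerfect hs) (isPerfect_of_perfOn ⟨_, hs, ⟨Iso.refl _⟩⟩) h).of_iso
      a.symm
  exact
  { isoS := fun e h => h.of_iso e
    iso := fun e h => h.of_iso e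
    zero := fun h => BddCoh.of_isZero h
    third := fun T hT h₁ h₂ => BddCoh.obj₃ T hT h₁ h₂
    obj₂ := fun T hT h₁ h₃ => BddCoh.obj₂ T hT h₁ h₃
    lpull := fun M _ h =>
      haveI : Smooth (CohB1.ProjSpace.toSpec n A) := ProjSmoothLib.smooth_toSpec n A
      BddCoh.lpull _ h
    rpush := fun d W h => (twist d W h).rpush _
    twist := twist }

/-- An object is bounded below coherent when all perfect tests are. -/
theorem isCohD_of_perfect_test (A : Type u) [CommRing A] [IsNoetherianRing A] {X : Scheme.{u}}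
    (π : X ⟶ Spec (CommRingCat.of A)) [IsSeparated π] [QuasiCompact π] [LocallyOfFiniteType π]
    [DCoh.HasRpush π] (K : DCoh.D X) (hK : DCoh.IsQCohD K)
    (h : ∀ (E : CochainComplex X.Modules ℤ), DCoh.IsKFlat E → DCoh.IsPerfect (DerivedCategory.Q.obj E) →
      BddCoh ((DCoh.Rpush π).obj ((DCoh.LTensorCx E).obj K))) : DCoh.IsCohD K := fun j => by
  haveI : IsLocallyNoetherian X := LocallyOfFiniteType.isLocallyNoetherian π
  refine isCoh_of_local fun x => ?_
  obtain ⟨_, ⟨W : X.Opens, hW, rfl⟩, hx, -⟩ :=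
    X.isBasis_affineOpens.exists_subset_of_mem_open (a := x) (Set.mem_univ x) isOpen_univ
  obtain ⟨n, φ, hφ, V, t, hc, w, hM⟩ := exists_model A π W hW
  obtain ⟨M, hMq, hT, ⟨r⟩⟩ := hM K hK
  haveI := BC.hasRpush (CohB1.ProjSpace.toSpec n A)
  haveI : IsLocallyNoetherian (CohB1.ProjSpace n A) :=
    LocallyOfFiniteType.isLocallyNoetherian (CohB1.ProjSpace.toSpec n A)
  have hp : BddCoh M := ProjWindow.of_twists n A (closed_bddCoh n A) M hMq fun d _ => by
    obtain ⟨E, hE, hEp, ⟨e⟩⟩ := hT d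
    exact (h E hE hEp).of_iso e.symm
  have hi := (BddCoh.of_retract r (hp.restrict V)).1 j
  refine ⟨W, hx, isCoh_iso (restrictHDIso W.ι K j) ⟨?_, ?_⟩⟩
  · exact TildeD.isQCohD_restrict W.ι K hK j
  · exact isFT_of_push (emb W φ ≫ t.hom) (isCoh_iso (pushHDIso (emb W φ ≫ t.hom) _ j) hi).2

end Groth.Agent.TwistShriek
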