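import Groth.Agent.TwistShriek.Amplitude
import Groth.Agent.TwistShriek.DualizingS2
import Groth.Agent.TwistShriek.DualizingStalks
import Groth.Agent.ShriekAlgLib.Poly
import Groth.Agent.DualCxLib.Local

/-!
# Normalized dualizing complexes of proper schemes over a local ring
-/

set_option autoImplicit false
set_option linter.style.haveILetI false
set_option linter.unusedSectionVars false
set_option backward.isDefEq.respectTransparency false
set_option maxHeartbeats 1600000
set_option maxRecDepth 4000

universe u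

open CategoryTheory CategoryTheory.Limits AlgebraicGeometry
open Groth.Agent.DCohLib Groth.Agent.DRingLib
open scoped TensorProduct

attribute [local instance] HasDerivedCategory.standard

noncomputable section

namespace Groth.Agent.TwistShriek

open Groth.Agent.DualCxLib

/-- Normalization passes through an isomorphism of local rings. -/
theorem isNormalized_lbc_of_bijective {S P : Type u} [CommRing S] [CommRing P] [IsLocalRing S] [IsLocalRing P]
    [IsNoetherianRing S] [IsNoetherianRing P] (h : S →+* P) (hh : Function.Bijective h) [DRing.HasLBaseChange h]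
    {ω : Dual.D S} (hω : Dual.IsDualizing S ω) (hn : Dual.IsNormalized S ω) :
    Dual.IsNormalized P ((DRing.LBaseChange h).obj ω) := by
  intro i hi
  letI : Algebra S P := h.toAlgebra
  let e : S ≃ₗ[S] P := LinearEquiv.ofBijective (Algebra.linearMap S P) hh
  haveI : Module.Flat S P := Module.Flat.of_linearEquiv e.symm
  haveI : DRing.HasLBaseChange (algebraMap S P) := ‹_›
  haveI := (model hω).isGE
  haveI := isGE_bcD S P ω (model hω).a
  let m := IsLocalRing.maximalIdeal S
  have hmax : m.map (algebraMap S P) = IsLocalRing.maximalIdeal P := by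
    refine IsLocalRing.eq_maximalIdeal ?_
    exact Ideal.IsMaximal.map_bijective (algebraMap S P) hh (IsLocalRing.maximalIdeal.isMaximal S)
  let q : P ⊗[S] (S ⧸ m) ≃ₗ[P] IsLocalRing.ResidueField P :=
    (quotMapEquiv S P m).trans (Submodule.quotEquivOfEq _ _ hmax)
  obtain ⟨e'⟩ := nonempty_HK_bcD S P ω (model hω).a (S ⧸ m) i
  haveI : Subsingleton (HK ω i (S ⧸ m)) := hn i hi
  haveI : Subsingleton (P ⊗[S] HK ω i (S ⧸ m)) := subsingleton_of_forall_eq 0 fun z => by
    induction z using TensorProduct.induction_on with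
    | zero => rfl
    | tmul b y => rw [Subsingleton.elim y 0, TensorProduct.tmul_zero]
    | add x y hx hy => rw [hx, hy, add_zero]
  exact (e'.trans (preEquiv _ i q.symm)).symm.injective.subsingleton

/-- A chain from a prime realising the dimension function. -/
theorem exists_ltSeries_head {A : Type u} [CommRing A] [IsNoetherianRing A] {ω : Dual.D A}
    (hω : Dual.IsDualizing A ω) (p : PrimeSpectrum A) : ∀ q : PrimeSpectrum A, p ≤ q →
      ∃ l : LTSeries (PrimeSpectrum A), l.head = p ∧ l.last = q ∧ dfn hω q - dfn hω p ≤ l.length := by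
  intro q
  induction q using (wellFoundedLT_spec (A := A)).wf.induction with
  | _ q ih =>
    intro hpq
    rcases lt_or_eq_of_le hpq with hlt | rfl
    · obtain ⟨r, hpr, hr⟩ := exists_covBy_le_of_lt' hlt
      obtain ⟨l, hh, hl, hlen⟩ := ih r hr.lt hpr
      refine ⟨l.snoc q (hl ▸ hr.lt), (RelSeries.head_snoc _ _ _).trans hh, RelSeries.last_snoc _ _ _, ?_⟩
      rw [RelSeries.snoc_length, dfn_covBy hω hr]
      push_cast
      omega
    · exact ⟨RelSeries.singleton _ p, rfl, rfl, by simp⟩

attribute [local instance 10] specializationOrder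

section Scheme

variable {X : Scheme.{u}}
  [∀ (U : Scheme.{u}) (j : U ⟶ X) [IsOpenImmersion j], PreservesFiniteLimits (Scheme.Modules.restrictFunctor j)]
  [∀ (R : CommRingCat.{u}), PreservesFiniteLimits (tilde.functor R)] [IsLocallyNoetherian X] [CompactSpace X]

/-- The normalized local dualizing complex at a point. -/
theorem exists_local_normalized {K : DCoh.D X} (x₀ : X) (h : NormalizedAt K x₀) :
    ∃ Ω : Dual.D (X.presheaf.stalk x₀), Dual.IsDualizing (X.presheaf.stalk x₀) Ω ∧
      Dual.IsNormalized (X.presheaf.stalk x₀) Ω ∧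
      ∀ i : ℤ, Nonempty (Dual.HD (X.presheaf.stalk x₀) Ω i ≃ₗ[X.presheaf.stalk x₀] (DCoh.HD K i).presheaf.stalk x₀) := by
  obtain ⟨B, _, j, _, ω, m, _, rfl, ⟨e⟩, hd, hn⟩ := h
  haveI : IsNoetherianRing B := isNoetherianRing_of_isOpenImmersion j
  let P := Localization.AtPrime m.asIdeal
  let S := X.presheaf.stalk (j m)
  letI : Algebra B S := (chartToStalk j m).toAlgebra
  haveI : IsLocalization.AtPrime S m.asIdeal := isLocalization_chartToStalk j m
  let u := IsLocalization.algEquiv m.asIdeal.primeCompl P S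
  let η : P →+* S := u.toRingEquiv.toRingHom
  have hη : Function.Bijective η := u.bijective
  haveI : IsNoetherianRing P := hd.isNoetherianRing
  haveI : IsNoetherianRing S := IsLocalization.isNoetherianRing m.asIdeal.primeCompl S ‹_›
  haveI : DRing.HasLBaseChange η := DRingLib.hasLBaseChange _
  haveI : DRing.HasLBaseChange (chartToStalk j m) := DRingLib.hasLBaseChange _
  obtain ⟨c⟩ := ShriekAlgLib.nonempty_lbc_comp' (algebraMap B P) η (chartToStalk j m)
    (RingHom.ext fun b => u.commutes b) ω
  refine ⟨(DRing.LBaseChange (chartToStalk j m)).obj ω, isDualizing_of_iso c (isDualizing_lbc_of_bijective η hη hd),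
    fun i hi => ?_, fun i => exists_stalk_HD_equiv j e m i⟩
  haveI := isNormalized_lbc_of_bijective η hη hd hn i hi
  exact (((Iso.refl _).homCongr ((shiftFunctor (Dual.D S) i).mapIso c))).subsingleton_congr.1 inferInstance

/-- Some cohomology sheaf is nonzero at every point. -/
theorem exists_nontrivial_stalk {K : DCoh.D X} (hK : Dual2.IsDualizingSch X K) (x : X) :
    ∃ i : ℤ, Nontrivial ((DCoh.HD K i).presheaf.stalk x) := by
  obtain ⟨Ω, hΩ, he⟩ := exists_local_dualizing hK x
  haveI := hΩ.isNoetherianRing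
  obtain ⟨i, hi⟩ := exists_not_zeroAt_unit hΩ (IsLocalRing.maximalIdeal (X.presheaf.stalk x))
  refine ⟨i, ?_⟩
  obtain ⟨e⟩ := he i
  haveI : Nontrivial (Dual.HD (X.presheaf.stalk x) Ω i) :=
    not_zeroAt_maximal_iff.1 ((not_zeroAt_HD_iff hΩ _ i).2 hi)
  exact e.symm.toEquiv.nontrivial

/-- A point of the support of the lowest cohomology sheaf lies on a long chain. -/
theorem exists_long_chain {K : DCoh.D X} (x₀ : X) (h : NormalizedAt K x₀) {n : ℕ} (hn : Order.krullDim X ≤ n)
    {x : X} (hx : x ⤳ x₀) (hi : Nontrivial ((DCoh.HD K (-(n : ℤ))).presheaf.stalk x)) :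
    ∃ l : LTSeries X, n ≤ l.length ∧ l.last ⤳ x := by
  obtain ⟨B, _, j, _, ω, m, _, rfl, ⟨e⟩, hd, hnorm⟩ := h
  haveI : IsNoetherianRing B := isNoetherianRing_of_isOpenImmersion j
  let R := Localization.AtPrime m.asIdeal
  haveI : IsNoetherianRing R := hd.isNoetherianRing
  obtain ⟨p, hp⟩ := hx.mem_open j.isOpenEmbedding.isOpen_range ⟨m, rfl⟩
  have hpm : p.asIdeal ≤ m.asIdeal := by
    refine (PrimeSpectrum.le_iff_specializes p m).2 ?_
    rw [← j.isOpenEmbedding.isInducing.specializes_iff, hp]
    exact hx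
  have hdisj : Disjoint (m.asIdeal.primeCompl : Set B) (p.asIdeal : Set B) :=
    Set.disjoint_left.2 fun s hs hs' => hs (hpm hs')
  let P : PrimeSpectrum R := ⟨p.asIdeal.map (algebraMap B R),
    IsLocalization.isPrime_of_isPrime_disjoint m.asIdeal.primeCompl R p.asIdeal p.2 hdisj⟩
  have hP : P.comap (algebraMap B R) = p :=
    PrimeSpectrum.ext (IsLocalization.under_map_of_isPrime_disjoint m.asIdeal.primeCompl R p.2 hdisj)
  haveI : P.asIdeal.IsPrime := P.2
  rw [← hp, nontrivial_stalk_HD_iff j e, ← hP] at hi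
  have h1 := not_zeroAt_HD_lbc m ω (-(n : ℤ)) P hi
  rw [not_zeroAt_HD_iff hd] at h1
  let f : PrimeSpectrum R → X := fun Q => j (Q.comap (algebraMap B R))
  have hf : ∀ {a b : PrimeSpectrum R}, a ≤ b → f a ⤳ f b := fun {a b} hab =>
    (((PrimeSpectrum.le_iff_specializes a b).1 hab).map
      (PrimeSpectrum.continuous_comap (algebraMap B R))).map j.continuous
  have hfi : Function.Injective f := fun a b hab =>
    PrimeSpectrum.localization_comap_injective R m.asIdeal.primeCompl (j.isOpenEmbedding.injective hab)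
  have h0 : dfn hd (IsLocalRing.closedPoint R) = 0 := dfn_closedPoint hd hnorm
  let mk : ∀ l : LTSeries (PrimeSpectrum R), LTSeries X := fun l =>
    LTSeries.mk l.length (fun k => f (l (Fin.rev k))) fun a b hab =>
      lt_of_le_of_ne (hf (l.strictMono (Fin.rev_lt_rev.2 hab)).le)
        fun he => (l.strictMono (Fin.rev_lt_rev.2 hab)).ne (hfi he).symm
  -- a prime where the dimension function is extreme
  obtain ⟨Q, hQP, hQ⟩ : ∃ Q ≤ P, dfn hd Q ≤ -(n : ℤ) := by
    by_contra hc
    push Not at hc
    have := le_of_not_zeroAt hd P (M := R) (lo := -(n : ℤ) + 1)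
      (fun Q _ hQ => by have := hc Q hQ; omega) h1
    omega
  obtain ⟨l, hlh, hl, hlen⟩ := exists_ltSeries_head hd Q (IsLocalRing.closedPoint R)
    (IsLocalRing.le_maximalIdeal Q.2.ne_top)
  refine ⟨mk l, by show n ≤ l.length; omega, ?_⟩
  show f (l (Fin.rev (Fin.last _))) ⤳ x
  rw [← hp, ← hP, Fin.rev_last]
  refine hf ?_
  exact hlh.le.trans hQP

end Scheme

end Groth.Agent.TwistShriek
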