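import Groth.Agent.DualCxLib.LocMain
import Groth.Agent.DualCxLib.Crit
import Groth.Agent.DualCxLib.DimFn
import Groth.Agent.DualCxLib.ResField
import Mathlib.RingTheory.Length
import Mathlib.RingTheory.Ideal.Over

/-!
# The residue field test through an adjunction to restriction of scalars
-/

set_option autoImplicit false
set_option backward.isDefEq.respectTransparency false
set_option linter.style.haveILetI false
set_option linter.unusedSectionVars false
set_option maxRecDepth 4000
set_option maxHeartbeats 1000000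

universe u

open CategoryTheory CategoryTheory.Limits Pretriangulated
attribute [local instance] HasDerivedCategory.standard

noncomputable section

namespace Groth.Agent.TwistShriek

open Groth.Agent.DualCxLib

variable {A : Type u} [CommRing A]

theorem sMap_sum {M N : Type u} [AddCommGroup M] [Module A M] [AddCommGroup N] [Module A N] {ι : Type*} (t : Finset ι)
    (g : ι → (M →ₗ[A] N)) : sMap (∑ k ∈ t, g k) = ∑ k ∈ t, sMap (g k) := by
  classical
  induction t using Finset.induction_on with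
  | empty =>
    rw [Finset.sum_empty, Finset.sum_empty, ← zero_smul A (0 : M →ₗ[A] N), sMap_smul, zero_smul]
  | insert k t hk ih =>
    rw [Finset.sum_insert hk, Finset.sum_insert hk, ← ih]
    show (DerivedCategory.singleFunctor (ModuleCat.{u} A) 0).map (ModuleCat.ofHom (g k + ∑ l ∈ t, g l)) = _
    rw [ModuleCat.ofHom_add, Functor.map_add]

/-- Precomposition with an equality of linear maps. -/
theorem pre_sum (K : Dual.D A) (i : ℤ) {M N : Type u} [AddCommGroup M] [Module A M] [AddCommGroup N] [Module A N]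
    {ι : Type*} (t : Finset ι) (g : ι → (M →ₗ[A] N)) (u : HK K i N) :
    pre K i (∑ k ∈ t, g k) u = ∑ k ∈ t, pre K i (g k) u := by
  rw [pre_apply, sMap_sum, Preadditive.sum_comp]
  exact Finset.sum_congr rfl fun k _ => rfl

/-- The modules `HK` of a finite power. -/
def hkPiEquiv (K : Dual.D A) (i : ℤ) (r : ℕ) (M : Type u) [AddCommGroup M] [Module A M] :
    HK K i (Fin r → M) ≃ₗ[A] (Fin r → HK K i M) :=
  LinearEquiv.ofLinear (LinearMap.pi fun k => pre K i (LinearMap.single A (fun _ : Fin r => M) k))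
    (∑ k, (pre K i (LinearMap.proj k : (Fin r → M) →ₗ[A] M)).comp
      (LinearMap.proj k : (Fin r → HK K i M) →ₗ[A] HK K i M))
    (LinearMap.ext fun v => funext fun l => by
      simp only [LinearMap.comp_apply, LinearMap.pi_apply, LinearMap.sum_apply, map_sum, LinearMap.proj_apply, pre_pre,
        LinearMap.id_apply]
      rw [Finset.sum_eq_single l]
      · rw [show (LinearMap.proj l : (Fin r → M) →ₗ[A] M) ∘ₗ LinearMap.single A (fun _ : Fin r => M) l =
          LinearMap.id from LinearMap.ext fun x => by simp]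
        exact pre_id K i _
      · intro k _ hk
        rw [show (LinearMap.proj k : (Fin r → M) →ₗ[A] M) ∘ₗ LinearMap.single A (fun _ : Fin r => M) l = 0 from
          LinearMap.ext fun x => by simp [Pi.single_eq_of_ne hk], pre_zero]
        rfl
      · exact fun h => absurd (Finset.mem_univ l) h)
    (LinearMap.ext fun u => by
      simp only [LinearMap.comp_apply, LinearMap.pi_apply, LinearMap.sum_apply, LinearMap.proj_apply, pre_pre,
        LinearMap.id_apply, ← pre_sum]
      rw [show ∑ k, LinearMap.single A (fun _ : Fin r => M) k ∘ₗ LinearMap.proj k = LinearMap.id from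
        LinearMap.ext fun v => by
          rw [LinearMap.sum_apply]
          exact Finset.univ_sum_single v]
      exact pre_id K i u)

/-- Desuspending morphisms into a shift. -/
def hkShiftEquiv (T ω : Dual.D A) (i : ℤ) : (T ⟶ ω⟦i⟧) ≃ₗ[A] (T⟦-i⟧ ⟶ ω) :=
  (LinearEquiv.ofBijective ((shiftFunctor (Dual.D A) (-i)).mapLinearMap A)
      ⟨(shiftFunctor (Dual.D A) (-i)).map_injective, (shiftFunctor (Dual.D A) (-i)).map_surjective⟩).trans
    (Linear.homCongr A (Iso.refl _) (shiftShiftNeg ω i))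

/-- The values at the residue field of a maximal ideal of a dualizing complex. -/
theorem exists_HK_quotient_maximal [IsNoetherianRing A] {ω : Dual.D A} (hω : Dual.IsDualizing A ω) (n : Ideal A)
    [hn : n.IsMaximal] :
    ∃ d : ℤ, (∀ i, i ≠ d → Subsingleton (HK ω i (A ⧸ n))) ∧ Nonempty (HK ω d (A ⧸ n) ≃ₗ[A] A ⧸ n) := by
  let p : PrimeSpectrum A := ⟨n, hn.isPrime⟩
  let S := model hω
  have hne : ∀ k, ¬ Subsingleton (HK ω k (A ⧸ n)) → Nontrivial (S.T (A ⧸ n) k) := fun k hk => by
    rw [← not_subsingleton_iff_nontrivial]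
    intro hs
    exact hk (S.equivHK (A ⧸ n) k).symm.injective.subsingleton
  have hd : ¬ Subsingleton (HK ω (dfn hω p) (A ⧸ n)) := fun h => not_zeroAt_dfn hω p
    (haveI : Subsingleton (HK ω (dfn hω p) (A ⧸ p.asIdeal)) := h; .of_subsingleton)
  refine ⟨dfn hω p, fun i hi => by_contra fun h => hi ?_, ?_⟩
  · exact S.T_eq_of_nontrivial hω n (hne i h) (hne _ hd)
  · obtain ⟨e⟩ := S.nonempty_T_equiv hω n (hne _ hd)
    exact ⟨(S.equivHK (A ⧸ n) _).symm.trans e⟩

variable {B : Type u} [CommRing B] [Algebra A B] [IsNoetherianRing A] [IsNoetherianRing B]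

/-- The residue field test: if maps out of shifts of `B/m` into `ω` are maps out of the underlying objects over `A`
into a dualizing complex, then `RHom(B/m, ω)` is `B/m` in a single degree. -/
theorem exists_residue_test {ωA : Dual.D A} (hωA : Dual.IsDualizing A ωA) (ω : Dual.D B)
    (hω : ∀ i, Module.Finite B (Dual.HD B ω i)) (c : ℤ) [ω.IsGE c]
    (m : Ideal B) [m.IsMaximal] [(m.under A).IsMaximal] [Module.Finite A (B ⧸ m)]
    (e : ∀ i : ℤ, ((Dual.inD B (B ⧸ m))⟦i⟧ ⟶ ω) ≃+
      ((DRing.restrictD (algebraMap A B)).obj ((Dual.inD B (B ⧸ m))⟦i⟧) ⟶ ωA))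
    (he : ∀ (i : ℤ) (r : A) ψ, e i (algebraMap A B r • ψ) = r • e i ψ) :
    ∃ d : ℤ, (∀ i, i ≠ d → Subsingleton (HK ω i (B ⧸ m))) ∧ Nonempty (HK ω d (B ⧸ m) ≃ₗ[B] B ⧸ m) ∧
      ∀ i, Subsingleton (HK ωA i (A ⧸ m.under A)) → Subsingleton (HK ω i (B ⧸ m)) := by
  let n := m.under A
  let R := DRing.restrictD (algebraMap A B)
  let cres : R.obj (Dual.inD B (B ⧸ m)) ≅ Dual.inD A (B ⧸ m) :=
    ((ModuleCat.restrictScalars.{u} (algebraMap A B)).mapDerivedCategorySingleFunctor 0).app
        (ModuleCat.of B (B ⧸ m)) ≪≫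
      (DerivedCategory.singleFunctor (ModuleCat.{u} A) 0).mapIso
        (LinearEquiv.toModuleIso
          ({ AddEquiv.refl (B ⧸ m) with map_smul' := fun r x => algebraMap_smul B r (show B ⧸ m from x) } :
            ((ModuleCat.restrictScalars.{u} (algebraMap A B)).obj (ModuleCat.of B (B ⧸ m))) ≃ₗ[A] (B ⧸ m)))
  have hT : ∀ i : ℤ, ∃ t : HK ω i (B ⧸ m) ≃+ HK ωA i (B ⧸ m),
      ∀ (r : A) ψ, t (algebraMap A B r • ψ) = r • t ψ := fun i => by
    let s := hkShiftEquiv (A := B) (Dual.inD B (B ⧸ m)) ω i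
    let sA := hkShiftEquiv (A := A) (Dual.inD A (B ⧸ m)) ωA i
    let c' : R.obj ((Dual.inD B (B ⧸ m))⟦-i⟧) ≅ (Dual.inD A (B ⧸ m))⟦-i⟧ :=
      (R.commShiftIso (-i)).app _ ≪≫ (shiftFunctor (Dual.D A) (-i)).mapIso cres
    let l : (R.obj ((Dual.inD B (B ⧸ m))⟦-i⟧) ⟶ ωA) ≃ₗ[A] ((Dual.inD A (B ⧸ m))⟦-i⟧ ⟶ ωA) :=
      Linear.homCongr A c' (Iso.refl _)
    refine ⟨s.toAddEquiv.trans ((e (-i)).trans (l.trans sA.symm).toAddEquiv), fun r ψ => ?_⟩
    show (l.trans sA.symm) (e (-i) (s (algebraMap A B r • ψ))) = r • (l.trans sA.symm) (e (-i) (s ψ))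
    rw [map_smul, he, map_smul]
  choose t ht using hT
  obtain ⟨d, hd, ⟨ed⟩⟩ := exists_HK_quotient_maximal hωA n
  letI : Field (A ⧸ n) := Ideal.Quotient.field n
  haveI : m.LiesOver n := ⟨rfl⟩
  haveI : Module.Finite (A ⧸ n) (B ⧸ m) := Module.Finite.of_restrictScalars_finite A _ _
  let r := Module.finrank (A ⧸ n) (B ⧸ m)
  let eκ : (B ⧸ m) ≃ₗ[A] (Fin r → A ⧸ n) := (Module.finBasis (A ⧸ n) (B ⧸ m)).equivFun.restrictScalars A
  have hA : ∀ i, Nonempty (HK ωA i (B ⧸ m) ≃ₗ[A] (Fin r → HK ωA i (A ⧸ n))) := fun i =>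
    ⟨(preEquiv ωA i eκ.symm).trans (hkPiEquiv ωA i r (A ⧸ n))⟩
  refine ⟨d, fun i hi => ?_, ?_, fun i hi => ?_⟩
  rotate_left
  rotate_left
  · haveI := hi
    obtain ⟨q⟩ := hA i
    exact ((t i).toEquiv.trans q.toEquiv).subsingleton
  · haveI := hd i hi
    obtain ⟨q⟩ := hA i
    exact ((t i).toEquiv.trans q.toEquiv).subsingleton
  · haveI : Nontrivial (B ⧸ m) := Ideal.Quotient.nontrivial_iff.2 ‹m.IsMaximal›.ne_top
    haveI : Module.Finite B (HK ω d (B ⧸ m)) := finite_HK_of_bounded_below ω hω c d (B ⧸ m)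
    letI : Field (B ⧸ m) := Ideal.Quotient.field m
    have htor : Module.IsTorsionBySet B (HK ω d (B ⧸ m)) m := fun y x => smul_eq_zero_of_smul ω d (fun z => by
      obtain ⟨z, rfl⟩ := Ideal.Quotient.mk_surjective z
      exact Ideal.Quotient.eq_zero_iff_mem.2 (m.mul_mem_right z x.2)) y
    letI := htor.module
    haveI : IsScalarTower B (B ⧸ m) (HK ω d (B ⧸ m)) := htor.isScalarTower
    haveI : Module.Finite (B ⧸ m) (HK ω d (B ⧸ m)) := Module.Finite.of_restrictScalars_finite B _ _
    let s := Module.finrank (B ⧸ m) (HK ω d (B ⧸ m))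
    let eB : HK ω d (B ⧸ m) ≃ₗ[B] (Fin s → B ⧸ m) :=
      (Module.finBasis (B ⧸ m) (HK ω d (B ⧸ m))).equivFun.restrictScalars B
    obtain ⟨q⟩ := hA d
    letI : Module A (HK ω d (B ⧸ m)) := Module.compHom _ (algebraMap A B)
    haveI : IsScalarTower A B (HK ω d (B ⧸ m)) := ⟨fun x y z => by
      show (x • y) • z = algebraMap A B x • (y • z)
      rw [Algebra.smul_def, mul_smul]⟩
    let tA : HK ω d (B ⧸ m) ≃ₗ[A] HK ωA d (B ⧸ m) := { t d with map_smul' := fun x ψ => ht d x ψ }
    let eA : (Fin s → B ⧸ m) ≃ₗ[A] (Fin r → A ⧸ n) :=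
      (eB.restrictScalars A).symm.trans (tA.trans (q.trans (LinearEquiv.piCongrRight fun _ => ed)))
    have h0 : Module.length A (B ⧸ m) = r := by
      rw [eκ.length_eq, Module.length_pi_of_fintype]
      have h1 : Module.length A (A ⧸ n) = 1 := by
        haveI : IsSimpleModule A (A ⧸ n) := isSimpleModule_iff_isCoatom.2 ‹(m.under A).IsMaximal›.out
        exact Module.length_eq_one A _
      simp [h1]
    have h2 := eA.length_eq
    rw [Module.length_pi_of_fintype, ← eκ.length_eq, h0] at h2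
    have hr : 0 < r := Module.finrank_pos
    have hs : s = 1 := by
      simp only [Finset.sum_const, Finset.card_univ, Fintype.card_fin, nsmul_eq_mul] at h2
      have h3 : s * r = r := by exact_mod_cast h2
      exact Nat.eq_of_mul_eq_mul_right hr (by rw [h3, one_mul])
    exact ⟨eB.trans ((LinearEquiv.funCongrLeft B (B ⧸ m) (finCongr hs.symm)).trans
      (LinearEquiv.funUnique (Fin 1) B (B ⧸ m)))⟩

end Groth.Agent.TwistShriek
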