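import Groth.Agent.TwistShriek.LocalDuality
import Groth.Agent.TwistShriek.ResidueTest
import Groth.Agent.TwistShriek.DualizingGlue
import Groth.Agent.TwistShriek.CohRight
import Groth.Agent.DualCxLib.Local
import Mathlib.RingTheory.Jacobson.Ring
import Mathlib.RingTheory.KrullDimension.Polynomial

/-!
# The right adjoint of a proper direct image carries dualizing complexes to dualizing complexes
-/

set_option autoImplicit false
set_option linter.style.haveILetI false
set_option linter.unusedSectionVars false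
set_option backward.isDefEq.respectTransparency false
set_option maxHeartbeats 1000000
set_option maxRecDepth 4000

universe u

open CategoryTheory CategoryTheory.Limits AlgebraicGeometry
open Groth.Agent.DCohLib
open scoped TensorProduct

attribute [local instance] HasDerivedCategory.standard

noncomputable section

namespace Groth.Agent.TwistShriek

open Groth.Agent.DualCxLib

/-- A derived tilde with cohomology killed by a maximal ideal vanishes away from it. -/
theorem isZero_restrict_tildeD_of_annihilated {B : CommRingCat.{u}} [PreservesFiniteLimits (tilde.functor B)]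
    (T : Dual.D B) (m : PrimeSpectrum B) [m.asIdeal.IsMaximal]
    (h : ∀ (i : ℤ) (s : B), s ∈ m.asIdeal → ∀ x : Dual.HD B T i, s • x = 0) (W : (Spec B).Opens) (hW : m ∉ W) :
    IsZero ((DCoh.restrictD W.ι).obj ((DCoh.tildeD B).obj T)) := by
  haveI : (tilde.functor B).Additive := TildeKFlat.additive_til B
  haveI : PreservesFiniteColimits (tilde.functor B) := by
    haveI : PreservesColimitsOfSize.{0, 0} (tilde.functor B) :=
      (tilde.adjunction (R := B)).leftAdjoint_preservesColimits
    exact PreservesColimitsOfSize.preservesFiniteColimits _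
  refine isZero_restrictD_of_support W fun i z hz hs => hs ?_
  let Φ := Scheme.Modules.toPresheaf (Spec B) ⋙ TopCat.Presheaf.stalkFunctor AddCommGrpCat.{u} z
  let M : ModuleCat.{u} B := (DerivedCategory.homologyFunctor (ModuleCat.{u} B) i).obj T
  let i1 : DCoh.HD ((DCoh.tildeD B).obj T) i ≅ (tilde.functor B).obj M := (TildeD.nu (tilde.functor B) i).app T
  suffices hM : Subsingleton ((tilde M).presheaf.stalk z) from
    (Φ.mapIso i1).addCommGroupIsoToAddEquiv.toEquiv.subsingleton_congr.2 hM
  obtain ⟨s, hsm, hsz⟩ : ∃ s ∈ m.asIdeal, s ∉ z.asIdeal := by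
    by_contra hc
    push Not at hc
    exact hW ((PrimeSpectrum.ext (Ideal.IsMaximal.eq_of_le ‹_› z.2.ne_top hc) : m = z) ▸ hz)
  refine subsingleton_of_forall_eq 0 fun w => ?_
  let ι := (tilde.toStalk M z).hom
  obtain ⟨⟨x, t⟩, hx⟩ := IsLocalizedModule.surj z.asIdeal.primeCompl ι w
  have h0 : ι x = 0 := (IsLocalizedModule.eq_zero_iff z.asIdeal.primeCompl ι).2 ⟨⟨s, hsz⟩, h i s hsm x⟩
  refine (IsLocalizedModule.smul_inj ι t w 0).1 ?_
  rw [smul_zero, hx, h0]

/-- The homology of a shift of a module concentrated in degree zero is killed by its annihilator. -/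
theorem smul_HD_shift_inD {A : Type u} [CommRing A] (M : Type u) [AddCommGroup M] [Module A M] (k i : ℤ) (s : A)
    (hs : ∀ x : M, s • x = 0) (x : Dual.HD A ((Dual.inD A M)⟦k⟧) i) : s • x = 0 := by
  let e := (((DerivedCategory.homologyFunctor (ModuleCat.{u} A) 0).shiftIso k i (k + i) rfl).app
    (Dual.inD A M)).toLinearEquiv
  refine e.injective ?_
  rw [map_smul, map_zero]
  generalize e x = y
  by_cases h : k + i = 0
  · revert y
    rw [h]
    intro y
    let e' := ((DerivedCategory.singleFunctorCompHomologyFunctorIso (ModuleCat.{u} A) 0).app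
      (ModuleCat.of A M)).toLinearEquiv
    refine e'.injective ?_
    rw [map_smul, map_zero]
    exact hs _
  · haveI : DerivedCategory.IsGE (Dual.inD A M) 0 :=
      inferInstanceAs (DerivedCategory.IsGE ((DerivedCategory.singleFunctor (ModuleCat.{u} A) 0).obj _) 0)
    haveI : DerivedCategory.IsLE (Dual.inD A M) 0 :=
      inferInstanceAs (DerivedCategory.IsLE ((DerivedCategory.singleFunctor (ModuleCat.{u} A) 0).obj _) 0)
    haveI : Subsingleton ((DerivedCategory.homologyFunctor (ModuleCat.{u} A) (k + i)).obj (Dual.inD A M)) :=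
      ModuleCat.subsingleton_of_isZero (by
        rcases lt_or_gt_of_ne h with h | h
        · exact DerivedCategory.isZero_of_isGE _ 0 _ h
        · exact DerivedCategory.isZero_of_isLE _ 0 _ h)
    exact @Subsingleton.elim _ this _ _

variable {X Y : Scheme.{u}} [IsNoetherian Y] (f : X ⟶ Y) [IsProper f] [CompactSpace X] [QuasiSeparatedSpace X]
  [IsLocallyNoetherian X] [DCoh.HasRpush f] (hf : DCoh.RpushPreservesQCoh f)
  (a : DCoh.DQCoh Y ⥤ DCoh.DQCoh X) (adj : DCoh.RpushQ f hf ⊣ a)
  [∀ (U : Scheme.{u}) (j : U ⟶ Y) [IsOpenImmersion j], PreservesFiniteLimits (Scheme.Modules.restrictFunctor j)]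
  [∀ (R : CommRingCat.{u}), PreservesFiniteLimits (tilde.functor R)]
  (K : DCoh.DQCoh Y) (hK : Dual2.IsDualizingSch Y K.obj) (hKb : BddCoh K.obj)

include adj hKb in
/-- The stalk of the transformed complex at a closed point is dualizing, and its residue test vanishes where the
test of the target does. -/
theorem exists_stalk_closed (c : ℤ) [(a.obj K).obj.IsGE c] (x₀ : X) (hx₀ : IsClosed ({x₀} : Set X))
    (V : Y.Opens) (hV : IsAffineOpen V) (hyV : f x₀ ∈ V) (ωA : Dual.D Γ(Y, V)) (hωA : Dual.IsDualizing Γ(Y, V) ωA)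
    (eA : (DCoh.restrictD hV.fromSpec).obj K.obj ≅ (DCoh.tildeD (CommRingCat.of Γ(Y, V))).obj ωA) :
    ∃ (B : Type u) (_ : CommRing B) (j : Spec (CommRingCat.of B) ⟶ X) (_ : IsOpenImmersion j) (ω : Dual.D B)
      (m : PrimeSpectrum B) (_ : DRing.HasLBaseChange (algebraMap B (Localization.AtPrime m.asIdeal))),
      j m = x₀ ∧ Nonempty ((DCoh.restrictD j).obj (a.obj K).obj ≅ (DCoh.tildeD (CommRingCat.of B)).obj ω) ∧
      Dual.IsDualizing (Localization.AtPrime m.asIdeal)
        ((DRing.LBaseChange (algebraMap B (Localization.AtPrime m.asIdeal))).obj ω) ∧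
      ∀ i : ℤ, (∀ n : Ideal Γ(Y, V), n.IsMaximal → Subsingleton (HK ωA i (Γ(Y, V) ⧸ n))) →
        Subsingleton (HK ((DRing.LBaseChange (algebraMap B (Localization.AtPrime m.asIdeal))).obj ω) i
          (IsLocalRing.ResidueField (Localization.AtPrime m.asIdeal))) := by
  have hy₀ : IsClosed ({f x₀} : Set Y) := by
    have := f.isClosedMap _ hx₀
    rwa [Set.image_singleton] at this
  obtain ⟨U, hU, hxU, hUV⟩ := exists_isAffineOpen_mem_and_subset (X := X) (x := x₀) (U := f ⁻¹ᵁ V) hyV
  let A := Γ(Y, V)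
  let B := Γ(X, U)
  let v : Spec (CommRingCat.of A) ⟶ Y := hV.fromSpec
  let j : Spec (CommRingCat.of B) ⟶ X := hU.fromSpec
  haveI : IsOpenImmersion v := inferInstanceAs (IsOpenImmersion hV.fromSpec)
  haveI : IsOpenImmersion j := inferInstanceAs (IsOpenImmersion hU.fromSpec)
  have hle : U ≤ f ⁻¹ᵁ V := hUV
  let φ : A →+* B := (f.appLE V U hle).hom
  have w : j ≫ f = Spec.map (CommRingCat.ofHom φ) ≫ v :=
    (IsAffineOpen.SpecMap_appLE_fromSpec f hV hU hle).symm
  letI : Algebra A B := φ.toAlgebra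
  haveI : Algebra.FiniteType A B := f.finiteType_appLE hV hU hle
  haveI : IsNoetherianRing A := isNoetherianRing_of_isOpenImmersion v
  haveI : IsNoetherianRing B := isNoetherianRing_of_isOpenImmersion j
  obtain ⟨ω, ⟨eω⟩⟩ := ((TildeD.main (CommRingCat.of B)).2.2 _).1 (TildeD.isQCohD_restrict j _ (a.obj K).property)
  let m : PrimeSpectrum B := hU.primeIdealOf ⟨x₀, hxU⟩
  have hm : j m = x₀ := hU.fromSpec_primeIdealOf ⟨x₀, hxU⟩
  haveI hmm : m.asIdeal.IsMaximal := (PrimeSpectrum.isClosed_singleton_iff_isMaximal m).1 (by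
    have h := hx₀.preimage j.continuous
    rwa [← hm, ← Set.image_singleton, Set.preimage_image_eq _ j.isOpenEmbedding.injective] at h)
  let n : PrimeSpectrum A := m.comap φ
  have hn : v n = f x₀ := by
    rw [← hm, ← Scheme.Hom.comp_apply, w]
    rfl
  haveI : (m.asIdeal.under A).IsMaximal := (PrimeSpectrum.isClosed_singleton_iff_isMaximal n).1 (by
    have h := hy₀.preimage v.continuous
    rwa [← hn, ← Set.image_singleton, Set.preimage_image_eq _ v.isOpenEmbedding.injective] at h)
  haveI : Module.Finite A (B ⧸ m.asIdeal) := by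
    letI : Field (A ⧸ m.asIdeal.under A) := Ideal.Quotient.field _
    letI : Field (B ⧸ m.asIdeal) := Ideal.Quotient.field _
    haveI : m.asIdeal.LiesOver (m.asIdeal.under A) := ⟨rfl⟩
    haveI : Algebra.FiniteType (A ⧸ m.asIdeal.under A) (B ⧸ m.asIdeal) :=
      Algebra.FiniteType.of_restrictScalars_finiteType A _ _
    haveI : Module.Finite (A ⧸ m.asIdeal.under A) (B ⧸ m.asIdeal) := finite_of_finite_type_of_isJacobsonRing _ _
    exact Module.Finite.trans (A ⧸ m.asIdeal.under A) _
  let P : X.Opens := ⟨{x₀}ᶜ, hx₀.isOpen_compl⟩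
  let P' : Y.Opens := ⟨{f x₀}ᶜ, hy₀.isOpen_compl⟩
  have hP : j.opensRange ⊔ P = ⊤ := eq_top_iff.2 fun z _ => by
    by_cases hz : z = x₀
    · exact Or.inl ⟨m, hm.trans hz.symm⟩
    · exact Or.inr hz
  have hP' : v.opensRange ⊔ P' = ⊤ := eq_top_iff.2 fun z _ => by
    by_cases hz : z = f x₀
    · exact Or.inl ⟨n, hn.trans hz.symm⟩
    · exact Or.inr hz
  have hPP' : f ⁻¹ᵁ P' ≤ P := fun z hz hzx => hz (congrArg f hzx)
  obtain ⟨Φ, hnat, hadd⟩ := exists_localDuality f hf a adj φ j v w P hP P' hP' hPP' K ω eω.symm ωA eA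
  let T : ℤ → Dual.D B := fun i => (Dual.inD B (B ⧸ m.asIdeal))⟦i⟧
  have hT : ∀ i, IsZero ((DCoh.restrictD (j ⁻¹ᵁ P).ι).obj ((DCoh.tildeD (CommRingCat.of B)).obj (T i))) := fun i => by
    refine isZero_restrict_tildeD_of_annihilated (B := CommRingCat.of B) (T i) m (fun k s hs x => ?_) _
      (fun hh => hh hm)
    refine smul_HD_shift_inD (B ⧸ m.asIdeal) i k s (fun z => ?_) x
    obtain ⟨z, rfl⟩ := Ideal.Quotient.mk_surjective z
    exact Ideal.Quotient.eq_zero_iff_mem.2 (m.asIdeal.mul_mem_right z hs)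
  let e : ∀ i, (T i ⟶ ω) ≃+ ((DRing.restrictD φ).obj (T i) ⟶ ωA) := fun i =>
    { Φ (T i) (hT i) with map_add' := hadd (T i) (hT i) }
  have he : ∀ (i : ℤ) (r : A) (ψ : T i ⟶ ω), e i (algebraMap A B r • ψ) = r • e i ψ := fun i r ψ => by
    show Φ (T i) (hT i) (φ r • ψ) = r • Φ (T i) (hT i) ψ
    rw [show φ r • ψ = (φ r • 𝟙 (T i)) ≫ ψ by rw [Linear.smul_comp, Category.id_comp], hnat _ _ (hT i) (hT i),
      restrictD_map_smul_id, Linear.smul_comp, Category.id_comp]
  haveI : IsNoetherianRing (CommRingCat.of B) := ‹IsNoetherianRing B›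
  haveI : PreservesFiniteColimits (tilde.functor (CommRingCat.of B)) := by
    haveI : PreservesColimitsOfSize.{0, 0} (tilde.functor (CommRingCat.of B)) :=
      (tilde.adjunction (R := CommRingCat.of B)).leftAdjoint_preservesColimits
    exact PreservesColimitsOfSize.preservesFiniteColimits _
  haveI : (tilde.functor (CommRingCat.of B)).Additive := TildeKFlat.additive_til _
  let eH : ∀ i, (tilde.functor (CommRingCat.of B)).obj
      ((DerivedCategory.homologyFunctor (ModuleCat.{u} B) i).obj ω) ≅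
      (Scheme.Modules.restrictFunctor j).obj (DCoh.HD (a.obj K).obj i) := fun i =>
    ((TildeD.nu (tilde.functor (CommRingCat.of B)) i).app ω).symm ≪≫
      (DerivedCategory.homologyFunctor _ i).mapIso eω ≪≫ restrictHDIso j _ i
  have hcoh := isCohD_rightAdjoint f hf a adj K hKb
  have hfin : ∀ i, Module.Finite B (Dual.HD B ω i) := fun i =>
    TildePerf.finite_of_isFT _ (TildePerf.isFT_of_iso (eH i).symm (DCohMore.isFT_restrictFunctor j (hcoh i).2))
  haveI : DerivedCategory.IsGE ω c := (DerivedCategory.isGE_iff _ _).2 fun i hi => by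
    haveI : (tilde.functor (CommRingCat.of B)).Full := tilde.fullyFaithfulFunctor.full
    haveI : (tilde.functor (CommRingCat.of B)).Faithful := tilde.fullyFaithfulFunctor.faithful
    exact IsZero.of_full_of_faithful_of_isZero (tilde.functor (CommRingCat.of B)) _
      (((Scheme.Modules.restrictFunctor j).map_isZero
        (DerivedCategory.isZero_of_isGE (a.obj K).obj c i hi)).of_iso (eH i))
  obtain ⟨d, hd, ⟨ed⟩, hvan⟩ := exists_residue_test hωA ω hfin c m.asIdeal e he
  let Bm := Localization.AtPrime m.asIdeal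
  haveI : DRing.HasLBaseChange (algebraMap B Bm) := DRingLib.hasLBaseChange _
  haveI : IsNoetherianRing Bm := IsLocalization.isNoetherianRing m.asIdeal.primeCompl Bm ‹_›
  haveI : Module.Flat B Bm := IsLocalization.flat Bm m.asIdeal.primeCompl
  haveI := isGE_bcD B Bm ω c
  let q : Bm ⊗[B] (B ⧸ m.asIdeal) ≃ₗ[Bm] IsLocalRing.ResidueField Bm :=
    (quotMapEquiv B Bm m.asIdeal).trans
      (Submodule.quotEquivOfEq _ _ Localization.AtPrime.map_eq_maximalIdeal)
  have hE : ∀ i, Nonempty (Bm ⊗[B] HK ω i (B ⧸ m.asIdeal) ≃ₗ[Bm]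
      HK ((bcD B Bm).obj ω) i (IsLocalRing.ResidueField Bm)) := fun i => by
    obtain ⟨e'⟩ := nonempty_HK_bcD B Bm ω c (B ⧸ m.asIdeal) i
    exact ⟨e'.trans (preEquiv _ i q.symm)⟩
  obtain ⟨ed'⟩ := hE d
  have hsub : ∀ i, Subsingleton (HK ω i (B ⧸ m.asIdeal)) →
      Subsingleton (HK ((bcD B Bm).obj ω) i (IsLocalRing.ResidueField Bm)) := fun i hi => by
    obtain ⟨e'⟩ := hE i
    haveI := hi
    haveI : Subsingleton (Bm ⊗[B] HK ω i (B ⧸ m.asIdeal)) := subsingleton_of_forall_eq 0 fun z => by
      induction z using TensorProduct.induction_on with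
      | zero => rfl
      | tmul b y => rw [Subsingleton.elim y 0, TensorProduct.tmul_zero]
      | add x y hx hy => rw [hx, hy, add_zero]
    exact e'.symm.injective.subsingleton
  refine ⟨B, inferInstance, j, inferInstance, ω, m, inferInstance, hm, ⟨eω.symm⟩,
    isDualizing_of_residueField (fun i => finite_HD_bcD B Bm (hfin i)) c d (fun i hi => hsub i (hd i hi))
      (ed'.symm.trans ((TensorProduct.AlgebraTensorModule.congr (LinearEquiv.refl Bm Bm) ed).trans q)),
    fun i hi => hsub i (hvan i (hi _ inferInstance))⟩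

include adj hK hKb in
/-- The transformed complex is dualizing at closed points. -/
theorem goodAt_closed (c : ℤ) [(a.obj K).obj.IsGE c] (x₀ : X) (hx₀ : IsClosed ({x₀} : Set X)) :
    GoodAt (a.obj K).obj x₀ := by
  obtain ⟨V, hV, hyV, -⟩ := exists_isAffineOpen_mem_and_subset (X := Y) (x := f x₀) (U := ⊤) trivial
  haveI : IsOpenImmersion hV.fromSpec := inferInstance
  obtain ⟨ωA, hωA, ⟨eA⟩⟩ := hK Γ(Y, V) hV.fromSpec
  obtain ⟨B, _, j, _, ω, m, _, hm, he, hd, -⟩ := exists_stalk_closed f hf a adj K hKb c x₀ hx₀ V hV hyV ωA hωA eA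
  exact ⟨B, inferInstance, j, inferInstance, ω, m, hm, he, hd⟩

end Groth.Agent.TwistShriek
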