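import Groth.Agent.ProjTwistLib.Lift
import Groth.Agent.AmpleEmb.ComposeRel
import Groth.Agent.StalkHomLib.StalkExt
import Groth.Agent.QCohLib.Push
import Groth.Agent.CurveLib.DegTensor
import Groth.Agent.DCohLib.Restrict

/-!
# Pairings for the direct image of a finite morphism
-/

set_option autoImplicit false
set_option backward.isDefEq.respectTransparency false
set_option linter.style.haveILetI false
set_option linter.unusedSectionVars false
set_option maxHeartbeats 1000000

universe u

open CategoryTheory CategoryTheory.Limits AlgebraicGeometry TopologicalSpace Opposite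
open Groth.Agent.PullbackMod Groth.Agent.DCohLib Groth.Agent.ParaFLib

noncomputable section

namespace Groth.Agent.TwistShriek.FinPush

variable {X Z : Scheme.{u}} (π : X ⟶ Z)

local instance hasHF3 (M : Z.Modules) : ModSite.HasSheafHom (O := Z.sheaf) M :=
  ModTensor.hasSheafHom (O := Z.sheaf) M

/-- Direct image of the structure sheaf. -/
abbrev pO : Z.Modules := (Scheme.Modules.pushforward π).obj (Coh.structureModule X)

/-- Scalars act on sections of a direct image through the structure map. -/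
theorem push_smul (W : X.Modules) {V : Z.Opens} (r : Γ(Z, V)) (m : Γ((Scheme.Modules.pushforward π).obj W, V)) :
    r • m = (show Γ(W, π ⁻¹ᵁ V) from (π.app V r) • (show Γ(W, π ⁻¹ᵁ V) from m)) := rfl

/-- Multiplication by a function on a direct image. -/
def act (W : X.Modules) {V : Z.Opens} (b : Γ(X, π ⁻¹ᵁ V)) (m : Γ(W, π ⁻¹ᵁ V)) :
    Γ((Scheme.Modules.pushforward π).obj W, V) := b • m

theorem res_smul_push (W : X.Modules) {V V' : X.Opens} (h : V' ≤ V) (b : Γ(X, V)) (m : Γ(W, V)) :
    W.presheaf.map (homOfLE h).op (b • m) = X.presheaf.map (homOfLE h).op b • W.presheaf.map (homOfLE h).op m :=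
  W.val.map_smul (homOfLE h).op b m

/-- The pairing `(w, b) ↦ t (b w)`. -/
def muPairing {W : X.Modules} {G : Z.Modules} (t : (Scheme.Modules.pushforward π).obj W ⟶ G) :
    ProjTwistLib.Pairing ((Scheme.Modules.pushforward π).obj W) (pO π) G where
  f V :=
    { toFun := fun m =>
        { toFun := fun b => t.app V (act π W (show Γ(X, π ⁻¹ᵁ V) from b) (show Γ(W, π ⁻¹ᵁ V) from m))
          map_zero' := (congrArg (t.app V) (zero_smul Γ(X, π ⁻¹ᵁ V) (show Γ(W, π ⁻¹ᵁ V) from m))).trans (map_zero _)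
          map_add' := fun b b' => (congrArg (t.app V) (add_smul (show Γ(X, π ⁻¹ᵁ V) from b) b'
            (show Γ(W, π ⁻¹ᵁ V) from m))).trans (map_add _ _ _) }
      map_zero' := AddMonoidHom.ext fun b => (congrArg (t.app V) (smul_zero
        (A := Γ(W, π ⁻¹ᵁ V)) (show Γ(X, π ⁻¹ᵁ V) from b))).trans (map_zero _)
      map_add' := fun m m' => AddMonoidHom.ext fun b => (congrArg (t.app V) (smul_add
        (show Γ(X, π ⁻¹ᵁ V) from b) (show Γ(W, π ⁻¹ᵁ V) from m) m')).trans (map_add _ _ _) }
  smul_left V r m b := by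
    refine Eq.trans ?_ (Scheme.Modules.Hom.app_smul t r _)
    exact congrArg (t.app V) (smul_comm (show Γ(X, π ⁻¹ᵁ V) from b) (π.app V r) (show Γ(W, π ⁻¹ᵁ V) from m))
  smul_right V r m b := by
    refine Eq.trans ?_ (Scheme.Modules.Hom.app_smul t r _)
    exact congrArg (t.app V) (mul_smul (π.app V r) (show Γ(X, π ⁻¹ᵁ V) from b) (show Γ(W, π ⁻¹ᵁ V) from m))
  fres {U V} h m b := by
    refine Eq.trans ?_ (app_natural t h _)
    exact congrArg (t.app V) (res_smul_push W (π.preimage_mono h) (show Γ(X, π ⁻¹ᵁ U) from b)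
      (show Γ(W, π ⁻¹ᵁ U) from m)).symm

theorem muPairing_f {W : X.Modules} {G : Z.Modules} (t : (Scheme.Modules.pushforward π).obj W ⟶ G) (V : Z.Opens)
    (m : Γ((Scheme.Modules.pushforward π).obj W, V)) (b : Γ(pO π, V)) :
    (muPairing π t).f V m b = t.app V (act π W (show Γ(X, π ⁻¹ᵁ V) from b) (show Γ(W, π ⁻¹ᵁ V) from m)) := rfl

/-- The transpose `π_* W → Hom(π_* O, G)`. -/
def aMap {W : X.Modules} {G : Z.Modules} (t : (Scheme.Modules.pushforward π).obj W ⟶ G) :
    (Scheme.Modules.pushforward π).obj W ⟶ (StalkHomLib.hF (pO π)).obj G :=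
  (ModSite.sheafHomAdj (O := Z.sheaf) (pO π)).homEquiv ((Scheme.Modules.pushforward π).obj W) G (muPairing π t).lift

/-- The map `L ⊗ π_* O → π_* π^* L`. -/
def kapPairing (L : Z.Modules) :
    ProjTwistLib.Pairing L (pO π) ((Scheme.Modules.pushforward π).obj ((Scheme.Modules.pullback π).obj L)) where
  f V :=
    { toFun := fun l =>
        { toFun := fun b => act π _ (show Γ(X, π ⁻¹ᵁ V) from b) (pullMap π L le_rfl l)
          map_zero' := zero_smul Γ(X, π ⁻¹ᵁ V) (pullMap π L (le_refl (π ⁻¹ᵁ V)) l :)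
          map_add' := fun b b' => add_smul (show Γ(X, π ⁻¹ᵁ V) from b) b' (pullMap π L (le_refl (π ⁻¹ᵁ V)) l :) }
      map_zero' := AddMonoidHom.ext fun b =>
        (congrArg (act π _ (show Γ(X, π ⁻¹ᵁ V) from b)) (map_zero _)).trans
          (smul_zero (A := Γ((Scheme.Modules.pullback π).obj L, π ⁻¹ᵁ V)) (show Γ(X, π ⁻¹ᵁ V) from b))
      map_add' := fun l l' => AddMonoidHom.ext fun b =>
        (congrArg (act π _ (show Γ(X, π ⁻¹ᵁ V) from b)) (map_add _ l l')).trans
          (smul_add (A := Γ((Scheme.Modules.pullback π).obj L, π ⁻¹ᵁ V)) (show Γ(X, π ⁻¹ᵁ V) from b) _ _) }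
  smul_left V r l b := by
    refine (congrArg (act π _ (show Γ(X, π ⁻¹ᵁ V) from b)) (pullMap_smul π L le_rfl r l)).trans ?_
    rw [show π.appLE V (π ⁻¹ᵁ V) le_rfl r = π.app V r from congr($(Scheme.Hom.appLE_eq_app π) r)]
    exact smul_comm (show Γ(X, π ⁻¹ᵁ V) from b) (π.app V r) (pullMap π L le_rfl l)
  smul_right V r l b := mul_smul (π.app V r) (show Γ(X, π ⁻¹ᵁ V) from b) (pullMap π L le_rfl l)
  fres {U V} h l b := by
    refine Eq.trans ?_ (res_smul_push _ (π.preimage_mono h) (show Γ(X, π ⁻¹ᵁ U) from b) (pullMap π L le_rfl l)).symm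
    exact congrArg (act π _ (X.presheaf.map (homOfLE (π.preimage_mono h)).op (show Γ(X, π ⁻¹ᵁ U) from b)))
      (pullMap_res π L le_rfl h (π.preimage_mono h) le_rfl l).symm

theorem isIso_kap {L : Z.Modules} (hL : PicF.IsInvertible L) : IsIso (kapPairing π L).lift := by
  refine (isIso_iff_stalk _).2 fun z => ?_
  obtain ⟨U, e, hzU, he⟩ := exists_gen_nhd hL z
  refine (kapPairing π L).bijective_stalk_lift hzU he fun O hO => ?_
  have h := (AmpleEmb.gen_pullMap π hL (he.res hO)) (π ⁻¹ᵁ O) le_rfl
  simp only [res_self] at h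
  exact h

/-- The transpose intertwines composition with a twist. -/
theorem comp_aMap {W : X.Modules} {G : Z.Modules} (t : (Scheme.Modules.pushforward π).obj W ⟶ G) (L : Z.Modules)
    (φ : (Scheme.Modules.pullback π).obj L ⟶ W) :
    ((Scheme.Modules.pullbackPushforwardAdjunction π).homEquiv L W φ) ≫ aMap π t =
      (ModSite.sheafHomAdj (O := Z.sheaf) (pO π)).homEquiv L G
        ((kapPairing π L).lift ≫ (Scheme.Modules.pushforward π).map φ ≫ t) := by
  let u := (Scheme.Modules.pullbackPushforwardAdjunction π).homEquiv L W φ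
  refine Eq.trans ((ModSite.sheafHomAdj (O := Z.sheaf) (pO π)).homEquiv_naturality_left u (muPairing π t).lift).symm
    (congrArg ((ModSite.sheafHomAdj (O := Z.sheaf) (pO π)).homEquiv L G) ?_)
  refine hom_ext_stalk fun x => LinearMap.ext fun z => ?_
  obtain ⟨w, rfl⟩ := (stalkTensor x L (pO π)).surjective z
  induction w using TensorProduct.induction_on with
  | zero => simp
  | add p q hp hq => rw [map_add, map_add, map_add, hp, hq]
  | tmul l b =>
    obtain ⟨V, hxV, l, b, rfl, rfl⟩ := exists_common_germ (x := x) l b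
    show stalkLin (CurveLib.tmap u (pO π) ≫ _) x (stalkTensorHom x _) = stalkLin _ x (stalkTensorHom x _)
    rw [stalkTensorHom_tmul, stalkLin_germ, stalkLin_germ]
    refine congrArg (G.presheaf.germ V x hxV) ?_
    show (muPairing π t).lift.app V ((CurveLib.tmap u (pO π)).app V (pairS L (pO π) l b)) =
      t.app V (((Scheme.Modules.pushforward π).map φ).app V ((kapPairing π L).lift.app V (pairS L (pO π) l b)))
    rw [ProjTwistLib.Pairing.lift_pairS, tensorBi_app_pairS_left, ProjTwistLib.Pairing.lift_pairS, muPairing_f]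
    refine congrArg (t.app V) ?_
    have hu : (show Γ(W, π ⁻¹ᵁ V) from u.app V l) = φ.app (π ⁻¹ᵁ V) (pullMap π L le_rfl l) := by
      show (((Scheme.Modules.pullbackPushforwardAdjunction π).homEquiv L W φ).app V l) = _
      rw [Adjunction.homEquiv_unit]
      exact congrArg (φ.app (π ⁻¹ᵁ V)) (res_self (M := (Scheme.Modules.pullback π).obj L) le_rfl _).symm
    refine (congrArg (act π W (show Γ(X, π ⁻¹ᵁ V) from b)) hu).trans ?_
    exact (Scheme.Modules.Hom.app_smul φ (show Γ(X, π ⁻¹ᵁ V) from b) (pullMap π L le_rfl l)).symm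

/-- The pairing `π_* W × G → π_* (W ⊗ π^* G)`. -/
def projPairing (W : X.Modules) (G : Z.Modules) :
    ProjTwistLib.Pairing ((Scheme.Modules.pushforward π).obj W) G
      ((Scheme.Modules.pushforward π).obj (tmod W ((Scheme.Modules.pullback π).obj G))) where
  f V :=
    { toFun := fun m =>
        { toFun := fun g => (show Γ(tmod W ((Scheme.Modules.pullback π).obj G), π ⁻¹ᵁ V) from
            pairS W ((Scheme.Modules.pullback π).obj G) (show Γ(W, π ⁻¹ᵁ V) from m) (pullMap π G le_rfl g))
          map_zero' := by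
            have h := pairS_smul_right (M := W) (N := (Scheme.Modules.pullback π).obj G) (0 : Γ(X, π ⁻¹ᵁ V))
              (show Γ(W, π ⁻¹ᵁ V) from m) (pullMap π G le_rfl (0 : Γ(G, V)))
            rw [map_zero, smul_zero, zero_smul] at h
            rw [map_zero]
            exact h
          map_add' := fun g g' => (congrArg (pairS W _ (show Γ(W, π ⁻¹ᵁ V) from m)) (map_add _ g g')).trans
            (pairS_add_right _ _ _) }
      map_zero' := AddMonoidHom.ext fun g => by
        have h := pairS_smul_left (M := W) (N := (Scheme.Modules.pullback π).obj G) (0 : Γ(X, π ⁻¹ᵁ V))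
          (0 : Γ(W, π ⁻¹ᵁ V)) (pullMap π G le_rfl g)
        rw [smul_zero, zero_smul] at h
        exact h
      map_add' := fun m m' => AddMonoidHom.ext fun g => pairS_add_left (show Γ(W, π ⁻¹ᵁ V) from m) m' _ }
  smul_left V r m g := pairS_smul_left (π.app V r) (show Γ(W, π ⁻¹ᵁ V) from m) _
  smul_right V r m g := by
    refine (congrArg (pairS W _ (show Γ(W, π ⁻¹ᵁ V) from m)) (pullMap_smul π G le_rfl r g)).trans ?_
    rw [show π.appLE V (π ⁻¹ᵁ V) le_rfl r = π.app V r from congr($(Scheme.Hom.appLE_eq_app π) r)]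
    exact pairS_smul_right (π.app V r) (show Γ(W, π ⁻¹ᵁ V) from m) (pullMap π G le_rfl g)
  fres {U V} h m g := by
    refine Eq.trans ?_ (res_pairS (π.preimage_mono h) (show Γ(W, π ⁻¹ᵁ U) from m) (pullMap π G le_rfl g)).symm
    exact congrArg (pairS W _ (W.presheaf.map (homOfLE (π.preimage_mono h)).op (show Γ(W, π ⁻¹ᵁ U) from m)))
      (pullMap_res π G le_rfl h (π.preimage_mono h) le_rfl g).symm

theorem projPairing_f (W : X.Modules) (G : Z.Modules) (V : Z.Opens)
    (m : Γ((Scheme.Modules.pushforward π).obj W, V)) (g : Γ(G, V)) :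
    (projPairing π W G).f V m g = (show Γ(tmod W ((Scheme.Modules.pullback π).obj G), π ⁻¹ᵁ V) from
      pairS W ((Scheme.Modules.pullback π).obj G) (show Γ(W, π ⁻¹ᵁ V) from m) (pullMap π G le_rfl g)) := rfl

end Groth.Agent.TwistShriek.FinPush
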