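import Groth.Agent.TwistShriek.BcPaste
import Groth.Agent.TwistShriek.BcMapMate
import Groth.Agent.TwistShriek.OpenBase

/-!
# The base change map of right adjoints along open immersions
-/

set_option autoImplicit false
set_option linter.style.haveILetI false
set_option linter.unusedSectionVars false
set_option backward.isDefEq.respectTransparency false
set_option maxHeartbeats 1000000

universe u

open CategoryTheory CategoryTheory.Limits AlgebraicGeometry Pretriangulated
open Groth.Agent.DCohLib Groth.Agent.DCohMore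

attribute [local instance] HasDerivedCategory.standard

noncomputable section

namespace Groth.Agent.TwistShriek

variable {X Y U W : Scheme.{u}} {f : X ⟶ Y} {g : U ⟶ Y} {f' : W ⟶ U} {g' : W ⟶ X}
  [QuasiCompact f] [QuasiSeparated f] [CompactSpace X] [QuasiSeparatedSpace X] [IsOpenImmersion g] [IsOpenImmersion g']
  [QuasiCompact g] [QuasiCompact g']
  [DCoh.HasRpush f] [DCoh.HasRpush f'] [DCoh.HasRpush g] [DCoh.HasRpush g']
  [DCoh.HasLpull g] [DCoh.HasLpull g']
  {hf : DCoh.RpushPreservesQCoh f} {hf' : DCoh.RpushPreservesQCoh f'}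
  {hg : DCoh.RpushPreservesQCoh g} {hg' : DCoh.RpushPreservesQCoh g'}
  {a : DCoh.DQCoh Y ⥤ DCoh.DQCoh X} {a' : DCoh.DQCoh U ⥤ DCoh.DQCoh W}

/-- Along an open immersion the base change map is invertible, as soon as `a` preserves the vanishing on the open. -/
theorem isIso_bcMap_open (hsq : IsPullback g' f' f g) (adj : DCoh.RpushQ f hf ⊣ a) (adj' : DCoh.RpushQ f' hf' ⊣ a')
    (e : DCoh.RpushQ g' hg' ⋙ DCoh.RpushQ f hf ≅ DCoh.RpushQ f' hf' ⋙ DCoh.RpushQ g hg)
    (hξ : ∀ M, IsIso (xiMap adj adj' e M)) {L : DCoh.DQCoh Y ⥤ DCoh.DQCoh U} {L' : DCoh.DQCoh X ⥤ DCoh.DQCoh W}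
    (adjL : L ⊣ DCoh.RpushQ g hg) (adjL' : L' ⊣ DCoh.RpushQ g' hg') (K : DCoh.DQCoh Y)
    (hS : ∀ C : DCoh.DQCoh Y, (∀ n : ℤ, K.obj.IsGE n → C.obj.IsGE (n - 1)) →
      IsZero ((DCoh.restrictD g.opensRange.ι).obj C.obj) →
      IsZero ((DCoh.restrictD (f ⁻¹ᵁ g.opensRange).ι).obj (a.obj C).obj))
    [IsIso (xiMap adj adj' e (L.obj K))] : IsIso (bcAdjMap adj adj' e adjL adjL' K) := by
  let L₀ := Dual3.LpullQ g (lpullQCoh g)
  let L₀' := Dual3.LpullQ g' (lpullQCoh g')
  obtain ⟨_, _⟩ := DQCohBrown.exists_triangulated_rpushQ f hf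
  letI := adj.rightAdjointCommShift ℤ
  haveI := adj.commShift_of_leftAdjoint ℤ
  haveI := adj.isTriangulated_rightAdjoint
  let ιY := ObjectProperty.ι (DCoh.IsQCohD (X := Y))
  let ιX := ObjectProperty.ι (DCoh.IsQCohD (X := X))
  let u := (adjQ g hg).unit.app K
  haveI : IsIso (L₀'.map (a.map u)) := by
    obtain ⟨C, p, δ, hT⟩ := distinguished_cocone_triangle u
    have hTD := ιY.map_distinguished _ hT
    have hC₁ : ∀ n : ℤ, K.obj.IsGE n → C.obj.IsGE (n - 1) := fun n hn => by
      haveI : ((DCoh.Lpull g).obj K.obj).IsGE n := by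
        obtain ⟨l⟩ := nonempty_restrictD_lpull g K.obj
        haveI := isGE_restrict g hn
        exact DerivedCategory.TStructure.t.isGE_of_iso l n
      haveI : ((DCoh.RpushQ g hg).obj (L₀.obj K)).obj.IsGE n := isGE_rpush g ((DCoh.Lpull g).obj K.obj) n
      refine (DerivedCategory.isGE_iff _ _).2 fun i hi => ?_
      refine ShortComplex.Exact.isZero_of_both_zeros (DerivedCategory.HomologySequence.exact₃ _ hTD i (i + 1) rfl)
        ?_ ?_
      · exact (DerivedCategory.isZero_of_isGE ((DCoh.RpushQ g hg).obj (L₀.obj K)).obj n i (by omega)).eq_of_src _ _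
      · exact (DerivedCategory.isZero_of_isGE K.obj n (i + 1) (by omega)).eq_of_tgt _ _
    have hC₂ : IsZero ((DCoh.restrictD g.opensRange.ι).obj C.obj) := by
      refine isZero_restrictD_opensRange g ?_
      haveI := isIso_lpull_map_unit g hg K
      haveI : IsIso ((DCoh.Lpull g).map u.hom) :=
        inferInstanceAs (IsIso ((ObjectProperty.ι _).map (L₀.map u)))
      obtain ⟨l⟩ := nonempty_restrictD_iso_lpull g
      refine (Triangle.isZero₃_iff_isIso₁ _ ((DCoh.restrictD g).map_distinguished _ hTD)).2 ?_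
      show IsIso ((DCoh.restrictD g).map u.hom)
      exact (NatIso.isIso_map_iff l u.hom).2 inferInstance
    have hz' : IsZero ((DCoh.restrictD g').obj (a.obj C).obj) := by
      have hle : g'.opensRange ≤ f ⁻¹ᵁ g.opensRange := by
        rintro _ ⟨w, rfl⟩
        exact ⟨f' w, by rw [← Scheme.Hom.comp_apply, ← hsq.w, Scheme.Hom.comp_apply]⟩
      have h1 := isZero_restrictD_mono hle (hS C hC₁ hC₂)
      exact ((DCoh.restrictD g'.isoOpensRange.hom).map_isZero h1).of_iso
        ((restrictDCongr g'.isoOpensRange_hom_ι.symm).app _ ≪≫ (restrictDComp _ g'.opensRange.ι).app _)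
    haveI : IsIso ((DCoh.restrictD g').map (a.map u).hom) :=
      (Triangle.isZero₃_iff_isIso₁ _ ((DCoh.restrictD g').map_distinguished _
        (ιX.map_distinguished _ (a.map_distinguished _ hT)))).1 hz'
    obtain ⟨l'⟩ := nonempty_restrictD_iso_lpull g'
    haveI : IsIso ((ObjectProperty.ι _).map (L₀'.map (a.map u))) :=
      (NatIso.isIso_map_iff l' (a.map u).hom).1 inferInstance
    exact isIso_of_reflects_iso (L₀'.map (a.map u)) (ObjectProperty.ι _)
  haveI : IsIso (xiMap adj adj' e (L₀.obj K)) := hξ _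
  haveI : IsIso (bcAdjMap adj adj' e (adjQ g hg) (adjQ g' hg') K) := by
    unfold bcAdjMap
    exact inferInstanceAs (IsIso (L₀'.map (a.map u) ≫ _ ≫ _))
  exact isIso_bcAdjMap_transport adj adj' e (adjQ g hg) (adjQ g' hg') adjL adjL' K

end Groth.Agent.TwistShriek
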