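import Groth.Agent.TwistShriek.FlatBCRight
import Groth.Agent.TwistShriek.FlatBCOpen
import Groth.Agent.TwistShriek.ShriekIndep

/-!
# Flat base change for the right adjoint of a proper direct image, over Noetherian bases
-/

set_option autoImplicit false
set_option linter.style.haveILetI false
set_option linter.unusedSectionVars false
set_option backward.isDefEq.respectTransparency false
set_option maxHeartbeats 2000000

universe u

open CategoryTheory CategoryTheory.Limits AlgebraicGeometry Pretriangulated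
open Groth.Agent.DCohLib Groth.Agent.DCohMore

attribute [local instance] HasDerivedCategory.standard

noncomputable section

namespace Groth.Agent.TwistShriek

section Ops

variable {A B C : Scheme.{u}}

/-- Composites of direct images on `D_QCoh`, for two factorizations of one morphism. -/
theorem nonempty_rpushQ_congr {B' : Scheme.{u}} (k : A ⟶ B) (h : B ⟶ C) (k' : A ⟶ B') (h' : B' ⟶ C)
    (w : k ≫ h = k' ≫ h') [DCoh.HasRpush k] [DCoh.HasRpush h] [DCoh.HasRpush k'] [DCoh.HasRpush h']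
    (hk : DCoh.RpushPreservesQCoh k) (hh : DCoh.RpushPreservesQCoh h) (hk' : DCoh.RpushPreservesQCoh k')
    (hh' : DCoh.RpushPreservesQCoh h') :
    Nonempty (DCoh.RpushQ k hk ⋙ DCoh.RpushQ h hh ≅ DCoh.RpushQ k' hk' ⋙ DCoh.RpushQ h' hh') := by
  haveI := BC.hasRpush (k ≫ h); haveI := BC.hasRpush (k' ≫ h')
  obtain ⟨c₁⟩ := nonempty_rpushCompIso k h
  obtain ⟨c₂⟩ := nonempty_rpushCompIso k' h'
  let a : DCoh.Rpush k ⋙ DCoh.Rpush h ≅ DCoh.Rpush k' ⋙ DCoh.Rpush h' :=
    c₁ ≪≫ eqToIso (by simp only [w]) ≪≫ c₂.symm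
  exact ⟨NatIso.ofComponents (fun K => ObjectProperty.isoMk _ (a.app K.obj))
    fun φ => ObjectProperty.hom_ext _ (a.hom.naturality φ.hom)⟩

variable (j : A ⟶ B) [IsOpenImmersion j] [DCoh.HasLpull j] [DCoh.HasRpush j]

theorem full_rpushQ_open (hj : DCoh.RpushPreservesQCoh j) : (DCoh.RpushQ j hj).Full :=
  (adjQ j hj).fullyFaithfulROfIsIsoCounit.full

theorem faithful_rpushQ_open (hj : DCoh.RpushPreservesQCoh j) : (DCoh.RpushQ j hj).Faithful :=
  (adjQ j hj).fullyFaithfulROfIsIsoCounit.faithful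

end Ops

variable {X Y X' Y' : Scheme.{u}} {f : X ⟶ Y} {g : Y' ⟶ Y} {f' : X' ⟶ Y'} {g' : X' ⟶ X}
  [DCoh.HasRpush f] [DCoh.HasRpush f'] [DCoh.HasRpush g] [DCoh.HasRpush g'] [DCoh.HasLpull g] [DCoh.HasLpull g']
  {hf : DCoh.RpushPreservesQCoh f} {hf' : DCoh.RpushPreservesQCoh f'}
  {hg : DCoh.RpushPreservesQCoh g} {hg' : DCoh.RpushPreservesQCoh g'}
  {a : DCoh.DQCoh Y ⥤ DCoh.DQCoh X} {a' : DCoh.DQCoh Y' ⥤ DCoh.DQCoh X'}

/-- Right adjoints of a direct image preserve the vanishing on opens, on objects at most one step below `K`. -/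
def SuppHyp (f : X ⟶ Y) (a : DCoh.DQCoh Y ⥤ DCoh.DQCoh X) (K : DCoh.DQCoh Y) : Prop :=
  ∀ (V : Y.Opens), IsCompact (V : Set Y) → ∀ C : DCoh.DQCoh Y, (∀ n : ℤ, K.obj.IsGE n → C.obj.IsGE (n - 1)) →
    IsZero ((DCoh.restrictD V.ι).obj C.obj) → IsZero ((DCoh.restrictD (f ⁻¹ᵁ V).ι).obj (a.obj C).obj)

/-- Homomorphisms out of direct images of perfect objects commute with flat base change, on affine pieces. -/
def AffHyp (f : X ⟶ Y) (K : DCoh.DQCoh Y) : Prop :=
  ∀ (V V' XV : Scheme.{u}) (i : V ⟶ Y) (i' : XV ⟶ X) (fV : XV ⟶ V) (g₂ : V' ⟶ V) (_ : IsOpenImmersion i)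
    (_ : IsAffine V) (_ : IsAffine V') (_ : Flat g₂), IsPullback i' fV f i →
    ∀ (_ : DCoh.HasLpull i) (_ : DCoh.HasLpull g₂) (_ : DCoh.HasRpush fV) (E : DCoh.D XV), DCoh.IsPerfect E →
      HomBCTop g₂ ((DCoh.Rpush fV).obj E) ((DCoh.Lpull i).obj K.obj)

/-- Flat base change for right adjoints of proper direct images. -/
theorem exists_isIso_bcMap_flat [IsNoetherian Y] [IsNoetherian Y'] [IsProper f] [Flat g] [CompactSpace X']
    [QuasiSeparatedSpace X'] (hsq : IsPullback g' f' f g) (adj : DCoh.RpushQ f hf ⊣ a)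
    (adj' : DCoh.RpushQ f' hf' ⊣ a') {hLg : Dual3.LpullPreservesQCoh g}
    {hLg' : Dual3.LpullPreservesQCoh g'} (adjg : Dual3.LpullQ g hLg ⊣ DCoh.RpushQ g hg)
    (adjg' : Dual3.LpullQ g' hLg' ⊣ DCoh.RpushQ g' hg') :
    ∃ (e : DCoh.RpushQ g' hg' ⋙ DCoh.RpushQ f hf ≅ DCoh.RpushQ f' hf' ⋙ DCoh.RpushQ g hg)
      (hξ : ∀ M : DCoh.DQCoh Y', IsIso (Dual3.xi adj adj' e M)), ∀ K : DCoh.DQCoh Y,
      SuppHyp f a K → SuppHyp f' a' ((Dual3.LpullQ g hLg).obj K) → AffHyp f K →
        IsIso (Dual3.bcMap adj adj' e adjg adjg' K (hξ _)) := by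
  haveI : IsProper f' := MorphismProperty.of_isPullback (P := @IsProper) hsq inferInstance
  haveI : CompactSpace X := QuasiCompact.compactSpace_of_compactSpace f
  haveI : QuasiSeparatedSpace X := quasiSeparatedSpace_of_quasiSeparated f
  obtain ⟨e, hξ⟩ := exists_isIso_xi (hg := hg) (hg' := hg') hsq BC.TI.of_flat adj adj'
  refine ⟨e, hξ, fun K hS hS' hA => ?_⟩
  let μ := Dual3.bcMap adj adj' e adjg adjg' K (hξ _)
  haveI : IsIso ((ObjectProperty.ι _).map μ) := by
    refine isIso_of_restrictD _ fun x => ?_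
    obtain ⟨_, ⟨V₀ : Y.Opens, hV₀, rfl⟩, hy₀, -⟩ :=
      Y.isBasis_affineOpens.exists_subset_of_mem_open (a := g (f' x)) (Set.mem_univ _) isOpen_univ
    obtain ⟨_, ⟨U₀ : Y'.Opens, hU₀, rfl⟩, hy, hU₀g⟩ :=
      Y'.isBasis_affineOpens.exists_subset_of_mem_open (a := f' x) (u := (g ⁻¹ᵁ V₀ : Y'.Opens)) hy₀ (g ⁻¹ᵁ V₀).isOpen
    haveI : IsAffine (V₀ : Scheme.{u}) := hV₀
    haveI : IsAffine (U₀ : Scheme.{u}) := hU₀
    let j := U₀.ι
    let i := V₀.ι
    let g₂ : (U₀ : Scheme.{u}) ⟶ V₀ := g.resLE V₀ U₀ hU₀g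
    have hgi : g₂ ≫ i = j ≫ g := g.resLE_comp_ι hU₀g
    haveI : Flat (g₂ ≫ i) := by rw [hgi]; infer_instance
    haveI : Flat g₂ := MorphismProperty.of_postcomp (W := @Flat) (W' := @IsOpenImmersion) g₂ i inferInstance ‹_›
    let W := Limits.pullback f' j
    let j' : W ⟶ X' := Limits.pullback.fst f' j
    let f'' : W ⟶ U₀ := Limits.pullback.snd f' j
    let XV := Limits.pullback f i
    let i' : XV ⟶ X := Limits.pullback.fst f i
    let fV : XV ⟶ V₀ := Limits.pullback.snd f i
    have sqj : IsPullback j' f'' f' j := IsPullback.of_hasPullback _ _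
    have sqi : IsPullback i' fV f i := IsPullback.of_hasPullback _ _
    have souter : IsPullback (j' ≫ g') f'' f (g₂ ≫ i) := hgi ▸ sqj.paste_horiz hsq
    let g₂' : W ⟶ XV := sqi.lift (j' ≫ g') (f'' ≫ g₂) (by rw [souter.w, Category.assoc])
    have sq₂ : IsPullback g₂' f'' fV g₂ := IsPullback.of_right' souter sqi
    have hgi' : g₂' ≫ i' = j' ≫ g' := sqi.lift_fst _ _ _
    haveI : QuasiCompact j := quasiCompact_of_compactSpace j
    haveI : QuasiCompact i := quasiCompact_of_compactSpace i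
    haveI : IsOpenImmersion j' := MorphismProperty.of_isPullback (P := @IsOpenImmersion) sqj.flip inferInstance
    haveI : IsOpenImmersion i' := MorphismProperty.of_isPullback (P := @IsOpenImmersion) sqi.flip inferInstance
    haveI : QuasiCompact j' := MorphismProperty.of_isPullback (P := @QuasiCompact) sqj.flip inferInstance
    haveI : QuasiCompact i' := MorphismProperty.of_isPullback (P := @QuasiCompact) sqi.flip inferInstance
    haveI : IsProper f'' := MorphismProperty.of_isPullback (P := @IsProper) sqj inferInstance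
    haveI : IsProper fV := MorphismProperty.of_isPullback (P := @IsProper) sqi inferInstance
    haveI : CompactSpace W := QuasiCompact.compactSpace_of_compactSpace f''
    haveI : QuasiSeparatedSpace W := quasiSeparatedSpace_of_quasiSeparated f''
    haveI : CompactSpace XV := QuasiCompact.compactSpace_of_compactSpace fV
    haveI : QuasiSeparatedSpace XV := quasiSeparatedSpace_of_quasiSeparated fV
    haveI := BC.hasRpush j; haveI := BC.hasRpush j'; haveI := BC.hasRpush i; haveI := BC.hasRpush i'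
    haveI := BC.hasRpush f''; haveI := BC.hasRpush fV; haveI := BC.hasRpush g₂; haveI := BC.hasRpush g₂'
    haveI := hasLpull j; haveI := hasLpull j'; haveI := hasLpull i; haveI := hasLpull i'
    haveI := hasLpull g₂; haveI := hasLpull g₂'
    haveI : IsAffineHom g₂ := isAffineHom_of_isAffine _
    haveI : IsAffineHom g₂' := MorphismProperty.of_isPullback (P := @IsAffineHom) sq₂.flip inferInstance
    haveI := isLeftAdjoint_rpushQ' f''; haveI := isLeftAdjoint_rpushQ' fV
    let adjU := Adjunction.ofIsLeftAdjoint (DCoh.RpushQ f'' (rpushQC f''))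
    let adjV := Adjunction.ofIsLeftAdjoint (DCoh.RpushQ fV (rpushQC fV))
    -- the composite with the open piece of `Y'`
    obtain ⟨ej, hξj⟩ := exists_isIso_xi (hg := rpushQC j) (hg' := rpushQC j') sqj BC.TI.of_flat adj' adjU
    obtain ⟨ei, hξi⟩ := exists_isIso_xi (hg := rpushQC i) (hg' := rpushQC i') sqi BC.TI.of_flat adj adjV
    let ea := eComp e ej
    have hξa : ∀ M, IsIso (xiMap adj adjU ea M) := fun M => by
      haveI : IsIso (xiMap adj' adjU ej M) := hξj M
      haveI : IsIso (xiMap adj adj' e ((DCoh.RpushQ j (rpushQC j)).obj M)) := hξ _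
      rw [xiMap_comp adj adj']
      infer_instance
    obtain ⟨θ⟩ := nonempty_rpushQ_congr j g g₂ i hgi.symm (rpushQC j) hg (rpushQC g₂) (rpushQC i)
    obtain ⟨θ'⟩ := nonempty_rpushQ_congr j' g' g₂' i' hgi'.symm (rpushQC j') hg' (rpushQC g₂') (rpushQC i')
    let eb := eConj ea θ θ'
    have hξb : ∀ M, IsIso (xiMap adj adjU eb M) := fun M => by
      haveI := hξa M
      exact isIso_xiMap_conj adj adjU ea θ θ' M
    haveI := full_rpushQ_open i (rpushQC i); haveI := faithful_rpushQ_open i (rpushQC i)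
    haveI := full_rpushQ_open i' (rpushQC i'); haveI := faithful_rpushQ_open i' (rpushQC i')
    obtain ⟨e₂, he₂⟩ := exists_eComp ei eb
    replace he₂ : eComp ei e₂ = eb := he₂
    have hξ₂ : ∀ M, IsIso (xiMap adjV adjU e₂ M) := fun M => by
      haveI : IsIso (xiMap adj adjV ei ((DCoh.RpushQ g₂ (rpushQC g₂)).obj M)) := hξi _
      have h := hξb M
      rw [← he₂, xiMap_comp adj adjV] at h
      haveI : IsIso ((DCoh.RpushQ i' (rpushQC i')).map (xiMap adjV adjU e₂ M)) :=
        IsIso.of_isIso_comp_right _ (xiMap adj adjV ei ((DCoh.RpushQ g₂ (rpushQC g₂)).obj M))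
      exact isIso_of_fully_faithful (DCoh.RpushQ i' (rpushQC i')) _
    let Li := Dual3.LpullQ i (lpullQCoh i)
    let Lj := Dual3.LpullQ j (lpullQCoh j)
    let L₂ := Dual3.LpullQ g₂ (lpullQCoh g₂)
    let Lg := Dual3.LpullQ g hLg
    haveI : IsIso (xiMap adj adjV ei (Li.obj K)) := hξi _
    haveI : IsIso (xiMap adjV adjU e₂ (L₂.obj (Li.obj K))) := hξ₂ _
    haveI : IsIso (xiMap adj adj' e (Lg.obj K)) := hξ _
    haveI : IsIso (xiMap adj' adjU ej (Lj.obj (Lg.obj K))) := hξj _
    haveI : IsIso (bcAdjMap adj adjV ei (adjQ i (rpushQC i)) (adjQ i' (rpushQC i')) K) :=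
      isIso_bcMap_open sqi adj adjV ei hξi _ _ K fun C hC h => hS i.opensRange (isCompact_range i.continuous) C hC h
    haveI : IsIso (bcAdjMap adj' adjU ej (adjQ j (rpushQC j)) (adjQ j' (rpushQC j')) (Lg.obj K)) :=
      isIso_bcMap_open sqj adj' adjU ej hξj _ _ _ fun C hC h => hS' j.opensRange (isCompact_range j.continuous) C hC h
    haveI : IsIso (bcAdjMap adjV adjU e₂ (adjQ g₂ (rpushQC g₂)) (adjQ g₂' (rpushQC g₂')) (Li.obj K)) :=
      isIso_bcMap_adjQ sq₂ adjV adjU e₂ (isIso_bc_of_isIso_xiMap adjV adjU e₂ _ _ hξ₂) (Li.obj K)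
        fun E hE => hA _ _ _ i i' fV g₂ inferInstance inferInstance inferInstance inferInstance sqi inferInstance
          inferInstance inferInstance E hE
    haveI : IsIso (xiMap adj adjU (eComp ei e₂) ((Li ⋙ L₂).obj K)) := by rw [he₂]; exact hξb _
    have hb : IsIso (bcAdjMap adj adjU (eComp ei e₂) ((adjQ i (rpushQC i)).comp (adjQ g₂ (rpushQC g₂)))
        ((adjQ i' (rpushQC i')).comp (adjQ g₂' (rpushQC g₂'))) K) := by
      rw [bcAdjMap_comp adj adjV ei (adjQ i (rpushQC i)) (adjQ i' (rpushQC i')) adjU e₂]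
      infer_instance
    -- transport to the other factorization
    let aa := adjg.comp (adjQ j (rpushQC j))
    let aa' := adjg'.comp (adjQ j' (rpushQC j'))
    haveI : IsIso (xiMap adj adjU ea ((Lg ⋙ Lj).obj K)) := hξa _
    haveI : IsIso (xiMap adj adjU (eConj ea θ θ') ((Lg ⋙ Lj).obj K)) := hξb _
    haveI : IsIso (xiMap adj adjU (eComp ei e₂) ((Lg ⋙ Lj).obj K)) := by rw [he₂]; exact hξb _
    have hc : IsIso (bcAdjMap adj adjU (eComp ei e₂) (aa.ofNatIsoRight θ) (aa'.ofNatIsoRight θ') K) := by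
      haveI := hb
      exact isIso_bcAdjMap_transport adj adjU (eComp ei e₂) ((adjQ i (rpushQC i)).comp (adjQ g₂ (rpushQC g₂)))
        ((adjQ i' (rpushQC i')).comp (adjQ g₂' (rpushQC g₂'))) (aa.ofNatIsoRight θ) (aa'.ofNatIsoRight θ') K
    have ha : IsIso (bcAdjMap adj adjU ea aa aa' K) := by
      rw [← bcAdjMap_conj adj adjU ea aa aa' θ θ' K]
      simp only [he₂] at hc
      exact hc
    rw [bcAdjMap_comp adj adj' e adjg adjg' adjU ej] at ha
    haveI : IsIso ((Dual3.LpullQ j' (lpullQCoh j')).map μ ≫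
      bcAdjMap adj' adjU ej (adjQ j (rpushQC j)) (adjQ j' (rpushQC j')) (Lg.obj K)) := ha
    haveI : IsIso ((Dual3.LpullQ j' (lpullQCoh j')).map μ) :=
      IsIso.of_isIso_comp_right _ (bcAdjMap adj' adjU ej (adjQ j (rpushQC j)) (adjQ j' (rpushQC j')) (Lg.obj K))
    have h₆ : IsIso ((DCoh.restrictD (j'.isoOpensRange.hom ≫ j'.opensRange.ι)).map μ.hom) :=
      (NatIso.isIso_map_iff (lpullRestrictNatIso j' ≪≫ restrictDCongr j'.isoOpensRange_hom_ι.symm) _).1
        (inferInstanceAs (IsIso ((ObjectProperty.ι _).map ((Dual3.LpullQ j' (lpullQCoh j')).map μ))))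
    have h₇ : IsIso ((DCoh.restrictD j'.isoOpensRange.hom).map ((DCoh.restrictD j'.opensRange.ι).map μ.hom)) :=
      (NatIso.isIso_map_iff (restrictDComp j'.isoOpensRange.hom j'.opensRange.ι) _).1 h₆
    haveI : (DCoh.restrictD j'.isoOpensRange.hom).ReflectsIsomorphisms :=
      haveI : (DCoh.restrictD j'.isoOpensRange.hom).Full :=
        inferInstanceAs (restrictDEquiv j'.isoOpensRange).functor.Full
      haveI : (DCoh.restrictD j'.isoOpensRange.hom).Faithful :=
        inferInstanceAs (restrictDEquiv j'.isoOpensRange).functor.Faithful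
      reflectsIsomorphisms_of_full_and_faithful _
    refine ⟨j'.opensRange, ?_, ?_⟩
    · obtain ⟨w, hw, -⟩ := Scheme.Pullback.exists_preimage_pullback (f := f') (g := j) x ⟨f' x, hy⟩ rfl
      exact ⟨w, hw⟩
    · haveI : IsIso ((DCoh.restrictD j'.isoOpensRange.hom).map
          ((DCoh.restrictD j'.opensRange.ι).map ((ObjectProperty.ι _).map μ))) := h₇
      exact isIso_of_reflects_iso _ (DCoh.restrictD j'.isoOpensRange.hom)
  exact isIso_of_reflects_iso μ (ObjectProperty.ι _)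

end Groth.Agent.TwistShriek
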