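import Groth.Agent.TwistShriek.Scalar
import Groth.Agent.DCohMore.BCAffineQC
import Mathlib.RingTheory.Flat.Basic
import Mathlib.Algebra.FiveLemma

/-!
# Base change of groups of homomorphisms in derived categories
-/

set_option autoImplicit false
set_option linter.style.haveILetI false
set_option linter.unusedSectionVars false
set_option backward.isDefEq.respectTransparency false

universe u

open CategoryTheory CategoryTheory.Limits AlgebraicGeometry Pretriangulated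
open Groth.Agent.DCohLib
open scoped TensorProduct

attribute [local instance] HasDerivedCategory.standard Groth.Agent.TwistShriek.linΓ

noncomputable section

namespace Groth.Agent.TwistShriek

variable {X X' : Scheme.{u}} (g : X' ⟶ X) [Flat g] [DCoh.HasLpull g]
  {R R' : Type u} [CommRing R] [CommRing R'] [Algebra R R'] (ρ : R →+* Coh.Γtop X) (ρ' : R' →+* Coh.Γtop X')
  (hρ : ∀ r, fa g (ρ r) = ρ' (algebraMap R R' r))

theorem lpull_additive {Y Z : Scheme.{u}} (h : Y ⟶ Z) [DCoh.HasLpull h] : (DCoh.Lpull h).Additive :=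
  haveI := DCohMore.BC.hasRpush h
  haveI := (lpullRpushAdj h).isRightAdjoint
  haveI : (DCoh.Rpush h).Additive := CategoryTheory.Functor.additive_of_preserves_binary_products _
  (lpullRpushAdj h).left_adjoint_additive

/-- Homomorphisms as a module over the base. -/
@[instance_reducible]
def homMod {Y : Scheme.{u}} {S : Type u} [CommRing S] (σ : S →+* Coh.Γtop Y) (P M : DCoh.D Y) : Module S (P ⟶ M) :=
  Module.compHom _ σ

/-- Inverse image of homomorphisms, with scalars from the new base, as a bilinear map. -/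
def bcPair (P M : DCoh.D X) (s : R') : (P ⟶ M) →+ ((DCoh.Lpull g).obj P ⟶ (DCoh.Lpull g).obj M) where
  toFun φ := sc (ρ' s) _ ≫ (DCoh.Lpull g).map φ
  map_zero' := by
    haveI := lpull_additive g
    rw [Functor.map_zero, comp_zero]
  map_add' φ ψ := by
    haveI := lpull_additive g
    rw [Functor.map_add, Preadditive.comp_add]

section

variable (P M : DCoh.D X)

/-- The source of the base change map. -/
abbrev bcDom : Type (u + 1) :=
  letI := homMod ρ P M
  R' ⊗[R] (P ⟶ M)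

end

include hρ in
theorem bcPair_smul (P M : DCoh.D X) (r : R) (s : R') (φ : P ⟶ M) :
    bcPair g ρ' P M (r • s) φ = bcPair g ρ' P M s ((ρ r) • φ) := by
  show sc (ρ' (r • s)) _ ≫ (DCoh.Lpull g).map φ = sc (ρ' s) _ ≫ (DCoh.Lpull g).map ((ρ r) • φ)
  rw [← sc_comp, Functor.map_comp, lpull_sc, hρ, ← Category.assoc, ← sc_mul, ← map_mul, Algebra.smul_def, mul_comm]

/-- Inverse image of homomorphisms, with scalars from the new base. -/
def bcHom (P M : DCoh.D X) : bcDom ρ (R' := R') P M →+ ((DCoh.Lpull g).obj P ⟶ (DCoh.Lpull g).obj M) :=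
  letI := homMod ρ P M
  TensorProduct.liftAddHom
    { toFun := bcPair g ρ' P M
      map_zero' := by
        ext φ
        show sc (ρ' 0) _ ≫ _ = 0
        rw [map_zero, sc_zero, zero_comp]
      map_add' := fun a b => by
        ext φ
        show sc (ρ' (a + b)) ((DCoh.Lpull g).obj P) ≫ (DCoh.Lpull g).map φ =
          sc (ρ' a) ((DCoh.Lpull g).obj P) ≫ (DCoh.Lpull g).map φ +
          sc (ρ' b) ((DCoh.Lpull g).obj P) ≫ (DCoh.Lpull g).map φ
        rw [map_add, sc_add, Preadditive.add_comp] }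
    (fun r s φ => bcPair_smul g ρ ρ' hρ P M r s φ)

theorem bcHom_tmul (P M : DCoh.D X) (s : R') (φ : P ⟶ M) :
    letI := homMod ρ P M
    bcHom g ρ ρ' hρ P M (s ⊗ₜ[R] φ) = sc (ρ' s) _ ≫ (DCoh.Lpull g).map φ := rfl

/-- The base change map is bijective. -/
def HomBC (P M : DCoh.D X) : Prop := Function.Bijective (bcHom g ρ ρ' hρ P M)

/-- Postcomposition, linearly. -/
def postL (P : DCoh.D X) {M N : DCoh.D X} (f : M ⟶ N) :
    letI := homMod ρ P M; letI := homMod ρ P N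
    (P ⟶ M) →ₗ[R] (P ⟶ N) :=
  letI := homMod ρ P M; letI := homMod ρ P N
  { toFun := fun φ => φ ≫ f
    map_add' := fun φ ψ => Preadditive.add_comp _ _ _ _ _ _
    map_smul' := fun r φ => Linear.smul_comp _ _ _ (ρ r) φ f }

/-- Precomposition, linearly. -/
def preL {P Q : DCoh.D X} (f : P ⟶ Q) (M : DCoh.D X) :
    letI := homMod ρ Q M; letI := homMod ρ P M
    (Q ⟶ M) →ₗ[R] (P ⟶ M) :=
  letI := homMod ρ Q M; letI := homMod ρ P M
  { toFun := fun φ => f ≫ φ
    map_add' := fun φ ψ => Preadditive.comp_add _ _ _ _ _ _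
    map_smul' := fun r φ => Linear.comp_smul _ _ _ f (ρ r) φ }

/-- Postcomposition on the source of the base change map. -/
def postT (P : DCoh.D X) {M N : DCoh.D X} (f : M ⟶ N) : bcDom ρ (R' := R') P M →+ bcDom ρ (R' := R') P N :=
  letI := homMod ρ P M; letI := homMod ρ P N
  ((postL ρ P f).lTensor R').toAddMonoidHom

/-- Precomposition on the source of the base change map. -/
def preT {P Q : DCoh.D X} (f : P ⟶ Q) (M : DCoh.D X) : bcDom ρ (R' := R') Q M →+ bcDom ρ (R' := R') P M :=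
  letI := homMod ρ Q M; letI := homMod ρ P M
  ((preL ρ f M).lTensor R').toAddMonoidHom

theorem bcHom_postT (P : DCoh.D X) {M N : DCoh.D X} (f : M ⟶ N) (x : bcDom ρ (R' := R') P M) :
    bcHom g ρ ρ' hρ P N (postT ρ P f x) = bcHom g ρ ρ' hρ P M x ≫ (DCoh.Lpull g).map f := by
  letI := homMod ρ P M; letI := homMod ρ P N
  induction x using TensorProduct.induction_on with
  | zero => rw [map_zero, map_zero, map_zero, zero_comp]
  | tmul s φ =>
    show sc (ρ' s) _ ≫ (DCoh.Lpull g).map (φ ≫ f) = _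
    rw [bcHom_tmul, Functor.map_comp, Category.assoc]
  | add a b ha hb => rw [map_add, map_add, ha, hb, map_add, Preadditive.add_comp]

theorem bcHom_preT {P Q : DCoh.D X} (f : P ⟶ Q) (M : DCoh.D X) (x : bcDom ρ (R' := R') Q M) :
    bcHom g ρ ρ' hρ P M (preT ρ f M x) = (DCoh.Lpull g).map f ≫ bcHom g ρ ρ' hρ Q M x := by
  letI := homMod ρ Q M; letI := homMod ρ P M
  induction x using TensorProduct.induction_on with
  | zero => rw [map_zero, map_zero, map_zero, comp_zero]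
  | tmul s φ =>
    show sc (ρ' s) _ ≫ (DCoh.Lpull g).map (f ≫ φ) = _
    rw [bcHom_tmul, Functor.map_comp, ← Category.assoc, ← Category.assoc, sc_natural]
  | add a b ha hb => rw [map_add, map_add, ha, hb, map_add, Preadditive.comp_add]

/-- Bijectivity passes along isomorphisms in the target. -/
theorem homBC_of_iso_right (P : DCoh.D X) {M N : DCoh.D X} (e : M ≅ N) (h : HomBC g ρ ρ' hρ P M) :
    HomBC g ρ ρ' hρ P N := by
  letI := homMod ρ P M; letI := homMod ρ P N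
  have h1 : Function.Bijective (postT ρ (R' := R') P e.hom) := by
    refine (LinearEquiv.lTensor R' (LinearEquiv.ofBijective (postL ρ P e.hom) ?_)).bijective
    exact ⟨fun a b hab => (cancel_mono e.hom).1 hab, fun c => ⟨c ≫ e.inv, by
      show (c ≫ e.inv) ≫ e.hom = c
      rw [Category.assoc, e.inv_hom_id, Category.comp_id]⟩⟩
  have h2 : (bcHom g ρ ρ' hρ P N) ∘ postT ρ P e.hom =
      ((DCoh.Lpull g).mapIso e).homToEquiv ∘ bcHom g ρ ρ' hρ P M := funext fun x => bcHom_postT g ρ ρ' hρ P e.hom x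
  exact (Function.Bijective.of_comp_iff _ h1).1 (h2 ▸ (Equiv.bijective _).comp h)

/-- Bijectivity passes along isomorphisms in the source. -/
theorem homBC_of_iso_left {P Q : DCoh.D X} (e : P ≅ Q) (M : DCoh.D X) (h : HomBC g ρ ρ' hρ P M) :
    HomBC g ρ ρ' hρ Q M := by
  letI := homMod ρ P M; letI := homMod ρ Q M
  have h1 : Function.Bijective (preT ρ (R' := R') e.inv M) := by
    refine (LinearEquiv.lTensor R' (LinearEquiv.ofBijective (preL ρ e.inv M) ?_)).bijective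
    exact ⟨fun a b hab => (cancel_epi e.inv).1 hab, fun c => ⟨e.hom ≫ c, e.inv_hom_id_assoc c⟩⟩
  have h2 : (bcHom g ρ ρ' hρ Q M) ∘ preT ρ e.inv M =
      ((DCoh.Lpull g).mapIso e).homFromEquiv ∘ bcHom g ρ ρ' hρ P M := funext fun x =>
    bcHom_preT g ρ ρ' hρ e.inv M x
  exact (Function.Bijective.of_comp_iff _ h1).1 (h2 ▸ (Equiv.bijective _).comp h)

theorem homBC_of_isZero_right (P : DCoh.D X) {M : DCoh.D X} (hM : IsZero M) : HomBC g ρ ρ' hρ P M := by
  letI := homMod ρ P M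
  haveI := lpull_additive g
  haveI : Subsingleton (P ⟶ M) := ⟨hM.eq_of_tgt⟩
  exact ⟨fun a b _ => Subsingleton.elim a b, fun c => ⟨0, ((DCoh.Lpull g).map_isZero hM).eq_of_tgt _ _⟩⟩

theorem homBC_of_isZero_left {P : DCoh.D X} (hP : IsZero P) (M : DCoh.D X) : HomBC g ρ ρ' hρ P M := by
  letI := homMod ρ P M
  haveI := lpull_additive g
  haveI : Subsingleton (P ⟶ M) := ⟨hP.eq_of_src⟩
  exact ⟨fun a b _ => Subsingleton.elim a b, fun c => ⟨0, ((DCoh.Lpull g).map_isZero hP).eq_of_src _ _⟩⟩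

theorem homBC_retract_left {P Q : DCoh.D X} (r : Retract P Q) (M : DCoh.D X) (h : HomBC g ρ ρ' hρ Q M) :
    HomBC g ρ ρ' hρ P M := by
  letI := homMod ρ P M; letI := homMod ρ Q M
  have h1 : ∀ x, preT ρ (R' := R') r.i M (preT ρ r.r M x) = x := by
    intro x
    induction x using TensorProduct.induction_on with
    | zero => rw [map_zero, map_zero]
    | tmul s φ =>
      show s ⊗ₜ[R] (r.i ≫ r.r ≫ φ) = s ⊗ₜ[R] φ
      rw [r.retract_assoc]
    | add a b ha hb => rw [map_add, map_add, ha, hb]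
  refine ⟨fun x y hxy => ?_, fun ψ => ?_⟩
  · rw [← h1 x, ← h1 y]
    refine congrArg _ (h.1 ?_)
    rw [bcHom_preT, bcHom_preT, hxy]
  · obtain ⟨x, hx⟩ := h.2 ((DCoh.Lpull g).map r.r ≫ ψ)
    refine ⟨preT ρ r.i M x, ?_⟩
    rw [bcHom_preT, hx, ← Category.assoc, ← Functor.map_comp, r.retract, CategoryTheory.Functor.map_id,
      Category.id_comp]

variable [Module.Flat R R']

theorem exact_postT (P : DCoh.D X) {A B C : DCoh.D X} (f : A ⟶ B) (h : B ⟶ C)
    (w : ∀ x : P ⟶ A, (x ≫ f) ≫ h = 0) (ex : ∀ y : P ⟶ B, y ≫ h = 0 → ∃ x, y = x ≫ f) :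
    Function.Exact (postT ρ (R' := R') P f) (postT ρ (R' := R') P h) := by
  letI := homMod ρ P A; letI := homMod ρ P B; letI := homMod ρ P C
  refine Module.Flat.lTensor_exact R' (f := postL ρ P f) (g := postL ρ P h) fun y => ⟨fun hy => ?_, ?_⟩
  · obtain ⟨x, hx⟩ := ex y hy
    exact ⟨x, hx.symm⟩
  · rintro ⟨x, rfl⟩
    exact w x

theorem exact_preT (M : DCoh.D X) {A B C : DCoh.D X} (f : A ⟶ B) (h : B ⟶ C)
    (w : ∀ x : C ⟶ M, f ≫ h ≫ x = 0) (ex : ∀ y : B ⟶ M, f ≫ y = 0 → ∃ x, y = h ≫ x) :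
    Function.Exact (preT ρ (R' := R') h M) (preT ρ (R' := R') f M) := by
  letI := homMod ρ A M; letI := homMod ρ B M; letI := homMod ρ C M
  refine Module.Flat.lTensor_exact R' (f := preL ρ h M) (g := preL ρ f M) fun y => ⟨fun hy => ?_, ?_⟩
  · obtain ⟨x, hx⟩ := ex y hy
    exact ⟨x, hx.symm⟩
  · rintro ⟨x, rfl⟩
    exact w x

/-- Maps into a distinguished triangle: the three exactness statements. -/
theorem exact_postT_triangle (P : DCoh.D X) (T : Triangle (DCoh.D X)) (hT : T ∈ distTriang _) :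
    Function.Exact (postT ρ (R' := R') P T.invRotate.mor₁) (postT ρ (R' := R') P T.mor₁) ∧
    Function.Exact (postT ρ (R' := R') P T.mor₁) (postT ρ (R' := R') P T.mor₂) ∧
    Function.Exact (postT ρ (R' := R') P T.mor₂) (postT ρ (R' := R') P T.mor₃) :=
  ⟨exact_postT ρ P T.invRotate.mor₁ T.mor₁
      (fun x => by
        have := comp_distTriang_mor_zero₁₂ _ (inv_rot_of_distTriang _ hT)
        rw [Category.assoc]; exact (congrArg (x ≫ ·) this).trans comp_zero)
      (fun y hy => Triangle.coyoneda_exact₂ _ (inv_rot_of_distTriang _ hT) y hy),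
    exact_postT ρ P T.mor₁ T.mor₂
      (fun x => by rw [Category.assoc, comp_distTriang_mor_zero₁₂ _ hT, comp_zero])
      (fun y hy => Triangle.coyoneda_exact₂ _ hT y hy),
    exact_postT ρ P T.mor₂ T.mor₃
      (fun x => by rw [Category.assoc, comp_distTriang_mor_zero₂₃ _ hT, comp_zero])
      (fun y hy => Triangle.coyoneda_exact₃ _ hT y hy)⟩

/-- Maps out of a distinguished triangle: the three exactness statements. -/
theorem exact_preT_triangle (M : DCoh.D X) (T : Triangle (DCoh.D X)) (hT : T ∈ distTriang _) :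
    Function.Exact (preT ρ (R' := R') T.mor₃ M) (preT ρ (R' := R') T.mor₂ M) ∧
    Function.Exact (preT ρ (R' := R') T.mor₂ M) (preT ρ (R' := R') T.mor₁ M) ∧
    Function.Exact (preT ρ (R' := R') T.mor₁ M) (preT ρ (R' := R') T.invRotate.mor₁ M) :=
  ⟨exact_preT ρ M T.mor₂ T.mor₃
      (fun x => by rw [comp_distTriang_mor_zero₂₃_assoc _ hT, zero_comp])
      (fun y hy => Triangle.yoneda_exact₃ _ hT y hy),
    exact_preT ρ M T.mor₁ T.mor₂
      (fun x => by rw [comp_distTriang_mor_zero₁₂_assoc _ hT, zero_comp])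
      (fun y hy => Triangle.yoneda_exact₂ _ hT y hy),
    exact_preT ρ M T.invRotate.mor₁ T.mor₁
      (fun x => by
        have := comp_distTriang_mor_zero₁₂ _ (inv_rot_of_distTriang _ hT)
        rw [← Category.assoc]; exact (congrArg (· ≫ x) this).trans zero_comp)
      (fun y hy => Triangle.yoneda_exact₂ _ (inv_rot_of_distTriang _ hT) y hy)⟩

theorem exact_lpull_post (P : DCoh.D X) (T : Triangle (DCoh.D X)) (hT : T ∈ distTriang _) :
    Function.Exact (fun x : (DCoh.Lpull g).obj P ⟶ (DCoh.Lpull g).obj T.obj₁ => x ≫ (DCoh.Lpull g).map T.mor₁)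
      (fun x => x ≫ (DCoh.Lpull g).map T.mor₂) := by
  obtain ⟨c, hc⟩ := DCohMore.BC.exTri_lpull g T hT
  refine fun y => ⟨fun h => ?_, ?_⟩
  · obtain ⟨x, hx⟩ := Triangle.coyoneda_exact₂ _ hc y h
    exact ⟨x, hx.symm⟩
  · rintro ⟨x, rfl⟩
    show (x ≫ (DCoh.Lpull g).map T.mor₁) ≫ (DCoh.Lpull g).map T.mor₂ = 0
    rw [Category.assoc]
    exact (congrArg _ (comp_distTriang_mor_zero₁₂ _ hc)).trans comp_zero

theorem exact_lpull_pre (M : DCoh.D X) (T : Triangle (DCoh.D X)) (hT : T ∈ distTriang _) :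
    Function.Exact (fun x : (DCoh.Lpull g).obj T.obj₃ ⟶ (DCoh.Lpull g).obj M => (DCoh.Lpull g).map T.mor₂ ≫ x)
      (fun x => (DCoh.Lpull g).map T.mor₁ ≫ x) := by
  obtain ⟨c, hc⟩ := DCohMore.BC.exTri_lpull g T hT
  refine fun y => ⟨fun h => ?_, ?_⟩
  · obtain ⟨x, hx⟩ := Triangle.yoneda_exact₂ _ hc y h
    exact ⟨x, hx.symm⟩
  · rintro ⟨x, rfl⟩
    show (DCoh.Lpull g).map T.mor₁ ≫ (DCoh.Lpull g).map T.mor₂ ≫ x = 0
    rw [← Category.assoc]
    exact (congrArg (· ≫ x) (comp_distTriang_mor_zero₁₂ _ hc)).trans zero_comp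

set_option maxHeartbeats 1000000 in
/-- The five lemma in the target. -/
theorem homBC_obj₂_right (P : DCoh.D X) (T : Triangle (DCoh.D X)) (hT : T ∈ distTriang _)
    (h₀ : HomBC g ρ ρ' hρ P (T.obj₃⟦(-1 : ℤ)⟧)) (h₁ : HomBC g ρ ρ' hρ P T.obj₁) (h₃ : HomBC g ρ ρ' hρ P T.obj₃)
    (h₄ : HomBC g ρ ρ' hρ P (T.obj₁⟦(1 : ℤ)⟧)) : HomBC g ρ ρ' hρ P T.obj₂ := by
  let L := DCoh.Lpull g
  let post := fun {M N : DCoh.D X} (f : M ⟶ N) => Preadditive.rightComp (L.obj P) (L.map f)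
  have c0 : (post T.invRotate.mor₁).comp (bcHom g ρ ρ' hρ P T.invRotate.obj₁) =
      (bcHom g ρ ρ' hρ P T.obj₁).comp (postT ρ P T.invRotate.mor₁) :=
    AddMonoidHom.ext fun x => (bcHom_postT g ρ ρ' hρ P T.invRotate.mor₁ x).symm
  have c1 : (post T.mor₁).comp (bcHom g ρ ρ' hρ P T.obj₁) =
      (bcHom g ρ ρ' hρ P T.obj₂).comp (postT ρ P T.mor₁) :=
    AddMonoidHom.ext fun x => (bcHom_postT g ρ ρ' hρ P T.mor₁ x).symm
  have c2 : (post T.mor₂).comp (bcHom g ρ ρ' hρ P T.obj₂) =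
      (bcHom g ρ ρ' hρ P T.obj₃).comp (postT ρ P T.mor₂) :=
    AddMonoidHom.ext fun x => (bcHom_postT g ρ ρ' hρ P T.mor₂ x).symm
  have c3 : (post T.mor₃).comp (bcHom g ρ ρ' hρ P T.obj₃) =
      (bcHom g ρ ρ' hρ P (T.obj₁⟦(1 : ℤ)⟧)).comp (postT ρ P T.mor₃) :=
    AddMonoidHom.ext fun x => (bcHom_postT g ρ ρ' hρ P T.mor₃ x).symm
  obtain ⟨e0, e1, e2⟩ := exact_postT_triangle (R' := R') ρ P T hT
  have l0 : Function.Exact (post T.invRotate.mor₁) (post T.mor₁) := exact_lpull_post g P _ (inv_rot_of_distTriang _ hT)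
  have l1 : Function.Exact (post T.mor₁) (post T.mor₂) := exact_lpull_post g P T hT
  have l2 : Function.Exact (post T.mor₂) (post T.mor₃) := exact_lpull_post g P _ (rot_of_distTriang _ hT)
  exact AddMonoidHom.bijective_of_surjective_of_bijective_of_bijective_of_injective
    (postT ρ (R' := R') P T.invRotate.mor₁) (postT ρ P T.mor₁) (postT ρ P T.mor₂) (postT ρ P T.mor₃)
    (post T.invRotate.mor₁) (post T.mor₁) (post T.mor₂) (post T.mor₃)
    (bcHom g ρ ρ' hρ P T.invRotate.obj₁) (bcHom g ρ ρ' hρ P T.obj₁) (bcHom g ρ ρ' hρ P T.obj₂)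
    (bcHom g ρ ρ' hρ P T.obj₃) (bcHom g ρ ρ' hρ P (T.obj₁⟦(1 : ℤ)⟧)) c0 c1 c2 c3 e0 e1 e2 l0 l1 l2 h₀.2 h₁ h₃ h₄.1

set_option maxHeartbeats 1000000 in
/-- The five lemma in the source. -/
theorem homBC_obj₂_left (M : DCoh.D X) (T : Triangle (DCoh.D X)) (hT : T ∈ distTriang _)
    (h₀ : HomBC g ρ ρ' hρ (T.obj₃⟦(-1 : ℤ)⟧) M) (h₁ : HomBC g ρ ρ' hρ T.obj₁ M) (h₃ : HomBC g ρ ρ' hρ T.obj₃ M)
    (h₄ : HomBC g ρ ρ' hρ (T.obj₁⟦(1 : ℤ)⟧) M) : HomBC g ρ ρ' hρ T.obj₂ M := by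
  let L := DCoh.Lpull g
  let pre := fun {P Q : DCoh.D X} (f : P ⟶ Q) => Preadditive.leftComp (L.obj M) (L.map f)
  have c0 : (pre T.mor₃).comp (bcHom g ρ ρ' hρ (T.obj₁⟦(1 : ℤ)⟧) M) =
      (bcHom g ρ ρ' hρ T.obj₃ M).comp (preT ρ T.mor₃ M) :=
    AddMonoidHom.ext fun x => (bcHom_preT g ρ ρ' hρ T.mor₃ M x).symm
  have c1 : (pre T.mor₂).comp (bcHom g ρ ρ' hρ T.obj₃ M) =
      (bcHom g ρ ρ' hρ T.obj₂ M).comp (preT ρ T.mor₂ M) :=
    AddMonoidHom.ext fun x => (bcHom_preT g ρ ρ' hρ T.mor₂ M x).symm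
  have c2 : (pre T.mor₁).comp (bcHom g ρ ρ' hρ T.obj₂ M) =
      (bcHom g ρ ρ' hρ T.obj₁ M).comp (preT ρ T.mor₁ M) :=
    AddMonoidHom.ext fun x => (bcHom_preT g ρ ρ' hρ T.mor₁ M x).symm
  have c3 : (pre T.invRotate.mor₁).comp (bcHom g ρ ρ' hρ T.obj₁ M) =
      (bcHom g ρ ρ' hρ T.invRotate.obj₁ M).comp (preT ρ T.invRotate.mor₁ M) :=
    AddMonoidHom.ext fun x => (bcHom_preT g ρ ρ' hρ T.invRotate.mor₁ M x).symm
  obtain ⟨e0, e1, e2⟩ := exact_preT_triangle (R' := R') ρ M T hT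
  have l0 : Function.Exact (pre T.mor₃) (pre T.mor₂) := exact_lpull_pre g M _ (rot_of_distTriang _ hT)
  have l1 : Function.Exact (pre T.mor₂) (pre T.mor₁) := exact_lpull_pre g M T hT
  have l2 : Function.Exact (pre T.mor₁) (pre T.invRotate.mor₁) := exact_lpull_pre g M _ (inv_rot_of_distTriang _ hT)
  exact AddMonoidHom.bijective_of_surjective_of_bijective_of_bijective_of_injective
    (preT ρ (R' := R') T.mor₃ M) (preT ρ T.mor₂ M) (preT ρ T.mor₁ M) (preT ρ T.invRotate.mor₁ M)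
    (pre T.mor₃) (pre T.mor₂) (pre T.mor₁) (pre T.invRotate.mor₁)
    (bcHom g ρ ρ' hρ (T.obj₁⟦(1 : ℤ)⟧) M) (bcHom g ρ ρ' hρ T.obj₃ M) (bcHom g ρ ρ' hρ T.obj₂ M)
    (bcHom g ρ ρ' hρ T.obj₁ M) (bcHom g ρ ρ' hρ T.invRotate.obj₁ M) c0 c1 c2 c3 e0 e1 e2 l0 l1 l2 h₄.2 h₃ h₁ h₀.1

end Groth.Agent.TwistShriek
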