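import Groth.Agent.TwistShriek.AffineDHomBC
import Groth.Agent.TwistShriek.BcTheta
import Groth.Agent.DCohMore.BCMain
import Groth.Agent.DCohLib.PerfPred

/-!
# Base change of homomorphisms out of perfect objects
-/

set_option autoImplicit false
set_option linter.style.haveILetI false
set_option linter.unusedSectionVars false
set_option backward.isDefEq.respectTransparency false
set_option maxHeartbeats 1000000

universe u

open CategoryTheory CategoryTheory.Limits AlgebraicGeometry Pretriangulated TopologicalSpace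
open Groth.Agent.DCohLib Groth.Agent.DCohMore
open scoped TensorProduct

attribute [local instance] HasDerivedCategory.standard Groth.Agent.TwistShriek.linΓ

noncomputable section

namespace Groth.Agent.TwistShriek

variable {X X' U W : Scheme.{u}}

section Step

variable (g' : X' ⟶ X) [Flat g'] [DCoh.HasLpull g'] (j : U ⟶ X) [IsOpenImmersion j] (j' : W ⟶ X')
  [IsOpenImmersion j'] (g'' : W ⟶ U) [Flat g''] [DCoh.HasLpull g''] (h : IsPullback g'' j' j g')
  [QuasiCompact j] [QuasiSeparated j] [DCoh.HasRpush j]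
  {R R' : Type u} [CommRing R] [CommRing R'] [Algebra R R'] (ρ : R →+* Coh.Γtop X) (ρ' : R' →+* Coh.Γtop X')
  (hρ : ∀ r, fa g' (ρ r) = ρ' (algebraMap R R' r))
  (σ : R →+* Coh.Γtop U) (hσ : ∀ r, σ r = fa j (ρ r)) (σ' : R' →+* Coh.Γtop W) (hσ' : ∀ r, σ' r = fa j' (ρ' r))
  (hστ : ∀ r, fa g'' (σ r) = σ' (algebraMap R R' r))

include h hσ hσ' in
/-- The base change map out of `E` into a direct image is the one on the open piece. -/
theorem homBC_rpush (E : DCoh.D X) (N : DCoh.D U) (hN : DCoh.IsQCohD N) [DCoh.HasLpull j]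
    (H : HomBC g'' σ σ' hστ ((DCoh.Lpull j).obj E) N) : HomBC g' ρ ρ' hρ E ((DCoh.Rpush j).obj N) := by
  haveI := BC.hasRpush g'; haveI := BC.hasRpush j'; haveI := BC.hasRpush g''; haveI := hasLpull j'
  haveI := BC.hasRpush (g'' ≫ j); haveI := BC.hasRpush (j' ≫ g')
  obtain ⟨e, he⟩ := BC.exists_iso_baseChange j g' j' g'' h BC.TI.of_flat (lpullRpushAdj g') (lpullRpushAdj g'')
  let adjg := lpullRpushAdj g'
  let adjg' := lpullRpushAdj g''
  let adjf := lpullRpushAdj j
  let adjf' := lpullRpushAdj j'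
  let S := (DCoh.Rpush j).obj N
  haveI : IsIso ((BC.bc adjg adjg' e).app N) := he N hN
  haveI : IsIso (bcTheta adjg adjg' e adjf adjf' E) := isIso_bcTheta adjg adjg' e adjf adjf' E
  let θ := asIso (bcTheta adjg adjg' e adjf adjf' E)
  let u : ((DCoh.Lpull g').obj E ⟶ (DCoh.Lpull g').obj S) ≃
      ((DCoh.Lpull g'').obj ((DCoh.Lpull j).obj E) ⟶ (DCoh.Lpull g'').obj N) :=
    ((asIso ((BC.bc adjg adjg' e).app N)).homToEquiv).trans ((adjf'.homEquiv _ _).symm.trans θ.homFromEquiv)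
  have hu : ∀ y, θ.hom ≫ u y = (adjf'.homEquiv _ _).symm (y ≫ (BC.bc adjg adjg' e).app N) := fun y => by
    show θ.hom ≫ θ.inv ≫ _ = _
    rw [Iso.hom_inv_id_assoc]
    rfl
  haveI : (DCoh.Rpush j').IsRightAdjoint := adjf'.isRightAdjoint
  haveI : (DCoh.Rpush j').Additive := CategoryTheory.Functor.additive_of_preserves_binary_products _
  haveI := lpull_additive j'
  haveI := lpull_additive j
  have hadd : ∀ a b, u (a + b) = u a + u b := fun a b => by
    rw [← cancel_epi θ.hom, Preadditive.comp_add, hu, hu, hu, Preadditive.add_comp]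
    simp only [adjf'.homEquiv_counit, Functor.map_add, Preadditive.add_comp]
  letI := homMod ρ E S
  letI := homMod σ ((DCoh.Lpull j).obj E) N
  let κ : (E ⟶ S) ≃ₗ[R] ((DCoh.Lpull j).obj E ⟶ N) :=
    { (adjf.homEquiv _ _).symm with
      map_add' := fun φ ψ => by
        show (adjf.homEquiv _ _).symm (φ + ψ) = (adjf.homEquiv _ _).symm φ + (adjf.homEquiv _ _).symm ψ
        simp only [adjf.homEquiv_counit, Functor.map_add, Preadditive.add_comp]
      map_smul' := fun r φ => by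
        show (adjf.homEquiv _ _).symm ((ρ r : Coh.Γtop X) • φ) = (σ r : Coh.Γtop U) • (adjf.homEquiv _ _).symm φ
        rw [← sc_comp, adjf.homEquiv_naturality_left_symm, lpull_sc, sc_comp, hσ] }
  have key : u ∘ bcHom g' ρ ρ' hρ E S =
      bcHom g'' σ σ' hστ ((DCoh.Lpull j).obj E) N ∘ LinearEquiv.lTensor R' κ := funext fun x => by
    induction x using TensorProduct.induction_on with
    | zero =>
      simp only [Function.comp_apply, map_zero]
      have h0 := hadd 0 0
      rw [add_zero] at h0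
      exact (add_eq_left.1 h0.symm)
    | tmul s φ =>
      show u (sc (ρ' s) _ ≫ (DCoh.Lpull g').map φ) = sc (σ' s) _ ≫ (DCoh.Lpull g'').map ((adjf.homEquiv _ _).symm φ)
      rw [← cancel_epi θ.hom, hu, Category.assoc, adjf'.homEquiv_naturality_left_symm,
        bcTheta_transpose adjg adjg' e adjf adjf', lpull_sc, ← Category.assoc, ← Category.assoc θ.hom, hσ',
        sc_natural]
      rfl
    | add a b ha hb =>
      simp only [Function.comp_apply] at ha hb ⊢
      rw [map_add, hadd, ha, hb, map_add, map_add]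
  refine (Function.Bijective.of_comp_iff' (Equiv.bijective u) _).1 ?_
  rw [key]
  exact H.comp (LinearEquiv.bijective _)

end Step

section Global

variable {Y Y' : Scheme.{u}} (f : X ⟶ Y) (g : Y' ⟶ Y) (f' : X' ⟶ Y') (g' : X' ⟶ X)

theorem fa_square (w : g' ≫ f = f' ≫ g) (r : Γ(Y, ⊤)) :
    fa g' (f.appTop r) = f'.appTop (g.appTop r) := by
  have h := congrArg (fun t : X' ⟶ Y => t.appTop r) w
  simpa using h

variable [IsAffine Y] [IsAffine Y'] [Flat g] [CompactSpace X] [QuasiSeparatedSpace X] [DCoh.HasLpull g']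
  (hsq : IsPullback g' f' f g) [Algebra Γ(Y, ⊤) Γ(Y', ⊤)]
  (halg : algebraMap Γ(Y, ⊤) Γ(Y', ⊤) = g.appTop.hom)
  (hρ : ∀ r, fa g' ((f.appTop.hom : Γ(Y, ⊤) →+* Coh.Γtop X) r) =
    (f'.appTop.hom : Γ(Y', ⊤) →+* Coh.Γtop X') (algebraMap Γ(Y, ⊤) Γ(Y', ⊤) r))

include hsq halg in
/-- Homomorphisms out of perfect objects commute with flat base change. -/
theorem homBC_global [Flat g'] {E : DCoh.D X} (hE : DCoh.IsPerfect E) (M : DCoh.D X) (hM : DCoh.IsQCohD M) :
    HomBC g' (f.appTop.hom : Γ(Y, ⊤) →+* Coh.Γtop X) (f'.appTop.hom : Γ(Y', ⊤) →+* Coh.Γtop X') hρ E M := by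
  haveI : Module.Flat Γ(Y, ⊤) Γ(Y', ⊤) := by
    have h : g.appTop.hom.Flat := Scheme.Hom.flat_appTop g
    rw [← halg] at h
    exact RingHom.flat_algebraMap_iff.1 h
  haveI : IsAffineHom g := isAffineHom_of_isAffine _
  haveI : IsAffineHom g' := MorphismProperty.of_isPullback (P := @IsAffineHom) hsq.flip inferInstance
  suffices H : ∀ n : ℤ, HomBC g' (f.appTop.hom : Γ(Y, ⊤) →+* Coh.Γtop X) (f'.appTop.hom : Γ(Y', ⊤) →+* Coh.Γtop X')
      hρ E (M⟦n⟧) from homBC_of_iso_right g' _ _ hρ E ((shiftFunctorZero _ ℤ).app M) (H 0)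
  refine qcoh_devissage (fun K => ∀ n : ℤ, HomBC g' (f.appTop.hom : Γ(Y, ⊤) →+* Coh.Γtop X)
      (f'.appTop.hom : Γ(Y', ⊤) →+* Coh.Γtop X') hρ E (K⟦n⟧))
    (fun K hK n => homBC_of_isZero_right g' _ _ hρ E ((shiftFunctor _ n).map_isZero hK))
    (fun T hT h₂ h₃ n => ?_) (fun V hV _ N hN n => ?_) M hM
  · exact homBC_obj₂_right g' _ _ hρ E ((Triangle.shiftFunctor (DCoh.D X) n).obj T).invRotate
      (inv_rot_of_distTriang _ (Triangle.shift_distinguished T hT n))
      (homBC_of_iso_right g' _ _ hρ E ((shiftFunctorAdd _ n (-1)).app T.obj₂) (h₂ _))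
      (homBC_of_iso_right g' _ _ hρ E ((shiftFunctorAdd _ n (-1)).app T.obj₃) (h₃ _))
      (h₂ n)
      (homBC_of_iso_right g' _ _ hρ E ((shiftEquiv (DCoh.D X) (1 : ℤ)).counitIso.app _).symm (h₃ n))
  · haveI : IsAffine (V : Scheme.{u}) := hV
    let j := V.ι
    let W := g' ⁻¹ᵁ V
    haveI : IsAffine (W : Scheme.{u}) := hV.preimage g'
    let g'' : (W : Scheme.{u}) ⟶ V := g' ∣_ V
    have h₁ : IsPullback g'' W.ι j g' := isPullback_morphismRestrict g' V
    haveI : Flat g'' := MorphismProperty.of_isPullback (P := @Flat) h₁.flip inferInstance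
    haveI : QuasiCompact j := quasiCompact_of_compactSpace j
    haveI := hasLpull g''; haveI := hasLpull j
    haveI : SiteCmp.HasRpushD (ModSite.RMor.ofScheme j) := ‹DCoh.HasRpush j›
    obtain ⟨hsh, -⟩ := SiteCmpLib.exists_triangulated_rpushD (ModSite.RMor.ofScheme j)
    letI : (DCoh.Rpush j).CommShift ℤ := hsh
    have hN' : DCoh.IsQCohD (N⟦n⟧) := fun i => isQCoh_of_iso'
      (((DerivedCategory.homologyFunctor _ 0).shiftIso n i (n + i) rfl).app _).symm (hN (n + i))
    refine homBC_of_iso_right g' _ _ hρ E (((DCoh.Rpush j).commShiftIso n).app N) ?_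
    have h₂ : IsPullback g'' (W.ι ≫ f') (j ≫ f) g := h₁.paste_vert hsq
    have hp0 := isPushout_appTop_of_isPullback h₂
    have hp : IsPushout (CommRingCat.ofHom (algebraMap Γ(Y, ⊤) Γ(Y', ⊤)))
        (CommRingCat.ofHom (show Γ(Y, ⊤) →+* Γ((V : Scheme.{u}), ⊤) from (j ≫ f).appTop.hom))
        (CommRingCat.ofHom (show Γ(Y', ⊤) →+* Γ((W : Scheme.{u}), ⊤) from (W.ι ≫ f').appTop.hom)) g''.appTop := by
      rw [halg]
      exact hp0.flip
    refine homBC_rpush g' j W.ι g'' h₁ _ _ hρ ((j ≫ f).appTop.hom) (fun r => ?_) ((W.ι ≫ f').appTop.hom)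
      (fun r => ?_) (fun r => ?_) E (N⟦n⟧) hN' ?_
    · rw [Scheme.Hom.comp_appTop]
      rfl
    · rw [Scheme.Hom.comp_appTop]
      rfl
    · rw [show (algebraMap Γ(Y, ⊤) Γ(Y', ⊤)) r = g.appTop r from RingHom.congr_fun halg r]
      exact fa_square (j ≫ f) g (W.ι ≫ f') g'' h₂.w r
    · exact homBC_affine g'' _ _ _ hp (isPerfect_lpull j E hE) (N⟦n⟧) hN'

end Global

end Groth.Agent.TwistShriek
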