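import Groth.Agent.BlowChartLib.Regular
import Groth.Agent.HilbertRegLib.Basic

/-!
# The charts of the blow-up of a maximal ideal with two quasi-regular generators
-/

set_option autoImplicit false
set_option backward.isDefEq.respectTransparency false
set_option maxHeartbeats 800000

universe u

open MvPolynomial Groth.Agent.BlowChartLib

namespace Groth.Agent.TwistShriek.PointChart

variable {A : Type u} [CommRing A] {I : Ideal A} {f : Fin 2 → A}

local notation "B[" i "]" => BlowUp.affineAlgebra A I (f i)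

theorem other_ne (i : Fin 2) : i + 1 ≠ i := by fin_cases i <;> decide

theorem eq_or (i j : Fin 2) : j = i ∨ j = i + 1 := by fin_cases i <;> fin_cases j <;> decide

/-- The presentation by one variable. -/
theorem exists_poly (hq : CAlgX.IsQuasiRegular f) (hI : I = Ideal.span (Set.range f)) (i : Fin 2) :
    ∃ Ψ : Polynomial A →+* B[i], Function.Surjective Ψ ∧ (∀ r, Ψ (Polynomial.C r) = algebraMap A B[i] r) ∧
      (∀ h : f (i + 1) ∈ I, Ψ Polynomial.X = frac (f (i + 1)) h) ∧
        ∀ P, Ψ P ∈ Ideal.span {algebraMap A B[i] (f i)} ↔ ∀ m, P.coeff m ∈ I := by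
  classical
  have hmem : ∀ j, f j ∈ I := fun j => hI ▸ Ideal.subset_span ⟨j, rfl⟩
  let Ψ : Polynomial A →+* B[i] :=
    Polynomial.eval₂RingHom (algebraMap A B[i]) (frac (f (i + 1)) (hmem _))
  have hC : ∀ r, Ψ (Polynomial.C r) = algebraMap A B[i] r := fun r => Polynomial.eval₂_C _ _
  have hX : Ψ Polynomial.X = frac (f (i + 1)) (hmem _) := Polynomial.eval₂_X _ _
  have hsurj : Function.Surjective Ψ := fun z =>
    induction_frac (P := fun z => z ∈ Ψ.range) (fun r => ⟨_, hC r⟩)
      (fun x hx => by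
        obtain ⟨c, hc⟩ := Ideal.mem_span_range_iff_exists_fun.1 (hI.le hx)
        rw [frac_linear (a := f i) c f hmem x hx hc]
        refine sum_mem fun j _ => mul_mem ⟨_, hC (c j)⟩ ?_
        rcases eq_or i j with rfl | rfl
        · exact ⟨1, (Ψ.map_one).trans (frac_self (hmem j)).symm⟩
        · exact ⟨_, hX⟩)
      (fun x y => Subring.add_mem _) (fun x y => Subring.mul_mem _) z
  refine ⟨Ψ, hsurj, hC, fun h => hX, fun P => ⟨fun hP m => ?_, fun hP => ?_⟩⟩
  · obtain ⟨z, hz⟩ := Ideal.mem_span_singleton'.1 hP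
    obtain ⟨Q, rfl⟩ := hsurj z
    let j₁ : {j : Fin 2 // j ≠ i} := ⟨i + 1, other_ne i⟩
    let τ : Polynomial A →+* MvPolynomial {j : Fin 2 // j ≠ i} A := Polynomial.eval₂RingHom C (X j₁)
    let v : {j : Fin 2 // j ≠ i} → Localization.Away (f i) := fun j => (frac (a := f i) (f j.1) (hmem j.1)).val
    have hval : (eval₂Hom (algebraMap A (Localization.Away (f i))) v).comp τ =
        (BlowUp.affineAlgebra A I (f i)).val.toRingHom.comp Ψ :=
      Polynomial.ringHom_ext
        (fun r => by
          show eval₂Hom (algebraMap A (Localization.Away (f i))) v (Polynomial.eval₂ C (X j₁) (Polynomial.C r)) =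
            (Ψ (Polynomial.C r)).val
          rw [Polynomial.eval₂_C, eval₂Hom_C, hC]
          rfl)
        (by
          show eval₂Hom (algebraMap A (Localization.Away (f i))) v (Polynomial.eval₂ C (X j₁) Polynomial.X) =
            (Ψ Polynomial.X).val
          rw [Polynomial.eval₂_X, eval₂Hom_X', hX])
    have h0 : Ψ (P - Polynomial.C (f i) * Q) = 0 := by
      rw [map_sub, map_mul, hC, mul_comm, hz, sub_self]
    have hR := coeff_mem_of_eval₂_eq_zero hq i v (fun j => val_frac (f j.1) (hmem j.1))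
      (τ (P - Polynomial.C (f i) * Q))
      ((RingHom.congr_fun hval _).trans (congrArg Subtype.val h0)) (Finsupp.single j₁ m)
    have hτ : ∀ R : Polynomial A, (τ R).coeff (Finsupp.single j₁ m) = R.coeff m := fun R => by
      induction R using Polynomial.induction_on' with
      | add p q hp hq => rw [map_add, coeff_add, hp, hq, Polynomial.coeff_add]
      | monomial n r =>
        show (Polynomial.eval₂ C (X j₁) (Polynomial.monomial n r)).coeff (Finsupp.single j₁ m) = _
        rw [Polynomial.eval₂_monomial, coeff_C_mul, coeff_X_pow, Polynomial.coeff_monomial]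
        by_cases hnm : n = m
        · subst hnm; simp
        · rw [if_neg hnm, if_neg fun h => hnm (Finsupp.single_injective j₁ h), mul_zero]
    rw [hτ, ← hI, Polynomial.coeff_sub, Polynomial.coeff_C_mul] at hR
    simpa using add_mem hR (Ideal.mul_mem_right (Q.coeff m) I (hmem i))
  · rw [P.as_sum_range_C_mul_X_pow, map_sum]
    refine Ideal.sum_mem _ fun m _ => ?_
    rw [map_mul, hC]
    exact Ideal.mul_mem_right _ _ ((map_eq_span (hmem i)).le (Ideal.mem_map_of_mem _ (hP m)))

variable (hq : CAlgX.IsQuasiRegular f) (hI : I = Ideal.span (Set.range f))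
include hq hI

/-- The exceptional divisor is irreducible in a chart. -/
theorem isPrime_exceptional (hp : I.IsPrime) (i : Fin 2) :
    (Ideal.span {algebraMap A B[i] (f i)}).IsPrime := by
  haveI := hp
  obtain ⟨Ψ, hΨ, hC, -, hmem⟩ := exists_poly hq hI i
  let Φ : Polynomial A →+* Polynomial (A ⧸ I) := Polynomial.mapRingHom (Ideal.Quotient.mk I)
  have hk : ∀ P, Ψ P ∈ Ideal.span {algebraMap A B[i] (f i)} ↔ Φ P = 0 := fun P => by
    rw [hmem, Polynomial.ext_iff]
    simp [Φ, Polynomial.coeff_map, Ideal.Quotient.eq_zero_iff_mem]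
  refine ⟨fun h => ?_, fun {z w} h => ?_⟩
  · have h1 := (hk 1).1 (by rw [h]; trivial)
    rw [map_one] at h1
    exact one_ne_zero h1
  · obtain ⟨P, rfl⟩ := hΨ z
    obtain ⟨Q, rfl⟩ := hΨ w
    rw [← map_mul, hk, map_mul, mul_eq_zero] at h
    exact h.imp (hk P).2 (hk Q).2

/-- The fraction is a nonzero divisor on the exceptional divisor. -/
theorem mem_of_frac_mul (i : Fin 2) (h1 : f (i + 1) ∈ I) (z : B[i])
    (h : frac (f (i + 1)) h1 * z ∈ Ideal.span {algebraMap A B[i] (f i)}) :
    z ∈ Ideal.span {algebraMap A B[i] (f i)} := by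
  obtain ⟨Ψ, hΨ, hC, hX, hmem⟩ := exists_poly hq hI i
  obtain ⟨P, rfl⟩ := hΨ z
  rw [← hX h1, ← map_mul, hmem] at h
  exact (hmem P).2 fun m => by simpa using h (m + 1)

/-- The point of the exceptional divisor where the fraction vanishes. -/
theorem exists_point (i : Fin 2) (h1 : f (i + 1) ∈ I) :
    ∃ φ : B[i] →+* A ⧸ I, (∀ r, φ (algebraMap A B[i] r) = Ideal.Quotient.mk I r) ∧ φ (frac (f (i + 1)) h1) = 0 ∧
      RingHom.ker φ = Ideal.span {algebraMap A B[i] (f i), frac (f (i + 1)) h1} := by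
  obtain ⟨Ψ, hΨ, hC, hX, hmem⟩ := exists_poly hq hI i
  have hfi : f i ∈ I := hI ▸ Ideal.subset_span ⟨i, rfl⟩
  let g : Polynomial A →+* A ⧸ I := (Ideal.Quotient.mk I).comp Polynomial.constantCoeff
  have hk : RingHom.ker Ψ ≤ RingHom.ker g := fun P hP => by
    refine Ideal.Quotient.eq_zero_iff_mem.2 ((hmem P).1 ?_ 0)
    rw [show Ψ P = 0 from hP]
    exact zero_mem _
  let φ : B[i] →+* A ⧸ I := RingHom.liftOfSurjective Ψ hΨ ⟨g, hk⟩
  have hφ : ∀ P, φ (Ψ P) = g P := fun P => RingHom.liftOfRightInverse_comp_apply _ _ _ ⟨g, hk⟩ P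
  have h1φ : ∀ r, φ (algebraMap A B[i] r) = Ideal.Quotient.mk I r := fun r => by
    rw [← hC, hφ]; simp [g]
  have h2φ : φ (frac (f (i + 1)) h1) = 0 := by
    rw [← hX h1, hφ]; simp [g]
  refine ⟨φ, h1φ, h2φ, le_antisymm (fun z hz => ?_) ?_⟩
  · obtain ⟨P, rfl⟩ := hΨ z
    rw [RingHom.mem_ker, hφ] at hz
    rw [← Polynomial.X_mul_divX_add P, map_add, map_mul, hX h1, hC]
    refine add_mem (Ideal.mul_mem_right _ _ (Ideal.subset_span (Set.mem_insert_of_mem _ rfl))) ?_
    exact Ideal.span_mono (Set.singleton_subset_iff.2 (Set.mem_insert _ _))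
      ((map_eq_span hfi).le (Ideal.mem_map_of_mem _ (Ideal.Quotient.eq_zero_iff_mem.1 hz)))
  · rw [Ideal.span_le, Set.insert_subset_iff, Set.singleton_subset_iff]
    exact ⟨RingHom.mem_ker.2 ((h1φ _).trans (Ideal.Quotient.eq_zero_iff_mem.2 hfi)), RingHom.mem_ker.2 h2φ⟩

end Groth.Agent.TwistShriek.PointChart
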