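import Groth.Agent.TwistShriek.PointExc
import Groth.Agent.TwistShriek.NumBase
import Groth.Agent.TwistShriek.SurfCurve
import Groth.Agent.ProdDim.Basic
import Groth.Agent.S11746

/-!
# Intersection numbers on the blow-up of a point of a surface
-/

set_option autoImplicit false
set_option backward.isDefEq.respectTransparency false
set_option backward.isDefEq.respectTransparency.types false
set_option linter.style.haveILetI false
set_option maxHeartbeats 1000000

universe u

open CategoryTheory CategoryTheory.Limits AlgebraicGeometry TopologicalSpace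
open Groth.Agent.Nakai Groth.Agent.IntLib

noncomputable section

namespace Groth.Agent.TwistShriek.PointBlow

variable {X X' : Scheme.{u}} {x : X} {hx : IsClosed ({x} : Set X)} {π : X' ⟶ X}
variable (hb : BlowUp.IsBlowUp π (pointIdeal hx))

include hb in
/-- The exceptional divisor has dimension at most one. -/
theorem topologicalKrullDim_E_le (P : PointParams hx) : topologicalKrullDim (E π hx) ≤ 1 := by
  haveI := P.isMaximal
  rw [DimFormulaLib.topologicalKrullDim_eq_iSup_stalk]
  refine iSup_le fun y => ?_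
  obtain ⟨i, z, rfl⟩ := d_cover hb P y
  rw [ringKrullDim_eq_of_ringEquiv (asIso ((d hb P i).stalkMap z)).commRingCatIsoToRingEquiv]
  letI : Algebra (C P i) ((Spec (CommRingCat.of (C P i))).presheaf.stalk z) := StructureSheaf.stalkAlgebra (C P i) z
  haveI : IsLocalization.AtPrime ((Spec (CommRingCat.of (C P i))).presheaf.stalk z) z.asIdeal :=
    StructureSheaf.IsLocalization.to_stalk (C P i) z
  rw [IsLocalization.AtPrime.ringKrullDim_eq_height z.asIdeal]
  refine le_trans (Ideal.height_le_ringKrullDim_of_ne_top z.isPrime.ne_top) ?_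
  obtain ⟨Ψ, hΨ, -, -, hmem⟩ := PointChart.exists_poly P.quasiRegular P.span_eq i
  letI : Field (Γ(X, P.U.1) ⧸ (pointIdeal hx).ideal P.U) := Ideal.Quotient.field _
  let Φ : Polynomial Γ(X, P.U.1) →+* Polynomial (Γ(X, P.U.1) ⧸ (pointIdeal hx).ideal P.U) :=
    Polynomial.mapRingHom (Ideal.Quotient.mk _)
  have hΦ : Function.Surjective Φ := Polynomial.map_surjective _ Ideal.Quotient.mk_surjective
  have hk : RingHom.ker Φ ≤ RingHom.ker ((qC P i).comp Ψ) := fun p hp => by
    refine Ideal.Quotient.eq_zero_iff_mem.2 ((hmem p).2 fun m => ?_)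
    have h1 := congrArg (fun q => Polynomial.coeff q m) (show Φ p = 0 from hp)
    simpa [Φ, Polynomial.coeff_map, Ideal.Quotient.eq_zero_iff_mem] using h1
  have hs : Function.Surjective (RingHom.liftOfSurjective Φ hΦ ⟨_, hk⟩) := fun c => by
    obtain ⟨b, rfl⟩ := Ideal.Quotient.mk_surjective c
    obtain ⟨p, rfl⟩ := hΨ b
    exact ⟨Φ p, RingHom.liftOfRightInverse_comp_apply _ _ _ ⟨_, hk⟩ p⟩
  refine (ringKrullDim_le_of_surjective _ hs).trans ?_
  rw [Polynomial.ringKrullDim_of_isNoetherianRing, ringKrullDim_eq_zero_of_field, zero_add]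

variable (k : Type u) [Field k] [X.Over (Spec (CommRingCat.of k))] [X'.Over (Spec (CommRingCat.of k))]
  [IsProper (X ↘ Spec (CommRingCat.of k))] [IsProper (X' ↘ Spec (CommRingCat.of k))]

omit [X'.Over (Spec (CommRingCat.of k))] [IsProper (X' ↘ Spec (CommRingCat.of k))] in
/-- The Euler characteristic of a closed point is the degree of its residue field. -/
theorem euler_quotMod_point {x : X} (hx : IsClosed ({x} : Set X)) :
    letI : Algebra k (X.residueField x) := Curv2.resAlgebra k X x
    Curv2.euler k X (ClSub.quotMod (pointIdeal hx)) = (Module.finrank k (X.residueField x) : ℤ) := by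
  letI : Algebra k (X.residueField x) := Curv2.resAlgebra k X x
  haveI := EulerIneqLib.isNoetherian_proper (X := X) k
  let s := X.fromSpecResidueField x
  haveI : IsClosedImmersion s := IsClosedImmersion.of_isPreimmersion s (by
    rw [Scheme.range_fromSpecResidueField]; exact hx)
  have hk : s.ker = pointIdeal hx := by
    obtain ⟨z, hz⟩ := BMCohLib.exists_lift_vanishingIdeal s (⟨{x}, hx⟩ : Closeds X)
      (by rw [Scheme.range_fromSpecResidueField]; rfl)
    haveI : IsClosedImmersion (z ≫ (pointIdeal hx).subschemeι) := by rw [hz]; infer_instance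
    haveI : IsClosedImmersion z := IsClosedImmersion.of_comp z (pointIdeal hx).subschemeι
    haveI : Surjective z := ⟨fun a => ⟨default, (pointIdeal hx).subschemeι.isClosedEmbedding.injective (by
      have h1 : (pointIdeal hx).subschemeι a ∈ ((pointIdeal hx).support : Set X) :=
        (Scheme.IdealSheafData.range_subschemeι (pointIdeal hx)) ▸ ⟨a, rfl⟩
      rw [Scheme.IdealSheafData.coe_support_vanishingIdeal] at h1
      rw [← Scheme.Hom.comp_apply, hz]
      exact (Scheme.fromSpecResidueField_apply x _).trans (h1 : _ = x).symm)⟩⟩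
    haveI : IsReduced (pointIdeal hx).subscheme := DVRCrit.isReduced_vanishingIdeal _
    haveI : IsIso z := isIso_of_isClosedImmersion_of_surjective _
    rw [← hz, Scheme.Hom.ker_comp_of_isIso, Scheme.IdealSheafData.ker_subschemeι]
  rw [← hk, euler_quotMod_ker k s]
  let Z := Spec (CommRingCat.of (X.residueField x))
  letI : Z.Over (Spec (CommRingCat.of k)) := ⟨s ≫ (X ↘ Spec (CommRingCat.of k))⟩
  haveI : IsProper (Z ↘ Spec (CommRingCat.of k)) :=
    inferInstanceAs (IsProper (s ≫ (X ↘ Spec (CommRingCat.of k))))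
  haveI : IsLocallyNoetherian Z := LocallyOfFiniteType.isLocallyNoetherian s
  haveI : Coh.IsQCoh (Coh.structureModule Z) := (DevLib.isCoh_structureModule Z).1
  have hv : ∀ p, 1 ≤ p → Subsingleton (Coh.HH Z (Coh.structureModule Z) p) := fun p hp => by
    obtain ⟨m, rfl⟩ := Nat.exists_eq_add_of_le hp
    rw [add_comm]
    exact CohBase.subsingleton_HH (Coh.structureModule Z) (m + 1)
      (CohBase.affine_vanishing (Coh.structureModule Z) (W := ⊤) (isAffineOpen_top _) m)
  show Curv2.euler k Z (Coh.structureModule Z) = _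
  rw [CurveLib.euler_eq_sum (K := k) _ 1 hv, Finset.sum_range_one, pow_zero, one_mul]
  norm_cast
  letI : Algebra k Γ(Z, ⊤) := (Coh.toGlobal (Z ↘ Spec (CommRingCat.of k))).toAlgebra
  let el : Coh.HH Z (Coh.structureModule Z) 0 ≃ₗ[k] Γ(Z, ⊤) :=
    { (CurveLib.secOf (Coh.structureModule Z)) with map_smul' := fun r c => CurveLib.secOf_smul (k := k) _ r c }
  rw [el.finrank_eq]
  let ρ : Γ(Z, ⊤) ≃+* X.residueField x := (Scheme.ΓSpecIso (X.residueField x)).commRingCatIsoToRingEquiv
  have hρ : ∀ c : k, ρ (algebraMap k Γ(Z, ⊤) c) = algebraMap k (X.residueField x) c := fun c => by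
    have h1 : s.appTop ≫ (Scheme.ΓSpecIso (X.residueField x)).hom = X.presheaf.germ ⊤ x trivial ≫ X.residue x := by
      show (Spec.map (X.residue x) ≫ X.fromSpecStalk x).appTop ≫ _ = _
      rw [Scheme.Hom.comp_appTop, Category.assoc, Scheme.ΓSpecIso_naturality, Scheme.fromSpecStalk_appTop]
      simp
    show ((Scheme.ΓSpecIso (CommRingCat.of k)).inv ≫ (s ≫ (X ↘ Spec (CommRingCat.of k))).appTop ≫
        (Scheme.ΓSpecIso (X.residueField x)).hom).hom c =
      ((Scheme.ΓSpecIso (CommRingCat.of k)).inv ≫ (X ↘ Spec (CommRingCat.of k)).appTop ≫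
        X.presheaf.germ ⊤ x trivial ≫ X.residue x).hom c
    rw [Scheme.Hom.comp_appTop, Category.assoc, h1]
  have hlin : ∀ (c : k) (a : Γ(Z, ⊤)), ρ (c • a) = c • ρ a := fun c a => by
    rw [Algebra.smul_def, Algebra.smul_def, map_mul, hρ]
  exact (ρ.toAddEquiv.toLinearEquiv hlin).finrank_eq

include hb in
/-- The self intersection of the exceptional divisor. -/
theorem form_exceptional (P : PointParams hx) (hπk : π ≫ (X ↘ Spec (CommRingCat.of k)) = X' ↘ Spec (CommRingCat.of k))
    (hI : PicF.IsInvertible (ClSub.idealMod (BlowUp.exceptional π (pointIdeal hx)))) :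
    form k (cl hI) (cl hI) = - Curv2.euler k X (ClSub.quotMod (pointIdeal hx)) := by
  haveI := EulerIneqLib.isNoetherian_proper (X := X) k
  haveI := EulerIneqLib.isNoetherian_proper (X := X') k
  obtain ⟨F, _, σ, hσi, hker, hci, hσc, hmk⟩ := exists_point_exceptional hb P
  letI : (E π hx).Over (Spec (CommRingCat.of k)) := ⟨jE π hx ≫ (X' ↘ Spec (CommRingCat.of k))⟩
  haveI : IsProper (E π hx ↘ Spec (CommRingCat.of k)) :=
    inferInstanceAs (IsProper (jE π hx ≫ (X' ↘ Spec (CommRingCat.of k))))
  haveI := EulerIneqLib.isNoetherian_proper (X := E π hx) k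
  obtain ⟨q⟩ := nonempty_quotMod_ker_iso (jE π hx)
  rw [Scheme.IdealSheafData.ker_subschemeι] at q
  have hM : PicF.IsInvertible (ClSub.idealMod σ.ker) := (S8914.result _).2 hσc
  have hN := AmpleLib.isInvertible_pullback (jE π hx) hI
  have hc : cl hN + cl hM + cl hN * cl hM = 0 := by
    rw [← cl_tensor hN hM, cl, show inv' (AmpleLib.isInvertible_tensor hN hM) = 1 from
      Subtype.ext ((IntLib.mk_tensor _ _).trans hmk), map_one, sub_self]
  have hcoh := DevLib.isCoh_structureModule (E π hx)
  have hprod : pairing k (Coh.structureModule (E π hx)) (cl hN * cl hM) = 0 := by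
    rw [cl_eq_neg_dif, cl_eq_neg_dif, neg_mul_neg]
    have h := IntLib.pairing_prod_eq_zero k (r := 2) hcoh
      (lt_of_le_of_lt ((topologicalKrullDim_subspace_le (E π hx) _).trans (topologicalKrullDim_E_le hb P)) (by norm_num))
      ![_, _] (Fin.forall_fin_two.2 ⟨hN, hM⟩)
    rw [Fin.prod_univ_two] at h
    exact h
  have hM1 : pairing k (Coh.structureModule (E π hx)) (cl hM) = - Curv2.euler k (E π hx) (ClSub.quotMod σ.ker) := by
    have h := IntLib.pairing_quotMod k hM 1
    rw [mul_one] at h
    rw [cl_eq_neg_dif, map_neg, ← h, ← map_one (MonoidAlgebra.of ℤ (IntLib.Inv (E π hx))), IntLib.pairing_of]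
    congr 1
    show IntLib.chiC k (IntLib.mk _ * 1) = _
    rw [mul_one]
    rfl
  have h0 := congrArg (pairing k (Coh.structureModule (E π hx))) hc
  rw [map_add, map_add, hprod, add_zero, map_zero, hM1] at h0
  have h1 : pairing k (ClSub.quotMod (BlowUp.exceptional π (pointIdeal hx))) (cl hI) = - form k (cl hI) (cl hI) :=
    pairing_quotMod_cl k hI (cl hI)
  rw [IntLib.pairing_iso k q, Nakai.pairing_push k (jE π hx) rfl hcoh, Nakai.pullRing_cl] at h1
  have h2 : Curv2.euler k (E π hx) (ClSub.quotMod σ.ker) = Curv2.euler k X (ClSub.quotMod (pointIdeal hx)) := by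
    haveI := hσi
    haveI := hci
    rw [← hker, euler_quotMod_ker k σ, euler_quotMod_ker k (σ ≫ jE π hx ≫ π)]
    congr 1
    refine congrArg (fun f => (⟨f⟩ : (Spec (CommRingCat.of F)).Over (Spec (CommRingCat.of k)))) ?_
    show σ ≫ jE π hx ≫ (X' ↘ Spec (CommRingCat.of k)) = (σ ≫ jE π hx ≫ π) ≫ (X ↘ Spec (CommRingCat.of k))
    rw [← hπk]
    simp only [Category.assoc]
  linarith

include hb in
/-- Pullbacks from the base are orthogonal to the exceptional divisor. -/
theorem intNum_pullback_exceptional (P : PointParams hx)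
    (hπk : π ≫ (X ↘ Spec (CommRingCat.of k)) = X' ↘ Spec (CommRingCat.of k))
    (hd : topologicalKrullDim X ≤ ((2 : ℕ) : WithBot ℕ∞)) (hd' : topologicalKrullDim X' ≤ ((2 : ℕ) : WithBot ℕ∞))
    (hI : PicF.IsInvertible (ClSub.idealMod (BlowUp.exceptional π (pointIdeal hx)))) {L : X.Modules}
    (hL : PicF.IsInvertible L) :
    form k (cl (AmpleLib.isInvertible_pullback π hL)) (cl hI) = 0 := by
  haveI := EulerIneqLib.isNoetherian_proper (X := X) k
  haveI := EulerIneqLib.isNoetherian_proper (X := X') k
  haveI := isProper hb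
  let I := BlowUp.exceptional π (pointIdeal hx)
  have hc : Coh.IsCoh (ClSub.quotMod I) := IntLib.isCoh_quotMod I
  have hsupp : CohB1.support (ClSub.quotMod I) ⊆ Set.range (jE π hx) := by
    rw [Scheme.IdealSheafData.range_subschemeι]; exact IntLib.support_quotMod_subset I
  have hdE : topologicalKrullDim (CohB1.support (ClSub.quotMod I)) ≤ ((1 : ℕ) : WithBot ℕ∞) := by
    refine ((Topology.IsEmbedding.inclusion hsupp).toIsInducing.topologicalKrullDim_le).trans ?_
    rw [← ((jE π hx).isEmbedding.toHomeomorph).isHomeomorph.topologicalKrullDim_eq]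
    exact topologicalKrullDim_E_le hb P
  have h := S11746.result k X X' π hπk 2 2 hd hd' ![L] (Fin.forall_fin_one.2 hL) (ClSub.quotMod I) hc hdE
  rw [IntLib.intNum_eq k hd' _ _ (Fin.forall_fin_one.2 (AmpleLib.isInvertible_pullback π hL)),
    IntLib.intNum_eq k hd _ _ (Fin.forall_fin_one.2 hL), Fin.prod_univ_one, Fin.prod_univ_one] at h
  haveI : Coh.IsQCoh (ClSub.quotMod I) := hc.1
  have hpc : Coh.IsCoh ((Coh.push π).obj (ClSub.quotMod I)) := RpushLib.isCoh_push π hc
  have hps : CohB1.support ((Coh.push π).obj (ClSub.quotMod I)) ⊆ {x} := by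
    refine (CycLib.support_push_subset π (DevLib.isClosed_support hc)).trans ?_
    rintro _ ⟨y, hy, rfl⟩
    obtain ⟨e, rfl⟩ := hsupp hy
    have h' : jE π hx e ∈ (((pointIdeal hx).comap π).support : Set X') := by
      rw [← Scheme.IdealSheafData.range_subschemeι]; exact ⟨e, rfl⟩
    rwa [Scheme.IdealSheafData.support_comap, TopologicalSpace.Closeds.coe_preimage,
      Scheme.IdealSheafData.coe_support_vanishingIdeal] at h'
  have h0 := IntLib.pairing_prod_eq_zero k (r := 1) hpc (lt_of_le_of_lt
    ((Topology.IsEmbedding.inclusion hps).toIsInducing.topologicalKrullDim_le.trans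
      (topologicalKrullDim_zero_of_discreteTopology ({x} : Set X))) (by norm_num)) ![L] (Fin.forall_fin_one.2 hL)
  rw [Fin.prod_univ_one] at h0
  rw [form_comm]
  have h1 := pairing_quotMod_cl k hI (cl (AmpleLib.isInvertible_pullback π hL))
  rw [cl_eq_neg_dif (AmpleLib.isInvertible_pullback π hL), map_neg] at h1
  rw [cl_eq_neg_dif (AmpleLib.isInvertible_pullback π hL)]
  have h2 : pairing k (ClSub.quotMod I) (dif (AmpleLib.isInvertible_pullback π hL)) = 0 := h.trans h0
  linarith

end Groth.Agent.TwistShriek.PointBlow
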