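import Groth.Agent.DerSchH7.Vanish
import Groth.Agent.DRingLib.TensorAmp
import Groth.Agent.DRingLib.FlatCoker
import Groth.Agent.DCohMore.RpushRelTor
import Groth.Agent.FMKLib.NatPF
import Groth.Agent.DCohMore.PerfHom

/-!
# Tor amplitude of direct images relative to a base
-/

set_option autoImplicit false
set_option linter.style.haveILetI false
set_option backward.isDefEq.respectTransparency false
set_option maxHeartbeats 1000000

universe u

open CategoryTheory CategoryTheory.Limits AlgebraicGeometry MonoidalCategory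
open Groth.Agent.DCohLib Groth.Agent.DCohMore Groth.Agent.DRingLib Groth.Agent.DerSchH7 Groth.Agent.DTenLib

attribute [local instance] HasDerivedCategory.standard

noncomputable section

namespace Groth.Agent.TwistShriek

/-- Tor amplitude from an upper bound and tensor products with resolutions of modules. -/
theorem amp_of_exactAt_tensor {A : Type u} [CommRing A] (G : DRing.Cx A) (a b : ℤ)
    (hb : ∀ i : ℤ, b < i → G.ExactAt i)
    (h : ∀ M : ModuleCat.{u} A, ∃ P : DRing.Cx A, DRing.IsKFlat A P ∧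
      Nonempty (DRing.toD P ≅ DRing.toD ((HomologicalComplex.single (ModuleCat.{u} A) (ComplexShape.up ℤ) 0).obj M)) ∧
      ∀ i : ℤ, i < a → (G ⊗ P : DRing.Cx A).ExactAt i) :
    DRing.HasTorAmplitudeIn A a b (DRing.toD G) := by
  haveI := hasLTen A
  obtain ⟨R, hR, hRp, ⟨eR⟩⟩ := exists_proj_representative (n := b) (K := DRing.toD G) fun i hi =>
    (exactAt_iff_isZero_homologyFunctor _ _).1 (hb i (by omega))
  have hRk : DRing.IsKFlat A R := isKFlat_of_projective hR hRp
  refine amp_of_iso eR ((tensVanish_iff hR (termwiseFlat_of_projective hRp) a b).2 fun M i hi => ?_)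
  rcases hi with hi | hi
  · obtain ⟨P, hP, ⟨eP⟩, hex⟩ := h M
    obtain ⟨t⟩ := nonempty_tensorLeft_iso M hRk
    haveI := isIso_ε_left P G hP
    exact exactAt_of_toD_iso (t ≪≫ (DTen.LTen₂ A).mapIso (Iso.prod eP.symm eR) ≪≫
      asIso ((DTen.ε A).app (P, G)) ≪≫ DerivedCategory.Q.mapIso (DTen.braidCx P G)).symm i (hex i hi)
  · exact ShortComplex.exact_of_isZero_X₂ _ ((tensorLeft M).map_isZero (hR i hi))

variable {X Y S : Scheme.{u}}

/-- Direct images of complexes of finite tor amplitude over a quasi-separated base. -/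
theorem hasTorAmplitudeD_rpush_of_qs [QuasiSeparatedSpace S] (p : X ⟶ S) (q : Y ⟶ S) (f : X ⟶ Y) (w : f ≫ q = p)
    [QuasiCompact f] [QuasiSeparated f] [DCoh.HasRpush f] (F : CochainComplex X.Modules ℤ)
    (hq : DCoh.IsQCohD (DerivedCategory.Q.obj F)) {a b c : ℤ}
    (hF : DerSch.HasTorAmplitude p a b F) [((DCoh.Rpush f).obj (DerivedCategory.Q.obj F)).IsLE c] :
    DerSch.HasTorAmplitudeD q a c ((DCoh.Rpush f).obj (DerivedCategory.Q.obj F)) := by
  rintro G ⟨eG⟩ y
  subst w
  haveI := DCohLib.hasLpull f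
  haveI := DCohLib.hasLpull q
  refine amp_of_exactAt_tensor _ a c (fun i hi => ?_) fun M => ?_
  · rw [HomologicalComplex.exactAt_iff_isZero_homology]
    exact ((DerSch.stalkOver q y).map_isZero
      (((DerivedCategory.isLE_iff _ c).1 ‹_› i hi).of_iso
        (((DerivedCategory.homologyFunctorFactors Y.Modules i).app G).symm ≪≫
          (DerivedCategory.homologyFunctor Y.Modules i).mapIso eG))).of_iso
      ((G.sc i).mapHomologyIso (DerSch.stalkOver q y))
  obtain ⟨Nm, hNm, ⟨eN⟩⟩ := exists_qcoh_stalk_iso (z := q.base y) M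
  let P := (resX S).obj (sgl₀ Nm)
  have hP : DCoh.IsKFlat P := isKFlat_resX _
  let eP : DerivedCategory.Q.obj P ≅ DerivedCategory.Q.obj (sgl₀ Nm) := @asIso _ _ _ _ _ (isIso_Q_resXπ (sgl₀ Nm))
  refine ⟨((stkF (q.base y)).mapHomologicalComplex (ComplexShape.up ℤ)).obj P, (isKFlat_iff_stalk P).1 hP _,
    ⟨stalkToDIso (q.base y) eP ≪≫
      DerivedCategory.Q.mapIso ((HomologicalComplex.singleMapHomologicalComplex (stkF (q.base y)) _ 0).app Nm) ≪≫
      DerivedCategory.Q.mapIso ((HomologicalComplex.single _ (ComplexShape.up ℤ) 0).mapIso eN)⟩, fun i hi => ?_⟩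
  have hPq : DCoh.IsQCohD (DerivedCategory.Q.obj P) := TildeD.isQCohD_of_iso eP.symm (isQCohD_sgl₀ Nm hNm)
  let K := (pullCx q).obj P
  let L := (pullCx (f ≫ q)).obj P
  have hK : DCoh.IsKFlat K := isKFlat_pullback q hP
  have hKq : DCoh.IsQCohD (DerivedCategory.Q.obj K) :=
    TildeD.isQCohD_of_iso (lpullIsoK q P hP) (TildeD.isQCohD_lpull q _ hPq)
  let cL : (pullCx f).obj K ≅ L :=
    (NatIso.mapHomologicalComplex (Scheme.Modules.pullbackComp f q) (ComplexShape.up ℤ)).app P
  let eL : DerivedCategory.Q.obj L ≅ (DCoh.Lpull f).obj (DerivedCategory.Q.obj K) :=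
    DerivedCategory.Q.mapIso cL.symm ≪≫ (lpullIsoK f K hK).symm
  have hL : DCoh.IsKFlat L := isKFlat_pullback (f ≫ q) hP
  have hLq : DCoh.IsQCohD (DerivedCategory.Q.obj L) :=
    TildeD.isQCohD_of_iso eL.symm (TildeD.isQCohD_lpull f _ hKq)
  obtain ⟨π⟩ := FMKLib.nonempty_proj_left f K hKq L eL
  let Z := (DCoh.LTensorCx L).obj (DerivedCategory.Q.obj F)
  have hz : ∀ j : ℤ, j < a ∨ b < j → IsZero (DCoh.HD Z j) := fun j hj =>
    ((HomologicalComplex.exactAt_iff_isZero_homology _ _).1
      (exactAt_tensor_pullback_of_amplitude (f ≫ q) F hF Nm P hP eP j hj)).of_iso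
      ((DerivedCategory.homologyFunctor X.Modules j).mapIso ((lTensorQIso L hL).app F) ≪≫
        (DerivedCategory.homologyFunctorFactors X.Modules j).app _)
  haveI : Z.IsGE a := (DerivedCategory.isGE_iff _ _).2 fun j hj => hz j (Or.inl hj)
  haveI := isGE_rpush f Z a
  let e : DerivedCategory.Q.obj ((DCoh.tensorCx.obj K).obj G) ≅ (DCoh.Rpush f).obj Z :=
    DerivedCategory.Q.mapIso (symS K G) ≪≫ ((lTensorQIso K hK).app G).symm ≪≫
      (DCoh.LTensorCx K).mapIso eG ≪≫ π.app ⟨DerivedCategory.Q.obj F, hq⟩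
  have h0 : IsZero (((DCoh.tensorCx.obj K).obj G).homology i) := by
    refine IsZero.of_iso ?_ (((DerivedCategory.homologyFunctorFactors Y.Modules i).app _).symm ≪≫
      (DerivedCategory.homologyFunctor Y.Modules i).mapIso e)
    exact (DerivedCategory.isGE_iff _ a).1 ‹_› i hi
  have h1 : ((DerSch.stalkCxOver q y).obj ((DCoh.tensorCx.obj K).obj G)).ExactAt i := by
    rw [HomologicalComplex.exactAt_iff_isZero_homology]
    exact ((DerSch.stalkOver q y).map_isZero h0).of_iso
      ((((DCoh.tensorCx.obj K).obj G).sc i).mapHomologyIso (DerSch.stalkOver q y))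
  exact h1.of_iso (stalkTensorPullIso q y P G)

/-- Tor amplitude relative to an open subscheme of the base. -/
theorem hasTorAmplitude_of_comp_open {U : Scheme.{u}} (g : X ⟶ U) (k : U ⟶ S) [IsOpenImmersion k]
    (F : CochainComplex X.Modules ℤ) {a b : ℤ} (h : DerSch.HasTorAmplitude (g ≫ k) a b F) :
    DerSch.HasTorAmplitude g a b F := fun x =>
  amp_of_restrict_bijective (k.stalkMap (g.base x)).hom
    (ConcreteCategory.bijective_of_isIso (k.stalkMap (g.base x))) _
    (amp_of_iso (DerivedCategory.Q.mapIso (stalkCxOverCompIso g k x F)) (h x))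

/-- Direct images of complexes of finite tor amplitude relative to a base. -/
theorem hasTorAmplitudeD_rpush (p : X ⟶ S) (q : Y ⟶ S) (f : X ⟶ Y) (w : f ≫ q = p)
    [QuasiCompact f] [QuasiSeparated f] [DCoh.HasRpush f] (F : CochainComplex X.Modules ℤ)
    (hq : DCoh.IsQCohD (DerivedCategory.Q.obj F)) {a b c : ℤ}
    (hF : DerSch.HasTorAmplitude p a b F) [((DCoh.Rpush f).obj (DerivedCategory.Q.obj F)).IsLE c] :
    DerSch.HasTorAmplitudeD q a c ((DCoh.Rpush f).obj (DerivedCategory.Q.obj F)) := by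
  rintro G ⟨eG⟩ y
  subst w
  obtain ⟨_, ⟨W : S.Opens, hW, rfl⟩, hy, -⟩ :=
    S.isBasis_affineOpens.exists_subset_of_mem_open (a := q.base y) (Set.mem_univ _) isOpen_univ
  haveI : IsAffine (W : Scheme.{u}) := hW
  let U := q ⁻¹ᵁ W
  let V := f ⁻¹ᵁ U
  let j := U.ι
  let fU := f ∣_ U
  let qW := q ∣_ W
  haveI := BC.hasRpush fU
  obtain ⟨eV⟩ := nonempty_restrictD_rpush f U
  let F' := (resCx V.ι).obj F
  have hF' : DerSch.HasTorAmplitude (fU ≫ qW) a b F' := by
    refine hasTorAmplitude_of_comp_open _ W.ι _ ?_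
    have e : (fU ≫ qW) ≫ W.ι = V.ι ≫ f ≫ q := by
      rw [Category.assoc, morphismRestrict_ι, morphismRestrict_ι_assoc]
    rw [e]
    exact DCohMore.hasTorAmplitude_restrict (f ≫ q) V.ι F hF
  let eF : DerivedCategory.Q.obj F' ≅ (DCoh.restrictD V.ι).obj (DerivedCategory.Q.obj F) := (restrictDQ V.ι F).symm
  let eR : (DCoh.restrictD j).obj ((DCoh.Rpush f).obj (DerivedCategory.Q.obj F)) ≅
      (DCoh.Rpush fU).obj (DerivedCategory.Q.obj F') := eV.app _ ≪≫ (DCoh.Rpush fU).mapIso eF.symm
  haveI : ((DCoh.Rpush fU).obj (DerivedCategory.Q.obj F')).IsLE c :=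
    (DerivedCategory.isLE_iff _ _).2 fun i hi =>
      ((Scheme.Modules.restrictFunctor j).map_isZero ((DerivedCategory.isLE_iff _ c).1 ‹_› i hi)).of_iso
        ((DerivedCategory.homologyFunctor (U : Scheme.{u}).Modules i).mapIso eR.symm ≪≫ restrictHDIso j _ i)
  have h1 := hasTorAmplitudeD_rpush_of_qs (fU ≫ qW) qW fU rfl F'
    (TildeD.isQCohD_of_iso eF.symm (TildeD.isQCohD_restrict _ _ hq)) hF' (c := c) ((resCx j).obj G)
    ⟨(restrictDQ j G).symm ≪≫ (DCoh.restrictD j).mapIso eG ≪≫ eR⟩
  have h2 := hasTorAmplitude_comp qW W.ι (hasTorDimLE_zero_of_flat W.ι) _ h1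
  rw [morphismRestrict_ι, add_zero, add_zero] at h2
  exact amp_of_iso (DerivedCategory.Q.mapIso
    (HomologicalComplex.Hom.isoOfComponents (fun n => (stalkOverRestrictIso q j ⟨y, hy⟩).app (G.X n))
      fun i k _ => ((stalkOverRestrictIso q j ⟨y, hy⟩).hom.naturality (G.d i k)).symm)) (h2 ⟨y, hy⟩)

/-- Cohomology vanishes outside a relative amplitude. -/
theorem isGE_isLE_of_hasTorAmplitude (p : X ⟶ S) (F : CochainComplex X.Modules ℤ) {a b : ℤ}
    (hF : DerSch.HasTorAmplitude p a b F) :
    (DerivedCategory.Q.obj F).IsGE a ∧ (DerivedCategory.Q.obj F).IsLE b := by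
  have hz : ∀ i : ℤ, i < a ∨ b < i → IsZero (DCoh.HD (DerivedCategory.Q.obj F) i) := fun i hi => by
    refine IsZero.of_iso ?_ ((DerivedCategory.homologyFunctorFactors X.Modules i).app F)
    refine isZero_of_stalks fun x => ?_
    obtain ⟨E, hE, -, ⟨e⟩⟩ := hF x
    have h1 : IsZero (((DerSch.stalkCxOver p x).obj F).homology i) :=
      ((HomologicalComplex.exactAt_iff_isZero_homology _ _).1
        (ShortComplex.exact_of_isZero_X₂ _ (hE i hi))).of_iso
        (((DerivedCategory.homologyFunctorFactors _ i).app _).symm ≪≫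
          (DerivedCategory.homologyFunctor _ i).mapIso e.symm ≪≫ (DerivedCategory.homologyFunctorFactors _ i).app _)
    exact ModuleCat.subsingleton_of_isZero (h1.of_iso ((F.sc i).mapHomologyIso (DerSch.stalkOver p x)).symm)
  exact ⟨(DerivedCategory.isGE_iff _ _).2 fun i hi => hz i (Or.inl hi),
    (DerivedCategory.isLE_iff _ _).2 fun i hi => hz i (Or.inr hi)⟩

/-- The direct image of an object concentrated in one degree. -/
theorem nonempty_HD_rpush_single (f : X ⟶ Y) [DCoh.HasRpush f] {A : DCoh.D X} {M H : X.Modules} {a : ℤ}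
    (eM : A ≅ (DerivedCategory.singleFunctor X.Modules a).obj M) (eH : M ≅ H) (a' : ℤ) (ha : a' = a := by rfl)
    (j : ℤ) :
    Nonempty (DCoh.HD ((DCoh.Rpush f).obj A) j ≅ DCoh.HD ((DCoh.Rpush f).obj (DCoh.inD X H)) (j - a')) := by
  subst ha
  haveI : EnoughInjectives X.Modules := inferInstance
  haveI : HasInjectiveResolutions X.Modules := inferInstance
  haveI : HasInjectiveResolutions (ModSite.Mod X.sheaf) := ‹HasInjectiveResolutions X.Modules›
  haveI : SiteCmp.HasRpushD (ModSite.RMor.ofScheme f) := ‹DCoh.HasRpush f›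
  let g := ModSite.RMor.ofScheme f
  obtain ⟨_, _⟩ := SiteCmpLib.exists_triangulated_rpushD g
  let e : A ≅ (DCoh.inD X H)⟦-a'⟧ := eM ≪≫
    ((SingleFunctors.shiftIso (DerivedCategory.singleFunctors X.Modules) (-a') a' 0 (by omega)).app M).symm ≪≫
      (shiftFunctor (DCoh.D X) (-a')).mapIso ((DerivedCategory.singleFunctor X.Modules 0).mapIso eH)
  exact ⟨(DerivedCategory.homologyFunctor Y.Modules j).mapIso
      ((SiteCmp.RpushD g).mapIso e ≪≫ ((SiteCmp.RpushD g).commShiftIso (-a')).app (DCoh.inD X H)) ≪≫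
    ((DerivedCategory.homologyFunctor Y.Modules 0).shiftIso (-a') j (j - a') (by omega)).app _⟩

/-- Direct images of bounded objects, bounded by the direct images of their cohomology. -/
theorem isLE_rpush_of_modules (f : X ⟶ Y) [DCoh.HasRpush f] (N : ℕ) (E : DCoh.D X) (a b : ℤ) [E.IsGE a] [E.IsLE b]
    (h : ∀ i j : ℤ, (N : ℤ) < j → IsZero (DCoh.HD ((DCoh.Rpush f).obj (DCoh.inD X (DCoh.HD E i))) j)) :
    ((DCoh.Rpush f).obj E).IsLE (b + N) := by
  haveI : EnoughInjectives X.Modules := inferInstance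
  haveI : HasInjectiveResolutions X.Modules := inferInstance
  haveI : HasInjectiveResolutions (ModSite.Mod X.sheaf) := ‹HasInjectiveResolutions X.Modules›
  haveI : SiteCmp.HasRpushD (ModSite.RMor.ofScheme f) := ‹DCoh.HasRpush f›
  let g := ModSite.RMor.ofScheme f
  obtain ⟨_, _⟩ := SiteCmpLib.exists_triangulated_rpushD g
  let t : CategoryTheory.Triangulated.TStructure (DCoh.D X) := DerivedCategory.TStructure.t
  have key : ∀ (l : ℕ) (a' : ℤ) (K : DCoh.D X), K.IsGE a' → (∀ i, a' + l ≤ i → IsZero (DCoh.HD K i)) →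
      (∀ i j : ℤ, i ≤ b → (N : ℤ) < j → IsZero (DCoh.HD ((DCoh.Rpush f).obj (DCoh.inD X (DCoh.HD K i))) j)) →
      (∀ i, b < i → IsZero (DCoh.HD K i)) →
      ∀ j, b + N < j → IsZero (DCoh.HD ((DCoh.Rpush f).obj K) j) := by
    intro l
    induction l with
    | zero =>
      intro a' K hK hz _ _ j _
      have : IsZero K := isZero_of_isZero_HD fun i => by
        rcases lt_or_ge i a' with hi | hi
        · exact (DerivedCategory.isGE_iff K a').1 hK i hi
        · exact hz i (by simpa using hi)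
      exact (DerivedCategory.homologyFunctor _ j).map_isZero ((SiteCmp.RpushD g).map_isZero this)
    | succ l ih =>
      intro a' K hK hz hm hb j hj
      obtain ⟨A, B, hA, hB, p, q, r, hT⟩ := t.exists_triangle K a' (a' + 1) rfl
      haveI : A.IsLE a' := ⟨hA⟩
      haveI : B.IsGE (a' + 1) := ⟨hB⟩
      haveI := hK
      have hAB : ∀ i, (a' < i → Nonempty (DCoh.HD B i ≅ DCoh.HD K i)) ∧
          (i ≤ a' → Nonempty (DCoh.HD A i ≅ DCoh.HD K i)) := fun i => by
        refine ⟨fun hi => ?_, fun hi => ?_⟩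
        · have h1 : IsZero (DCoh.HD A i) := (DerivedCategory.isLE_iff A a').1 inferInstance i hi
          have h2 : IsZero (DCoh.HD A (i + 1)) := (DerivedCategory.isLE_iff A a').1 inferInstance (i + 1) (by omega)
          haveI : Mono ((DerivedCategory.homologyFunctor X.Modules i).map q) :=
            (DerivedCategory.HomologySequence.exact₂ _ hT i).mono_g (h1.eq_of_src _ _)
          haveI : Epi ((DerivedCategory.homologyFunctor X.Modules i).map q) :=
            (DerivedCategory.HomologySequence.exact₃ _ hT i (i + 1) rfl).epi_f (h2.eq_of_tgt _ _)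
          haveI : IsIso ((DerivedCategory.homologyFunctor X.Modules i).map q) := isIso_of_mono_of_epi _
          exact ⟨(asIso ((DerivedCategory.homologyFunctor X.Modules i).map q)).symm⟩
        · have h1 : IsZero (DCoh.HD B i) := (DerivedCategory.isGE_iff B (a' + 1)).1 inferInstance i (by omega)
          have h2 : IsZero (DCoh.HD B (i - 1)) :=
            (DerivedCategory.isGE_iff B (a' + 1)).1 inferInstance (i - 1) (by omega)
          haveI : Mono ((DerivedCategory.homologyFunctor X.Modules i).map p) :=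
            (DerivedCategory.HomologySequence.exact₁ _ hT (i - 1) i (by omega)).mono_g (h2.eq_of_src _ _)
          haveI : Epi ((DerivedCategory.homologyFunctor X.Modules i).map p) :=
            (DerivedCategory.HomologySequence.exact₂ _ hT i).epi_f (h1.eq_of_tgt _ _)
          haveI : IsIso ((DerivedCategory.homologyFunctor X.Modules i).map p) := isIso_of_mono_of_epi _
          exact ⟨asIso ((DerivedCategory.homologyFunctor X.Modules i).map p)⟩
      haveI : A.IsGE a' := (DerivedCategory.isGE_iff _ _).2 fun i hi =>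
        ((DerivedCategory.isGE_iff K a').1 hK i hi).of_iso ((hAB i).2 hi.le).some
      refine (DerivedCategory.HomologySequence.exact₂ _ ((SiteCmp.RpushD g).map_distinguished _ hT) j).isZero_of_both_zeros
        (IsZero.eq_of_src ?_ _ _) (IsZero.eq_of_tgt ?_ _ _)
      · show IsZero (DCoh.HD ((DCoh.Rpush f).obj A) j)
        rcases le_or_gt a' b with hab | hab
        · obtain ⟨M, ⟨eM⟩⟩ := DerivedCategory.exists_iso_singleFunctor_obj_of_isGE_of_isLE A a'
          let eM' : M ≅ DCoh.HD K a' :=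
            ((DerivedCategory.singleFunctorCompHomologyFunctorIso X.Modules a').app M).symm ≪≫
              (DerivedCategory.homologyFunctor X.Modules a').mapIso eM.symm ≪≫ ((hAB a').2 le_rfl).some
          exact (hm a' (j - a') hab (by omega)).of_iso (nonempty_HD_rpush_single f eM eM' a' rfl j).some
        · have : IsZero A := isZero_of_isZero_HD fun i => by
            rcases lt_trichotomy i a' with hi | rfl | hi
            · exact (DerivedCategory.isGE_iff A a').1 inferInstance i hi
            · exact (hb i hab).of_iso ((hAB i).2 le_rfl).some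
            · exact (DerivedCategory.isLE_iff A a').1 inferInstance i hi
          exact (DerivedCategory.homologyFunctor _ j).map_isZero ((SiteCmp.RpushD g).map_isZero this)
      · refine ih (a' + 1) B inferInstance (fun i hi => ?_) (fun i k hi hk => ?_) (fun i hi => ?_) j hj
        · exact (hz i (by push_cast; omega)).of_iso ((hAB i).1 (by omega)).some
        · rcases le_or_gt i a' with hia | hia
          · exact (DerivedCategory.homologyFunctor _ k).map_isZero ((SiteCmp.RpushD g).map_isZero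
              ((DerivedCategory.singleFunctor X.Modules 0).map_isZero
                ((DerivedCategory.isGE_iff B (a' + 1)).1 inferInstance i (by omega))))
          · exact (hm i k hi hk).of_iso ((DerivedCategory.homologyFunctor _ k).mapIso ((DCoh.Rpush f).mapIso
              ((DerivedCategory.singleFunctor X.Modules 0).mapIso ((hAB i).1 hia).some)))
        · rcases le_or_gt i a' with hia | hia
          · exact (DerivedCategory.isGE_iff B (a' + 1)).1 inferInstance i (by omega)
          · exact (hb i hi).of_iso ((hAB i).1 hia).some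
  refine (DerivedCategory.isLE_iff _ _).2 (key (b + 1 - a).toNat a E inferInstance (fun i hi => ?_)
    (fun i j _ => h i j) fun i hi => (DerivedCategory.isLE_iff E b).1 ‹_› i hi)
  exact (DerivedCategory.isLE_iff E b).1 ‹_› i (by omega)

theorem hasTorAmplitudeAt_mono {p : X ⟶ S} {F : CochainComplex X.Modules ℤ} {x : X} {a b a' b' : ℤ}
    (ha : a' ≤ a) (hb : b ≤ b') (h : DerSch.HasTorAmplitudeAt p a b F x) : DerSch.HasTorAmplitudeAt p a' b' F x := by
  obtain ⟨E, hE, hfl, he⟩ := h
  exact ⟨E, fun i hi => hE i (hi.imp (fun h => by omega) fun h => by omega), hfl, he⟩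

/-- A single interval over a quasi-compact open. -/
theorem exists_uniform_amplitude {p : X ⟶ S} {F : CochainComplex X.Modules ℤ} (h : DerSch.LocFiniteTorAmplitude p F)
    (V : X.Opens) (hV : IsCompact (V : Set X)) : ∃ a b : ℤ, ∀ x ∈ V, DerSch.HasTorAmplitudeAt p a b F x := by
  classical
  choose W a b hW h using h
  obtain ⟨t, ht⟩ := hV.elim_finite_subcover (fun x : X => (W x : Set X)) (fun x => (W x).2)
    fun x _ => Set.mem_iUnion.2 ⟨x, hW x⟩
  obtain ⟨A, hA⟩ := (t.image a).bddBelow
  obtain ⟨B, hB⟩ := (t.image b).bddAbove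
  refine ⟨A, B, fun x hx => ?_⟩
  obtain ⟨i, hi, hxi⟩ := Set.mem_iUnion₂.1 (ht hx)
  exact hasTorAmplitudeAt_mono (hA (Finset.mem_image_of_mem a hi)) (hB (Finset.mem_image_of_mem b hi)) (h i x hxi)

/-- Direct images of complexes locally of finite tor amplitude relative to a base. -/
theorem locFiniteTorAmplitudeD_rpush (p : X ⟶ S) (q : Y ⟶ S) (f : X ⟶ Y) (w : f ≫ q = p)
    [QuasiCompact f] [QuasiSeparated f] [DCoh.HasRpush f] (F : CochainComplex X.Modules ℤ)
    (hq : DCoh.IsQCohD (DerivedCategory.Q.obj F)) (hF : DerSch.LocFiniteTorAmplitude p F) :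
    DerSch.LocFiniteTorAmplitudeD q ((DCoh.Rpush f).obj (DerivedCategory.Q.obj F)) := by
  rintro G ⟨eG⟩ y
  subst w
  obtain ⟨_, ⟨U : Y.Opens, hU, rfl⟩, hy, -⟩ :=
    Y.isBasis_affineOpens.exists_subset_of_mem_open (a := y) (Set.mem_univ _) isOpen_univ
  haveI : IsAffine (U : Scheme.{u}) := hU
  let V := f ⁻¹ᵁ U
  obtain ⟨a, b, hab⟩ := exists_uniform_amplitude hF V (f.isCompact_preimage hU.isCompact)
  let fU := f ∣_ U
  haveI := BC.hasRpush fU
  obtain ⟨eV⟩ := nonempty_restrictD_rpush f U
  let F' := (resCx V.ι).obj F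
  have hF' : DerSch.HasTorAmplitude (fU ≫ U.ι ≫ q) a b F' := by
    have e : fU ≫ U.ι ≫ q = V.ι ≫ f ≫ q := morphismRestrict_ι_assoc f U q
    rw [e]
    exact fun x => amp_of_iso (DerivedCategory.Q.mapIso
      (HomologicalComplex.Hom.isoOfComponents (fun n => (stalkOverRestrictIso (f ≫ q) V.ι x).app (F.X n))
        fun i k _ => ((stalkOverRestrictIso (f ≫ q) V.ι x).hom.naturality (F.d i k)).symm)).symm
      (hab (V.ι.base x) x.2)
  have hq' : DCoh.IsQCohD (DerivedCategory.Q.obj F') :=
    TildeD.isQCohD_of_iso (restrictDQ V.ι F) (TildeD.isQCohD_restrict _ _ hq)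
  obtain ⟨N, hN⟩ := exists_isLE_rpush_qcoh fU
  obtain ⟨-, hb⟩ := isGE_isLE_of_hasTorAmplitude _ F' hF'
  haveI := hN _ b hq' hb
  have h1 := hasTorAmplitudeD_rpush (fU ≫ U.ι ≫ q) (U.ι ≫ q) fU rfl F' hq' hF' (c := b + N) ((resCx U.ι).obj G)
    ⟨(restrictDQ U.ι G).symm ≪≫ (DCoh.restrictD U.ι).mapIso eG ≪≫ eV.app _ ≪≫
      (DCoh.Rpush fU).mapIso (restrictDQ V.ι F)⟩
  exact ⟨U, a, b + N, hy, fun y' hy' => amp_of_iso (DerivedCategory.Q.mapIso
    (HomologicalComplex.Hom.isoOfComponents (fun n => (stalkOverRestrictIso q U.ι ⟨y', hy'⟩).app (G.X n))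
      fun i k _ => ((stalkOverRestrictIso q U.ι ⟨y', hy'⟩).hom.naturality (G.d i k)).symm)) (h1 ⟨y', hy'⟩)⟩

end Groth.Agent.TwistShriek
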