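import Mathlib.CategoryTheory.Adjunction.Basic
import Mathlib.CategoryTheory.ObjectProperty.FullSubcategory
import Mathlib.CategoryTheory.NatIso

/-!
# Right adjoints on full subcategories
-/

set_option autoImplicit false
set_option linter.style.haveILetI false

open CategoryTheory

namespace Groth.Agent.TwistShriek

/-- A right adjoint on full subcategories agrees with the ambient one, where the latter lands in the subcategory. -/
theorem nonempty_restrict_rightAdjoint {C D : Type*} [Category C] [Category D] {P : ObjectProperty C}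
    {Q : ObjectProperty D} {T : C ⥤ D} {G : D ⥤ C} (adjT : T ⊣ G) {L₀ : P.FullSubcategory ⥤ Q.FullSubcategory}
    {R₀ : Q.FullSubcategory ⥤ P.FullSubcategory} (adj₀ : L₀ ⊣ R₀) (e : P.ι ⋙ T ≅ L₀ ⋙ Q.ι)
    {B : Type*} [Category B] (j : B ⥤ Q.FullSubcategory) (h : ∀ b, P (G.obj (j.obj b).obj)) :
    Nonempty (j ⋙ R₀ ⋙ P.ι ≅ j ⋙ Q.ι ⋙ G) := by
  let θ : R₀ ⋙ P.ι ⟶ Q.ι ⋙ G :=
    { app := fun K => adjT.homEquiv (R₀.obj K).obj K.obj (e.hom.app (R₀.obj K) ≫ (adj₀.counit.app K).hom)
      naturality := fun K L φ => by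
        show (R₀.map φ).hom ≫ adjT.homEquiv _ _ _ = adjT.homEquiv _ _ _ ≫ G.map φ.hom
        rw [← adjT.homEquiv_naturality_left, ← adjT.homEquiv_naturality_right]
        refine congrArg _ ?_
        have h1 := e.hom.naturality (R₀.map φ)
        have h2 := congrArg (fun t => t.hom) (adj₀.counit.naturality φ)
        dsimp at h1 h2
        rw [reassoc_of% h1, Category.assoc]
        exact congrArg (e.hom.app (R₀.obj K) ≫ ·) h2 }
  have hθ : ∀ b, IsIso ((Functor.whiskerLeft j θ).app b) := by
    intro b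
    let K := j.obj b
    let N : P.FullSubcategory := ⟨G.obj K.obj, h b⟩
    let g : N ⟶ R₀.obj K :=
      adj₀.homEquiv N K (ObjectProperty.homMk (e.inv.app N ≫ adjT.counit.app K.obj))
    let t : R₀.obj K ⟶ N := ObjectProperty.homMk (θ.app K : (R₀.obj K).obj ⟶ N.obj)
    have hg : ((adj₀.homEquiv N K).symm g).hom = e.inv.app N ≫ adjT.counit.app K.obj := by
      simp only [g, Equiv.symm_apply_apply]
      rfl
    have ht : T.map t.hom ≫ adjT.counit.app K.obj = e.hom.app (R₀.obj K) ≫ (adj₀.counit.app K).hom := by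
      exact (adjT.homEquiv_counit _ _ _).symm.trans ((adjT.homEquiv _ _).symm_apply_apply _)
    have hgK : (L₀.map g).hom ≫ (adj₀.counit.app K).hom = e.inv.app N ≫ adjT.counit.app K.obj := by
      rw [← hg, adj₀.homEquiv_counit]
      rfl
    refine ⟨g.hom, ?_, ?_⟩
    · have h4 : t ≫ g = 𝟙 _ := by
        refine (adj₀.homEquiv _ _).symm.injective (ObjectProperty.hom_ext _ ?_)
        rw [adj₀.homEquiv_naturality_left_symm, adj₀.homEquiv_symm_id]
        show (L₀.map t).hom ≫ ((adj₀.homEquiv N K).symm g).hom = (adj₀.counit.app K).hom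
        rw [hg]
        have h1 := e.inv.naturality t
        dsimp at h1
        rw [reassoc_of% h1, ht, Iso.inv_hom_id_app_assoc]
      exact congrArg (fun s => s.hom) h4
    · show g.hom ≫ adjT.homEquiv _ _ _ = 𝟙 _
      rw [← adjT.homEquiv_naturality_left]
      refine (adjT.homEquiv _ _).symm.injective ?_
      rw [Equiv.symm_apply_apply, adjT.homEquiv_symm_id]
      have h1 := e.hom.naturality g
      dsimp at h1
      rw [reassoc_of% h1]
      refine (congrArg (e.hom.app N ≫ ·) hgK).trans ?_
      exact Iso.hom_inv_id_app_assoc e N _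
  haveI := NatIso.isIso_of_isIso_app (Functor.whiskerLeft j θ)
  exact ⟨asIso (Functor.whiskerLeft j θ)⟩

end Groth.Agent.TwistShriek
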