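import Groth.Agent.TwistShriek.AffineDHomBC
import Groth.Agent.TwistShriek.Scalar
import Groth.Agent.DCohLib.Ghost
import Groth.Agent.DCohMore.ProjUnit
import Groth.Agent.SiteBase.ModCoh
import Groth.Agent.DQCohBrown.Cat
import Groth.Prelude.Def_Wider

/-!
# A right adjoint of the direct image represents the dual of top cohomology
-/

set_option autoImplicit false
set_option linter.style.haveILetI false
set_option linter.unusedSectionVars false
set_option maxHeartbeats 1000000
set_option backward.isDefEq.respectTransparency false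

universe w v u

open CategoryTheory CategoryTheory.Limits AlgebraicGeometry Opposite Abelian
open Groth.Agent.DCohLib

attribute [local instance] HasDerivedCategory.standard Groth.Agent.TwistShriek.linΓ

noncomputable section

namespace Groth.Agent.TwistShriek

section General

open DerivedCategory

variable {C : Type u} [Category.{v} C] [Abelian C] [HasDerivedCategory.{w} C]

theorem surjective_homology_map_single_degree {P Q : DerivedCategory C} (n : ℤ) [P.IsGE n] [P.IsLE n]
    [Q.IsGE n] [Q.IsLE n] : Function.Surjective fun f : P ⟶ Q => (homologyFunctor C n).map f := by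
  intro g
  obtain ⟨A, ⟨eA⟩⟩ := exists_iso_singleFunctor_obj_of_isGE_of_isLE P n
  obtain ⟨B, ⟨eB⟩⟩ := exists_iso_singleFunctor_obj_of_isGE_of_isLE Q n
  let ν := singleFunctorCompHomologyFunctorIso C n
  let H := homologyFunctor C n
  let m : A ⟶ B := ν.inv.app A ≫ H.map eA.inv ≫ g ≫ H.map eB.hom ≫ ν.hom.app B
  refine ⟨eA.hom ≫ (singleFunctor C n).map m ≫ eB.inv, ?_⟩
  have h : H.map ((singleFunctor C n).map m) = ν.hom.app A ≫ m ≫ ν.inv.app B := by
    rw [← cancel_mono (ν.hom.app B), Category.assoc, Category.assoc, ν.inv_hom_id_app]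
    erw [Category.comp_id]
    exact ν.hom.naturality m
  show H.map _ = g
  rw [Functor.map_comp, Functor.map_comp, h]
  simp only [m, Category.assoc, Iso.hom_inv_id_app_assoc]
  simp [← Functor.map_comp, ← Functor.map_comp_assoc]
  exact Category.comp_id g

/-- Maps from an object in degrees `≤ b` to one in degrees `≥ b` are maps in `H^b`. -/
theorem bijective_homology_map {X Y : DerivedCategory C} (b : ℤ) [X.IsLE b] [Y.IsGE b] :
    Function.Bijective fun f : X ⟶ Y => (homologyFunctor C b).map f := by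
  refine ⟨fun f g h => sub_eq_zero.1 (zero_of_homology_zero b _ (by rw [Functor.map_sub]; exact sub_eq_zero.2 h)),
    fun g => ?_⟩
  haveI hP1 : IsGE (((TStructure.t (C := C)).truncGE b).obj X) b :=
    inferInstanceAs ((TStructure.t (C := C)).IsGE (((TStructure.t (C := C)).truncGE b).obj X) b)
  haveI hP2 : IsLE (((TStructure.t (C := C)).truncGE b).obj X) b :=
    inferInstanceAs ((TStructure.t (C := C)).IsLE (((TStructure.t (C := C)).truncGE b).obj X) b)
  haveI hQ2 : IsLE (((TStructure.t (C := C)).truncLT (b + 1)).obj Y) b :=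
    inferInstanceAs ((TStructure.t (C := C)).IsLE (((TStructure.t (C := C)).truncLT (b + 1)).obj Y) b)
  haveI hQ1 : IsGE (((TStructure.t (C := C)).truncLT (b + 1)).obj Y) b := (isGE_iff _ _).2 fun i hi => by
    haveI := isIso_homology_truncLTι Y (b + 1) i (by omega)
    exact (isZero_of_isGE Y b i hi).of_iso
      (asIso ((homologyFunctor C i).map (((TStructure.t (C := C)).truncLTι (b + 1)).app Y)))
  haveI := isIso_homology_truncGEπ X b b le_rfl
  haveI := isIso_homology_truncLTι Y (b + 1) b (by omega)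
  let p := ((TStructure.t (C := C)).truncGEπ b).app X
  let i := ((TStructure.t (C := C)).truncLTι (b + 1)).app Y
  obtain ⟨f, hf⟩ := surjective_homology_map_single_degree b
    (inv ((homologyFunctor C b).map p) ≫ g ≫ inv ((homologyFunctor C b).map i))
  refine ⟨p ≫ f ≫ i, ?_⟩
  dsimp only at hf ⊢
  rw [Functor.map_comp, Functor.map_comp, hf]
  simp [p, i]

end General

section Sections

variable {R : CommRingCat.{u}}

/-- A scalar, as a global function. -/
abbrev gfn (r : R) : Coh.Γtop (Spec R) := (Scheme.ΓSpecIso R).inv r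

theorem moduleSpecΓ_map_smul (N : (Spec R).Modules) (r : R) (x : (moduleSpecΓFunctor (R := R)).obj N) :
    (moduleSpecΓFunctor (R := R)).map (gfn r • 𝟙 N) x = r • x := by
  rw [smul_id_eq]
  show (Formal.smulModΓ N (gfn r)).app ⊤ x = _
  rw [KLin.smulModΓ_app_apply]
  rw [show (homOfLE (le_top : (⊤ : (Spec R).Opens) ≤ ⊤)).op = 𝟙 _ from rfl, (Spec R).presheaf.map_id]
  rfl

/-- Maps between quasi-coherent modules on `Spec R` are linear maps of global sections. -/
theorem bijective_moduleSpecΓ_map (N₁ N₂ : (Spec R).Modules) [Coh.IsQCoh N₁] :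
    Function.Bijective fun φ : N₁ ⟶ N₂ => (moduleSpecΓFunctor (R := R)).map φ := by
  haveI : IsIso N₁.fromTildeΓ := Scheme.Modules.isIso_fromTildeΓ_of_isQuasicoherent N₁
  have h : (fun φ : N₁ ⟶ N₂ => (moduleSpecΓFunctor (R := R)).map φ) =
      (tilde.adjunction (R := R)).homEquiv _ _ ∘ fun φ : N₁ ⟶ N₂ => N₁.fromTildeΓ ≫ φ := funext fun φ => by
    show _ = (tilde.adjunction (R := R)).homEquiv _ _ (N₁.fromTildeΓ ≫ φ)
    rw [Adjunction.homEquiv_unit, Functor.map_comp, ← Category.assoc]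
    exact ((congrArg (· ≫ _) ((tilde.adjunction (R := R)).right_triangle_components N₁)).trans
      (Category.id_comp _)).symm
  rw [h]
  exact (Equiv.bijective _).comp ⟨fun a b e => (cancel_epi _).1 e, fun g => ⟨inv N₁.fromTildeΓ ≫ g, by simp⟩⟩

/-- The structure sheaf in degree zero. -/
abbrev oD (Z : Scheme.{u}) : DCoh.D Z := DCoh.inD Z (Coh.structureModule Z)

/-- The element `1` of `H⁰` of the structure sheaf. -/
def oneH (R : CommRingCat.{u}) : (moduleSpecΓFunctor (R := R)).obj (DCoh.HD (oD (Spec R)) 0) :=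
  ((DerivedCategory.singleFunctorCompHomologyFunctorIso (Spec R).Modules 0).inv.app (Coh.structureModule _)).app ⊤
    (1 : Γ(Spec R, ⊤))

/-- Evaluation of maps out of the structure sheaf. -/
def evalH (K : DCoh.D (Spec R)) : (oD (Spec R) ⟶ K) →+ (moduleSpecΓFunctor (R := R)).obj (DCoh.HD K 0) where
  toFun s := (moduleSpecΓFunctor (R := R)).map ((DerivedCategory.homologyFunctor _ 0).map s) (oneH R)
  map_zero' := by rw [Functor.map_zero, Functor.map_zero]; rfl
  map_add' s t := by rw [Functor.map_add, Functor.map_add]; rfl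

theorem evalH_comp {K L : DCoh.D (Spec R)} (s : oD (Spec R) ⟶ K) (u : K ⟶ L) :
    evalH L (s ≫ u) = (moduleSpecΓFunctor (R := R)).map ((DerivedCategory.homologyFunctor _ 0).map u) (evalH K s) := by
  show (moduleSpecΓFunctor (R := R)).map _ _ = _
  rw [Functor.map_comp, Functor.map_comp]
  rfl

theorem evalH_sc (K : DCoh.D (Spec R)) (r : R) (s : oD (Spec R) ⟶ K) :
    evalH K (s ≫ sc (gfn r) K) = r • evalH K s := by
  rw [evalH_comp, hd_sc]
  exact moduleSpecΓ_map_smul _ r _

theorem bijective_evalH (K : DCoh.D (Spec R)) (hK : DCoh.IsQCohD K) : Function.Bijective (evalH K) := by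
  let a : Coh.structureModule (Spec R) ≅ DCoh.HD (oD (Spec R)) 0 :=
    ((DerivedCategory.singleFunctorCompHomologyFunctorIso (Spec R).Modules 0).app (Coh.structureModule _)).symm
  have h1 := bijective_hdMap (Iso.refl _) 0
    ((DerivedCategory.singleFunctorIsoCompQ (Spec R).Modules 0).app (Coh.structureModule (Spec R))) K hK
  exact (bijective_unit_eval (DCoh.HD K 0)).comp ((Equiv.bijective a.homFromEquiv.symm).comp h1)

end Sections

section Ext

variable (X : Scheme.{u})

local notation "T" => SheafOfModules.toSheaf X.ringCatSheaf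

theorem toSheaf_map_smulModΓ (F : X.Modules) (r : Coh.Γtop X) :
    (SheafOfModules.toSheaf X.ringCatSheaf).map (Formal.smulModΓ F r) = Coh.smulAb F r := by
  ext U m
  exact (KLin.smulModΓ_app_apply F r _ m).trans rfl

/-- Cohomology classes are maps out of the structure sheaf in the derived category. -/
def hhEquiv (F : X.Modules) (d : ℕ) : Coh.HH X F d ≃+ (oD X ⟶ (DCoh.inD X F)⟦(d : ℤ)⟧) :=
  (SiteBase.extUnitEquiv (G := SheafOfModules.toSheaf X.ringCatSheaf) (SiteBase.unitSh X.ringCatSheaf)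
    (SiteBase.unitSh_bijective X.ringCatSheaf)
    (fun I _ m => SiteBase.subsingleton_H_of_isTotallyAcyclic (SiteBase.isTotallyAcyclic_toSheaf_injective I) m)
    F d).symm.trans Ext.homAddEquiv

theorem hhEquiv_map {F G : X.Modules} (φ : F ⟶ G) (d : ℕ) (x : Coh.HH X F d) :
    hhEquiv X G d (Sheaf.H.map ((SheafOfModules.toSheaf X.ringCatSheaf).map φ) d x) =
      hhEquiv X F d x ≫ ((DerivedCategory.singleFunctor X.Modules 0).map φ)⟦(d : ℤ)⟧' := by
  let E := fun M : X.Modules => SiteBase.extUnitEquiv (G := SheafOfModules.toSheaf X.ringCatSheaf)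
    (SiteBase.unitSh X.ringCatSheaf) (SiteBase.unitSh_bijective X.ringCatSheaf)
    (fun I _ m => SiteBase.subsingleton_H_of_isTotallyAcyclic (SiteBase.isTotallyAcyclic_toSheaf_injective I) m) M d
  show Ext.homAddEquiv ((E G).symm _) = Ext.homAddEquiv ((E F).symm x) ≫ _
  obtain ⟨y, rfl⟩ := (E F).surjective x
  rw [AddEquiv.symm_apply_apply]
  have h : E G (y.comp (Ext.mk₀ φ) (add_zero d)) =
      Sheaf.H.map ((SheafOfModules.toSheaf X.ringCatSheaf).map φ) d (E F y) := by
    show SiteBase.extUnitHom _ _ _ _ = _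
    rw [SiteBase.extUnitHom_comp, Ext.mapExactFunctor_mk₀]
    rfl
  rw [← h, AddEquiv.symm_apply_apply, Ext.homAddEquiv_apply, Ext.homAddEquiv_apply, Ext.comp_hom, Ext.mk₀_hom,
    ShiftedHom.comp_mk₀]
  rfl

theorem hhEquiv_smul (F : X.Modules) (d : ℕ) (r : Coh.Γtop X) (x : Coh.HH X F d) :
    hhEquiv X F d (r • x) = hhEquiv X F d x ≫ sc r ((DCoh.inD X F)⟦(d : ℤ)⟧) := by
  show hhEquiv X F d (Sheaf.H.map (Coh.smulAb F r) d x) = _
  rw [← toSheaf_map_smulModΓ, hhEquiv_map, ← smul_id_eq, Functor.map_smul, Functor.map_smul,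
    CategoryTheory.Functor.map_id, CategoryTheory.Functor.map_id]
  rfl

end Ext

section Rpush

variable {A : Type u} [CommRing A] {X : Scheme.{u}} [X.Over (Spec (CommRingCat.of A))]

local notation "f" => (X ↘ Spec (CommRingCat.of A))

variable [DCoh.HasLpull (X ↘ Spec (CommRingCat.of A))] [DCoh.HasRpush (X ↘ Spec (CommRingCat.of A))]
  (e₀ : (DCoh.Lpull (X ↘ Spec (CommRingCat.of A))).obj (oD (Spec (CommRingCat.of A))) ≅ oD X)

/-- Cohomology classes give elements of `H⁰` of the shifted direct image. -/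
def classH (F : X.Modules) (d : ℕ) : Coh.HH X F d →ₗ[A]
    (moduleSpecΓFunctor (R := CommRingCat.of A)).obj (DCoh.HD ((DCoh.Rpush f).obj ((DCoh.inD X F)⟦(d : ℤ)⟧)) 0) where
  toFun x := evalH _ ((lpullRpushAdj f).homEquiv _ _ (e₀.hom ≫ hhEquiv X F d x))
  map_add' x y := by
    haveI : PreservesLimitsOfSize.{0, 0} (DCoh.Rpush f) := (lpullRpushAdj f).rightAdjoint_preservesLimits
    haveI : (DCoh.Rpush f).Additive := CategoryTheory.Functor.additive_of_preserves_binary_products _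
    rw [map_add, Preadditive.comp_add, Adjunction.homEquiv_unit, Adjunction.homEquiv_unit, Adjunction.homEquiv_unit,
      Functor.map_add, Preadditive.comp_add, map_add]
  map_smul' r x := by
    show evalH _ _ = r • evalH _ _
    rw [show (r • x : Coh.HH X F d) = (Coh.toGlobal f r) • x from rfl, hhEquiv_smul, ← Category.assoc,
      Adjunction.homEquiv_naturality_right,
      show Coh.toGlobal f r = fa f (gfn (R := CommRingCat.of A) r) from rfl, rpush_sc]
    exact evalH_sc (R := CommRingCat.of A) _ r _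

theorem classH_map {F G : X.Modules} (φ : F ⟶ G) (d : ℕ) (x : Coh.HH X F d) :
    classH e₀ G d (Sheaf.H.map ((SheafOfModules.toSheaf X.ringCatSheaf).map φ) d x) =
      (moduleSpecΓFunctor (R := CommRingCat.of A)).map ((DerivedCategory.homologyFunctor _ 0).map
        ((DCoh.Rpush f).map (((DerivedCategory.singleFunctor X.Modules 0).map φ)⟦(d : ℤ)⟧'))) (classH e₀ F d x) := by
  show evalH _ _ = _
  rw [hhEquiv_map, ← Category.assoc, Adjunction.homEquiv_naturality_right, evalH_comp]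
  rfl

theorem bijective_classH (F : X.Modules) (d : ℕ)
    (h : DCoh.IsQCohD ((DCoh.Rpush f).obj ((DCoh.inD X F)⟦(d : ℤ)⟧))) : Function.Bijective (classH e₀ F d) :=
  (bijective_evalH _ h).comp ((Equiv.bijective _).comp
    ((Equiv.bijective e₀.homFromEquiv.symm).comp (hhEquiv X F d).bijective))

end Rpush

section Main

variable (A : Type u) [CommRing A] (X : Scheme.{u}) [X.Over (Spec (CommRingCat.of A))]

local notation "f" => (X ↘ Spec (CommRingCat.of A))
/-- Global sections. -/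
abbrev ΓA : (Spec (CommRingCat.of A)).Modules ⥤ ModuleCat.{u} A := moduleSpecΓFunctor (R := CommRingCat.of A)

/-- If a right adjoint of the direct image carries `W` (in degrees `≥ 0`) to degrees `≥ -d`, then its
lowest cohomology sheaf represents the maps from `H^d` to `H⁰(W)`, on quasi-coherent modules without
cohomology above `d`. -/
theorem exists_trace [QuasiCompact f] [QuasiSeparated f] [DCoh.HasRpush f]
    (h : ∀ K : DCoh.D X, DCoh.IsQCohD K → DCoh.IsQCohD ((DCoh.Rpush f).obj K))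
    (a : DCoh.DQCoh (Spec (CommRingCat.of A)) ⥤ DCoh.DQCoh X)
    (adj : (ObjectProperty.lift DCoh.IsQCohD (ObjectProperty.ι DCoh.IsQCohD ⋙ DCoh.Rpush f)
      (fun K => h K.obj K.property)) ⊣ a)
    (W : DCoh.DQCoh (Spec (CommRingCat.of A))) (hW : W.obj.IsGE 0) (d : ℕ)
    (hM : (a.obj W).obj.IsGE (-(d : ℤ))) (ω : X.Modules) (eω : DCoh.HD (a.obj W).obj (-(d : ℤ)) ≅ ω) :
    ∃ t : Coh.HH X ω d →ₗ[A] (ΓA A).obj (DCoh.HD W.obj 0),
      ∀ (F : X.Modules), Coh.IsQCoh F → (∀ j, d < j → Subsingleton (Coh.HH X F j)) →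
        ∀ ψ : Coh.HH X F d →ₗ[A] (ΓA A).obj (DCoh.HD W.obj 0), ∃! φ : F ⟶ ω, ∀ x : Coh.HH X F d,
          ψ x = t (Sheaf.H.map ((SheafOfModules.toSheaf X.ringCatSheaf).map φ) d x) := by
  haveI := hasLpull f
  haveI : SiteCmp.HasRpushD (ModSite.RMor.ofScheme f) := ‹DCoh.HasRpush f›
  obtain ⟨h₁, -⟩ := SiteCmpLib.exists_triangulated_rpushD (ModSite.RMor.ofScheme f)
  letI : (DCoh.Rpush f).CommShift ℤ := h₁
  obtain ⟨e₀⟩ := DCohMore.TwistFam.nonempty_lpull_structure f
  haveI := hM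
  have hωq : Coh.IsQCoh ω :=
    (SheafOfModules.isQuasicoherent X.ringCatSheaf).prop_of_iso eω ((a.obj W).property _)
  have hsq : ∀ F : X.Modules, Coh.IsQCoh F → DCoh.IsQCohD ((DCoh.inD X F)⟦(d : ℤ)⟧) := fun F hF =>
    DCohMore.isQCohD_shift' (TildeD.isQCohD_of_iso
      ((DerivedCategory.singleFunctorIsoCompQ X.Modules 0).app F).symm (DCohMore.isQCohD_sgl₀ F hF)) _
  let H := DerivedCategory.homologyFunctor X.Modules (-(d : ℤ))
  let ν : ∀ F : X.Modules, H.obj ((DCoh.inD X F)⟦(d : ℤ)⟧) ≅ F := fun F =>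
    ((DerivedCategory.homologyFunctor X.Modules 0).shiftIso (d : ℤ) (-(d : ℤ)) 0 (by omega)).app (DCoh.inD X F) ≪≫
      (DerivedCategory.singleFunctorCompHomologyFunctorIso X.Modules 0).app F
  have hν : ∀ {F G : X.Modules} (φ : F ⟶ G),
      H.map (((DerivedCategory.singleFunctor X.Modules 0).map φ)⟦(d : ℤ)⟧') ≫ (ν G).hom = (ν F).hom ≫ φ := by
    intro F G φ
    exact (Functor.isoWhiskerLeft (DerivedCategory.singleFunctor X.Modules 0)
      ((DerivedCategory.homologyFunctor X.Modules 0).shiftIso (d : ℤ) (-(d : ℤ)) 0 (by omega)) ≪≫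
      DerivedCategory.singleFunctorCompHomologyFunctorIso X.Modules 0).hom.naturality φ
  have hle : ∀ F : X.Modules, ((DCoh.inD X F)⟦(d : ℤ)⟧).IsLE (-(d : ℤ)) := fun F =>
    DerivedCategory.TStructure.t.isLE_shift (DCoh.inD X F) 0 (d : ℤ) (-(d : ℤ)) (by omega)
  let τ : ∀ F : X.Modules, ((DCoh.inD X F)⟦(d : ℤ)⟧ ⟶ (a.obj W).obj) → (F ⟶ ω) := fun F v =>
    (ν F).inv ≫ H.map v ≫ eω.hom
  have hτ : ∀ F : X.Modules, Function.Bijective (τ F) := fun F => by
    haveI := hle F
    exact (Equiv.bijective ((ν F).homFromEquiv.trans eω.homToEquiv)).comp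
      (bijective_homology_map (X := (DCoh.inD X F)⟦(d : ℤ)⟧) (Y := (a.obj W).obj) (-(d : ℤ))) |> fun hb => by
        convert hb using 1
        funext v
        simp [τ, H]
  obtain ⟨v₀, hv₀⟩ := (hτ ω).2 (𝟙 ω)
  let K : ∀ (F : X.Modules), Coh.IsQCoh F → DCoh.DQCoh X := fun F hF => ⟨(DCoh.inD X F)⟦(d : ℤ)⟧, hsq F hF⟩
  let u₀ := (adj.homEquiv (K ω hωq) W).symm ⟨v₀⟩
  refine ⟨((ΓA A).map ((DerivedCategory.homologyFunctor _ 0).map u₀.hom)).hom.comp (classH e₀ ω d),
    fun F hF hvan ψ => ?_⟩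
  let P := (DCoh.Rpush f).obj ((DCoh.inD X F)⟦(d : ℤ)⟧)
  have hPq : DCoh.IsQCohD P := h _ (hsq F hF)
  haveI : Coh.IsQCoh (DCoh.HD P 0) := hPq 0
  haveI := hW
  haveI : P.IsLE 0 := by
    haveI : ((DCoh.Rpush f).obj (DCoh.inD X F)).IsLE d := (DerivedCategory.isLE_iff _ _).2 fun q hq =>
      DCohMore.TwistFam.isZero_HD_rpush_single f F hF q (Or.inr (hvan _ (by omega)))
    haveI : DerivedCategory.TStructure.t.IsLE (((DCoh.Rpush f) ⋙ shiftFunctor _ (d : ℤ)).obj (DCoh.inD X F)) 0 :=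
      DerivedCategory.TStructure.t.isLE_shift ((DCoh.Rpush f).obj (DCoh.inD X F)) (d : ℤ) (d : ℤ) 0 (by omega)
    exact DerivedCategory.TStructure.t.isLE_of_iso (((DCoh.Rpush f).commShiftIso (d : ℤ)).app (DCoh.inD X F)).symm 0
  let u : (F ⟶ ω) → (P ⟶ W.obj) := fun φ =>
    (DCoh.Rpush f).map (((DerivedCategory.singleFunctor X.Modules 0).map φ)⟦(d : ℤ)⟧') ≫ u₀.hom
  have hu : Function.Bijective u := by
    have e : u ∘ τ F = fun v => ((adj.homEquiv (K F hF) W).symm ⟨v⟩).hom := by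
      funext v
      have hv : ((DerivedCategory.singleFunctor X.Modules 0).map (τ F v))⟦(d : ℤ)⟧' ≫ v₀ = v := by
        refine (hτ F).1 ?_
        show (ν F).inv ≫ H.map _ ≫ eω.hom = τ F v
        have h0 : H.map v₀ ≫ eω.hom = (ν ω).hom := by
          rw [← cancel_epi (ν ω).inv]
          exact hv₀.trans (ν ω).inv_hom_id.symm
        rw [Functor.map_comp, Category.assoc, h0, hν, Iso.inv_hom_id_assoc]
      let φd : K F hF ⟶ K ω hωq := ⟨((DerivedCategory.singleFunctor X.Modules 0).map (τ F v))⟦(d : ℤ)⟧'⟩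
      have := adj.homEquiv_naturality_left_symm φd (⟨v₀⟩ : K ω hωq ⟶ a.obj W)
      rw [show φd ≫ (⟨v₀⟩ : K ω hωq ⟶ a.obj W) = ⟨v⟩ from ObjectProperty.hom_ext _ hv] at this
      exact (congrArg (fun z => z.hom) this).symm
    refine (Function.Bijective.of_comp_iff _ (hτ F)).1 ?_
    rw [e]
    refine ⟨fun p q hpq => ?_, fun g => ⟨(adj.homEquiv (K F hF) W ⟨g⟩).hom, ?_⟩⟩
    · exact congrArg (fun z => z.hom)
        ((adj.homEquiv (K F hF) W).symm.injective (ObjectProperty.hom_ext _ hpq))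
    · show ((adj.homEquiv (K F hF) W).symm ((adj.homEquiv (K F hF) W) ⟨g⟩)).hom = g
      rw [Equiv.symm_apply_apply]
  have hb : Function.Bijective fun φ : F ⟶ ω =>
      (ΓA A).map ((DerivedCategory.homologyFunctor _ 0).map (u φ)) :=
    (bijective_moduleSpecΓ_map (DCoh.HD P 0) (DCoh.HD W.obj 0)).comp
      ((bijective_homology_map (X := P) (Y := W.obj) 0).comp hu)
  let c : Coh.HH X F d ≃ₗ[A] (ΓA A).obj (DCoh.HD P 0) :=
    LinearEquiv.ofBijective (classH e₀ F d) (bijective_classH e₀ F d hPq)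
  have key : ∀ (φ : F ⟶ ω) (x : Coh.HH X F d),
      ((ΓA A).map ((DerivedCategory.homologyFunctor _ 0).map u₀.hom)).hom.comp (classH e₀ ω d)
        (Sheaf.H.map ((SheafOfModules.toSheaf X.ringCatSheaf).map φ) d x) =
      (ΓA A).map ((DerivedCategory.homologyFunctor _ 0).map (u φ)) (c x) := fun φ x => by
    show (ΓA A).map _ (classH e₀ ω d _) = (ΓA A).map _ (classH e₀ F d x)
    rw [classH_map, Functor.map_comp, Functor.map_comp]
    rfl
  let g : (ΓA A).obj (DCoh.HD P 0) ⟶ (ΓA A).obj (DCoh.HD W.obj 0) :=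
    ModuleCat.ofHom (R := A) (X := (ΓA A).obj (DCoh.HD P 0)) (Y := (ΓA A).obj (DCoh.HD W.obj 0))
      (ψ.comp c.symm.toLinearMap)
  obtain ⟨φ, hφ⟩ := hb.2 g
  dsimp only at hφ
  refine ⟨φ, fun x => ?_, fun φ' hφ' => hb.1 ?_⟩
  · rw [key, hφ]
    exact (congrArg ψ (c.symm_apply_apply x)).symm
  · show (ΓA A).map _ = (ΓA A).map _
    rw [hφ]
    refine ModuleCat.hom_ext (LinearMap.ext fun y => ?_)
    obtain ⟨x, rfl⟩ := c.surjective y
    exact (key φ' x).symm.trans ((hφ' x).symm.trans (congrArg ψ (c.symm_apply_apply x)).symm)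

/-- The same, with the degrees shifted. -/
theorem exists_trace_shift [QuasiCompact f] [QuasiSeparated f] [DCoh.HasRpush f]
    (h : ∀ K : DCoh.D X, DCoh.IsQCohD K → DCoh.IsQCohD ((DCoh.Rpush f).obj K))
    (a : DCoh.DQCoh (Spec (CommRingCat.of A)) ⥤ DCoh.DQCoh X)
    (adj : (ObjectProperty.lift DCoh.IsQCohD (ObjectProperty.ι DCoh.IsQCohD ⋙ DCoh.Rpush f)
      (fun K => h K.obj K.property)) ⊣ a)
    (W : DCoh.DQCoh (Spec (CommRingCat.of A))) (e : ℤ) (hW : W.obj.IsGE e) (d : ℕ) (m : ℤ) (hm : e - d = m)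
    (hM : (a.obj W).obj.IsGE m) (N : Type u) [AddCommGroup N] [Module A N]
    (c : (ΓA A).obj (DCoh.HD W.obj e) ≃ₗ[A] N) :
    ∃ t : Coh.HH X (DCoh.HD (a.obj W).obj m) d →ₗ[A] N,
      ∀ (F : X.Modules), Coh.IsQCoh F → (∀ j, d < j → Subsingleton (Coh.HH X F j)) →
        ∀ ψ : Coh.HH X F d →ₗ[A] N, ∃! φ : F ⟶ DCoh.HD (a.obj W).obj m, ∀ x : Coh.HH X F d,
          ψ x = t (Sheaf.H.map ((SheafOfModules.toSheaf X.ringCatSheaf).map φ) d x) := by
  obtain ⟨c₁, -⟩ := DQCohBrown.exists_triangulated_rpushQ f h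
  letI : (DCoh.RpushQ f h).CommShift ℤ := c₁
  have adj' : DCoh.RpushQ f h ⊣ a := adj
  letI := adj'.rightAdjointCommShift ℤ
  let W' : DCoh.DQCoh (Spec (CommRingCat.of A)) := W⟦e⟧
  let iY : W'.obj ≅ W.obj⟦e⟧ := ((ObjectProperty.ι DCoh.IsQCohD).commShiftIso e).app W
  let iX : (a.obj W').obj ≅ (a.obj W).obj⟦e⟧ :=
    (ObjectProperty.ι DCoh.IsQCohD).mapIso ((a.commShiftIso e).app W) ≪≫
      ((ObjectProperty.ι DCoh.IsQCohD).commShiftIso e).app (a.obj W)
  have hW' : W'.obj.IsGE 0 := by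
    haveI := hW
    haveI := DerivedCategory.TStructure.t.isGE_shift W.obj e e 0 (by omega)
    exact DerivedCategory.TStructure.t.isGE_of_iso iY.symm 0
  have hM' : (a.obj W').obj.IsGE (-(d : ℤ)) := by
    haveI := hM
    haveI := DerivedCategory.TStructure.t.isGE_shift (a.obj W).obj m e (-(d : ℤ)) (by omega)
    exact DerivedCategory.TStructure.t.isGE_of_iso iX.symm (-(d : ℤ))
  let eω : DCoh.HD (a.obj W').obj (-(d : ℤ)) ≅ DCoh.HD (a.obj W).obj m :=
    (DerivedCategory.homologyFunctor X.Modules (-(d : ℤ))).mapIso iX ≪≫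
      ((DerivedCategory.homologyFunctor X.Modules 0).shiftIso e (-(d : ℤ)) m (by omega)).app _
  let c' : (ΓA A).obj (DCoh.HD W'.obj 0) ≃ₗ[A] N :=
    ((ΓA A).mapIso ((DerivedCategory.homologyFunctor _ 0).mapIso iY ≪≫
      ((DerivedCategory.homologyFunctor (Spec (CommRingCat.of A)).Modules 0).shiftIso e 0 e (by omega)).app _)
      ).toLinearEquiv.trans c
  obtain ⟨t, ht⟩ := exists_trace A X h a adj W' hW' d hM' _ eω
  refine ⟨c'.toLinearMap.comp t, fun F hF hvan ψ => ?_⟩
  obtain ⟨φ, hφ, huniq⟩ := ht F hF hvan (c'.symm.toLinearMap.comp ψ)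
  refine ⟨φ, fun x => ?_, fun φ' hφ' => huniq φ' fun x => ?_⟩
  · exact (c'.apply_symm_apply (ψ x)).symm.trans (congrArg c' (hφ x))
  · exact (congrArg c'.symm (hφ' x)).trans (c'.symm_apply_apply _)

end Main

end Groth.Agent.TwistShriek
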